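import Mathlib.AlgebraicGeometry.AffineScheme
import Mathlib.AlgebraicGeometry.IdealSheaf.Basic
import Mathlib.AlgebraicGeometry.Noetherian
import Mathlib.RingTheory.Ideal.Height
import Mathlib.RingTheory.Ideal.KrullsHeightTheorem

/-!
# Stalks at points of affine opens, ideal sheaves and generic points

Helper lemmas (helper70): dimension of the stalk as the height of the prime of an affine open,
support of an ideal sheaf inside an affine open in terms of primes, generic points of the support.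
-/

set_option autoImplicit false
universe u
open CategoryTheory AlgebraicGeometry TopologicalSpace

namespace Groth.Agent.Lib.Helper70

variable {X : Scheme.{u}}

/-- the Krull dimension of the stalk is the height of the corresponding prime of an affine open -/
theorem ringKrullDim_stalk_eq_height {U : X.Opens} (hU : IsAffineOpen U) (x : X) (hx : x ∈ U) :
    ringKrullDim (X.presheaf.stalk x) = (hU.primeIdealOf ⟨x, hx⟩).asIdeal.height := by
  let _ := TopCat.Presheaf.algebra_section_stalk X.presheaf ⟨x, hx⟩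
  have := hU.isLocalization_stalk ⟨x, hx⟩
  exact IsLocalization.AtPrime.ringKrullDim_eq_height (hU.primeIdealOf ⟨x, hx⟩).asIdeal
    (X.presheaf.stalk x)

/-- a point of an affine open lies in the zero locus of `s` iff `s` is inside its prime -/
theorem mem_zeroLocus_iff_le_primeIdealOf {U : X.Opens} (hU : IsAffineOpen U) (x : X) (hx : x ∈ U)
    (s : Set Γ(X, U)) :
    x ∈ X.zeroLocus s ↔ s ⊆ (hU.primeIdealOf ⟨x, hx⟩).asIdeal := by
  have h1 : hU.fromSpec (hU.primeIdealOf ⟨x, hx⟩) = x := hU.fromSpec_primeIdealOf ⟨x, hx⟩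
  have h2 := Set.ext_iff.1 (hU.fromSpec_preimage_zeroLocus s) (hU.primeIdealOf ⟨x, hx⟩)
  have h3 : hU.fromSpec (hU.primeIdealOf ⟨x, hx⟩) ∈ X.zeroLocus s ↔ x ∈ X.zeroLocus s := by
    rw [h1]
  exact h3.symm.trans h2

/-- membership in the support of an ideal sheaf, at a point of an affine open -/
theorem mem_support_iff_le_primeIdealOf (D : X.IdealSheafData) (U : X.affineOpens) (x : X)
    (hx : x ∈ U.1) :
    x ∈ D.support ↔ D.ideal U ≤ (U.2.primeIdealOf ⟨x, hx⟩).asIdeal := by
  rw [Scheme.IdealSheafData.mem_support_iff_of_mem hx, mem_zeroLocus_iff_le_primeIdealOf U.2 x hx]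
  rfl

/-- the point of `X` attached to a prime of an affine open lies in the open -/
theorem fromSpec_mem {U : X.Opens} (hU : IsAffineOpen U) (q : PrimeSpectrum Γ(X, U)) :
    hU.fromSpec q ∈ U := by
  have : hU.fromSpec q ∈ Set.range hU.fromSpec := ⟨q, rfl⟩
  rw [hU.range_fromSpec] at this
  exact this

theorem primeIdealOf_fromSpec {U : X.Opens} (hU : IsAffineOpen U) (q : PrimeSpectrum Γ(X, U)) :
    hU.primeIdealOf ⟨hU.fromSpec q, fromSpec_mem hU q⟩ = q := by
  apply hU.fromSpec.isOpenEmbedding.injective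
  exact hU.fromSpec_primeIdealOf _

/-- a point of the support which is maximal under generisation corresponds to a minimal prime over
the ideal -/
theorem primeIdealOf_mem_minimalPrimes (D : X.IdealSheafData) (U : X.affineOpens) (ξ : X)
    (hξU : ξ ∈ U.1) (hξ : ξ ∈ D.support)
    (hgen : ∀ y ∈ (D.support : Set X), y ⤳ ξ → y = ξ) :
    (U.2.primeIdealOf ⟨ξ, hξU⟩).asIdeal ∈ (D.ideal U).minimalPrimes := by
  refine ⟨⟨(U.2.primeIdealOf ⟨ξ, hξU⟩).isPrime,
    (mem_support_iff_le_primeIdealOf D U ξ hξU).1 hξ⟩, ?_⟩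
  rintro q ⟨hqprime, hDq⟩ hqp
  set y := U.2.fromSpec ⟨q, hqprime⟩ with hy
  have hyU : y ∈ U.1 := fromSpec_mem U.2 _
  have hyq : U.2.primeIdealOf ⟨y, hyU⟩ = ⟨q, hqprime⟩ := primeIdealOf_fromSpec U.2 _
  have hyD : y ∈ D.support := by
    rw [mem_support_iff_le_primeIdealOf D U y hyU, hyq]
    exact hDq
  have hspec : y ⤳ ξ := by
    have h1 : (⟨q, hqprime⟩ : PrimeSpectrum Γ(X, U.1)) ⤳ U.2.primeIdealOf ⟨ξ, hξU⟩ := by
      rw [← PrimeSpectrum.le_iff_specializes]
      exact hqp
    have h2 := h1.map U.2.fromSpec.continuous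
    rwa [U.2.fromSpec_primeIdealOf ⟨ξ, hξU⟩] at h2
  have hyξ : y = ξ := hgen y hyD hspec
  have : (⟨q, hqprime⟩ : PrimeSpectrum Γ(X, U.1)) = U.2.primeIdealOf ⟨ξ, hξU⟩ := by
    rw [← hyq]
    congr 1
    exact Subtype.ext hyξ
  rw [← this]

end Groth.Agent.Lib.Helper70
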