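import Mathlib

set_option autoImplicit false
universe u

namespace Groth.Agent.Lib.Helper70.RegularEtale

open IsLocalRing

/-- If `A → B` is faithfully flat, `B` is Noetherian local, and an ideal `I` of `A` extends to the
maximal ideal of `B`, then `I` can be generated by `spanFinrank (maximalIdeal B)` elements. -/
theorem spanFinrank_le_of_map_eq_maximalIdeal {A B : Type*} [CommRing A] [CommRing B]
    [Algebra A B] [IsLocalRing B] [IsNoetherianRing B] [Module.FaithfullyFlat A B]
    (I : Ideal A) (hI : I.map (algebraMap A B) = maximalIdeal B) :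
    I.spanFinrank ≤ (maximalIdeal B).spanFinrank := by
  classical
  let φ : I → maximalIdeal B := fun x => ⟨algebraMap A B x, hI ▸ Ideal.mem_map_of_mem _ x.2⟩
  let S : Set (maximalIdeal B) := Set.range φ
  have hS : Submodule.span B S = ⊤ := by
    apply Submodule.map_injective_of_injective (maximalIdeal B).injective_subtype
    rw [Submodule.map_span, Submodule.map_top, Submodule.range_subtype]
    have : (maximalIdeal B).subtype '' S = algebraMap A B '' (I : Set A) := by
      ext y
      constructor
      · rintro ⟨z, ⟨a, rfl⟩, rfl⟩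
        exact ⟨a.1, a.2, rfl⟩
      · rintro ⟨a, ha, rfl⟩
        exact ⟨φ ⟨a, ha⟩, ⟨⟨a, ha⟩, rfl⟩, rfl⟩
    rw [this, ← hI]
    rfl
  have hT : Submodule.span (ResidueField B) ((maximalIdeal B).toCotangent '' S) = ⊤ :=
    CotangentSpace.span_image_eq_top_iff.mpr hS
  obtain ⟨b, hbT, hbspan, hbli⟩ :=
    exists_linearIndependent (ResidueField B) ((maximalIdeal B).toCotangent '' S)
  rw [hT] at hbspan
  have hbfin : b.Finite := hbli.setFinite
  have hcard : b.ncard = (maximalIdeal B).spanFinrank := by
    rw [spanFinrank_maximalIdeal_eq_finrank_cotangentSpace]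
    have := hbfin.fintype
    have h1 := finrank_span_set_eq_card (R := ResidueField B) (s := b) hbli
    rw [hbspan, finrank_top] at h1
    rw [h1, Set.ncard_eq_toFinset_card']
  -- choose preimages
  have hpre : ∀ v : b, ∃ x : I, (maximalIdeal B).toCotangent (φ x) = v.1 := by
    intro v
    obtain ⟨_, ⟨x, rfl⟩, hx⟩ := hbT v.2
    exact ⟨x, hx⟩
  choose x hx using hpre
  let t : Set A := Set.range (fun v : b => (x v : A))
  have htfin : t.Finite := by
    have := hbfin.to_subtype
    exact Set.finite_range _
  have htcard : t.ncard ≤ b.ncard := by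
    have := hbfin.to_subtype
    have h := Set.ncard_image_le (f := fun v : b => (x v : A)) (s := Set.univ) Set.finite_univ
    rw [Set.image_univ, Set.ncard_univ, Nat.card_coe_set_eq] at h
    exact h
  have htI : Ideal.span t ≤ I := by
    rw [Ideal.span_le]
    rintro _ ⟨v, rfl⟩
    exact (x v).2
  -- the images generate the maximal ideal of B
  have hgen : Submodule.span B (φ '' Set.range x) = ⊤ := by
    rw [← CotangentSpace.span_image_eq_top_iff, eq_top_iff, ← hbspan]
    apply Submodule.span_mono
    intro v hv
    exact ⟨φ (x ⟨v, hv⟩), ⟨x ⟨v, hv⟩, ⟨⟨v, hv⟩, rfl⟩, rfl⟩, hx ⟨v, hv⟩⟩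
  have hmap : (Ideal.span t).map (algebraMap A B) = maximalIdeal B := by
    have h2 := congrArg (Submodule.map (maximalIdeal B).subtype) hgen
    rw [Submodule.map_span, Submodule.map_top, Submodule.range_subtype] at h2
    rw [Ideal.map_span, ← h2]
    congr 1
    ext y
    simp only [Set.mem_image, Set.mem_range, t, φ, exists_exists_eq_and]
    constructor
    · rintro ⟨v, rfl⟩
      exact ⟨v, rfl⟩
    · rintro ⟨v, rfl⟩
      exact ⟨v, rfl⟩
  have hIeq : Ideal.span t = I := by
    rw [← Ideal.comap_map_eq_self_of_faithfullyFlat (B := B) (Ideal.span t), hmap, ← hI,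
      Ideal.comap_map_eq_self_of_faithfullyFlat]
  calc I.spanFinrank = (Ideal.span t).spanFinrank := by rw [hIeq]
    _ ≤ t.ncard := Submodule.spanFinrank_span_le_ncard_of_finite htfin
    _ ≤ b.ncard := htcard
    _ = _ := hcard

/-- Dimension is preserved by flat, unramified, essentially finite type local homomorphisms of
Noetherian local rings. -/
theorem ringKrullDim_eq_of_flat_unramified (A B : Type*) [CommRing A] [CommRing B] [Algebra A B]
    [IsLocalRing A] [IsLocalRing B] [IsNoetherianRing A] [IsNoetherianRing B]
    [IsLocalHom (algebraMap A B)] [Module.Flat A B] [Algebra.FormallyUnramified A B]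
    [Algebra.EssFiniteType A B] : ringKrullDim B = ringKrullDim A := by
  have hmap := Algebra.FormallyUnramified.map_maximalIdeal (R := A) (S := B)
  have key := Ideal.height_eq_height_add_of_liesOver_of_hasGoingDown
    (maximalIdeal A) (maximalIdeal B)
  rw [hmap] at key
  have h0 : (Ideal.map (Ideal.Quotient.mk (maximalIdeal B)) (maximalIdeal B)) = ⊥ := by simp
  rw [h0, Ideal.height_bot, add_zero] at key
  rw [← IsLocalRing.maximalIdeal_height_eq_ringKrullDim,
    ← IsLocalRing.maximalIdeal_height_eq_ringKrullDim, key]

/-- Regularity passes up and down flat, unramified, essentially finite type local homomorphisms of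
Noetherian local rings. -/
theorem isRegularLocalRing_iff_of_flat_unramified (A B : Type*) [CommRing A] [CommRing B]
    [Algebra A B] [IsLocalRing A] [IsLocalRing B] [IsNoetherianRing A] [IsNoetherianRing B]
    [IsLocalHom (algebraMap A B)] [Module.Flat A B] [Algebra.FormallyUnramified A B]
    [Algebra.EssFiniteType A B] : IsRegularLocalRing B ↔ IsRegularLocalRing A := by
  have hmap := Algebra.FormallyUnramified.map_maximalIdeal (R := A) (S := B)
  have hdim := ringKrullDim_eq_of_flat_unramified A B
  have hff : Module.FaithfullyFlat A B := Module.FaithfullyFlat.of_flat_of_isLocalHom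
  constructor
  · intro h
    apply IsRegularLocalRing.of_spanFinrank_maximalIdeal_le
    have h1 := spanFinrank_le_of_map_eq_maximalIdeal (maximalIdeal A) hmap
    have h2 := h.spanFinrank_maximalIdeal
    rw [← hdim, ← h2]
    exact_mod_cast h1
  · intro h
    apply IsRegularLocalRing.of_spanFinrank_maximalIdeal_le
    have h1 := Ideal.spanFinrank_map_le_of_fg (algebraMap A B)
      (maximalIdeal A).fg_of_isNoetherianRing
    rw [hmap] at h1
    have h2 := h.spanFinrank_maximalIdeal
    rw [hdim, ← h2]
    exact_mod_cast h1

end Groth.Agent.Lib.Helper70.RegularEtale
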