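import Mathlib

open Polynomial TensorProduct

universe u

namespace Groth.Agent.Lib.Helper70.EtaleLift

/-- two standard étale pairs with the same `f` whose `g`'s have the same unit condition give
isomorphic algebras -/
lemma nonempty_algEquiv_of_hasMap {A : Type u} [CommRing A] (P Q : StandardEtalePair A)
    (hPQ : Q.HasMap P.X) (hQP : P.HasMap Q.X) : Nonempty (P.Ring ≃ₐ[A] Q.Ring) := by
  refine ⟨AlgEquiv.ofAlgHom (P.lift Q.X hQP) (Q.lift P.X hPQ) ?_ ?_⟩
  · apply Q.hom_ext
    simp
  · apply P.hom_ext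
    simp

/-- standard étale algebras lift along surjective ring homomorphisms -/
theorem exists_lift {R A C : Type u} [CommRing R] [CommRing A] [CommRing C] [Algebra R A]
    [Algebra A C] (hsurj : Function.Surjective (algebraMap R A)) [Algebra.IsStandardEtale A C] :
    ∃ (B : Type u) (_ : CommRing B) (_ : Algebra R B), Algebra.Etale R B ∧
      Nonempty (A ⊗[R] B ≃ₐ[A] C) := by
  obtain ⟨Pb⟩ := Algebra.IsStandardEtale.nonempty_standardEtalePresentation (R := A) (S := C)
  obtain ⟨F, hF, -, hFm⟩ := lifts_and_natDegree_eq_and_monic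
    ((mem_lifts _).mpr (map_surjective _ hsurj Pb.f)) Pb.monic_f
  obtain ⟨G₀, hG₀⟩ := map_surjective _ hsurj Pb.g
  let P : StandardEtalePair R :=
    { f := F
      monic_f := hFm
      g := G₀ * derivative F
      cond := ⟨G₀, 0, 1, by ring⟩ }
  let Pstd : StandardEtalePresentation R P.Ring :=
    ⟨P, P.X, P.hasMap_X, by simpa [StandardEtalePair.lift_X_left] using Function.bijective_id⟩
  let P' : StandardEtalePair A := P.map (algebraMap R A)
  have hP'f : P'.f = Pb.f := hF
  have hP'g : P'.g = Pb.g * derivative Pb.f := by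
    show (G₀ * derivative F).map (algebraMap R A) = _
    rw [Polynomial.map_mul, hG₀, ← derivative_map, hF]
  -- the base change is presented by `P'`
  have e1 : A ⊗[R] P.Ring ≃ₐ[A] P'.Ring := (Pstd.baseChange (T := A)).equivRing
  have e2 : C ≃ₐ[A] Pb.P.Ring := Pb.equivRing
  have h1 : Pb.P.HasMap P'.X := by
    have h := P'.hasMap_X
    refine ⟨?_, ?_⟩
    · rw [← hP'f]; exact h.1
    · have h2 := h.2
      rw [hP'g, map_mul] at h2
      exact isUnit_of_mul_isUnit_left h2
  have h2 : P'.HasMap Pb.P.X := by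
    have h := Pb.P.hasMap_X
    refine ⟨?_, ?_⟩
    · rw [hP'f]; exact h.1
    · rw [hP'g, map_mul]
      exact h.2.mul h.isUnit_derivative_f
  obtain ⟨e3⟩ := nonempty_algEquiv_of_hasMap P' Pb.P h1 h2
  exact ⟨P.Ring, inferInstance, inferInstance, inferInstance, ⟨(e1.trans e3).trans e2.symm⟩⟩

end Groth.Agent.Lib.Helper70.EtaleLift
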