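import Mathlib
import Groth.Agent.Lib.Helper70.EtaleLift

open Polynomial TensorProduct CategoryTheory CategoryTheory.Limits AlgebraicGeometry

universe u

namespace Groth.Agent.Lib.Helper70.EtaleLift2

open Groth.Agent.Lib.Helper70.EtaleLift

/-- étale algebras lift locally along surjective ring homomorphisms -/
theorem exists_lift_at {R A C : Type u} [CommRing R] [CommRing A] [CommRing C] [Algebra R A]
    [Algebra A C] (hsurj : Function.Surjective (algebraMap R A)) [Algebra.Etale A C]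
    (Q : Ideal C) [Q.IsPrime] :
    ∃ c ∉ Q, ∃ (B : Type u) (_ : CommRing B) (_ : Algebra R B), Algebra.Etale R B ∧
      Nonempty (A ⊗[R] B ≃ₐ[A] Localization.Away c) := by
  have hQ : Algebra.IsEtaleAt A Q := by
    have h := (Algebra.etaleLocus_eq_univ_iff_etale (R := A) (A := C)).mpr inferInstance
    have h2 : (⟨Q, inferInstance⟩ : PrimeSpectrum C) ∈ Algebra.etaleLocus A C := by
      rw [h]; trivial
    exact h2
  obtain ⟨c, hc, hstd⟩ := Algebra.IsEtaleAt.exists_isStandardEtale (R := A) Q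
  obtain ⟨B, _, _, hB, he⟩ := exists_lift (R := R) (A := A) (C := Localization.Away c) hsurj
  exact ⟨c, hc, B, _, _, hB, he⟩

/-- categorical version -/
theorem exists_lift_cat {R A C : CommRingCat.{u}} (φ : R ⟶ A) (ψ : A ⟶ C)
    (hφ : Function.Surjective φ.hom) (hψ : ψ.hom.Etale) (Q : Ideal C) [Q.IsPrime] :
    ∃ c ∉ Q, ∃ (B : CommRingCat.{u}) (β : R ⟶ B) (ρ : B ⟶ .of (Localization.Away c)),
      β.hom.Etale ∧
      IsPushout φ β (ψ ≫ CommRingCat.ofHom (algebraMap C (Localization.Away c))) ρ := by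
  algebraize [φ.hom, ψ.hom]
  obtain ⟨c, hc, B, _, _, hB, ⟨e⟩⟩ := exists_lift_at (R := R) (A := A) (C := C) hφ Q
  refine ⟨c, hc, .of B, CommRingCat.ofHom (algebraMap R B),
    CommRingCat.ofHom ((e : A ⊗[R] B →+* Localization.Away c).comp
      (Algebra.TensorProduct.includeRight : B →ₐ[R] A ⊗[R] B).toRingHom), ?_, ?_⟩
  · exact RingHom.etale_algebraMap.mpr hB
  · have h1 := CommRingCat.isPushout_tensorProduct R A B
    refine h1.of_iso (Iso.refl _) (Iso.refl _) (Iso.refl _) e.toRingEquiv.toCommRingCatIso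
      ?_ ?_ ?_ ?_
    · simp; rfl
    · simp
    · ext a
      simp only [Iso.refl_hom, Category.id_comp, CommRingCat.hom_comp, CommRingCat.hom_ofHom,
        RingEquiv.toCommRingCatIso_hom, RingHom.coe_comp, Function.comp_apply,
        Algebra.TensorProduct.includeLeftRingHom_apply]
      have h2 : e (algebraMap A (A ⊗[R] B) a) = algebraMap A (Localization.Away c) a :=
        e.commutes a
      rw [Algebra.TensorProduct.algebraMap_apply] at h2
      exact h2
    · ext b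
      simp

end Groth.Agent.Lib.Helper70.EtaleLift2

namespace Groth.Agent.Lib.Helper70.EtaleLift2

set_option backward.isDefEq.respectTransparency.types false in
/-- local lifting of étale schemes along closed immersions -/
theorem exists_etale_lift {X Y U : Scheme.{u}} (f : X ⟶ Y) [IsClosedImmersion f]
    (g : U ⟶ X) [Etale g] (x : U) :
    ∃ (V W : Scheme.{u}) (v : V ⟶ Y) (a : W ⟶ V) (b : W ⟶ U), Etale v ∧
      IsPullback a (b ≫ g) v f ∧ IsOpenImmersion b ∧ x ∈ Set.range b := by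
  -- affine open of Y
  obtain ⟨_, ⟨Y₀, hY₀ : IsAffineOpen Y₀, rfl⟩, hxY₀, -⟩ :=
    Y.isBasis_affineOpens.exists_subset_of_mem_open (Set.mem_univ (f (g x))) isOpen_univ
  have hX₀ : IsAffineOpen (f ⁻¹ᵁ Y₀) := hY₀.preimage f
  have hxX₀ : x ∈ g ⁻¹ᵁ (f ⁻¹ᵁ Y₀) := hxY₀
  obtain ⟨_, ⟨U₀, hU₀ : IsAffineOpen U₀, rfl⟩, hxU₀, hle : (U₀ : Set U) ⊆ g ⁻¹ᵁ (f ⁻¹ᵁ Y₀)⟩ :=
    U.isBasis_affineOpens.exists_subset_of_mem_open hxX₀ (g ⁻¹ᵁ (f ⁻¹ᵁ Y₀)).isOpen
  have hle' : U₀ ≤ g ⁻¹ᵁ (f ⁻¹ᵁ Y₀) := hle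
  have hφ : Function.Surjective (f.app Y₀).hom := f.app_surjective Y₀ hY₀
  have hψ : (g.appLE (f ⁻¹ᵁ Y₀) U₀ hle').hom.Etale :=
    HasRingHomProperty.appLE @Etale g inferInstance ⟨_, hX₀⟩ ⟨_, hU₀⟩ hle'
  obtain ⟨c, hc, B, β, ρ, hβ, hpo⟩ := exists_lift_cat (f.app Y₀) (g.appLE (f ⁻¹ᵁ Y₀) U₀ hle') hφ hψ
    (hU₀.primeIdealOf ⟨x, hxU₀⟩).asIdeal
  have hβ' : Etale (Spec.map β) := (HasRingHomProperty.Spec_iff (P := @Etale)).mpr hβ
  refine ⟨Spec B, Spec (.of (Localization.Away c)), Spec.map β ≫ hY₀.fromSpec, Spec.map ρ,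
    Spec.map (CommRingCat.ofHom (algebraMap _ (Localization.Away c))) ≫ hU₀.fromSpec,
    inferInstance, ?_, inferInstance, ?_⟩
  · have htop := (isPullback_SpecMap_of_isPushout _ _ _ _ hpo).flip
    have hbot : IsPullback (Spec.map (f.app Y₀)) hX₀.fromSpec hY₀.fromSpec f := by
      refine IsOpenImmersion.isPullback _ _ _ _ ?_ ?_
      · have := hY₀.SpecMap_appLE_fromSpec f hX₀ le_rfl
        rw [Scheme.Hom.appLE_eq_app] at this -- maybe
        exact this.symm
      · rw [hY₀.opensRange_fromSpec, hX₀.opensRange_fromSpec]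
    have h := htop.paste_vert hbot
    have e : Spec.map (g.appLE (f ⁻¹ᵁ Y₀) U₀ hle' ≫
        CommRingCat.ofHom (algebraMap _ (Localization.Away c))) ≫ hX₀.fromSpec =
        (Spec.map (CommRingCat.ofHom (algebraMap _ (Localization.Away c))) ≫ hU₀.fromSpec) ≫ g := by
      rw [Spec.map_comp, Category.assoc, Category.assoc, hX₀.SpecMap_appLE_fromSpec g hU₀ hle']
    rw [e] at h
    exact h
  · have hr : hU₀.primeIdealOf ⟨x, hxU₀⟩ ∈
        Set.range (Spec.map (CommRingCat.ofHom (algebraMap Γ(U, U₀) (Localization.Away c)))) := by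
      have h1 := PrimeSpectrum.localization_away_comap_range (Localization.Away c) c
      have h2 : hU₀.primeIdealOf ⟨x, hxU₀⟩ ∈ (PrimeSpectrum.basicOpen c : Set _) := hc
      rw [← h1] at h2
      exact h2
    obtain ⟨y, hy⟩ := hr
    refine ⟨y, ?_⟩
    rw [Scheme.Hom.comp_apply, hy, hU₀.fromSpec_primeIdealOf]

/-- version with the canonical pullback -/
theorem exists_etale_lift' {X Y U : Scheme.{u}} (f : X ⟶ Y) [IsClosedImmersion f]
    (g : U ⟶ X) [Etale g] (x : U) :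
    ∃ (V : Scheme.{u}) (v : V ⟶ Y) (_ : Etale v) (h : pullback v f ⟶ U),
      h ≫ g = pullback.snd v f ∧ IsOpenImmersion h ∧ ∃ y : ↥(pullback v f), h.base y = x := by
  obtain ⟨V, W, v, a, b, hv, hpb, hb, ⟨w, hw⟩⟩ := exists_etale_lift f g x
  refine ⟨V, v, hv, hpb.isoPullback.inv ≫ b, ?_, ?_, ?_⟩
  · rw [Category.assoc]
    exact hpb.isoPullback_inv_snd
  · infer_instance
  · refine ⟨hpb.isoPullback.hom.base w, ?_⟩
    rw [← Scheme.Hom.comp_apply, Iso.hom_inv_id_assoc]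
    exact hw

end Groth.Agent.Lib.Helper70.EtaleLift2
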