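import Mathlib
import Groth.Prelude.Def_EtBase

open CategoryTheory CategoryTheory.Limits AlgebraicGeometry

universe u

namespace Groth.Agent.Lib.Helper70.EtaleGraph

set_option backward.isDefEq.respectTransparency.types false in
/-- a morphism between base changes of étale schemes to a closed subscheme is, locally on its
graph, induced by a correspondence of étale schemes -/
theorem exists_correspondence {Z X U U' : Scheme.{u}} (i : Z ⟶ X) [IsClosedImmersion i]
    (u : U ⟶ X) (u' : U' ⟶ X) [Etale u] [Etale u']
    (h : pullback u i ⟶ pullback u' i) (hh : h ≫ pullback.snd u' i = pullback.snd u i) :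
    ∃ (W : Scheme.{u}) (w : W ⟶ X) (a : W ⟶ U) (b : W ⟶ U') (ha : a ≫ u = w) (hb : b ≫ u' = w),
      Etale w ∧
      IsIso (pullback.map w i u i a (𝟙 Z) (𝟙 X) (by simp [ha]) (by simp)) ∧
      pullback.map w i u i a (𝟙 Z) (𝟙 X) (by simp [ha]) (by simp) ≫ h =
        pullback.map w i u' i b (𝟙 Z) (𝟙 X) (by simp [hb]) (by simp) := by
  let π : pullback u u' ⟶ X := pullback.fst u u' ≫ u
  have hπ : π = pullback.snd u u' ≫ u' := pullback.condition
  -- the graph
  have c0 : pullback.fst u i ≫ u = (h ≫ pullback.fst u' i) ≫ u' := by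
    rw [Category.assoc, pullback.condition (f := u'), ← Category.assoc, hh, pullback.condition]
  let Γ₀ : pullback u i ⟶ pullback u u' :=
    pullback.lift (pullback.fst u i) (h ≫ pullback.fst u' i) c0
  have hΓ₀1 : Γ₀ ≫ pullback.fst u u' = pullback.fst u i := pullback.lift_fst _ _ _
  have hΓ₀2 : Γ₀ ≫ pullback.snd u u' = h ≫ pullback.fst u' i := pullback.lift_snd _ _ _
  have c1 : Γ₀ ≫ π = pullback.snd u i ≫ i := by
    rw [← Category.assoc, hΓ₀1, pullback.condition]
  let Γ : pullback u i ⟶ pullback π i := pullback.lift Γ₀ (pullback.snd u i) c1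
  have hΓ1 : Γ ≫ pullback.fst π i = Γ₀ := pullback.lift_fst _ _ _
  have hΓ2 : Γ ≫ pullback.snd π i = pullback.snd u i := pullback.lift_snd _ _ _
  have c2 : (pullback.fst π i ≫ pullback.fst u u') ≫ u = pullback.snd π i ≫ i := by
    rw [Category.assoc]; exact pullback.condition
  let q : pullback π i ⟶ pullback u i :=
    pullback.lift (pullback.fst π i ≫ pullback.fst u u') (pullback.snd π i) c2
  have hq1 : q ≫ pullback.fst u i = pullback.fst π i ≫ pullback.fst u u' := pullback.lift_fst _ _ _
  have hq2 : q ≫ pullback.snd u i = pullback.snd π i := pullback.lift_snd _ _ _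
  have c3 : (pullback.fst π i ≫ pullback.snd u u') ≫ u' = pullback.snd π i ≫ i := by
    rw [Category.assoc, ← hπ]; exact pullback.condition
  let q' : pullback π i ⟶ pullback u' i :=
    pullback.lift (pullback.fst π i ≫ pullback.snd u u') (pullback.snd π i) c3
  have hq'1 : q' ≫ pullback.fst u' i = pullback.fst π i ≫ pullback.snd u u' :=
    pullback.lift_fst _ _ _
  have hq'2 : q' ≫ pullback.snd u' i = pullback.snd π i := pullback.lift_snd _ _ _
  have hΓq : Γ ≫ q = 𝟙 _ := by
    apply pullback.hom_ext
    · rw [Category.assoc, hq1, ← Category.assoc, hΓ1, hΓ₀1, Category.id_comp]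
    · rw [Category.assoc, hq2, hΓ2, Category.id_comp]
  have hΓq' : Γ ≫ q' = h := by
    apply pullback.hom_ext
    · rw [Category.assoc, hq'1, ← Category.assoc, hΓ1, hΓ₀2]
    · rw [Category.assoc, hq'2, hΓ2, hh]
  haveI : Etale π := by dsimp only [π]; infer_instance
  haveI : Etale Γ := by
    have : Etale (Γ ≫ pullback.snd π i) := by rw [hΓ2]; infer_instance
    exact MorphismProperty.of_postcomp (W := @Etale) (W' := @Etale) Γ (pullback.snd π i)
      inferInstance this
  haveI : Mono Γ := mono_of_mono_fac hΓq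
  haveI : IsOpenImmersion Γ := IsOpenImmersion.of_flat_of_mono Γ
  -- the open subscheme
  have hemb : Topology.IsInducing (pullback.fst π i).base :=
    (pullback.fst π i).isClosedEmbedding.isInducing
  obtain ⟨W₀, hW₀, hW₀'⟩ := hemb.isOpen_iff.mp Γ.opensRange.isOpen
  let W : (pullback u u').Opens := ⟨W₀, hW₀⟩
  let w : (W : Scheme.{u}) ⟶ X := W.ι ≫ π
  have c4 : (pullback.fst w i ≫ W.ι) ≫ π = pullback.snd w i ≫ i := by
    rw [Category.assoc]; exact pullback.condition
  let k : pullback w i ⟶ pullback π i := pullback.lift (pullback.fst w i ≫ W.ι) (pullback.snd w i) c4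
  have hk1 : k ≫ pullback.fst π i = pullback.fst w i ≫ W.ι := pullback.lift_fst _ _ _
  have hk2 : k ≫ pullback.snd π i = pullback.snd w i := pullback.lift_snd _ _ _
  have hpb : IsPullback k (pullback.fst w i) (pullback.fst π i) W.ι := by
    refine IsPullback.of_right (h₁₂ := pullback.snd π i) (v₁₃ := i) (h₂₂ := π) ?_ hk1
      (IsPullback.of_hasPullback π i).flip
    rw [hk2]
    exact (IsPullback.of_hasPullback w i).flip
  haveI : IsOpenImmersion k := MorphismProperty.of_isPullback (P := @IsOpenImmersion) hpb.flip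
    inferInstance
  have hrange : Set.range k.base = Set.range Γ.base := by
    have h1 := Scheme.image_preimage_eq_of_isPullback hpb.flip Set.univ
    rw [Set.preimage_univ, Set.image_univ, Set.image_univ] at h1
    rw [h1]
    have h2 : Set.range W.ι.base = W₀ := by
      have := W.range_ι
      exact this
    rw [h2, hW₀']
    rfl
  let e := IsOpenImmersion.isoOfRangeEq k Γ hrange
  have he : e.hom ≫ Γ = k := IsOpenImmersion.isoOfRangeEq_hom_fac _ _ _
  have hA : pullback.map w i u i (W.ι ≫ pullback.fst u u') (𝟙 Z) (𝟙 X) (by simp [w, π]) (by simp) =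
      e.hom := by
    have : pullback.map w i u i (W.ι ≫ pullback.fst u u') (𝟙 Z) (𝟙 X) (by simp [w, π]) (by simp) =
        k ≫ q := by
      apply pullback.hom_ext
      · rw [pullback.lift_fst, Category.assoc, hq1, ← Category.assoc k, hk1, Category.assoc]
      · rw [pullback.lift_snd, Category.assoc, hq2, hk2, Category.comp_id]
    rw [this, ← he, Category.assoc, hΓq, Category.comp_id]
  have hB : pullback.map w i u' i (W.ι ≫ pullback.snd u u') (𝟙 Z) (𝟙 X) (by simp [w, hπ]) (by simp) =
      e.hom ≫ h := by
    have : pullback.map w i u' i (W.ι ≫ pullback.snd u u') (𝟙 Z) (𝟙 X) (by simp [w, hπ]) (by simp) =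
        k ≫ q' := by
      apply pullback.hom_ext
      · rw [pullback.lift_fst, Category.assoc, hq'1, ← Category.assoc k, hk1, Category.assoc]
      · rw [pullback.lift_snd, Category.assoc, hq'2, hk2, Category.comp_id]
    rw [this, ← he, Category.assoc, hΓq']
  refine ⟨W, w, W.ι ≫ pullback.fst u u', W.ι ≫ pullback.snd u u', by simp [w, π], by simp [w, hπ],
    by dsimp only [w]; infer_instance, ?_, ?_⟩
  · rw [hA]; infer_instance
  · rw [hA, hB]

set_option backward.isDefEq.respectTransparency.types false in
theorem isIso_of_isIso_left {Z : Scheme.{u}} {A B : Z.Etale} (f : A ⟶ B) (hf : IsIso f.left) :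
    IsIso f := by
  have hw : inv f.left ≫ A.hom = B.hom := by
    rw [IsIso.inv_comp_eq]; exact (CategoryTheory.Over.w f.hom).symm
  refine ⟨MorphismProperty.Over.homMk (inv f.left) hw trivial, ?_, ?_⟩
  · apply MorphismProperty.Over.Hom.ext
    exact IsIso.hom_inv_id f.left
  · apply MorphismProperty.Over.Hom.ext
    exact IsIso.inv_hom_id f.left

end Groth.Agent.Lib.Helper70.EtaleGraph
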