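import Mathlib
import Groth.Agent.Lib.Helper70.EtaleLift2
import Groth.Agent.S0660
import Groth.Agent.S6632

set_option autoImplicit false
open CategoryTheory CategoryTheory.Limits AlgebraicGeometry Opposite

universe u

namespace Groth.Agent.Lib.Helper70.ClosedImmDense

set_option backward.isDefEq.respectTransparency.types false in
/-- base change along a closed immersion is cover-dense for the small étale sites -/
instance isCoverDense_bc {Z X : Scheme.{u}} (i : Z ⟶ X) [IsClosedImmersion i] :
    (EtCoh.bc i).IsCoverDense Z.smallEtaleTopology := by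
  constructor
  intro U
  rw [Groth.Agent.S6632.mem_smallEtaleTopology_iff]
  intro x
  haveI : Etale U.hom := U.prop
  obtain ⟨V, v, hv, h, h1, h2, ⟨y, hy⟩⟩ :=
    Groth.Agent.Lib.Helper70.EtaleLift2.exists_etale_lift' (U := U.left) (X := Z) i U.hom x
  let Vet : X.Etale := Scheme.Etale.mk v
  let m : (EtCoh.bc i).obj Vet ⟶ U := MorphismProperty.Over.homMk h h1 trivial
  exact ⟨(EtCoh.bc i).obj Vet, m, y, ⟨⟨Vet, 𝟙 _, m, by simp⟩⟩, hy⟩

/-- base change along a closed immersion is locally full for the small étale sites -/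
instance isLocallyFull_bc {Z X : Scheme.{u}} (i : Z ⟶ X) [IsClosedImmersion i] :
    (EtCoh.bc i).IsLocallyFull Z.smallEtaleTopology := by
  constructor
  intro U V h
  obtain ⟨W, a, b, hiso, hab⟩ := Groth.Agent.S0660.result i U V h
  have hmem : ((EtCoh.bc i).imageSieve h).functorPushforward (EtCoh.bc i) ((EtCoh.bc i).map a) :=
    Sieve.image_mem_functorPushforward _ _ ⟨b, hab.symm⟩
  have htop : ((EtCoh.bc i).imageSieve h).functorPushforward (EtCoh.bc i) = ⊤ := by
    rw [← Sieve.id_mem_iff_eq_top]
    have := Sieve.downward_closed _ hmem (inv ((EtCoh.bc i).map a))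
    rwa [IsIso.inv_hom_id] at this
  rw [htop]
  exact GrothendieckTopology.top_mem _ _

end Groth.Agent.Lib.Helper70.ClosedImmDense
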