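import Mathlib
import Groth.Agent.Lib.Helper70.ClosedImmDense

set_option autoImplicit false
open CategoryTheory CategoryTheory.Limits AlgebraicGeometry Opposite

universe u

namespace Groth.Agent.Lib.Helper70.ClosedImmSubsite

set_option backward.isDefEq.respectTransparency false in
/-- equalizers of morphisms into an unramified scheme are open immersions -/
theorem isOpenImmersion_equalizer_ι_left {S : Scheme.{u}} {X Y : Over S} [FormallyUnramified Y.hom]
    [LocallyOfFiniteType Y.hom]
    (f g : X ⟶ Y) : IsOpenImmersion (equalizer.ι f g).left := by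
  refine MorphismProperty.of_isPullback
    ((Limits.isPullback_equalizer_prod f g).map (Over.forget _)).flip ?_
  rw [← MorphismProperty.cancel_right_of_respectsIso @IsOpenImmersion _
    (Over.prodLeftIsoPullback Y Y).hom]
  convert! (inferInstance : IsOpenImmersion (pullback.diagonal Y.hom))
  ext1 <;> simp [← Over.comp_left]

set_option backward.isDefEq.respectTransparency.types false in
/-- base change along a closed immersion is locally faithful for the small étale sites -/
instance isLocallyFaithful_bc {Z X : Scheme.{u}} (i : Z ⟶ X) [IsClosedImmersion i] :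
    (EtCoh.bc i).IsLocallyFaithful Z.smallEtaleTopology := by
  constructor
  intro U V f₁ f₂ hf
  rw [Groth.Agent.S6632.mem_smallEtaleTopology_iff]
  intro p
  haveI : Etale V.hom := V.prop
  haveI : Etale U.hom := U.prop
  let U' : Over X := U.toComma
  let V' : Over X := V.toComma
  let g₁ : U' ⟶ V' := f₁.hom
  let g₂ : U' ⟶ V' := f₂.hom
  haveI : Etale V'.hom := V.prop
  haveI : IsOpenImmersion (equalizer.ι g₁ g₂).left :=
    isOpenImmersion_equalizer_ι_left (Y := V') g₁ g₂
  let ι := equalizer.ι g₁ g₂
  let Eet : X.Etale := Scheme.Etale.mk (ι.left ≫ U.hom)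
  let e : Eet ⟶ U := MorphismProperty.Over.homMk ι.left rfl trivial
  have he : e ≫ f₁ = e ≫ f₂ := by
    apply MorphismProperty.Over.Hom.ext
    exact congrArg (fun k => k.left) (equalizer.condition g₁ g₂)
  -- the projection factors through the equalizer
  let t : Over.mk (pullback.fst U.hom i ≫ U.hom) ⟶ U' :=
    Over.homMk (pullback.fst U.hom i) rfl
  have ht : t ≫ g₁ = t ≫ g₂ := by
    apply Over.OverMorphism.ext
    have h1 := Groth.Agent.S6632.bc_map_left_fst i f₁
    have h2 := Groth.Agent.S6632.bc_map_left_fst i f₂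
    rw [hf] at h1
    exact h1.symm.trans h2
  let l := equalizer.lift t ht
  have hl : l.left ≫ ι.left = pullback.fst U.hom i :=
    congrArg (fun k => k.left) (equalizer.lift_ι t ht)
  have hpb := EtCoh.isPullback_bc_map i e
  obtain ⟨q, hq, -⟩ := Scheme.exists_preimage_of_isPullback hpb p (l.left.base p) (by
    change _ = ι.left.base (l.left.base p)
    rw [← Scheme.Hom.comp_apply, hl]
    rfl)
  exact ⟨(EtCoh.bc i).obj Eet, (EtCoh.bc i).map e, q,
    Sieve.image_mem_functorPushforward _ _ he, hq⟩

/-- the sieve of étale schemes lying over the open complement of `i` -/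
def complSieve {Z X : Scheme.{u}} (i : Z ⟶ X) (V : X.Etale) : Sieve V where
  arrows W _ := Disjoint (Set.range W.hom.base) (Set.range i.base)
  downward_closed := by
    intro W W' g hg k
    refine Set.disjoint_of_subset_left ?_ hg
    rintro _ ⟨x, rfl⟩
    refine ⟨k.left.base x, ?_⟩
    rw [← Scheme.Hom.comp_apply]
    exact congrArg (fun φ : W'.left ⟶ X => φ.base x) (CategoryTheory.Over.w k.hom)

set_option backward.isDefEq.respectTransparency.types false in
theorem sup_complSieve_mem {Z X : Scheme.{u}} (i : Z ⟶ X) [IsClosedImmersion i] (V : X.Etale)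
    (S : Sieve V) (hS : S.functorPushforward (EtCoh.bc i) ∈
      Z.smallEtaleTopology ((EtCoh.bc i).obj V)) :
    S ⊔ complSieve i V ∈ X.smallEtaleTopology V := by
  rw [Groth.Agent.S6632.mem_smallEtaleTopology_iff] at hS ⊢
  intro v
  by_cases hv : V.hom.base v ∈ Set.range i.base
  · obtain ⟨z, hz⟩ := hv
    obtain ⟨p, hp1, hp2⟩ := Scheme.Pullback.exists_preimage_pullback (f := V.hom) (g := i) v z
      hz.symm
    obtain ⟨T, f, t, ⟨W, g, m, hg, rfl⟩, ht⟩ := hS p
    refine ⟨W, g, (pullback.fst W.hom i).base (m.left.base t), Or.inl hg, ?_⟩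
    have h1 := Groth.Agent.S6632.bc_map_left_fst i g
    have h2 : g.left.base ((pullback.fst W.hom i).base (m.left.base t)) =
        (pullback.fst V.hom i).base (((EtCoh.bc i).map g).left.base (m.left.base t)) := by
      rw [← Scheme.Hom.comp_apply, ← Scheme.Hom.comp_apply]
      exact congrArg (fun φ : ((EtCoh.bc i).obj W).left ⟶ V.left => φ.base (m.left.base t)) h1.symm
    rw [h2]
    have h3 : ((EtCoh.bc i).map g).left.base (m.left.base t) = p := ht
    rw [h3, hp1]
  · let O : V.left.Opens := V.hom ⁻¹ᵁ ⟨(Set.range i.base)ᶜ, i.isClosedEmbedding.isClosed_range.isOpen_compl⟩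
    haveI : Etale V.hom := V.prop
    let Wet : X.Etale := Scheme.Etale.mk (O.ι ≫ V.hom)
    let g : Wet ⟶ V := MorphismProperty.Over.homMk O.ι rfl trivial
    refine ⟨Wet, g, ⟨v, hv⟩, Or.inr ?_, rfl⟩
    change Disjoint (Set.range (O.ι ≫ V.hom).base) (Set.range i.base)
    rw [Set.disjoint_right]
    rintro _ hx ⟨y, rfl⟩
    exact y.2 hx

/-- a sheaf of sets on `X` whose sections over étale schemes over the complement of `i` are
singletons is a sheaf for the topology induced from `Z` -/
theorem isSheaf_inducedTopology {Z X : Scheme.{u}} (i : Z ⟶ X) [IsClosedImmersion i]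
    {P : X.Etaleᵒᵖ ⥤ Type*} (hP : Presieve.IsSheaf X.smallEtaleTopology P)
    (hU : ∀ W : X.Etale, Disjoint (Set.range W.hom.base) (Set.range i.base) →
      Nonempty (Unique (P.obj (op W)))) :
    Presieve.IsSheaf ((EtCoh.bc i).inducedTopology Z.smallEtaleTopology) P := by
  intro V S hS
  rw [Functor.mem_inducedTopology_iff_of_isCoverDense] at hS
  have hS' := sup_complSieve_mem i V S hS
  refine Presieve.isSheafFor_trans P (S ⊔ complSieve i V) S (hP _ hS') ?_ ?_
  · intro Y f hf
    have : (S ⊔ complSieve i V).pullback f = ⊤ := Sieve.pullback_eq_top_of_mem _ (Or.inl hf)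
    rw [this]
    exact Presieve.isSeparatedFor_top P
  · rintro Y f (hf | hf)
    · rw [Sieve.pullback_eq_top_of_mem _ hf]
      exact Presieve.isSheafFor_top P
    · obtain ⟨uY⟩ := hU Y hf
      intro x _
      refine ⟨default, ?_, fun t _ => Subsingleton.elim _ _⟩
      intro Y' g hg
      obtain ⟨uY'⟩ := hU Y' ((complSieve i V).downward_closed (f := f) hf g)
      exact Subsingleton.elim _ _

/-- a sheaf on `X` with terminal sections over all étale schemes over the complement of `i` is
a direct image from `Z` -/
theorem essImage_of_isTerminal {Z X : Scheme.{u}} (i : Z ⟶ X) [IsClosedImmersion i]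
    {A : Type*} [Category A] [∀ Y, HasLimitsOfShape (StructuredArrow Y (EtCoh.bc i).op) A]
    (F : Sheaf X.smallEtaleTopology A)
    (hF : ∀ W : X.Etale, Disjoint (Set.range W.hom.base) (Set.range i.base) →
      Nonempty (IsTerminal (F.obj.obj (op W)))) :
    ((EtCoh.bc i).sheafPushforwardContinuous A X.smallEtaleTopology
      Z.smallEtaleTopology).essImage F := by
  have hF' : Presheaf.IsSheaf ((EtCoh.bc i).inducedTopology Z.smallEtaleTopology) F.obj := by
    intro E
    refine isSheaf_inducedTopology i (F.property E) ?_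
    intro W hW
    obtain ⟨hT⟩ := hF W hW
    exact ⟨⟨⟨hT.from E⟩, fun f => hT.hom_ext _ _⟩⟩
  let F' : Sheaf ((EtCoh.bc i).inducedTopology Z.smallEtaleTopology) A := ⟨F.obj, hF'⟩
  let Φ := (EtCoh.bc i).sheafPushforwardContinuous A
    ((EtCoh.bc i).inducedTopology Z.smallEtaleTopology) Z.smallEtaleTopology
  let G := Φ.objPreimage F'
  let e : Φ.obj G ≅ F' := Φ.objObjPreimageIso F'
  let e' : (EtCoh.bc i).op ⋙ G.obj ≅ F.obj :=
    (sheafToPresheaf ((EtCoh.bc i).inducedTopology Z.smallEtaleTopology) A).mapIso e
  exact ⟨G, ⟨(fullyFaithfulSheafToPresheaf X.smallEtaleTopology A).preimageIso e'⟩⟩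

set_option backward.isDefEq.respectTransparency.types false in
/-- the base change to `Z` of an étale scheme over the complement is covered by the empty sieve -/
theorem bot_mem_of_disjoint {Z X : Scheme.{u}} (i : Z ⟶ X) (U : X.Etale)
    (hU : Disjoint (Set.range U.hom.base) (Set.range i.base)) :
    (⊥ : Sieve ((EtCoh.bc i).obj U)) ∈ Z.smallEtaleTopology ((EtCoh.bc i).obj U) := by
  rw [Groth.Agent.S6632.mem_smallEtaleTopology_iff]
  intro p
  exfalso
  change ↥(pullback U.hom i) at p
  have h : U.hom.base ((pullback.fst U.hom i).base p) = i.base ((pullback.snd U.hom i).base p) := by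
    rw [← Scheme.Hom.comp_apply, ← Scheme.Hom.comp_apply, pullback.condition]
  exact Set.disjoint_left.mp hU ⟨_, rfl⟩ ⟨_, h.symm⟩

/-- sections of a direct image from `Z` over étale schemes over the complement are terminal -/
noncomputable def isTerminal_push_of_disjoint {Z X : Scheme.{u}} (i : Z ⟶ X)
    {A : Type*} [Category A] (G : Sheaf Z.smallEtaleTopology A) (U : X.Etale)
    (hU : Disjoint (Set.range U.hom.base) (Set.range i.base)) :
    IsTerminal (G.obj.obj (op ((EtCoh.bc i).obj U))) :=
  Sheaf.isTerminalOfBotCover G _ (bot_mem_of_disjoint i U hU)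

end Groth.Agent.Lib.Helper70.ClosedImmSubsite
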