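import Mathlib
import Groth.Prelude.Def_EtBase
import Groth.Agent.Lib.Helper70.ClosedImmSubsite

set_option autoImplicit false
open CategoryTheory CategoryTheory.Limits AlgebraicGeometry Opposite

universe u

namespace Groth.Agent.Lib.Helper70.ClosedImmStalk

instance : PreservesFilteredColimitsOfSize.{u, u} (forget AddCommGrpCat.{u + 1}) :=
  preservesFilteredColimitsOfSize_shrink.{u, u + 1, u, u + 1} _

set_option backward.isDefEq.respectTransparency.types false in
theorem isZero_stalk_push {Z X : Scheme.{u}} (i : Z ⟶ X) [IsClosedImmersion i]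
    (G : EtCoh.Ab Z) {Ω : Type u} [Field Ω] [IsSepClosed Ω] (ξ : Spec (CommRingCat.of Ω) ⟶ X)
    (hξ : Disjoint (Set.range ξ.base) (Set.range i.base)) :
    IsZero ((EtCoh.stalk ξ).obj ((EtCoh.push i).obj G)) := by
  let Φ := Scheme.pointSmallEtale ξ
  let P : X.Etaleᵒᵖ ⥤ AddCommGrpCat.{u + 1} := ((EtCoh.push i).obj G).obj
  change IsZero (Φ.presheafFiber.obj P)
  have key : ∀ p : ToType (Φ.presheafFiber.obj P), p = 0 := by
    intro p
    obtain ⟨V, x, z, rfl⟩ := Φ.toPresheafFiber_jointly_surjective p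
    let O : V.left.Opens :=
      V.hom ⁻¹ᵁ ⟨(Set.range i.base)ᶜ, i.isClosedEmbedding.isClosed_range.isOpen_compl⟩
    haveI : Etale V.hom := V.prop
    let V' : X.Etale := Scheme.Etale.mk (O.ι ≫ V.hom)
    let g : V' ⟶ V := MorphismProperty.Over.homMk O.ι rfl trivial
    let xl : Spec (CommRingCat.of Ω) ⟶ V.left := x.left
    have hxw : xl ≫ V.hom = ξ := CategoryTheory.Over.w x
    have hmem : ∀ t, xl.base t ∈ O := by
      intro t
      change V.hom.base (xl.base t) ∈ (Set.range i.base)ᶜ
      rw [← Scheme.Hom.comp_apply, hxw]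
      exact fun h => Set.disjoint_left.mp hξ ⟨t, rfl⟩ h
    have hsub : Set.range xl.base ⊆ Set.range O.ι.base := by
      rintro _ ⟨t, rfl⟩
      exact ⟨⟨xl.base t, hmem t⟩, rfl⟩
    let x'l : Spec (CommRingCat.of Ω) ⟶ O := IsOpenImmersion.lift O.ι xl hsub
    have hx'l : x'l ≫ O.ι = xl := IsOpenImmersion.lift_fac _ _ _
    have hx'w : x'l ≫ (O.ι ≫ V.hom) = ξ := by
      rw [← Category.assoc, hx'l, hxw]
    let x' : Φ.fiber.obj V' := Over.homMk x'l hx'w
    have hx' : Φ.fiber.map g x' = x := by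
      apply Over.OverMorphism.ext
      exact hx'l
    have h1 := Φ.toPresheafFiber_w g x' P
    rw [hx'] at h1
    have hdisj : Disjoint (Set.range V'.hom.base) (Set.range i.base) := by
      rw [Set.disjoint_left]
      rintro _ ⟨t, rfl⟩ ht
      exact t.2 ht
    have hT := Groth.Agent.Lib.Helper70.ClosedImmSubsite.isTerminal_push_of_disjoint i G V' hdisj
    have hz : IsZero (P.obj (op V')) :=
      IsZero.of_iso (isZero_zero _) (hT.uniqueUpToIso (isZero_zero _).isTerminal)
    haveI := AddCommGrpCat.subsingleton_of_isZero hz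
    have h2 : P.map g.op z = 0 := Subsingleton.elim _ _
    rw [← h1, ConcreteCategory.comp_apply, h2, map_zero]
  haveI : Subsingleton (ToType (Φ.presheafFiber.obj P)) := ⟨fun a b => (key a).trans (key b).symm⟩
  exact AddCommGrpCat.isZero_of_subsingleton _

end Groth.Agent.Lib.Helper70.ClosedImmStalk
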