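import Mathlib
import Groth.Prelude.Def_EtBase
import Groth.Agent.Lib.Helper70.ClosedImmStalk
import Groth.Agent.S6632

set_option autoImplicit false
open CategoryTheory CategoryTheory.Limits AlgebraicGeometry Opposite

universe u

namespace Groth.Agent.Lib.Helper70.StalkCons

variable {X : Scheme.{u}}

/-- the canonical geometric point over a point of an étale `X`-scheme -/
noncomputable def geomPt (U : X.Etale) (p : U.left) :
    Spec (CommRingCat.of (SeparableClosure (U.left.residueField p))) ⟶ U.left :=
  Spec.map (CommRingCat.ofHom (algebraMap (U.left.residueField p)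
    (SeparableClosure (U.left.residueField p)))) ≫ U.left.fromSpecResidueField p

theorem geomPt_apply (U : X.Etale) (p : U.left) (t) : (geomPt U p).base t = p := by
  rw [geomPt, Scheme.Hom.comp_apply, Scheme.fromSpecResidueField_apply]

/-- the corresponding element of the fibre functor -/
noncomputable def geomPtFiber (U : X.Etale) (p : U.left) :
    (Scheme.pointSmallEtale (geomPt U p ≫ U.hom)).fiber.obj U :=
  Over.homMk (geomPt U p) rfl

set_option backward.isDefEq.respectTransparency.types false in
/-- a section all of whose germs vanish is zero -/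
theorem eq_zero_of_germs (F : EtCoh.Ab X) (U : X.Etale) (s : ToType (F.obj.obj (op U)))
    (h : ∀ (Ω : Type u) [Field Ω] [IsSepClosed Ω] (ξ : Spec (CommRingCat.of Ω) ⟶ X)
      (x : (Scheme.pointSmallEtale ξ).fiber.obj U),
      (Scheme.pointSmallEtale ξ).toPresheafFiber U x F.obj s = 0) : s = 0 := by
  have hsep := ((isSheaf_iff_isSheaf_of_type _ _).1
    ((sheafCompose X.smallEtaleTopology (forget AddCommGrpCat.{u + 1})).obj F).2).isSeparated
  let S : Sieve U :=
    { arrows := fun Y f => F.obj.map f.op s = 0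
      downward_closed := by
        intro Y Z f hf g
        rw [op_comp, F.obj.map_comp, ConcreteCategory.comp_apply, hf, map_zero] }
  have hS : S ∈ X.smallEtaleTopology U := by
    rw [Groth.Agent.S6632.mem_smallEtaleTopology_iff]
    intro p
    have h1 := h _ (geomPt U p ≫ U.hom) (geomPtFiber U p)
    have h2 : (Scheme.pointSmallEtale (geomPt U p ≫ U.hom)).toPresheafFiber U (geomPtFiber U p)
        F.obj s = (Scheme.pointSmallEtale (geomPt U p ≫ U.hom)).toPresheafFiber U
          (geomPtFiber U p) F.obj 0 := by rw [h1, map_zero]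
    rw [GrothendieckTopology.Point.toPresheafFiber_eq_iff'] at h2
    obtain ⟨Y, f, y, hy, hz⟩ := h2
    rw [map_zero] at hz
    let yl : Spec (CommRingCat.of (SeparableClosure (U.left.residueField p))) ⟶ Y.left := y.left
    refine ⟨Y, f, yl.base default, hz, ?_⟩
    have h3 : yl ≫ f.left = geomPt U p := congrArg (fun k => k.left) hy
    rw [← Scheme.Hom.comp_apply, h3, geomPt_apply]
  exact (hsep S hS).ext (fun Y f hf => by
    change F.obj.map f.op s = F.obj.map f.op 0
    rw [map_zero]
    exact hf)

theorem injective_app_of_mono {F G : EtCoh.Ab X} (a : F ⟶ G) [Mono a] (U : X.Etaleᵒᵖ) :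
    Function.Injective (a.hom.app U) := by
  haveI : Mono ((sheafToPresheaf _ _).map a) := inferInstance
  haveI : Mono (a.hom.app U) := by
    have : Mono a.hom := ‹Mono ((sheafToPresheaf _ _).map a)›
    infer_instance
  exact (AddCommGrpCat.mono_iff_injective _).mp inferInstance

/-- monomorphisms of abelian étale sheaves are detected on stalks -/
theorem mono_iff_stalk_injective {F G : EtCoh.Ab X} (a : F ⟶ G) :
    Mono a ↔ ∀ (Ω : Type u) [Field Ω] [IsSepClosed Ω] (ξ : Spec (CommRingCat.of Ω) ⟶ X),
      Function.Injective ((EtCoh.stalk ξ).map a) := by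
  constructor
  · intro ha Ω _ _ ξ
    haveI : Presheaf.IsLocallyInjective X.smallEtaleTopology a.hom :=
      Presheaf.isLocallyInjective_of_injective _ _ (fun U => injective_app_of_mono a U)
    exact (Scheme.pointSmallEtale ξ).toPresheafFiber_map_injective a.hom
  · intro h
    apply Sheaf.mono_of_injective
    intro U
    rw [injective_iff_map_eq_zero]
    intro s hs
    apply eq_zero_of_germs F U.unop s
    intro Ω _ _ ξ x
    apply h Ω ξ
    have h1 := (Scheme.pointSmallEtale ξ).toPresheafFiber_naturality a.hom U.unop x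
    have h2 := ConcreteCategory.congr_hom h1 s
    rw [ConcreteCategory.comp_apply, ConcreteCategory.comp_apply] at h2
    have h3 : ((EtCoh.stalk ξ).map a)
        (((Scheme.pointSmallEtale ξ).toPresheafFiber (unop U) x F.obj) s) = 0 := by
      refine h2.trans ?_
      rw [show (a.hom.app (op U.unop)) s = 0 from hs, map_zero]
      rfl
    exact h3.trans (map_zero ((EtCoh.stalk ξ).map a).hom).symm


set_option backward.isDefEq.respectTransparency.types false in
/-- a morphism of abelian étale sheaves which is surjective on all geometric stalks is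
locally surjective -/
theorem isLocallySurjective_of_stalk_surjective {F G : EtCoh.Ab X} (a : F ⟶ G)
    (h : ∀ (Ω : Type u) [Field Ω] [IsSepClosed Ω] (ξ : Spec (CommRingCat.of Ω) ⟶ X),
      Function.Surjective ((EtCoh.stalk ξ).map a)) :
    Presheaf.IsLocallySurjective X.smallEtaleTopology a.hom := by
  constructor
  intro U t
  rw [Groth.Agent.S6632.mem_smallEtaleTopology_iff]
  intro p
  let Φ := Scheme.pointSmallEtale (geomPt U p ≫ U.hom)
  obtain ⟨σ, hσ⟩ := h _ (geomPt U p ≫ U.hom) (Φ.toPresheafFiber U (geomPtFiber U p) G.obj t)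
  obtain ⟨U', x', s', rfl⟩ := Φ.toPresheafFiber_jointly_surjective σ
  let e1 : Φ.fiber.Elements := ⟨U', x'⟩
  let e2 : Φ.fiber.Elements := ⟨U, geomPtFiber U p⟩
  let e := IsCofiltered.min e1 e2
  let f1 : e ⟶ e1 := IsCofiltered.minToLeft e1 e2
  let f2 : e ⟶ e2 := IsCofiltered.minToRight e1 e2
  have h1 : Φ.toPresheafFiber U' x' G.obj (a.hom.app _ s') =
      Φ.toPresheafFiber U (geomPtFiber U p) G.obj t := by
    have h1 := Φ.toPresheafFiber_naturality a.hom U' x'
    have h2 := ConcreteCategory.congr_hom h1 s'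
    rw [ConcreteCategory.comp_apply, ConcreteCategory.comp_apply] at h2
    exact h2.symm.trans hσ
  have h3 : Φ.toPresheafFiber e.1 e.2 G.obj (G.obj.map f1.1.op (a.hom.app _ s')) =
      Φ.toPresheafFiber e.1 e.2 G.obj (G.obj.map f2.1.op t) := by
    have k1 := ConcreteCategory.congr_hom (Φ.toPresheafFiber_w f1.1 e.2 G.obj) (a.hom.app _ s')
    have k2 := ConcreteCategory.congr_hom (Φ.toPresheafFiber_w f2.1 e.2 G.obj) t
    rw [ConcreteCategory.comp_apply] at k1 k2
    rw [k1, k2]
    have q1 : Φ.fiber.map f1.1 e.2 = x' := f1.2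
    have q2 : Φ.fiber.map f2.1 e.2 = geomPtFiber U p := f2.2
    rw [q1, q2]
    exact h1
  rw [GrothendieckTopology.Point.toPresheafFiber_eq_iff'] at h3
  obtain ⟨Y, f, y, hy, hz⟩ := h3
  let yl : Spec (CommRingCat.of (SeparableClosure (U.left.residueField p))) ⟶ Y.left := y.left
  refine ⟨Y, f ≫ f2.1, yl.base default, ?_, ?_⟩
  · refine ⟨F.obj.map (f ≫ f1.1).op s', ?_⟩
    have n1 := ConcreteCategory.congr_hom (a.hom.naturality (f ≫ f1.1).op) s'
    rw [ConcreteCategory.comp_apply, ConcreteCategory.comp_apply] at n1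
    refine n1.trans ?_
    rw [op_comp, G.obj.map_comp, ConcreteCategory.comp_apply, op_comp, G.obj.map_comp,
      ConcreteCategory.comp_apply]
    exact hz
  · have q2 : Φ.fiber.map f2.1 e.2 = geomPtFiber U p := f2.2
    have q3 : Φ.fiber.map (f ≫ f2.1) y = geomPtFiber U p := by
      rw [Functor.map_comp]
      change Φ.fiber.map f2.1 (Φ.fiber.map f y) = _
      rw [hy, q2]
    have h3 : yl ≫ (f ≫ f2.1).left = geomPt U p := congrArg (fun k => k.left) q3
    rw [← Scheme.Hom.comp_apply, h3, geomPt_apply]


/-- epimorphisms of abelian étale sheaves are detected on stalks -/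
theorem epi_iff_stalk_surjective {F G : EtCoh.Ab X} (a : F ⟶ G) :
    Epi a ↔ ∀ (Ω : Type u) [Field Ω] [IsSepClosed Ω] (ξ : Spec (CommRingCat.of Ω) ⟶ X),
      Function.Surjective ((EtCoh.stalk ξ).map a) := by
  rw [← Sheaf.isLocallySurjective_iff_epi' _ a]
  constructor
  · intro ha Ω _ _ ξ
    haveI : Presheaf.IsLocallySurjective X.smallEtaleTopology a.hom := ha
    exact (Scheme.pointSmallEtale ξ).toPresheafFiber_map_surjective a.hom
  · intro h
    exact isLocallySurjective_of_stalk_surjective a h

instance ab5 : AB5OfSize.{u, u} AddCommGrpCat.{u + 1} :=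
  AB5OfSize_of_univLE.{u, u, u + 1, u + 1, u + 1, u + 2} AddCommGrpCat.{u + 1}

instance stalk_preservesZeroMorphisms {Ω : Type u} [Field Ω] [IsSepClosed Ω]
    (ξ : Spec (CommRingCat.of Ω) ⟶ X) : (EtCoh.stalk ξ).PreservesZeroMorphisms :=
  Functor.preservesZeroMorphisms_of_preserves_terminal_object

instance stalk_additive {Ω : Type u} [Field Ω] [IsSepClosed Ω]
    (ξ : Spec (CommRingCat.of Ω) ⟶ X) : (EtCoh.stalk ξ).Additive :=
  Functor.additive_of_preserves_binary_products _

/-- an abelian étale sheaf all of whose geometric stalks vanish is zero -/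
theorem isZero_of_stalks (H : EtCoh.Ab X)
    (h : ∀ (Ω : Type u) [Field Ω] [IsSepClosed Ω] (ξ : Spec (CommRingCat.of Ω) ⟶ X),
      IsZero ((EtCoh.stalk ξ).obj H)) : IsZero H := by
  rw [IsZero.iff_id_eq_zero]
  ext U s
  change s = 0
  apply eq_zero_of_germs H U.unop s
  intro Ω _ _ ξ x
  haveI : Subsingleton ((EtCoh.stalk ξ).obj H) :=
    AddCommGrpCat.subsingleton_of_isZero (h Ω ξ)
  exact Subsingleton.elim (α := ((EtCoh.stalk ξ).obj H)) _ _

/-- exactness of a short complex of abelian étale sheaves is detected on stalks -/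
theorem exact_iff_stalk_exact (S : ShortComplex (EtCoh.Ab X)) :
    S.Exact ↔ ∀ (Ω : Type u) [Field Ω] [IsSepClosed Ω] (ξ : Spec (CommRingCat.of Ω) ⟶ X),
      (S.map (EtCoh.stalk ξ)).Exact := by
  constructor
  · intro h Ω _ _ ξ
    exact h.map _
  · intro h
    rw [S.exact_iff_isZero_homology]
    apply isZero_of_stalks
    intro Ω _ _ ξ
    exact ((S.map (EtCoh.stalk ξ)).exact_iff_isZero_homology.1 (h Ω ξ)).of_iso
      (S.mapHomologyIso (EtCoh.stalk ξ)).symm

end Groth.Agent.Lib.Helper70.StalkCons
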