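import Mathlib

set_option autoImplicit false
open CategoryTheory CategoryTheory.Limits Opposite

namespace Groth.Agent.Lib.Helper70.ComapGerm

universe w v

open GrothendieckTopology

variable {C D : Type*} [Category* C] [Category* D]
  {K : GrothendieckTopology D}
  (Φ : Point.{w} K) (F : C ⥤ D) [RepresentablyFlat F] {J : GrothendieckTopology C}
  (hF : CoverPreserving J K F)
  [InitiallySmall (F ⋙ Φ.fiber).Elements]
  (A : Type*) [Category.{v} A] [HasProducts.{w} A]
  [Functor.IsContinuous F J K]
  [(F.sheafPushforwardContinuous A J K).IsRightAdjoint]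
  [HasColimitsOfSize.{w, w} A]

omit [RepresentablyFlat F] [InitiallySmall (F ⋙ Φ.fiber).Elements] [Functor.IsContinuous F J K]
  [(F.sheafPushforwardContinuous A J K).IsRightAdjoint] in
set_option backward.isDefEq.respectTransparency.types false in
set_option backward.defeqAttrib.useBackward true in
/-- the unit of the skyscraper adjunction is given by the germ maps -/
theorem unit_app_π (Ψ : Point.{w} J) (G : Sheaf J A) (V : C) (v : Ψ.fiber.obj V) :
    (Ψ.skyscraperSheafAdjunction.unit.app G).hom.app (op V) ≫
      Pi.π (fun (_ : Ψ.fiber.obj V) ↦ Ψ.presheafFiber.obj G.obj) v =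
      Ψ.toPresheafFiber V v G.obj := by
  have h : (Ψ.skyscraperSheafAdjunction.unit.app G) =
      Ψ.skyscraperSheafAdjunction.homEquiv G _ (𝟙 _) := by
    rw [Adjunction.homEquiv_unit]
    simp
  have h2 : (Ψ.skyscraperSheafAdjunction.unit.app G).hom =
      Ψ.skyscraperPresheafHomEquiv (𝟙 (Ψ.presheafFiber.obj G.obj)) := by
    rw [h]
    exact Ψ.skyscraperSheafAdjunction_homEquiv_apply_hom (F := G) (𝟙 (Ψ.presheafFiber.obj G.obj))
  rw [h2]
  exact (Ψ.skyscraperPresheafHomEquiv_app_π (𝟙 _) V v).trans (Category.comp_id _)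

set_option backward.isDefEq.respectTransparency.types false in
set_option backward.defeqAttrib.useBackward true in
theorem germ_compat (G : Sheaf J A) (V : C) (v : Φ.fiber.obj (F.obj V)) :
    (Φ.comap F hF).toPresheafFiber V v G.obj ≫ (Φ.sheafFiberComapIso F hF A).hom.app G =
      ((F.sheafAdjunctionContinuous A J K).unit.app G).hom.app (op V) ≫
        Φ.toPresheafFiber (F.obj V) v ((F.sheafPullback A J K).obj G).obj := by
  have key := unit_conjugateEquiv_symm
    ((F.sheafAdjunctionContinuous A J K).comp Φ.skyscraperSheafAdjunction)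
    (Φ.comap F hF).skyscraperSheafAdjunction
    (Φ.skyscraperSheafFunctorCompSheafPushforwardContinuous F hF A).hom G
  have e0 : ((conjugateEquiv ((F.sheafAdjunctionContinuous A J K).comp Φ.skyscraperSheafAdjunction)
      (Φ.comap F hF).skyscraperSheafAdjunction).symm
      (Φ.skyscraperSheafFunctorCompSheafPushforwardContinuous F hF A).hom).app G =
      (Φ.sheafFiberComapIso F hF A).hom.app G := rfl
  rw [e0] at key
  have key2 := congrArg (fun φ => φ.hom.app (op V) ≫
    Pi.π (fun (_ : Φ.fiber.obj (F.obj V)) ↦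
      Φ.presheafFiber.obj ((F.sheafPullback A J K).obj G).obj) v) key
  have hL : (((F.sheafAdjunctionContinuous A J K).comp Φ.skyscraperSheafAdjunction).unit.app G ≫
      (Φ.skyscraperSheafFunctorCompSheafPushforwardContinuous F hF A).hom.app
        ((F.sheafPullback A J K ⋙ Φ.sheafFiber).obj G)).hom.app (op V) ≫
      Pi.π (fun (_ : Φ.fiber.obj (F.obj V)) ↦
        Φ.presheafFiber.obj ((F.sheafPullback A J K).obj G).obj) v =
      ((F.sheafAdjunctionContinuous A J K).unit.app G).hom.app (op V) ≫
        Φ.toPresheafFiber (F.obj V) v ((F.sheafPullback A J K).obj G).obj := by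
    have h1 := unit_app_π A Φ ((F.sheafPullback A J K).obj G) (F.obj V) v
    rw [Adjunction.comp_unit_app]
    dsimp [GrothendieckTopology.Point.skyscraperSheafFunctorCompSheafPushforwardContinuous]
    rw [Category.comp_id, Category.assoc]
    exact congrArg (fun q => ((F.sheafAdjunctionContinuous A J K).unit.app G).hom.app (op V) ≫ q) h1
  have hR : ((Φ.comap F hF).skyscraperSheafAdjunction.unit.app G ≫
      (Φ.comap F hF).skyscraperSheafFunctor.map ((Φ.sheafFiberComapIso F hF A).hom.app G)).hom.app
        (op V) ≫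
      Pi.π (fun (_ : Φ.fiber.obj (F.obj V)) ↦
        Φ.presheafFiber.obj ((F.sheafPullback A J K).obj G).obj) v =
      (Φ.comap F hF).toPresheafFiber V v G.obj ≫ (Φ.sheafFiberComapIso F hF A).hom.app G := by
    have h1 := unit_app_π A (Φ.comap F hF) G V v
    dsimp
    rw [Category.assoc]
    have h2 : (Limits.Pi.map fun (_ : (Φ.comap F hF).fiber.obj V) =>
        (Φ.sheafFiberComapIso F hF A).hom.app G) ≫
        Pi.π (fun (_ : (Φ.comap F hF).fiber.obj V) =>
          Φ.presheafFiber.obj ((F.sheafPullback A J K).obj G).obj) v =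
        Pi.π (fun (_ : (Φ.comap F hF).fiber.obj V) => (Φ.comap F hF).presheafFiber.obj G.obj) v ≫
          (Φ.sheafFiberComapIso F hF A).hom.app G := Limits.Pi.map_π _ _
    refine (congrArg (fun q => ((Φ.comap F hF).skyscraperSheafAdjunction.unit.app G).hom.app
      (op V) ≫ q) h2).trans ?_
    refine (Category.assoc _ _ _).symm.trans ?_
    exact congrArg (fun q => q ≫ (Φ.sheafFiberComapIso F hF A).hom.app G) h1
  exact hR.symm.trans (key2.symm.trans hL)

end Groth.Agent.Lib.Helper70.ComapGerm
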