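import Mathlib
import Groth.Prelude.Def_EtBase
import Groth.Agent.Lib.Helper70.ClosedImmStalk
import Groth.Agent.S0660

set_option autoImplicit false
open CategoryTheory CategoryTheory.Limits AlgebraicGeometry Opposite

universe u

namespace Groth.Agent.Lib.Helper70.ClosedImmStalk2

variable {Z X : Scheme.{u}} (i : Z ⟶ X) {Ω : Type u} [Field Ω] [IsSepClosed Ω]
  (ζ : Spec (CommRingCat.of Ω) ⟶ Z)

set_option backward.isDefEq.respectTransparency.types false in
/-- geometric points of `V` over `i ∘ ζ` are geometric points of `V ×_X Z` over `ζ` -/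
noncomputable def tilde (V : X.Etale) :
    (Scheme.pointSmallEtale (ζ ≫ i)).fiber.obj V ≃
      (Scheme.pointSmallEtale ζ).fiber.obj ((EtCoh.bc i).obj V) where
  toFun x := Over.homMk (pullback.lift (x.left : Spec (CommRingCat.of Ω) ⟶ V.left) ζ
      (CategoryTheory.Over.w x)) (pullback.lift_snd _ _ _)
  invFun y := Over.homMk ((y.left : Spec (CommRingCat.of Ω) ⟶ pullback V.hom i) ≫
      pullback.fst V.hom i) (by
        have h : (y.left : Spec (CommRingCat.of Ω) ⟶ pullback V.hom i) ≫ pullback.snd V.hom i = ζ :=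
          CategoryTheory.Over.w y
        change ((y.left : Spec (CommRingCat.of Ω) ⟶ pullback V.hom i) ≫
          pullback.fst V.hom i) ≫ V.hom = ζ ≫ i
        rw [Category.assoc]
        exact ((congrArg (fun q => (y.left : Spec (CommRingCat.of Ω) ⟶ pullback V.hom i) ≫ q)
          (pullback.condition (f := V.hom) (g := i))).trans (Category.assoc _ _ _).symm).trans
          (congrArg (fun q => q ≫ i) h))
  left_inv x := by
    apply Over.OverMorphism.ext
    exact pullback.lift_fst _ _ _
  right_inv y := by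
    apply Over.OverMorphism.ext
    have h : (y.left : Spec (CommRingCat.of Ω) ⟶ pullback V.hom i) ≫ pullback.snd V.hom i = ζ :=
      CategoryTheory.Over.w y
    apply pullback.hom_ext
    · exact pullback.lift_fst _ _ _
    · exact (pullback.lift_snd _ _ _).trans h.symm

set_option backward.isDefEq.respectTransparency.types false in
theorem tilde_map {V V' : X.Etale} (g : V ⟶ V')
    (x : (Scheme.pointSmallEtale (ζ ≫ i)).fiber.obj V) :
    tilde i ζ V' ((Scheme.pointSmallEtale (ζ ≫ i)).fiber.map g x) =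
      (Scheme.pointSmallEtale ζ).fiber.map ((EtCoh.bc i).map g) (tilde i ζ V x) := by
  apply Over.OverMorphism.ext
  apply pullback.hom_ext
  · refine (pullback.lift_fst _ _ _).trans ?_
    have h1 := Groth.Agent.S6632.bc_map_left_fst i g
    have h2 : pullback.lift (x.left : Spec (CommRingCat.of Ω) ⟶ V.left) ζ
        (CategoryTheory.Over.w x) ≫ pullback.fst V.hom i = x.left := pullback.lift_fst _ _ _
    exact ((congrArg (fun q => q ≫ g.left) h2.symm).trans (Category.assoc _ _ _)).trans
      ((congrArg (fun q => pullback.lift (x.left : Spec (CommRingCat.of Ω) ⟶ V.left) ζ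
        (CategoryTheory.Over.w x) ≫ q) h1.symm).trans (Category.assoc _ _ _).symm)
  · refine (pullback.lift_snd _ _ _).trans ?_
    have h1 := Groth.Agent.S6632.bc_map_left_snd i g
    have h2 : pullback.lift (x.left : Spec (CommRingCat.of Ω) ⟶ V.left) ζ
        (CategoryTheory.Over.w x) ≫ pullback.snd V.hom i = ζ := pullback.lift_snd _ _ _
    exact h2.symm.trans ((congrArg (fun q => pullback.lift
      (x.left : Spec (CommRingCat.of Ω) ⟶ V.left) ζ (CategoryTheory.Over.w x) ≫ q) h1.symm).trans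
      (Category.assoc _ _ _).symm)

set_option backward.isDefEq.respectTransparency.types false in
/-- étale neighbourhoods of a geometric point of `Z` are refined by base changes -/
theorem exists_refinement [IsClosedImmersion i] (U : Z.Etale)
    (y : (Scheme.pointSmallEtale ζ).fiber.obj U) :
    ∃ (V : X.Etale) (m : (EtCoh.bc i).obj V ⟶ U)
      (y' : (Scheme.pointSmallEtale ζ).fiber.obj ((EtCoh.bc i).obj V)),
      (Scheme.pointSmallEtale ζ).fiber.map m y' = y := by
  let yl : Spec (CommRingCat.of Ω) ⟶ U.left := y.left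
  have hyw : yl ≫ U.hom = ζ := CategoryTheory.Over.w y
  haveI : Etale U.hom := U.prop
  obtain ⟨V₀, v, hv, h, h1, h2, ⟨p, hp⟩⟩ :=
    Groth.Agent.Lib.Helper70.EtaleLift2.exists_etale_lift' (U := U.left) (X := Z) i U.hom
      (yl.base default)
  have hsub : Set.range yl.base ⊆ Set.range h.base := by
    rintro _ ⟨t, rfl⟩
    rw [Subsingleton.elim t default]
    exact ⟨p, hp⟩
  let y'l : Spec (CommRingCat.of Ω) ⟶ pullback v i := IsOpenImmersion.lift h yl hsub
  have hy'l : y'l ≫ h = yl := IsOpenImmersion.lift_fac _ _ _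
  let V : X.Etale := Scheme.Etale.mk v
  let m : (EtCoh.bc i).obj V ⟶ U := MorphismProperty.Over.homMk h h1 trivial
  have hy'w : y'l ≫ pullback.snd v i = ζ := by
    rw [← h1, ← Category.assoc, hy'l, hyw]
  let y' : (Scheme.pointSmallEtale ζ).fiber.obj ((EtCoh.bc i).obj V) := Over.homMk y'l hy'w
  refine ⟨V, m, y', ?_⟩
  apply Over.OverMorphism.ext
  exact hy'l

set_option backward.isDefEq.respectTransparency.types false in
/-- the stalk of `i_* G` at `i ∘ ζ` is the stalk of `G` at `ζ` -/
theorem nonempty_stalk_push_iso [IsClosedImmersion i] (G : EtCoh.Ab Z) :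
    Nonempty ((EtCoh.stalk (ζ ≫ i)).obj ((EtCoh.push i).obj G) ≅ (EtCoh.stalk ζ).obj G) := by
  let ΦX := Scheme.pointSmallEtale (ζ ≫ i)
  let ΦZ := Scheme.pointSmallEtale ζ
  let P : X.Etaleᵒᵖ ⥤ AddCommGrpCat.{u + 1} := ((EtCoh.push i).obj G).obj
  let Q : Z.Etaleᵒᵖ ⥤ AddCommGrpCat.{u + 1} := G.obj
  have hPQ : ∀ {V V' : X.Etale} (g : V ⟶ V'), P.map g.op = Q.map ((EtCoh.bc i).map g).op :=
    fun g => rfl
  let φ : ∀ (V : X.Etale) (_ : ΦX.fiber.obj V), P.obj (op V) ⟶ ΦZ.presheafFiber.obj Q :=
    fun V x => ΦZ.toPresheafFiber ((EtCoh.bc i).obj V) (tilde i ζ V x) Q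
  have hφ : ∀ ⦃V V' : X.Etale⦄ (g : V ⟶ V') (x : ΦX.fiber.obj V),
      P.map g.op ≫ φ V x = φ V' (ΦX.fiber.map g x) := by
    intro V V' g x
    change Q.map ((EtCoh.bc i).map g).op ≫ ΦZ.toPresheafFiber _ (tilde i ζ V x) Q =
      ΦZ.toPresheafFiber _ (tilde i ζ V' (ΦX.fiber.map g x)) Q
    rw [tilde_map, ΦZ.toPresheafFiber_w]
  let α : ΦX.presheafFiber.obj P ⟶ ΦZ.presheafFiber.obj Q := ΦX.presheafFiberDesc φ hφ
  have hα : ∀ (V : X.Etale) (x : ΦX.fiber.obj V) (z : ToType (P.obj (op V))),
      α (ΦX.toPresheafFiber V x P z) = ΦZ.toPresheafFiber _ (tilde i ζ V x) Q z := by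
    intro V x z
    have := ΦX.toPresheafFiber_presheafFiberDesc φ hφ V x
    exact ConcreteCategory.congr_hom this z
  have hbij : Function.Bijective α := by
    constructor
    · intro a₁ a₂ h
      obtain ⟨V, x, z₁, z₂, rfl, rfl⟩ := ΦX.toPresheafFiber_jointly_surjective₂ a₁ a₂
      rw [hα, hα, ΦZ.toPresheafFiber_eq_iff'] at h
      obtain ⟨U', f, y, hy, hz⟩ := h
      obtain ⟨V', m, y', hy'⟩ := exists_refinement i ζ U' y
      obtain ⟨W, a, b, hiso, hab⟩ := Groth.Agent.S0660.result i V' V (m ≫ f)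
      let wt : ΦZ.fiber.obj ((EtCoh.bc i).obj W) := ΦZ.fiber.map (inv ((EtCoh.bc i).map a)) y'
      let w : ΦX.fiber.obj W := (tilde i ζ W).symm wt
      have hw : ΦX.fiber.map b w = x := by
        apply (tilde i ζ V).injective
        rw [tilde_map, Equiv.apply_symm_apply, ← hab]
        change ΦZ.fiber.map ((EtCoh.bc i).map a ≫ m ≫ f)
          (ΦZ.fiber.map (inv ((EtCoh.bc i).map a)) y') = _
        rw [← Functor.map_comp_apply, IsIso.inv_hom_id_assoc,
          Functor.map_comp_apply, hy', hy]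
      have h1 := ΦX.toPresheafFiber_w b w P
      rw [hw] at h1
      rw [← h1, ConcreteCategory.comp_apply, ConcreteCategory.comp_apply]
      congr 1
      rw [hPQ, ← hab]
      simp only [op_comp, Functor.map_comp, Category.assoc]
      have e : ∀ z : ToType (Q.obj (op ((EtCoh.bc i).obj V))),
          (ConcreteCategory.hom (Q.map f.op ≫ Q.map m.op ≫ Q.map ((EtCoh.bc i).map a).op)) z =
          (ConcreteCategory.hom (Q.map m.op ≫ Q.map ((EtCoh.bc i).map a).op))
            ((ConcreteCategory.hom (Q.map f.op)) z) := fun z => rfl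
      exact (e z₁).trans ((congrArg _ hz).trans (e z₂).symm)
    · intro q
      obtain ⟨U, y, z, rfl⟩ := ΦZ.toPresheafFiber_jointly_surjective q
      obtain ⟨V, m, y', hy'⟩ := exists_refinement i ζ U y
      refine ⟨ΦX.toPresheafFiber V ((tilde i ζ V).symm y') P (Q.map m.op z), ?_⟩
      rw [hα, Equiv.apply_symm_apply]
      have h1 := ΦZ.toPresheafFiber_w m y' Q
      rw [hy'] at h1
      rw [← h1, ConcreteCategory.comp_apply]
  have hiso : IsIso α := (ConcreteCategory.isIso_iff_bijective α).mpr hbij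
  exact ⟨@asIso _ _ _ _ α hiso⟩

end Groth.Agent.Lib.Helper70.ClosedImmStalk2
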