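import Mathlib
import Groth.Prelude.Def_EtBase
import Groth.Agent.Lib.Helper70.ClosedImmStalk2

set_option autoImplicit false
open CategoryTheory CategoryTheory.Limits AlgebraicGeometry Opposite

universe u

namespace Groth.Agent.Lib.Helper70.StalkPull

open Groth.Agent.Lib.Helper70.ClosedImmStalk2

variable {X Y : Scheme.{u}} (f : X ⟶ Y) {Ω : Type u} [Field Ω] [IsSepClosed Ω]
  (ξ : Spec (CommRingCat.of Ω) ⟶ X)

/-- the fibre functor of `ξ ≫ f` is the base change followed by the fibre functor of `ξ` -/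
noncomputable def fiberIso :
    (Scheme.pointSmallEtale (ξ ≫ f)).fiber ≅ EtCoh.bc f ⋙ (Scheme.pointSmallEtale ξ).fiber :=
  NatIso.ofComponents (fun V => (tilde f ξ V).toIso) (by
    intro V V' g
    ext x
    exact tilde_map f ξ g x)

instance : InitiallySmall.{u} (EtCoh.bc f ⋙ (Scheme.pointSmallEtale ξ).fiber).Elements := by
  let E : (Scheme.pointSmallEtale (ξ ≫ f)).fiber.Elements ≌
      (EtCoh.bc f ⋙ (Scheme.pointSmallEtale ξ).fiber).Elements :=
    Cat.equivOfIso (Functor.elementsFunctor.mapIso (fiberIso f ξ))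
  exact initiallySmall_of_initial_of_initiallySmall E.functor

/-- the point of `Y` induced from `ξ` by base change -/
noncomputable def comapPoint : Y.smallEtaleTopology.Point :=
  (Scheme.pointSmallEtale ξ).comap (EtCoh.bc f) (EtCoh.coverPreserving_bc f)

/-- isomorphic fibre functors give isomorphic stalk functors -/
noncomputable def sheafFiberIsoOfFiberIso {C : Type*} [Category C] {J : GrothendieckTopology C}
    (Φ₁ Φ₂ : J.Point) (e : Φ₁.fiber ≅ Φ₂.fiber) {A : Type*} [Category A]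
    [HasColimitsOfSize.{u, u} A] : Φ₁.sheafFiber (A := A) ≅ Φ₂.sheafFiber where
  hom := GrothendieckTopology.Point.Hom.sheafFiber (⟨e.hom⟩ : Φ₂ ⟶ Φ₁)
  inv := GrothendieckTopology.Point.Hom.sheafFiber (⟨e.inv⟩ : Φ₁ ⟶ Φ₂)
  hom_inv_id := by
    rw [← GrothendieckTopology.Point.Hom.sheafFiber_comp,
      ← GrothendieckTopology.Point.Hom.sheafFiber_id]
    congr 1
    ext : 1
    exact e.hom_inv_id
  inv_hom_id := by
    rw [← GrothendieckTopology.Point.Hom.sheafFiber_comp,
      ← GrothendieckTopology.Point.Hom.sheafFiber_id]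
    congr 1
    ext : 1
    exact e.inv_hom_id

theorem nonempty_stalk_pull_iso (G : EtCoh.Ab Y) :
    Nonempty ((EtCoh.stalk ξ).obj ((EtCoh.pull f).obj G) ≅ (EtCoh.stalk (ξ ≫ f)).obj G) := by
  haveI : ((EtCoh.bc f).sheafPushforwardContinuous AddCommGrpCat.{u + 1} Y.smallEtaleTopology
      X.smallEtaleTopology).IsRightAdjoint := (EtCoh.pullPushAdj f).isRightAdjoint
  let e1 := GrothendieckTopology.Point.sheafFiberComapIso (Scheme.pointSmallEtale ξ) (EtCoh.bc f)
    (EtCoh.coverPreserving_bc f) AddCommGrpCat.{u + 1}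
  let e2 := sheafFiberIsoOfFiberIso (A := AddCommGrpCat.{u + 1}) (comapPoint f ξ)
    (Scheme.pointSmallEtale (ξ ≫ f)) (fiberIso f ξ).symm
  exact ⟨(e1.app G).symm ≪≫ e2.app G⟩

end Groth.Agent.Lib.Helper70.StalkPull
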