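import Mathlib
import Groth.Prelude.Def_EtBase
import Groth.Agent.Lib.Helper70.StalkPull
import Groth.Agent.Lib.Helper70.ComapGerm

set_option autoImplicit false
open CategoryTheory CategoryTheory.Limits AlgebraicGeometry Opposite

universe u

namespace Groth.Agent.Lib.Helper70.StalkPullGerm

open Groth.Agent.Lib.Helper70.ClosedImmStalk2 Groth.Agent.Lib.Helper70.StalkPull

variable {X Y : Scheme.{u}} (f : X ⟶ Y) {Ω : Type u} [Field Ω] [IsSepClosed Ω]
  (ξ : Spec (CommRingCat.of Ω) ⟶ X)

section General

variable (A : Type (u + 2)) [Category.{u + 1} A] [HasProducts.{u} A] [HasColimitsOfSize.{u, u} A]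
  [((EtCoh.bc f).sheafPushforwardContinuous A Y.smallEtaleTopology
      X.smallEtaleTopology).IsRightAdjoint]

/-- the stalk of the inverse image, as a natural isomorphism of functors -/
noncomputable def stalkPullIso :
    (EtCoh.bc f).sheafPullback A Y.smallEtaleTopology X.smallEtaleTopology ⋙
      (Scheme.pointSmallEtale ξ).sheafFiber ≅ (Scheme.pointSmallEtale (ξ ≫ f)).sheafFiber (A := A) :=
  (GrothendieckTopology.Point.sheafFiberComapIso (Scheme.pointSmallEtale ξ) (EtCoh.bc f)
    (EtCoh.coverPreserving_bc f) A).symm ≪≫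
  sheafFiberIsoOfFiberIso (A := A) (comapPoint f ξ)
    (Scheme.pointSmallEtale (ξ ≫ f)) (fiberIso f ξ).symm

set_option backward.isDefEq.respectTransparency.types false in
/-- compatibility of `stalkPullIso` with germs -/
theorem germ_stalkPullIso_inv (G : Sheaf Y.smallEtaleTopology A) (V : Y.Etale)
    (v : (Scheme.pointSmallEtale (ξ ≫ f)).fiber.obj V) :
    (Scheme.pointSmallEtale (ξ ≫ f)).toPresheafFiber V v G.obj ≫ (stalkPullIso f ξ A).inv.app G =
      (((EtCoh.bc f).sheafAdjunctionContinuous A Y.smallEtaleTopology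
        X.smallEtaleTopology).unit.app G).hom.app (op V) ≫
      (Scheme.pointSmallEtale ξ).toPresheafFiber ((EtCoh.bc f).obj V) (tilde f ξ V v)
        (((EtCoh.bc f).sheafPullback A Y.smallEtaleTopology X.smallEtaleTopology).obj G).obj := by
  have h1 := Groth.Agent.Lib.Helper70.ComapGerm.germ_compat (Scheme.pointSmallEtale ξ) (EtCoh.bc f)
    (EtCoh.coverPreserving_bc f) A G V (tilde f ξ V v)
  have h2 : (Scheme.pointSmallEtale (ξ ≫ f)).toPresheafFiber V v G.obj ≫
      (sheafFiberIsoOfFiberIso (A := A) (comapPoint f ξ)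
        (Scheme.pointSmallEtale (ξ ≫ f)) (fiberIso f ξ).symm).inv.app G =
      (comapPoint f ξ).toPresheafFiber V (tilde f ξ V v) G.obj := by
    dsimp [sheafFiberIsoOfFiberIso]
    rw [GrothendieckTopology.Point.Hom.presheafFiber_app]
    exact GrothendieckTopology.Point.toPresheafFiber_presheafFiberDesc (A := A)
      (Scheme.pointSmallEtale (ξ ≫ f)) (P := G.obj) _ _ V v
  dsimp [stalkPullIso]
  refine (Category.assoc _ _ _).symm.trans ?_
  refine (congrArg (fun q => q ≫ ((Scheme.pointSmallEtale ξ).sheafFiberComapIso (EtCoh.bc f)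
    (EtCoh.coverPreserving_bc f) A).hom.app G) h2).trans ?_
  exact h1

end General

end Groth.Agent.Lib.Helper70.StalkPullGerm
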