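import Mathlib
import Groth.Prelude.Def_EtShriek2
import Groth.Prelude.Def_PBC
import Groth.Agent.Lib.Helper70.StalkCons

set_option autoImplicit false
open CategoryTheory CategoryTheory.Limits AlgebraicGeometry Opposite

universe u

namespace Groth.Agent.Lib.Helper70.Supp

open Groth.Agent.Lib.Helper70.StalkCons

variable {S : Scheme.{u}} (F : EtCoh.Ab S)

set_option backward.isDefEq.respectTransparency.types false in
/-- the support of a section is closed -/
theorem isClosed_sectSupp (U : S.Etale) (σ : EtCoh.sect F U) :
    IsClosed (EtShriek.sectSupp F U σ) := by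
  rw [← isOpen_compl_iff]
  have h : (EtShriek.sectSupp F U σ)ᶜ =
      ⋃ (W : S.Etale) (g : W ⟶ U) (_ : F.obj.map g.op σ = 0), Set.range g.left.base := by
    ext x
    simp only [EtShriek.sectSupp, Set.mem_compl_iff, Set.mem_ofPred_eq, not_forall, not_not,
      Set.mem_iUnion, Set.mem_range, exists_prop]
    constructor
    · rintro ⟨W, g, hw, h0⟩
      exact ⟨W, g, h0, hw⟩
    · rintro ⟨W, g, h0, hw⟩
      exact ⟨W, g, hw, h0⟩
  rw [h]
  refine isOpen_iUnion fun W => isOpen_iUnion fun g => isOpen_iUnion fun _ => ?_
  haveI : Etale g.left := by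
    haveI : Etale U.hom := U.prop
    haveI : Etale (g.left ≫ U.hom) := by
      rw [MorphismProperty.Over.w g]; exact W.prop
    exact MorphismProperty.of_postcomp (W := @Etale) (W' := @Etale) g.left U.hom inferInstance
      inferInstance
  exact g.left.isOpenMap.isOpen_range


set_option backward.isDefEq.respectTransparency.types false in
/-- the support of a sheaf is the union of the images of the supports of its sections -/
theorem supp_eq : EtPBC.supp F =
    ⋃ (U : S.Etale) (σ : EtCoh.sect F U), U.hom.base '' EtShriek.sectSupp F U σ := by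
  ext x
  simp only [EtPBC.supp, Set.mem_ofPred_eq, Set.mem_iUnion, Set.mem_image]
  constructor
  · rintro ⟨Ω, _, _, ξ, hξ, hnz⟩
    have hne : ∃ t : ToType ((EtCoh.stalk ξ).obj F), t ≠ 0 := by
      by_contra hcon
      push Not at hcon
      apply hnz
      haveI : Subsingleton ((EtCoh.stalk ξ).obj F) := ⟨fun a b => (hcon a).trans (hcon b).symm⟩
      exact AddCommGrpCat.isZero_of_subsingleton _
    obtain ⟨t, ht⟩ := hne
    obtain ⟨U, u, σ, rfl⟩ := (Scheme.pointSmallEtale ξ).toPresheafFiber_jointly_surjective t
    let ul : Spec (CommRingCat.of Ω) ⟶ U.left := u.left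
    have hul : ul ≫ U.hom = ξ := Over.w u
    refine ⟨U, σ, ul.base default, ?_, ?_⟩
    · intro W g ⟨w, hw⟩ h0
      haveI : Etale g.left := by
        haveI : Etale U.hom := U.prop
        haveI : Etale (g.left ≫ U.hom) := by
          rw [MorphismProperty.Over.w g]; exact W.prop
        exact MorphismProperty.of_postcomp (W := @Etale) (W' := @Etale) g.left U.hom inferInstance
          inferInstance
      obtain ⟨l, hl1, hl2⟩ := Scheme.exists_fac_of_etale_of_isSepClosed g.left ul w hw
      have hlW : l ≫ W.hom = ξ := by
        rw [← MorphismProperty.Over.w g, ← Category.assoc, hl1, hul]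
      let u' : (Scheme.pointSmallEtale ξ).fiber.obj W := Over.homMk l hlW
      have hu' : (Scheme.pointSmallEtale ξ).fiber.map g u' = u := by
        apply Over.OverMorphism.ext
        exact hl1
      apply ht
      rw [← hu']
      have k := ConcreteCategory.congr_hom
        ((Scheme.pointSmallEtale ξ).toPresheafFiber_w g u' F.obj) σ
      rw [ConcreteCategory.comp_apply] at k
      refine k.symm.trans ?_
      rw [h0]
      exact map_zero ((Scheme.pointSmallEtale ξ).toPresheafFiber W u' F.obj).hom
    · have : U.hom.base (ul.base default) = ξ.base default := by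
        rw [← Scheme.Hom.comp_apply, hul]
      rw [this]
      have h1 : ξ.base default ∈ Set.range ξ.base := ⟨default, rfl⟩
      rw [hξ] at h1
      exact h1
  · rintro ⟨U, σ, p, hp, rfl⟩
    refine ⟨_, inferInstance, inferInstance, geomPt U p ≫ U.hom, ?_, ?_⟩
    · ext y
      simp only [Set.mem_range, Set.mem_singleton_iff]
      constructor
      · rintro ⟨t, rfl⟩
        rw [Scheme.Hom.comp_apply, geomPt_apply]
      · rintro rfl
        exact ⟨default, by rw [Scheme.Hom.comp_apply, geomPt_apply]⟩
    · intro hz
      have h0 : (Scheme.pointSmallEtale (geomPt U p ≫ U.hom)).toPresheafFiber U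
          (geomPtFiber U p) F.obj σ = (Scheme.pointSmallEtale (geomPt U p ≫ U.hom)).toPresheafFiber U
          (geomPtFiber U p) F.obj 0 := by
        haveI : Subsingleton ((EtCoh.stalk (geomPt U p ≫ U.hom)).obj F) :=
          AddCommGrpCat.subsingleton_of_isZero hz
        exact Subsingleton.elim (α := ((EtCoh.stalk (geomPt U p ≫ U.hom)).obj F)) _ _
      rw [GrothendieckTopology.Point.toPresheafFiber_eq_iff'] at h0
      obtain ⟨Y, f, y, hy, hz'⟩ := h0
      rw [map_zero] at hz'
      let yl : Spec (CommRingCat.of (SeparableClosure (U.left.residueField p))) ⟶ Y.left := y.left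
      refine hp Y f ⟨yl.base default, ?_⟩ hz'
      have h3 : yl ≫ f.left = geomPt U p := congrArg (fun k => k.left) hy
      rw [← Scheme.Hom.comp_apply, h3, geomPt_apply]

end Groth.Agent.Lib.Helper70.Supp
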