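import Mathlib
import Groth.Agent.Lib.Helper70.Supp

set_option autoImplicit false
open CategoryTheory CategoryTheory.Limits AlgebraicGeometry Opposite

universe u

namespace Groth.Agent.Lib.Helper70.Supp

open Groth.Agent.Lib.Helper70.StalkCons

variable {S : Scheme.{u}} (F : EtCoh.Ab S)

set_option backward.isDefEq.respectTransparency.types false in
/-- the germ of a section at a geometric point centred outside its support vanishes -/
theorem germ_eq_zero_of_notMem {Ω : Type u} [Field Ω] [IsSepClosed Ω]
    (ξ : Spec (CommRingCat.of Ω) ⟶ S) (U : S.Etale) (σ : EtCoh.sect F U)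
    (ul : Spec (CommRingCat.of Ω) ⟶ U.left) (hul : ul ≫ U.hom = ξ)
    (hu : ul.base default ∉ EtShriek.sectSupp F U σ) :
    (Scheme.pointSmallEtale ξ).toPresheafFiber U (Over.homMk ul hul) F.obj σ = 0 := by
  have hu' : ∃ (W : S.Etale) (g : W ⟶ U), (∃ w : W.left, g.left.base w = ul.base default) ∧
      F.obj.map g.op σ = 0 := by
    by_contra hcon
    apply hu
    intro W g hw h0
    exact hcon ⟨W, g, hw, h0⟩
  obtain ⟨W, g, ⟨w, hw⟩, h0⟩ := hu'
  haveI : Etale g.left := by
    haveI : Etale U.hom := U.prop
    haveI : Etale (g.left ≫ U.hom) := by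
      rw [MorphismProperty.Over.w g]; exact W.prop
    exact MorphismProperty.of_postcomp (W := @Etale) (W' := @Etale) g.left U.hom inferInstance
      inferInstance
  obtain ⟨l, hl1, hl2⟩ := Scheme.exists_fac_of_etale_of_isSepClosed g.left ul w hw
  have hlW : l ≫ W.hom = ξ := by
    rw [← MorphismProperty.Over.w g, ← Category.assoc, hl1, hul]
  let u' : (Scheme.pointSmallEtale ξ).fiber.obj W := Over.homMk l hlW
  have hu'' : (Scheme.pointSmallEtale ξ).fiber.map g u' = Over.homMk ul hul := by
    apply Over.OverMorphism.ext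
    exact hl1
  rw [← hu'']
  have k := ConcreteCategory.congr_hom
    ((Scheme.pointSmallEtale ξ).toPresheafFiber_w g u' F.obj) σ
  rw [ConcreteCategory.comp_apply] at k
  refine k.symm.trans ?_
  rw [h0]
  exact map_zero ((Scheme.pointSmallEtale ξ).toPresheafFiber W u' F.obj).hom

set_option backward.isDefEq.respectTransparency.types false in
/-- if the germ of a section at the canonical geometric point over `p` vanishes, then `p` is not in
the support -/
theorem notMem_of_germ_eq_zero (U : S.Etale) (σ : EtCoh.sect F U) (p : U.left)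
    (h0 : (Scheme.pointSmallEtale (geomPt U p ≫ U.hom)).toPresheafFiber U
          (geomPtFiber U p) F.obj σ = 0) : p ∉ EtShriek.sectSupp F U σ := by
  intro hp
  have h0' : (Scheme.pointSmallEtale (geomPt U p ≫ U.hom)).toPresheafFiber U
      (geomPtFiber U p) F.obj σ = (Scheme.pointSmallEtale (geomPt U p ≫ U.hom)).toPresheafFiber U
      (geomPtFiber U p) F.obj 0 := by
    rw [h0]
    exact (map_zero ((Scheme.pointSmallEtale (geomPt U p ≫ U.hom)).toPresheafFiber U
      (geomPtFiber U p) F.obj).hom).symm
  rw [GrothendieckTopology.Point.toPresheafFiber_eq_iff'] at h0'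
  obtain ⟨Y, f, y, hy, hz'⟩ := h0'
  rw [map_zero] at hz'
  let yl : Spec (CommRingCat.of (SeparableClosure (U.left.residueField p))) ⟶ Y.left := y.left
  refine hp Y f ⟨yl.base default, ?_⟩ hz'
  have h3 : yl ≫ f.left = geomPt U p := congrArg (fun k => k.left) hy
  rw [← Scheme.Hom.comp_apply, h3, geomPt_apply]

/-- if the stalk at the canonical geometric point over `p` vanishes, then `p` is not in the support
of any section -/
theorem notMem_of_isZero_stalk (U : S.Etale) (σ : EtCoh.sect F U) (p : U.left)
    (hz : IsZero ((EtCoh.stalk (geomPt U p ≫ U.hom)).obj F)) : p ∉ EtShriek.sectSupp F U σ := by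
  apply notMem_of_germ_eq_zero
  haveI : Subsingleton ((EtCoh.stalk (geomPt U p ≫ U.hom)).obj F) :=
    AddCommGrpCat.subsingleton_of_isZero hz
  exact Subsingleton.elim (α := ((EtCoh.stalk (geomPt U p ≫ U.hom)).obj F)) _ _

/-- a section with empty support vanishes -/
theorem eq_zero_of_sectSupp_eq_empty (U : S.Etale) (σ : EtCoh.sect F U)
    (h : EtShriek.sectSupp F U σ = ∅) : σ = 0 := by
  apply eq_zero_of_germs F U σ
  intro Ω _ _ ξ x
  have hx : x = Over.homMk x.left (Over.w x) := by
    apply Over.OverMorphism.ext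
    rfl
  rw [hx]
  apply germ_eq_zero_of_notMem
  rw [h]
  exact Set.notMem_empty _

end Groth.Agent.Lib.Helper70.Supp
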