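import Mathlib
import Groth.Agent.Lib.Helper70.Supp2

set_option autoImplicit false
open CategoryTheory CategoryTheory.Limits AlgebraicGeometry Opposite

universe u

namespace Groth.Agent.Lib.Helper70.Excision

open Groth.Agent.Lib.Helper70.StalkCons Groth.Agent.Lib.Helper70.Supp

variable {X : Scheme.{u}} (F : EtCoh.Ab X)

set_option backward.isDefEq.respectTransparency.types false in
/-- supports are compatible with restriction -/
theorem sectSupp_map_subset {U W : X.Etale} (g : W ⟶ U) (s : EtCoh.sect F U) :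
    EtShriek.sectSupp F W (F.obj.map g.op s) ⊆ g.left.base ⁻¹' EtShriek.sectSupp F U s := by
  intro p' hp'
  by_contra hnp
  refine notMem_of_germ_eq_zero F _ _ p' ?_ hp'
  have k := ConcreteCategory.congr_hom ((Scheme.pointSmallEtale
    (geomPt W p' ≫ W.hom)).toPresheafFiber_w g (geomPtFiber _ p') F.obj) s
  rw [ConcreteCategory.comp_apply] at k
  refine k.trans ?_
  set x := (Scheme.pointSmallEtale (geomPt W p' ≫ W.hom)).fiber.map g (geomPtFiber _ p') with hxdef
  have hx : x = Over.homMk x.left (Over.w x) := by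
    apply Over.OverMorphism.ext
    rfl
  rw [hx]
  apply germ_eq_zero_of_notMem
  have hxl : x.left = geomPt W p' ≫ g.left := rfl
  rw [hxl, Scheme.Hom.comp_apply, geomPt_apply]
  exact hnp

/-- the support of a difference -/
theorem sectSupp_sub_subset (U : X.Etale) (s₁ s₂ : EtCoh.sect F U) :
    EtShriek.sectSupp F U (s₁ - s₂) ⊆ EtShriek.sectSupp F U s₁ ∪ EtShriek.sectSupp F U s₂ := by
  intro p hp
  by_contra hnp
  rw [Set.mem_union, not_or] at hnp
  refine notMem_of_germ_eq_zero F _ _ p ?_ hp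
  have h1 := germ_eq_zero_of_notMem F (geomPt U p ≫ U.hom) U s₁ (geomPt U p) rfl
    (by rw [geomPt_apply]; exact hnp.1)
  have h2 := germ_eq_zero_of_notMem F (geomPt U p ≫ U.hom) U s₂ (geomPt U p) rfl
    (by rw [geomPt_apply]; exact hnp.2)
  rw [map_sub]
  change (Scheme.pointSmallEtale (geomPt U p ≫ U.hom)).toPresheafFiber U
    (Over.homMk (geomPt U p) rfl) F.obj s₁ - (Scheme.pointSmallEtale
      (geomPt U p ≫ U.hom)).toPresheafFiber U (Over.homMk (geomPt U p) rfl) F.obj s₂ = 0
  rw [h1, h2, sub_zero]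

/-- two sections with the same germs are equal -/
theorem eq_of_germs (U : X.Etale) (s₁ s₂ : EtCoh.sect F U)
    (h : ∀ (Ω : Type u) [Field Ω] [IsSepClosed Ω] (ξ : Spec (CommRingCat.of Ω) ⟶ X)
      (x : (Scheme.pointSmallEtale ξ).fiber.obj U),
      (Scheme.pointSmallEtale ξ).toPresheafFiber U x F.obj s₁ =
        (Scheme.pointSmallEtale ξ).toPresheafFiber U x F.obj s₂) : s₁ = s₂ := by
  rw [← sub_eq_zero]
  apply eq_zero_of_germs F U
  intro Ω _ _ ξ x
  rw [map_sub, h Ω ξ x, sub_self]


set_option backward.isDefEq.respectTransparency.types false in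
/-- geometric points with the same centre and the same image under `φ` agree when `φ` induces a
surjection on residue fields at the centre -/
theorem geomPoint_ext {A B : Scheme.{u}} (φ : A ⟶ B) {Ω : Type u} [Field Ω]
    (a b : Spec (CommRingCat.of Ω) ⟶ A) (p : A) (ha : a.base default = p)
    (hb : b.base default = p) (hφ : a ≫ φ = b ≫ φ)
    (hres : Function.Surjective (φ.residueFieldMap p)) : a = b := by
  obtain ⟨⟨x, α⟩, rfl⟩ := (Scheme.SpecToEquivOfField Ω A).symm.surjective a
  obtain ⟨⟨y, β⟩, rfl⟩ := (Scheme.SpecToEquivOfField Ω A).symm.surjective b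
  have hx : x = p := by simpa [Scheme.SpecToEquivOfField] using ha
  have hy : y = p := by simpa [Scheme.SpecToEquivOfField] using hb
  subst hx
  subst hy
  simp only [Scheme.SpecToEquivOfField, Equiv.coe_fn_symm_mk] at hφ ⊢
  rw [Category.assoc, Category.assoc, ← Scheme.Hom.SpecMap_residueFieldMap_fromSpecResidueField,
    ← Category.assoc, ← Category.assoc, cancel_mono, ← Spec.map_comp, ← Spec.map_comp,
    Spec.map_inj] at hφ
  haveI : Epi (φ.residueFieldMap y) := ConcreteCategory.epi_of_surjective _ hres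
  rw [(cancel_epi _).1 hφ]


section Main

variable {U U' : X.Etale} (φ : U' ⟶ U) (Z : Set ↥U.left)

theorem mapsTo_restrict :
    Set.MapsTo (F.obj.map φ.op) {s | EtShriek.sectSupp F U s ⊆ Z}
      {s' | EtShriek.sectSupp F U' s' ⊆ φ.left.base ⁻¹' Z} := by
  intro s hs
  exact (sectSupp_map_subset F φ s).trans (Set.preimage_mono hs)

set_option backward.isDefEq.respectTransparency.types false in
theorem injOn_restrict (hsurj : Set.SurjOn φ.left.base (φ.left.base ⁻¹' Z) Z) :
    Set.InjOn (F.obj.map φ.op) {s | EtShriek.sectSupp F U s ⊆ Z} := by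
  intro s₁ hs₁ s₂ hs₂ h12
  apply eq_of_germs F U
  intro Ω _ _ ξ x
  let xl : Spec (CommRingCat.of Ω) ⟶ U.left := x.left
  have hxl : xl ≫ U.hom = ξ := Over.w x
  have hx : x = Over.homMk xl hxl := by
    apply Over.OverMorphism.ext
    rfl
  by_cases hp : xl.base default ∈ Z
  · obtain ⟨p', -, hp'⟩ := hsurj hp
    haveI : Etale φ.left := by
      haveI : Etale U.hom := U.prop
      haveI : Etale (φ.left ≫ U.hom) := by
        rw [MorphismProperty.Over.w φ]; exact U'.prop
      exact MorphismProperty.of_postcomp (W := @Etale) (W' := @Etale) φ.left U.hom inferInstance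
        inferInstance
    obtain ⟨l, hl1, hl2⟩ := Scheme.exists_fac_of_etale_of_isSepClosed φ.left xl p' hp'
    have hlW : l ≫ U'.hom = ξ := by
      rw [← MorphismProperty.Over.w φ, ← Category.assoc, hl1, hxl]
    let x' : (Scheme.pointSmallEtale ξ).fiber.obj U' := Over.homMk l hlW
    have hx' : (Scheme.pointSmallEtale ξ).fiber.map φ x' = x := by
      apply Over.OverMorphism.ext
      exact hl1
    rw [← hx']
    have k1 := ConcreteCategory.congr_hom
      ((Scheme.pointSmallEtale ξ).toPresheafFiber_w φ x' F.obj) s₁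
    have k2 := ConcreteCategory.congr_hom
      ((Scheme.pointSmallEtale ξ).toPresheafFiber_w φ x' F.obj) s₂
    rw [ConcreteCategory.comp_apply] at k1 k2
    rw [← k1, ← k2, h12]
  · rw [hx, germ_eq_zero_of_notMem F ξ U s₁ xl hxl (fun h => hp (hs₁ h)),
      germ_eq_zero_of_notMem F ξ U s₂ xl hxl (fun h => hp (hs₂ h))]

/-- a section supported in `A` restricts to zero along a map missing `A` -/
theorem map_eq_zero_of_disjoint {W V : X.Etale} (g : W ⟶ V) (s : EtCoh.sect F V) (A : Set ↥V.left)
    (hs : EtShriek.sectSupp F V s ⊆ A) (hg : ∀ q : W.left, g.left.base q ∉ A) :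
    F.obj.map g.op s = 0 := by
  apply eq_zero_of_sectSupp_eq_empty
  rw [Set.eq_empty_iff_forall_notMem]
  intro q hq
  exact hg q (hs (sectSupp_map_subset F g s hq))

set_option backward.isDefEq.respectTransparency.types false in
/-- two restrictions of a section supported in `φ⁻¹ Z` agree when they agree after `φ` -/
theorem map_eq_map_of_comp_eq (hinj : Set.InjOn φ.left.base (φ.left.base ⁻¹' Z))
    (hres : ∀ x ∈ φ.left.base ⁻¹' Z, Function.Surjective (φ.left.residueFieldMap x))
    (s' : EtCoh.sect F U') (hs' : EtShriek.sectSupp F U' s' ⊆ φ.left.base ⁻¹' Z)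
    {W : X.Etale} (g₁ g₂ : W ⟶ U') (h12 : g₁ ≫ φ = g₂ ≫ φ) :
    F.obj.map g₁.op s' = F.obj.map g₂.op s' := by
  apply eq_of_germs F W
  intro Ω _ _ ξ w
  have k1 := ConcreteCategory.congr_hom
    ((Scheme.pointSmallEtale ξ).toPresheafFiber_w g₁ w F.obj) s'
  have k2 := ConcreteCategory.congr_hom
    ((Scheme.pointSmallEtale ξ).toPresheafFiber_w g₂ w F.obj) s'
  rw [ConcreteCategory.comp_apply] at k1 k2
  rw [k1, k2]
  let wl : Spec (CommRingCat.of Ω) ⟶ W.left := w.left
  have hwl : wl ≫ W.hom = ξ := Over.w w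
  let a : Spec (CommRingCat.of Ω) ⟶ U'.left := wl ≫ g₁.left
  let b : Spec (CommRingCat.of Ω) ⟶ U'.left := wl ≫ g₂.left
  have ha : a ≫ U'.hom = ξ := by
    rw [Category.assoc, MorphismProperty.Over.w g₁, hwl]
  have hb : b ≫ U'.hom = ξ := by
    rw [Category.assoc, MorphismProperty.Over.w g₂, hwl]
  have hab : a ≫ φ.left = b ≫ φ.left := by
    rw [Category.assoc, Category.assoc]
    exact congrArg (fun q => wl ≫ q) (congrArg (fun k => k.left) h12)
  have e1 : (Scheme.pointSmallEtale ξ).fiber.map g₁ w = Over.homMk a ha := by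
    apply Over.OverMorphism.ext
    rfl
  have e2 : (Scheme.pointSmallEtale ξ).fiber.map g₂ w = Over.homMk b hb := by
    apply Over.OverMorphism.ext
    rfl
  rw [e1, e2]
  have hpt : φ.left.base (a.base default) = φ.left.base (b.base default) := by
    rw [← Scheme.Hom.comp_apply, ← Scheme.Hom.comp_apply, hab]
  by_cases hq : φ.left.base (a.base default) ∈ Z
  · have hq' : φ.left.base (b.base default) ∈ Z := hpt ▸ hq
    have hpab : a.base default = b.base default := hinj hq hq' hpt
    have : a = b := geomPoint_ext φ.left a b (a.base default) rfl hpab.symm hab (hres _ hq)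
    have e3 : (Over.homMk a ha : (Scheme.pointSmallEtale ξ).fiber.obj U') = Over.homMk b hb := by
      apply Over.OverMorphism.ext
      exact this
    rw [e3]
  · have hq' : φ.left.base (b.base default) ∉ Z := hpt ▸ hq
    rw [germ_eq_zero_of_notMem F ξ U' s' a ha (fun h => hq (hs' h)),
      germ_eq_zero_of_notMem F ξ U' s' b hb (fun h => hq' (hs' h))]

set_option backward.isDefEq.respectTransparency.types false in
theorem surjOn_restrict (hZ : IsClosed Z)
    (hbij : Set.BijOn φ.left.base (φ.left.base ⁻¹' Z) Z)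
    (hres : ∀ x ∈ φ.left.base ⁻¹' Z, Function.Surjective (φ.left.residueFieldMap x)) :
    Set.SurjOn (F.obj.map φ.op) {s | EtShriek.sectSupp F U s ⊆ Z}
      {s' | EtShriek.sectSupp F U' s' ⊆ φ.left.base ⁻¹' Z} := by
  intro s' hs'
  let UL : Scheme.{u} := U.left
  let Uh : UL ⟶ X := U.hom
  let O : UL.Opens := ⟨Zᶜ, hZ.isOpen_compl⟩
  haveI : Etale Uh := U.prop
  haveI : IsOpenImmersion O.ι := Scheme.Opens.instIsOpenImmersionι O
  let U₀ : X.Etale := Scheme.Etale.mk (O.ι ≫ Uh)
  let ι₀ : U₀ ⟶ U := MorphismProperty.Over.homMk O.ι rfl trivial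
  let Y : Bool → X.Etale := fun b => cond b U' U₀
  let π : ∀ b, Y b ⟶ U := fun b => match b with
    | true => φ
    | false => ι₀
  let P : X.Etaleᵒᵖ ⥤ Type (u + 1) := F.obj ⋙ forget AddCommGrpCat.{u + 1}
  have hsheaf : Presieve.IsSheaf X.smallEtaleTopology P := (isSheaf_iff_isSheaf_of_type _ _).1
    ((sheafCompose X.smallEtaleTopology (forget AddCommGrpCat.{u + 1})).obj F).2
  have hcov : Sieve.generate (Presieve.ofArrows Y π) ∈ X.smallEtaleTopology U := by
    rw [Groth.Agent.S6632.mem_smallEtaleTopology_iff]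
    intro p
    by_cases hp : p ∈ Z
    · obtain ⟨p', -, hp'⟩ := hbij.surjOn hp
      exact ⟨U', φ, p', ⟨U', 𝟙 _, φ, Presieve.ofArrows.mk (ι := Bool) (Y := Y) (f := π) true, Category.id_comp _⟩, hp'⟩
    · exact ⟨U₀, ι₀, ⟨p, hp⟩, ⟨U₀, 𝟙 _, ι₀, Presieve.ofArrows.mk (ι := Bool) (Y := Y) (f := π) false, Category.id_comp _⟩, rfl⟩
  have hsf : (Presieve.ofArrows Y π).IsSheafFor P := by
    rw [Presieve.isSheafFor_iff_generate]
    exact hsheaf _ hcov
  rw [Presieve.isSheafFor_arrows_iff] at hsf
  let x : ∀ b, P.obj (op (Y b)) := fun b => match b with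
    | true => s'
    | false => (0 : F.obj.obj (op U₀))
  have hmiss : ∀ {W : X.Etale} (g₁ : W ⟶ U') (g₂ : W ⟶ U₀), g₁ ≫ φ = g₂ ≫ ι₀ →
      F.obj.map g₁.op s' = 0 := by
    intro W g₁ g₂ h12
    apply map_eq_zero_of_disjoint F g₁ s' _ hs'
    intro q hq
    have e : g₁.left ≫ φ.left = g₂.left ≫ O.ι := congrArg (fun k => k.left) h12
    have e' : φ.left.base (g₁.left.base q) = O.ι.base (g₂.left.base q) :=
      congrArg (fun k : W.left ⟶ UL => k.base q) e
    have hq' : φ.left.base (g₁.left.base q) ∈ Z := hq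
    rw [e'] at hq'
    exact (g₂.left.base q).2 hq'
  have hcompat : Presieve.Arrows.Compatible P π x := by
    intro i j W gi gj hij
    match i, j with
    | true, true =>
      exact map_eq_map_of_comp_eq F φ Z hbij.injOn hres s' hs' gi gj hij
    | true, false =>
      change F.obj.map gi.op s' = F.obj.map gj.op 0
      rw [map_zero]
      exact hmiss gi gj hij
    | false, true =>
      change F.obj.map gi.op 0 = F.obj.map gj.op s'
      rw [map_zero]
      exact (hmiss gj gi hij.symm).symm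
    | false, false =>
      change F.obj.map gi.op 0 = F.obj.map gj.op 0
      rw [map_zero, map_zero]
  obtain ⟨t, ht, -⟩ := hsf x hcompat
  refine ⟨t, ?_, ht true⟩
  intro p hp
  by_contra hpZ
  exact hp U₀ ι₀ ⟨⟨p, hpZ⟩, rfl⟩ (ht false)

/-- excision for sections with support -/
theorem bijOn_restrict (hZ : IsClosed Z)
    (hbij : Set.BijOn φ.left.base (φ.left.base ⁻¹' Z) Z)
    (hres : ∀ x ∈ φ.left.base ⁻¹' Z, Function.Bijective (φ.left.residueFieldMap x)) :
    Set.BijOn (F.obj.map φ.op) {s | EtShriek.sectSupp F U s ⊆ Z}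
      {s' | EtShriek.sectSupp F U' s' ⊆ φ.left.base ⁻¹' Z} :=
  ⟨mapsTo_restrict F φ Z, injOn_restrict F φ Z hbij.surjOn,
    surjOn_restrict F φ Z hZ hbij (fun x hx => (hres x hx).2)⟩

end Main

end Groth.Agent.Lib.Helper70.Excision
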