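import Mathlib

set_option autoImplicit false
universe u

namespace Groth.Agent.Lib.Helper70.ReducedAscent

open TensorProduct

/-- An element of a reduced ring avoiding all minimal primes is a nonzerodivisor. -/
lemma mem_nonZeroDivisors_of_forall_notMem_minimalPrimes {A : Type*} [CommRing A] [IsReduced A]
    {s : A} (hs : ∀ q ∈ minimalPrimes A, s ∉ q) : s ∈ nonZeroDivisors A := by
  rw [mem_nonZeroDivisors_iff_right]
  intro a ha
  have h : a ∈ nilradical A := by
    rw [nilradical, ← Ideal.sInf_minimalPrimes, Ideal.mem_sInf]
    intro q hq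
    have hq' : q.IsPrime := hq.1.1
    have : a * s ∈ q := by rw [ha]; exact q.zero_mem
    exact (hq'.mem_or_mem this).resolve_right (hs q hq)
  rwa [nilradical_eq_zero, Ideal.zero_eq_bot, Ideal.mem_bot] at h

/-- Reducedness ascends along flat, formally unramified, essentially finite type algebras
over a reduced Noetherian base. -/
theorem isReduced_of_flat_of_formallyUnramified (A B : Type u) [CommRing A] [CommRing B]
    [Algebra A B] [IsNoetherianRing A] [IsReduced A] [Module.Flat A B]
    [Algebra.FormallyUnramified A B] [Algebra.EssFiniteType A B] : IsReduced B := by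
  constructor
  intro b hb
  -- the annihilator of `b` in `A`
  let I : Ideal A := LinearMap.ker (LinearMap.toSpanSingleton A B b)
  have hI : ∀ a, a ∈ I ↔ a • b = 0 := fun a => by
    simp [I, LinearMap.mem_ker]
  -- `I` is not contained in any minimal prime
  have key : ∀ q ∈ minimalPrimes A, ¬ I ≤ q := by
    intro q hq hle
    have hq' : q.IsPrime := hq.1.1
    have : Ring.KrullDimLE 0 (Localization.AtPrime q) := .of_isLocalization _ hq _
    let _ : Field (Localization.AtPrime q) := Ring.KrullDimLE.isField_of_isReduced.toField
    have hred : IsReduced (Localization.AtPrime q ⊗[A] B) :=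
      Algebra.FormallyUnramified.isReduced_of_field (Localization.AtPrime q) _
    have h0 : (1 : Localization.AtPrime q) ⊗ₜ[A] b = 0 := by
      have : IsNilpotent ((1 : Localization.AtPrime q) ⊗ₜ[A] b) := by
        have := hb.map (Algebra.TensorProduct.includeRight (R := A) (A := Localization.AtPrime q) (B := B))
        simpa using this
      exact this.eq_zero
    have hloc : IsLocalizedModule q.primeCompl (TensorProduct.mk A (Localization.AtPrime q) B 1) :=
      inferInstance
    have := (IsLocalizedModule.eq_zero_iff q.primeCompl (TensorProduct.mk A (Localization.AtPrime q) B 1) (m := b)).mp (by simpa using h0)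
    obtain ⟨c, hc⟩ := this
    exact c.2 (hle ((hI c.1).mpr hc))
  -- prime avoidance
  have hfin : (minimalPrimes A).Finite := minimalPrimes.finite_of_isNoetherianRing A
  obtain ⟨s, hsI, hs⟩ : ∃ s ∈ I, ∀ q ∈ minimalPrimes A, s ∉ q := by
    by_contra hcon
    push Not at hcon
    have hsub : (I : Set A) ⊆ ⋃ q ∈ (hfin.toFinset : Set (Ideal A)), (q : Set A) := by
      intro s hs
      obtain ⟨q, hq, hsq⟩ := hcon s hs
      simp only [Set.Finite.coe_toFinset, Set.mem_iUnion]
      exact ⟨q, hq, hsq⟩
    rw [Ideal.subset_union_prime (f := fun q : Ideal A => q) ⊥ ⊥] at hsub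
    · obtain ⟨q, hq, hle⟩ := hsub
      exact key q (by simpa using hq) hle
    · intro q hq _ _
      exact ((hfin.mem_toFinset).mp hq).1.1
  have hreg : IsSMulRegular B s :=
    Module.Flat.isSMulRegular_of_nonZeroDivisors
      (mem_nonZeroDivisors_of_forall_notMem_minimalPrimes hs)
  have h1 : s • b = 0 := (hI s).mp hsI
  exact hreg (by simpa using h1)

end Groth.Agent.Lib.Helper70.ReducedAscent
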