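import Mathlib
import Groth.Prelude.Def_MoreMor

open AlgebraicGeometry CategoryTheory Limits IsLocalRing

universe u

namespace Groth.Agent.Lib.Helper70.GeomPts

variable {U V : Scheme.{u}} (Ω : Type u) [Field Ω]


/-- ring homs over `j` as algebra homs -/
noncomputable def ringHomEquivAlgHom {K L : Type u} [CommRing K] [CommRing L]
    (ρ : K →+* L) (j : K →+* Ω) :
    {σ : L →+* Ω // σ.comp ρ = j} ≃ (@AlgHom K L Ω _ _ _ ρ.toAlgebra j.toAlgebra) :=
  letI := ρ.toAlgebra
  letI := j.toAlgebra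
  { toFun := fun σ => { σ.1 with commutes' := fun r => congr($(σ.2) r) }
    invFun := fun τ => ⟨τ.toRingHom, by ext r; exact τ.commutes r⟩
    left_inv := fun σ => by ext; rfl
    right_inv := fun τ => by ext; rfl }

lemma card_ringHom_eq_finSepDegree [IsAlgClosed Ω] {K L : Type u} [Field K] [Field L]
    (ρ : K →+* L) (j : K →+* Ω)
    (halg : letI := ρ.toAlgebra; Algebra.IsAlgebraic K L) :
    Nat.card {σ : L →+* Ω // σ.comp ρ = j} =
      (letI := ρ.toAlgebra; Field.finSepDegree K L) := by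
  let _ := ρ.toAlgebra
  let _ := j.toAlgebra
  rw [Nat.card_congr (ringHomEquivAlgHom Ω ρ j)]
  exact (Field.finSepDegree_eq_of_isAlgClosed K L Ω).symm

lemma nonempty_ringHom [IsAlgClosed Ω] {K L : Type u} [Field K] [Field L]
    (ρ : K →+* L) (j : K →+* Ω)
    (halg : letI := ρ.toAlgebra; Algebra.IsAlgebraic K L) :
    Nonempty {σ : L →+* Ω // σ.comp ρ = j} := by
  let _ := ρ.toAlgebra
  let _ := j.toAlgebra
  exact ⟨(ringHomEquivAlgHom Ω ρ j).symm (IsAlgClosed.lift (R := K) (S := L) (M := Ω))⟩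

lemma finite_ringHom {K L : Type u} [Field K] [Field L]
    (ρ : K →+* L) (j : K →+* Ω)
    (hfin : letI := ρ.toAlgebra; Module.Finite K L) :
    Finite {σ : L →+* Ω // σ.comp ρ = j} := by
  let _ := ρ.toAlgebra
  let _ := j.toAlgebra
  exact Finite.of_equiv _ (ringHomEquivAlgHom Ω ρ j).symm



/-- Geometric points of `U` lying over a fixed geometric point of `V`. -/
abbrev GPts (π : U ⟶ V) (vb : Spec (.of Ω) ⟶ V) : Type u := {t : Spec (.of Ω) ⟶ U // t ≫ π = vb}

set_option backward.isDefEq.respectTransparency.types false in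
lemma specToEquivOfField_comp (π : U ⟶ V) (t : Spec (.of Ω) ⟶ U) :
    Scheme.SpecToEquivOfField Ω V (t ≫ π) =
      ⟨π (Scheme.SpecToEquivOfField Ω U t).1,
        π.residueFieldMap (Scheme.SpecToEquivOfField Ω U t).1 ≫
          (Scheme.SpecToEquivOfField Ω U t).2⟩ := by
  refine Sigma.ext rfl (heq_of_eq ?_)
  exact Scheme.descResidueField_stalkClosedPointTo_comp π t

/-- The residue field map data attached to a geometric point `vb` of `V` and a point `u` over its
image. -/
noncomputable def jAt (π : U ⟶ V) (vb : Spec (.of Ω) ⟶ V)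
    (u : {u : U // π u = vb (closedPoint Ω)}) : V.residueField (π u.1) ⟶ .of Ω :=
  (V.residueFieldCongr u.2).hom ≫ (Scheme.SpecToEquivOfField Ω V vb).2

/-- geometric points over `vb` as pairs (point of the fibre, compatible embedding) -/
noncomputable def gptsEquiv (π : U ⟶ V) (vb : Spec (.of Ω) ⟶ V) :
    GPts Ω π vb ≃ Σ u : {u : U // π u = vb (closedPoint Ω)},
      {σ : U.residueField u.1 ⟶ .of Ω // π.residueFieldMap u.1 ≫ σ = jAt Ω π vb u} where
  toFun t := ⟨⟨t.1 (closedPoint Ω), by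
      have := congrArg (fun s : Spec (.of Ω) ⟶ V => s (closedPoint Ω)) t.2
      exact this⟩,
    ⟨(Scheme.SpecToEquivOfField Ω U t.1).2, by
      have h1 := specToEquivOfField_comp Ω π t.1
      rw [t.2] at h1
      replace h1 := h1.symm
      rw [Scheme.SpecToEquivOfField_eq_iff] at h1
      obtain ⟨e, h2⟩ := h1
      simp only [jAt]
      exact h2⟩⟩
  invFun p := ⟨(Scheme.SpecToEquivOfField Ω U).symm ⟨p.1.1, p.2.1⟩, by
    apply (Scheme.SpecToEquivOfField Ω V).injective
    rw [specToEquivOfField_comp, Equiv.apply_symm_apply, Scheme.SpecToEquivOfField_eq_iff]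
    exact ⟨p.1.2, p.2.2⟩⟩
  left_inv t := by
    apply Subtype.ext
    exact (Scheme.SpecToEquivOfField Ω U).symm_apply_apply t.1
  right_inv p := by
    obtain ⟨⟨u, hu⟩, ⟨σ, hσ⟩⟩ := p
    have h1 : Scheme.SpecToEquivOfField Ω U ((Scheme.SpecToEquivOfField Ω U).symm ⟨u, σ⟩) =
      ⟨u, σ⟩ := Equiv.apply_symm_apply _ _
    have key : ∀ (q : Σ u : U, U.residueField u ⟶ .of Ω) (hq : q = ⟨u, σ⟩)
        (h : π q.1 = vb (closedPoint Ω))
        (h' : π.residueFieldMap q.1 ≫ q.2 = jAt Ω π vb ⟨q.1, h⟩),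
        (⟨⟨q.1, h⟩, ⟨q.2, h'⟩⟩ : Σ u : {u : U // π u = vb (closedPoint Ω)},
          {σ : U.residueField u.1 ⟶ .of Ω // π.residueFieldMap u.1 ≫ σ = jAt Ω π vb u}) =
          ⟨⟨u, hu⟩, ⟨σ, hσ⟩⟩ := by
      intro q hq h h'
      subst hq
      rfl
    exact key _ h1 _ _


/-- morphisms in `CommRingCat` over `j` as ring homs over `j.hom` -/
def homSubtypeEquiv {K L : CommRingCat.{u}} (ρ : K ⟶ L) (j : K ⟶ .of Ω) :
    {σ : L ⟶ .of Ω // ρ ≫ σ = j} ≃ {σ : L →+* Ω // σ.comp ρ.hom = j.hom} where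
  toFun σ := ⟨σ.1.hom, by rw [← CommRingCat.hom_comp]; exact congrArg _ σ.2⟩
  invFun σ := ⟨CommRingCat.ofHom σ.1, by ext x; exact congr($(σ.2) x)⟩
  left_inv _ := rfl
  right_inv _ := rfl

lemma gptsEquiv_symm_apply_closedPoint (π : U ⟶ V) (vb : Spec (.of Ω) ⟶ V)
    (p : Σ u : {u : U // π u = vb (closedPoint Ω)},
      {σ : U.residueField u.1 ⟶ .of Ω // π.residueFieldMap u.1 ≫ σ = jAt Ω π vb u}) :
    ((gptsEquiv Ω π vb).symm p).1 (closedPoint Ω) = p.1.1 := by
  change (U.fromSpecResidueField p.1.1) ((Spec.map p.2.1) (closedPoint Ω)) = p.1.1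
  exact Scheme.fromSpecResidueField_apply _ _

theorem fibreIntegral_eq_finsum_gpts [IsAlgClosed Ω] (π : U ⟶ V) (w : U → ℤ)
    (vb : Spec (.of Ω) ⟶ V)
    (hfin : (π ⁻¹' {vb (closedPoint Ω)}).Finite)
    (hres : ∀ u : U, π u = vb (closedPoint Ω) →
      letI := (π.residueFieldMap u).hom.toAlgebra
      Module.Finite (V.residueField (π u)) (U.residueField u)) :
    MoreMor.fibreIntegral π w (vb (closedPoint Ω)) =
      ∑ᶠ t : GPts Ω π vb, w (t.1 (closedPoint Ω)) := by
  classical
  rw [← finsum_comp_equiv (gptsEquiv Ω π vb).symm]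
  simp_rw [gptsEquiv_symm_apply_closedPoint]
  haveI : Finite {u : U // π u = vb (closedPoint Ω)} := hfin.to_subtype
  haveI : ∀ u : {u : U // π u = vb (closedPoint Ω)}, Finite
      {σ : U.residueField u.1 ⟶ .of Ω // π.residueFieldMap u.1 ≫ σ = jAt Ω π vb u} := by
    intro u
    haveI := finite_ringHom Ω (π.residueFieldMap u.1).hom (jAt Ω π vb u).hom (hres u.1 u.2)
    exact Finite.of_equiv _ (homSubtypeEquiv Ω _ _).symm
  have := Fintype.ofFinite {u : U // π u = vb (closedPoint Ω)}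
  have := fun u : {u : U // π u = vb (closedPoint Ω)} => Fintype.ofFinite
      {σ : U.residueField u.1 ⟶ .of Ω // π.residueFieldMap u.1 ≫ σ = jAt Ω π vb u}
  rw [finsum_eq_sum_of_fintype, Fintype.sum_sigma]
  unfold MoreMor.fibreIntegral
  rw [finsum_eq_sum_of_fintype]
  refine Finset.sum_congr rfl fun u _ => ?_
  symm
  dsimp only
  rw [Finset.sum_const, Finset.card_univ, nsmul_eq_mul, mul_comm]
  congr 1
  rw [← Nat.card_eq_fintype_card, Nat.card_congr (homSubtypeEquiv Ω _ _)]
  have halg : (letI := (π.residueFieldMap u.1).hom.toAlgebra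
      Algebra.IsAlgebraic (V.residueField (π u.1)) (U.residueField u.1)) := by
    letI := (π.residueFieldMap u.1).hom.toAlgebra
    haveI := hres u.1 u.2
    exact Algebra.IsAlgebraic.of_finite _ _
  exact congrArg _ (card_ringHom_eq_finSepDegree Ω (π.residueFieldMap u.1).hom
    (jAt Ω π vb u).hom halg)

lemma finite_residueField_of_quasiFinite (R S : Type*) [CommRing R] [CommRing S] [IsLocalRing R]
    [IsLocalRing S] [Algebra R S] [IsLocalHom (algebraMap R S)] [Algebra.QuasiFinite R S] :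
    Module.Finite (ResidueField R) (ResidueField S) := by
  have h1 : Algebra.QuasiFinite R (ResidueField S) :=
    inferInstanceAs (Algebra.QuasiFinite R (S ⧸ maximalIdeal S))
  have h2 : Algebra.QuasiFinite (ResidueField R) (ResidueField S) :=
    Algebra.QuasiFinite.of_restrictScalars R _ _
  exact Module.Finite.of_quasiFinite

lemma finite_residueField_map (R S : Type*) [CommRing R] [CommRing S] [IsLocalRing R]
    [IsLocalRing S] (φ : R →+* S) [IsLocalHom φ] (h : φ.QuasiFinite) :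
    letI := (ResidueField.map φ).toAlgebra
    Module.Finite (ResidueField R) (ResidueField S) := by
  algebraize [φ]
  have : IsLocalHom (algebraMap R S) := ‹IsLocalHom φ›
  have key := finite_residueField_of_quasiFinite R S
  have e : (ResidueField.map φ).toAlgebra =
      (inferInstance : Algebra (ResidueField R) (ResidueField S)) :=
    Algebra.algebra_ext _ _ (fun r => rfl)
  rw [e]
  exact key

lemma finite_residueFieldMap {U V : Scheme.{u}} (π : U ⟶ V) [LocallyQuasiFinite π] (u : U) :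
    letI := (π.residueFieldMap u).hom.toAlgebra
    Module.Finite (V.residueField (π u)) (U.residueField u) :=
  finite_residueField_map (V.presheaf.stalk (π u)) (U.presheaf.stalk u) (π.stalkMap u).hom
    (π.quasiFiniteAt u)


/-- finiteness of the set of geometric points over a geometric point with finite fibre -/
lemma finite_gpts (π : U ⟶ V) [LocallyQuasiFinite π] (vb : Spec (.of Ω) ⟶ V)
    (hfin : (π ⁻¹' {vb (closedPoint Ω)}).Finite) : Finite (GPts Ω π vb) := by
  haveI : Finite {u : U // π u = vb (closedPoint Ω)} := hfin.to_subtype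
  haveI : ∀ u : {u : U // π u = vb (closedPoint Ω)}, Finite
      {σ : U.residueField u.1 ⟶ .of Ω // π.residueFieldMap u.1 ≫ σ = jAt Ω π vb u} := by
    intro u
    haveI := finite_ringHom Ω (π.residueFieldMap u.1).hom (jAt Ω π vb u).hom
      (finite_residueFieldMap π u.1)
    exact Finite.of_equiv _ (homSubtypeEquiv Ω _ _).symm
  exact Finite.of_equiv _ (gptsEquiv Ω π vb).symm

/-- every point of the fibre is the image of a geometric point -/
lemma exists_gpts_of_mem_fibre [IsAlgClosed Ω] (π : U ⟶ V) [LocallyQuasiFinite π]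
    (vb : Spec (.of Ω) ⟶ V) (u : U) (hu : π u = vb (closedPoint Ω)) :
    ∃ t : GPts Ω π vb, t.1 (closedPoint Ω) = u := by
  have halg : (letI := (π.residueFieldMap u).hom.toAlgebra
      Algebra.IsAlgebraic (V.residueField (π u)) (U.residueField u)) := by
    letI := (π.residueFieldMap u).hom.toAlgebra
    haveI := finite_residueFieldMap π u
    exact Algebra.IsAlgebraic.of_finite _ _
  obtain ⟨σ⟩ := nonempty_ringHom Ω (π.residueFieldMap u).hom (jAt Ω π vb ⟨u, hu⟩).hom halg
  refine ⟨(gptsEquiv Ω π vb).symm ⟨⟨u, hu⟩, (homSubtypeEquiv Ω _ _).symm σ⟩, ?_⟩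
  exact gptsEquiv_symm_apply_closedPoint Ω π vb _

lemma finite_fibre_of_finite_gpts [IsAlgClosed Ω] (π : U ⟶ V) [LocallyQuasiFinite π]
    (vb : Spec (.of Ω) ⟶ V) [Finite (GPts Ω π vb)] :
    (π ⁻¹' {vb (closedPoint Ω)}).Finite := by
  have hsurj : (π ⁻¹' {vb (closedPoint Ω)}) ⊆
      Set.range (fun t : GPts Ω π vb => t.1 (closedPoint Ω)) := by
    intro u hu
    obtain ⟨t, ht⟩ := exists_gpts_of_mem_fibre Ω π vb u hu
    exact ⟨t, ht⟩
  exact (Set.finite_range _).subset hsurj

/-- geometric points of a pullback -/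
noncomputable def gptsPullbackEquiv {U' V' : Scheme.{u}} {π : U ⟶ V} {π' : U' ⟶ V'}
    {h : U' ⟶ U} {g : V' ⟶ V} (hc : IsPullback h π' π g) (vb' : Spec (.of Ω) ⟶ V') :
    GPts Ω π' vb' ≃ GPts Ω π (vb' ≫ g) where
  toFun t := ⟨t.1 ≫ h, by rw [Category.assoc, hc.w, ← Category.assoc, t.2]⟩
  invFun t := ⟨hc.lift t.1 vb' t.2, hc.lift_snd _ _ _⟩
  left_inv t := by
    apply Subtype.ext
    apply hc.hom_ext
    · simp
    · simp [t.2]
  right_inv t := by
    apply Subtype.ext
    simp

/-- existence of a geometric point over a given point -/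
lemma exists_geometric_point (v : V) :
    ∃ (Ω : Type u) (_ : Field Ω) (_ : IsAlgClosed Ω) (vb : Spec (.of Ω) ⟶ V),
      vb (closedPoint Ω) = v := by
  obtain ⟨Ω, hF, hA, ⟨j⟩⟩ : ∃ (Ω : Type u) (_ : Field Ω) (_ : IsAlgClosed Ω),
      Nonempty (V.residueField v →+* Ω) :=
    ⟨AlgebraicClosure (V.residueField v), inferInstance, inferInstance,
      ⟨algebraMap (V.residueField v) (AlgebraicClosure (V.residueField v))⟩⟩
  refine ⟨Ω, hF, hA, Spec.map (CommRingCat.ofHom j) ≫ V.fromSpecResidueField v, ?_⟩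
  change (V.fromSpecResidueField v) ((Spec.map (CommRingCat.ofHom j)) (closedPoint Ω)) = v
  exact Scheme.fromSpecResidueField_apply _ _

/-- Base change of fibre integrals (Stacks 0F39). -/
theorem fibreIntegral_base_change {U' V' : Scheme.{u}} (π : U ⟶ V) [LocallyQuasiFinite π]
    (hfin : ∀ v : V, (π ⁻¹' {v}).Finite)
    (π' : U' ⟶ V') (h : U' ⟶ U) (g : V' ⟶ V) (hc : IsPullback h π' π g) (w : U → ℤ) (v' : V') :
    MoreMor.fibreIntegral π' (w ∘ ⇑h) v' = MoreMor.fibreIntegral π w (g v') := by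
  obtain ⟨Ω, _, _, vb', rfl⟩ := exists_geometric_point v'
  haveI : LocallyQuasiFinite π' := MorphismProperty.of_isPullback hc ‹_›
  have hfinV : (π ⁻¹' {(vb' ≫ g) (closedPoint Ω)}).Finite := hfin _
  haveI : Finite (GPts Ω π (vb' ≫ g)) := finite_gpts Ω π _ hfinV
  haveI : Finite (GPts Ω π' vb') := Finite.of_equiv _ (gptsPullbackEquiv Ω hc vb').symm
  have hfinV' : (π' ⁻¹' {vb' (closedPoint Ω)}).Finite := finite_fibre_of_finite_gpts Ω π' vb'
  rw [fibreIntegral_eq_finsum_gpts Ω π' (w ∘ ⇑h) vb' hfinV' (fun u _ => finite_residueFieldMap π' u)]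
  have h2 := fibreIntegral_eq_finsum_gpts Ω π w (vb' ≫ g) hfinV
    (fun u _ => finite_residueFieldMap π u)
  rw [show g (vb' (closedPoint Ω)) = (vb' ≫ g) (closedPoint Ω) from rfl, h2]
  rw [← finsum_comp_equiv (gptsPullbackEquiv Ω hc vb')]
  rfl

end Groth.Agent.Lib.Helper70.GeomPts
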