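import Mathlib

open TensorProduct

universe u

namespace Groth.Agent.Lib.Helper70.FibreReducedRing

/-- The fibre ring of a reduced algebra over a minimal prime is reduced. -/
lemma isReduced_fiber_of_mem_minimalPrimes {A B : Type u} [CommRing A] [CommRing B] [Algebra A B]
    [IsReduced B] (p : Ideal A) [p.IsPrime] (hp : p ∈ minimalPrimes A) : IsReduced (p.Fiber B) := by
  have hdim : Ring.KrullDimLE 0 (Localization.AtPrime p) := .of_isLocalization _ hp _
  have hred : IsReduced (Localization.AtPrime p ⊗[A] B) := by
    let _ : Algebra B (Localization.AtPrime p ⊗[A] B) := Algebra.TensorProduct.rightAlgebra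
    have : IsLocalization (Algebra.algebraMapSubmonoid B p.primeCompl)
        (Localization.AtPrime p ⊗[A] B) := IsLocalization.tensorRight ..
    exact isReduced_localizationPreserves (Algebra.algebraMapSubmonoid B p.primeCompl)
      (Localization.AtPrime p ⊗[A] B) inferInstance
  let r : Localization.AtPrime p →ₐ[A] p.ResidueField := IsScalarTower.toAlgHom A _ _
  have hr : Function.Surjective r := IsLocalRing.residue_surjective
  let π : Localization.AtPrime p ⊗[A] B →ₐ[A] p.ResidueField ⊗[A] B :=
    Algebra.TensorProduct.map r (AlgHom.id A B)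
  have hsurj : Function.Surjective π :=
    Algebra.TensorProduct.map_surjective _ _ hr Function.surjective_id
  have hker : RingHom.ker π = ⊥ := by
    rw [Algebra.TensorProduct.map_ker _ _ hr Function.surjective_id]
    have h2 : RingHom.ker (AlgHom.id A B) = ⊥ := by
      ext x
      simp [RingHom.mem_ker]
    rw [h2, Ideal.map_bot, sup_bot_eq, eq_bot_iff, Ideal.map_le_iff_le_comap]
    intro x hx
    have hx' : x ∈ IsLocalRing.maximalIdeal (Localization.AtPrime p) := by
      simpa [r, RingHom.mem_ker, IsLocalRing.residue_eq_zero_iff] using hx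
    rw [← Ring.KrullDimLE.nilradical_eq_maximalIdeal, mem_nilradical] at hx'
    have : IsNilpotent ((Algebra.TensorProduct.includeLeft :
        Localization.AtPrime p →ₐ[A] Localization.AtPrime p ⊗[A] B) x) := hx'.map _
    simpa using this.eq_zero
  have hinj : Function.Injective π := (RingHom.injective_iff_ker_eq_bot π.toRingHom).mpr hker
  constructor
  intro x hx
  obtain ⟨y, rfl⟩ := hsurj x
  have : IsNilpotent y := by
    obtain ⟨n, hn⟩ := hx
    exact ⟨n, hinj (by rw [map_pow, hn, map_zero])⟩
  rw [this.eq_zero, map_zero]

end Groth.Agent.Lib.Helper70.FibreReducedRing
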