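import Mathlib
import Groth.Agent.Lib.Helper70.FibreReducedRing

open AlgebraicGeometry CategoryTheory Limits

universe u

namespace Groth.Agent.Lib.Helper70.FibreReduced

open Groth.Agent.Lib.Helper70.FibreReducedRing

lemma isReduced_of_isPullback_of_isIso {P Q A B : Scheme.{u}} {φ : P ⟶ Q} {a : P ⟶ A} {b : Q ⟶ B}
    {c : A ⟶ B} (h : IsPullback φ a b c) [IsIso c] [AlgebraicGeometry.IsReduced Q] :
    AlgebraicGeometry.IsReduced P :=
  have := h.isIso_fst_of_isIso
  isReduced_of_isOpenImmersion φ

lemma isReduced_of_isPullback_of_isIso' {P Q A B : Scheme.{u}} {φ : P ⟶ Q} {a : P ⟶ A} {b : Q ⟶ B}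
    {c : A ⟶ B} (h : IsPullback φ a b c) [IsIso c] [AlgebraicGeometry.IsReduced P] :
    AlgebraicGeometry.IsReduced Q :=
  have := h.isIso_fst_of_isIso
  isReduced_of_isOpenImmersion (inv φ)

/-- transfer of reducedness of fibres along a pullback square whose base map induces an
isomorphism on residue fields: from the base fibre to the pulled-back fibre. -/
lemma isReduced_fiber_snd {P X Y Z : Scheme.{u}} {fst : P ⟶ X} {snd : P ⟶ Y} {f : X ⟶ Z}
    {g : Y ⟶ Z} (h : IsPullback fst snd f g) (y : Y) [IsIso (g.residueFieldMap y)]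
    [hred : AlgebraicGeometry.IsReduced (f.fiber (g y))] :
    AlgebraicGeometry.IsReduced (snd.fiber y) :=
  have : AlgebraicGeometry.IsReduced (pullback f (Z.fromSpecResidueField (g y))) := hred
  isReduced_of_isPullback_of_isIso (isPullback_fiberToSpecResidueField_of_isPullback h y)

/-- the other direction. -/
lemma isReduced_fiber_base {P X Y Z : Scheme.{u}} {fst : P ⟶ X} {snd : P ⟶ Y} {f : X ⟶ Z}
    {g : Y ⟶ Z} (h : IsPullback fst snd f g) (y : Y) [IsIso (g.residueFieldMap y)]
    [hred : AlgebraicGeometry.IsReduced (snd.fiber y)] :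
    AlgebraicGeometry.IsReduced (f.fiber (g y)) :=
  have : AlgebraicGeometry.IsReduced (pullback snd (Y.fromSpecResidueField y)) := hred
  isReduced_of_isPullback_of_isIso' (isPullback_fiberToSpecResidueField_of_isPullback h y)

end Groth.Agent.Lib.Helper70.FibreReduced

namespace Groth.Agent.Lib.Helper70.FibreReduced

open Groth.Agent.Lib.Helper70.FibreReducedRing

/-- affine case -/
lemma isReduced_fiber_SpecMap {A B : CommRingCat.{u}} (φ : A ⟶ B) [_root_.IsReduced B]
    (p : PrimeSpectrum A) (hp : p.asIdeal ∈ minimalPrimes A) :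
    AlgebraicGeometry.IsReduced ((Spec.map φ).fiber p) := by
  algebraize [φ.hom]
  have e := Spec.fiberToSpecResidueFieldIso A B p
  have hred : _root_.IsReduced (p.asIdeal.Fiber B) :=
    isReduced_fiber_of_mem_minimalPrimes p.asIdeal hp
  have : AlgebraicGeometry.IsReduced (Spec (.of (p.asIdeal.Fiber B))) := inferInstance
  have hiso : IsIso e.hom.left := inferInstance
  have : AlgebraicGeometry.IsReduced
      (Arrow.mk (Spec.map (CommRingCat.ofHom
        (algebraMap p.asIdeal.ResidueField (p.asIdeal.Fiber B))))).left := this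
  exact isReduced_of_isOpenImmersion e.hom.left

end Groth.Agent.Lib.Helper70.FibreReduced

namespace Groth.Agent.Lib.Helper70.FibreReduced

/-- affine target case -/
lemma isReduced_fiber_of_isAffine {X V : Scheme.{u}} [AlgebraicGeometry.IsReduced X] [IsAffine V]
    (g : X ⟶ V) (v : V) (hv : ∀ y : V, y ⤳ v → y = v) :
    AlgebraicGeometry.IsReduced (g.fiber v) := by
  let 𝒰 := X.affineOpenCover
  let 𝒞 := Scheme.Pullback.openCoverOfLeft 𝒰.openCover g (V.fromSpecResidueField v)
  have hi : ∀ i, AlgebraicGeometry.IsReduced (𝒞.X i) := by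
    intro i
    let h : Spec (𝒰.X i) ⟶ V := 𝒰.f i ≫ g
    change AlgebraicGeometry.IsReduced (h.fiber v)
    have hoi : IsOpenImmersion (𝒰.f i) := 𝒰.map_prop i
    have hRi : AlgebraicGeometry.IsReduced (Spec (𝒰.X i)) := isReduced_of_isOpenImmersion (𝒰.f i)
    have hRi' : _root_.IsReduced (𝒰.X i) := (affine_isReduced_iff _).mp hRi
    let e := V.isoSpec
    let φ : Γ(V, ⊤) ⟶ 𝒰.X i := Spec.preimage (h ≫ e.hom)
    have hφ : Spec.map φ = h ≫ e.hom := Spec.map_preimage _
    have hsq : IsPullback (𝟙 _) h (Spec.map φ) e.hom :=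
      IsPullback.of_horiz_isIso ⟨by rw [hφ, Category.id_comp]⟩
    have hp : (e.hom v).asIdeal ∈ minimalPrimes Γ(V, ⊤) := by
      refine ⟨⟨(e.hom v).isPrime, bot_le⟩, fun q ⟨hq, _⟩ hqp => ?_⟩
      let q' : Spec Γ(V, ⊤) := (⟨q, hq⟩ : PrimeSpectrum Γ(V, ⊤))
      have h1 : q' ⤳ e.hom v :=
        (PrimeSpectrum.le_iff_specializes (⟨q, hq⟩ : PrimeSpectrum Γ(V, ⊤)) (e.hom v)).mp hqp
      have h2 : e.inv q' ⤳ e.inv (e.hom v) := h1.map e.inv.continuous
      have h3 : e.inv (e.hom v) = v := by
        rw [← Scheme.Hom.comp_apply, e.hom_inv_id]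
        rfl
      rw [h3] at h2
      have h4 := hv _ h2
      have h5 : e.hom (e.inv q') = q' := by
        rw [← Scheme.Hom.comp_apply, e.inv_hom_id]
        rfl
      rw [h4] at h5
      exact (congrArg PrimeSpectrum.asIdeal h5).le
    have := isReduced_fiber_SpecMap φ (e.hom v) hp
    exact isReduced_fiber_snd hsq v
  exact IsReduced.of_openCover _ 𝒞

end Groth.Agent.Lib.Helper70.FibreReduced

namespace Groth.Agent.Lib.Helper70.FibreReduced

/-- The fibre of a morphism from a reduced scheme over a point without proper generizations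
is reduced. -/
theorem isReduced_fiber_of_generic {X Y : Scheme.{u}} [AlgebraicGeometry.IsReduced X] (g : X ⟶ Y)
    (η : Y) (hη : ∀ y : Y, y ⤳ η → y = η) : AlgebraicGeometry.IsReduced (g.fiber η) := by
  obtain ⟨_, ⟨V, hV : IsAffineOpen V, rfl⟩, hηV, -⟩ :=
    Y.isBasis_affineOpens.exists_subset_of_mem_open (Set.mem_univ η) isOpen_univ
  let v : (V : Scheme.{u}) := ⟨η, hηV⟩
  have hVaff : IsAffine (V : Scheme.{u}) := hV
  have hXred : AlgebraicGeometry.IsReduced ((g ⁻¹ᵁ V : X.Opens) : Scheme.{u}) :=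
    isReduced_of_isOpenImmersion (g ⁻¹ᵁ V).ι
  have hv : ∀ y : (V : Scheme.{u}), y ⤳ v → y = v := by
    intro y hy
    have h1 : (Scheme.Opens.ι V) y ⤳ (Scheme.Opens.ι V) v :=
      hy.map (Scheme.Opens.ι V).continuous
    have h2 : (Scheme.Opens.ι V) y = η := hη _ h1
    exact (Scheme.Opens.ι V).isEmbedding.injective h2
  have := isReduced_fiber_of_isAffine (g ∣_ V) v hv
  exact isReduced_fiber_base (isPullback_morphismRestrict g V).flip v

end Groth.Agent.Lib.Helper70.FibreReduced

namespace Groth.Agent.Lib.Helper70.FibreReduced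

theorem isReduced_nilradical_subscheme (X : Scheme.{u}) :
    AlgebraicGeometry.IsReduced X.nilradical.subscheme := by
  have : ∀ U, AlgebraicGeometry.IsReduced (X.nilradical.subschemeCover.openCover.X U) := by
    intro U
    change AlgebraicGeometry.IsReduced (Spec (.of <| Γ(X, U.1) ⧸ X.nilradical.ideal U))
    have : _root_.IsReduced (Γ(X, U.1) ⧸ X.nilradical.ideal U) := by
      rw [← Ideal.isRadical_iff_quotient_reduced]
      exact Ideal.radical_isRadical _
    infer_instance
  exact IsReduced.of_openCover _ X.nilradical.subschemeCover.openCover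

theorem eq_of_specializes_genericPoint {Y : Scheme.{u}} (η : Y) (W : Set Y)
    (hW : W ∈ irreducibleComponents Y) (hη : IsGenericPoint η W) (y : Y) (hy : y ⤳ η) : y = η := by
  have h1 : closure {η} ⊆ closure {y} := by
    rw [← specializes_iff_closure_subset]
    exact hy
  have h2 : IsIrreducible (closure {y}) := isIrreducible_singleton.closure
  have h3 : closure {y} ⊆ W := hW.le_of_ge h2 (hη.def ▸ h1)
  have h4 : closure {y} = W := le_antisymm h3 (hη.def ▸ h1)
  exact IsGenericPoint.eq h4 hη

theorem isReduced_fiber_nilradical {X Y : Scheme.{u}} (f : X ⟶ Y) (η : Y) (W : Set Y)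
    (hW : W ∈ irreducibleComponents Y) (hη : IsGenericPoint η W) :
    AlgebraicGeometry.IsReduced ((X.nilradical.subschemeι ≫ f).fiber η) := by
  have := isReduced_nilradical_subscheme X
  exact isReduced_fiber_of_generic _ η (eq_of_specializes_genericPoint η W hW hη)

end Groth.Agent.Lib.Helper70.FibreReduced
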