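import Mathlib
import Groth.Prelude.Def_BigSite
import Groth.Prelude.Def_SGA4b
import Groth.Agent.S6632

open AlgebraicGeometry CategoryTheory Limits Opposite

universe u

namespace Groth.Agent.Lib.Helper70.PropBEpi

variable {X : Scheme.{u}}

/-- sections that agree locally agree -/
theorem eq_of_locally_eq (G : EtDesc.Sh X) (U : X.Etale) (t₁ t₂ : G.obj.obj (op U))
    (h : ∀ u : U.left, ∃ (Z : X.Etale) (k : Z ⟶ U) (z : Z.left), k.left.base z = u ∧
      G.obj.map k.op t₁ = G.obj.map k.op t₂) : t₁ = t₂ := by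
  let S : Sieve U :=
    { arrows := fun Z k => G.obj.map k.op t₁ = G.obj.map k.op t₂
      downward_closed := by
        intro Z Z' k hk g
        simp only [op_comp, Functor.map_comp, types_comp_apply]
        rw [hk] }
  have hS : S ∈ X.smallEtaleTopology U := by
    rw [Groth.Agent.S6632.mem_smallEtaleTopology_iff]
    intro u
    obtain ⟨Z, k, z, hz, hk⟩ := h u
    exact ⟨Z, k, z, hk, hz⟩
  have hsep := ((isSheaf_iff_isSheaf_of_type _ _).1 G.2).isSeparated _ hS
  apply hsep.ext (t₁ := t₁) (t₂ := t₂)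
  intro Z k hk
  exact hk

/-- sections over an empty étale scheme are all equal -/
theorem eq_of_isEmpty (G : EtDesc.Sh X) (T : X.Etale) (hT : IsEmpty T.left)
    (t₁ t₂ : G.obj.obj (op T)) : t₁ = t₂ :=
  eq_of_locally_eq G T t₁ t₂ (fun u => (hT.false u).elim)

/-- gluing sections along a cover by pairwise disjoint monomorphisms -/
theorem exists_glue (G : EtDesc.Sh X) (P : X.Etale) {μ : Type u} (Z : μ → X.Etale)
    (c : ∀ a, Z a ⟶ P) (hmono : ∀ a, Mono (c a).left)
    (hcov : ∀ p : P.left, ∃ a, p ∈ Set.range (c a).left.base)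
    (hdisj : ∀ a b (z : (Z a).left) (z' : (Z b).left),
      (c a).left.base z = (c b).left.base z' → a = b)
    (s : ∀ a, G.obj.obj (op (Z a))) :
    ∃ s' : G.obj.obj (op P), ∀ a, G.obj.map (c a).op s' = s a := by
  have hcover : Sieve.generate (Presieve.ofArrows Z c) ∈ X.smallEtaleTopology P := by
    rw [Groth.Agent.S6632.mem_smallEtaleTopology_iff]
    intro p
    obtain ⟨a, z, hz⟩ := hcov p
    exact ⟨Z a, c a, z, Sieve.le_generate _ _ _ (Presieve.ofArrows.mk a), hz⟩
  have hsheaf : (Presieve.ofArrows Z c).IsSheafFor G.obj := by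
    rw [Presieve.isSheafFor_iff_generate]
    exact (isSheaf_iff_isSheaf_of_type _ _).1 G.2 _ hcover
  rw [Presieve.isSheafFor_arrows_iff] at hsheaf
  have hcompat : Presieve.Arrows.Compatible G.obj c s := by
    intro i j T gi gj hij
    by_cases hT : IsEmpty T.left
    · exact eq_of_isEmpty G T hT _ _
    · rw [not_isEmpty_iff] at hT
      obtain ⟨t⟩ := hT
      have h1 : (gi ≫ c i).left.base t = (gj ≫ c j).left.base t := by rw [hij]
      have h2 : i = j := hdisj i j (gi.left.base t) (gj.left.base t) h1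
      subst h2
      have h3 : gi.left ≫ (c i).left = gj.left ≫ (c i).left := by
        have := congrArg (fun k => k.left) hij
        exact this
      have := hmono i
      have h4 : gi.left = gj.left := (cancel_mono (c i).left).mp h3
      have h5 : gi = gj := MorphismProperty.Over.Hom.ext h4
      rw [h5]
  obtain ⟨s', hs', -⟩ := hsheaf s hcompat
  exact ⟨s', hs'⟩

set_option backward.isDefEq.respectTransparency.types false in
/-- under condition (B) the direct image of sheaves of sets preserves epimorphisms -/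
theorem preservesEpimorphisms {X Y : Scheme.{u}} (f : X ⟶ Y) (hB : BigSite.PropB f) :
    (EtDesc.pushSh f).PreservesEpimorphisms := by
  constructor
  intro G H φ hφ
  rw [← Sheaf.isLocallySurjective_iff_epi] at hφ ⊢
  constructor
  intro Vv t
  let P : X.Etale := (EtCoh.bc f).obj Vv
  have hS := Presheaf.imageSieve_mem X.smallEtaleTopology φ.hom (U := op P) t
  rw [Groth.Agent.S6632.mem_smallEtaleTopology_iff] at hS
  choose Uet kk pt hkk hpt using hS
  choose sU hsU using hkk
  obtain ⟨κ, V', v', hv', hsurj, hW⟩ := hB Vv.left Vv.hom ↥P.left (fun p => (Uet p).left)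
    (fun p => (kk p).left ≫ (pullbackSymmetry Vv.hom f).hom) (fun p => inferInstance)
    (fun x => ⟨(pullbackSymmetry Vv.hom f).inv x, pt ((pullbackSymmetry Vv.hom f).inv x), by
      rw [Scheme.Hom.comp_apply, hpt]
      have h1 : ((pullbackSymmetry Vv.hom f).inv ≫ (pullbackSymmetry Vv.hom f).hom) x = x := by
        rw [Iso.inv_hom_id]; rfl
      exact h1⟩)
  rw [Groth.Agent.S6632.mem_smallEtaleTopology_iff]
  intro y
  obtain ⟨j, y', hy'⟩ := hsurj y
  have := hv' j
  let V'' : Y.Etale := Scheme.Etale.mk (v' j ≫ Vv.hom)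
  let k : V'' ⟶ Vv := MorphismProperty.Over.homMk (v' j) rfl trivial
  refine ⟨V'', k, y', ?_, hy'⟩
  obtain ⟨μ, W, hWdisj, hWtop, hWh⟩ := hW j
  choose ia ha hha using hWh
  let P'' : X.Etale := (EtCoh.bc f).obj V''
  let Z : μ → X.Etale := fun a =>
    Scheme.Etale.mk ((W a).ι ≫ pullback.fst f (v' j ≫ Vv.hom))
  let c : ∀ a, Z a ⟶ P'' := fun a =>
    MorphismProperty.Over.homMk ((W a).ι ≫ (pullbackSymmetry f (v' j ≫ Vv.hom)).hom)
      (by
        show ((W a).ι ≫ (pullbackSymmetry f (v' j ≫ Vv.hom)).hom) ≫ pullback.snd (v' j ≫ Vv.hom) f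
          = (W a).ι ≫ pullback.fst f (v' j ≫ Vv.hom)
        rw [Category.assoc, pullbackSymmetry_hom_comp_snd]) trivial
  have hm : ∀ a, ha a ≫ (Uet (ia a)).hom = (W a).ι ≫ pullback.fst f (v' j ≫ Vv.hom) := by
    intro a
    have h1 := congrArg (fun q => q ≫ pullback.fst f Vv.hom) (hha a)
    simp only [Category.assoc, pullback.lift_fst, Category.comp_id] at h1
    rw [← h1]
    congr 1
    have e1 : (pullbackSymmetry Vv.hom f).hom ≫ pullback.fst f Vv.hom = pullback.snd Vv.hom f :=
      pullbackSymmetry_hom_comp_fst _ _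
    exact (CategoryTheory.Over.w (kk (ia a)).hom).symm.trans
      (congrArg (fun q => (kk (ia a)).left ≫ q) e1.symm)
  let m : ∀ a, Z a ⟶ Uet (ia a) := fun a => MorphismProperty.Over.homMk (ha a) (hm a) trivial
  have hinj : Function.Injective (pullbackSymmetry f (v' j ≫ Vv.hom)).hom :=
    (pullbackSymmetry f (v' j ≫ Vv.hom)).hom.homeomorph.injective
  have hcmono : ∀ a, Mono (c a).left := by
    intro a
    show Mono ((W a).ι ≫ (pullbackSymmetry f (v' j ≫ Vv.hom)).hom)
    infer_instance
  have hccov : ∀ p : P''.left, ∃ a, p ∈ Set.range (c a).left.base := by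
    intro p
    obtain ⟨p', rfl⟩ : ∃ p' : ↥(pullback f (v' j ≫ Vv.hom)),
        (pullbackSymmetry f (v' j ≫ Vv.hom)).hom p' = p :=
      ⟨(pullbackSymmetry f (v' j ≫ Vv.hom)).inv p, by
        have h1 : ((pullbackSymmetry f (v' j ≫ Vv.hom)).inv ≫
            (pullbackSymmetry f (v' j ≫ Vv.hom)).hom) p = p := by
          rw [Iso.inv_hom_id]; rfl
        exact h1⟩
    have h1 : p' ∈ (⨆ a, W a : (pullback f (v' j ≫ Vv.hom)).Opens) := by
      rw [hWtop]; trivial
    rw [TopologicalSpace.Opens.mem_iSup] at h1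
    obtain ⟨a, hpa⟩ := h1
    exact ⟨a, ⟨p', hpa⟩, rfl⟩
  have hcdisj : ∀ a b (z : (Z a).left) (z' : (Z b).left),
      (c a).left.base z = (c b).left.base z' → a = b := by
    intro a b z z' hzz'
    by_contra hab
    have h1 : (pullbackSymmetry f (v' j ≫ Vv.hom)).hom ((W a).ι z) =
        (pullbackSymmetry f (v' j ≫ Vv.hom)).hom ((W b).ι z') := hzz'
    have h2 : (W a).ι z = (W b).ι z' := hinj h1
    have h3 : (W a).ι z ∈ W a ⊓ W b := ⟨z.2, by rw [h2]; exact z'.2⟩
    rw [(hWdisj a b hab).eq_bot] at h3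
    exact h3
  obtain ⟨s', hs'⟩ := exists_glue G P'' Z c hcmono hccov hcdisj
    (fun a => G.obj.map (m a).op (sU (ia a)))
  refine ⟨s', ?_⟩
  apply eq_of_locally_eq H P''
  intro p
  obtain ⟨a, z, hz⟩ := hccov p
  refine ⟨Z a, c a, z, hz, ?_⟩
  have hcomm : m a ≫ kk (ia a) = c a ≫ (EtCoh.bc f).map k := by
    apply MorphismProperty.Over.Hom.ext
    apply pullback.hom_ext
    · show (ha a ≫ (kk (ia a)).left) ≫ pullback.fst Vv.hom f =
        (((W a).ι ≫ (pullbackSymmetry f (v' j ≫ Vv.hom)).hom) ≫ ((EtCoh.bc f).map k).left) ≫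
          pullback.fst Vv.hom f
      have h1 := congrArg (fun q => q ≫ pullback.snd f Vv.hom) (hha a)
      simp only [Category.assoc, pullback.lift_snd] at h1
      have e1 : (pullbackSymmetry Vv.hom f).hom ≫ pullback.snd f Vv.hom =
          pullback.fst Vv.hom f := pullbackSymmetry_hom_comp_snd _ _
      have e2 : (pullbackSymmetry f (v' j ≫ Vv.hom)).hom ≫ pullback.fst (v' j ≫ Vv.hom) f =
          pullback.snd f (v' j ≫ Vv.hom) := pullbackSymmetry_hom_comp_fst _ _
      have e3 := Groth.Agent.S6632.bc_map_left_fst f k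
      calc (ha a ≫ (kk (ia a)).left) ≫ pullback.fst Vv.hom f
          = ha a ≫ (kk (ia a)).left ≫ (pullbackSymmetry Vv.hom f).hom ≫
              pullback.snd f Vv.hom :=
            (Category.assoc _ _ _).trans
              (congrArg (fun q => ha a ≫ (kk (ia a)).left ≫ q) e1.symm)
        _ = (W a).ι ≫ pullback.snd f (v' j ≫ Vv.hom) ≫ v' j := h1
        _ = (W a).ι ≫ ((pullbackSymmetry f (v' j ≫ Vv.hom)).hom ≫
              pullback.fst (v' j ≫ Vv.hom) f) ≫ k.left := by rw [e2]; rfl
        _ = (W a).ι ≫ (pullbackSymmetry f (v' j ≫ Vv.hom)).hom ≫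
              ((EtCoh.bc f).map k).left ≫ pullback.fst Vv.hom f :=
            (congrArg (fun q => (W a).ι ≫ q) (Category.assoc _ _ _)).trans
              (congrArg (fun q => (W a).ι ≫ (pullbackSymmetry f (v' j ≫ Vv.hom)).hom ≫ q)
                e3.symm)
        _ = _ := by simp only [Category.assoc]
    · show (ha a ≫ (kk (ia a)).left) ≫ pullback.snd Vv.hom f =
        (((W a).ι ≫ (pullbackSymmetry f (v' j ≫ Vv.hom)).hom) ≫ ((EtCoh.bc f).map k).left) ≫
          pullback.snd Vv.hom f
      have e2 : (pullbackSymmetry f (v' j ≫ Vv.hom)).hom ≫ pullback.snd (v' j ≫ Vv.hom) f =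
          pullback.fst f (v' j ≫ Vv.hom) := pullbackSymmetry_hom_comp_snd _ _
      have e3 := Groth.Agent.S6632.bc_map_left_snd f k
      have e4 : (kk (ia a)).left ≫ pullback.snd Vv.hom f = (Uet (ia a)).hom :=
        CategoryTheory.Over.w (kk (ia a)).hom
      calc (ha a ≫ (kk (ia a)).left) ≫ pullback.snd Vv.hom f
          = ha a ≫ (Uet (ia a)).hom :=
            (Category.assoc _ _ _).trans (congrArg (fun q => ha a ≫ q) e4)
        _ = (W a).ι ≫ pullback.fst f (v' j ≫ Vv.hom) := hm a
        _ = (W a).ι ≫ (pullbackSymmetry f (v' j ≫ Vv.hom)).hom ≫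
              ((EtCoh.bc f).map k).left ≫ pullback.snd Vv.hom f :=
            (congrArg (fun q => (W a).ι ≫ q) e2.symm).trans
              (congrArg (fun q => (W a).ι ≫ (pullbackSymmetry f (v' j ≫ Vv.hom)).hom ≫ q)
                e3.symm)
        _ = _ := by simp only [Category.assoc]
  have n1 := NatTrans.naturality_apply φ.hom (c a).op s'
  have n2 := NatTrans.naturality_apply φ.hom (m a).op (sU (ia a))
  have e1 : H.obj.map (c a).op (φ.hom.app (op P'') s') =
      H.obj.map (c a).op (H.obj.map ((EtCoh.bc f).map k).op t) := by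
    rw [← n1, hs' a, n2, hsU]
    rw [← Functor.map_comp_apply, ← Functor.map_comp_apply, ← op_comp, ← op_comp,
      hcomm]
  exact e1

end Groth.Agent.Lib.Helper70.PropBEpi
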