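import Mathlib
import Groth.Prelude.Def_EtBase
import Groth.Agent.Lib.Helper89.HensZMT4
import Groth.Agent.Lib.Helper70.ClosedImmStalk

set_option autoImplicit false
open CategoryTheory CategoryTheory.Limits AlgebraicGeometry Opposite

universe u

namespace Groth.Agent.Lib.Helper70.StrictHens

variable (R : Type u) [CommRing R] [HenselianLocalRing R]
  [IsSepClosed (IsLocalRing.ResidueField R)]

/-- the closed geometric point of a strictly henselian local ring -/
noncomputable abbrev ξ : Spec (CommRingCat.of (IsLocalRing.ResidueField R)) ⟶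
    Spec (CommRingCat.of R) :=
  Spec.map (CommRingCat.ofHom (IsLocalRing.residue R))

/-- the base point of the fibre functor -/
noncomputable abbrev pt :
    (Scheme.pointSmallEtale (ξ R)).fiber.obj (EtCoh.top (Spec (CommRingCat.of R))) :=
  Over.homMk (ξ R) (Category.comp_id _)

set_option backward.isDefEq.respectTransparency.types false in
/-- every étale neighbourhood of the closed geometric point has a section -/
theorem exists_section (U : (Spec (CommRingCat.of R)).Etale)
    (u : (Scheme.pointSmallEtale (ξ R)).fiber.obj U) :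
    ∃ σ : EtCoh.top (Spec (CommRingCat.of R)) ⟶ U,
      (Scheme.pointSmallEtale (ξ R)).fiber.map σ (pt R) = u := by
  let ul : Spec (CommRingCat.of (IsLocalRing.ResidueField R)) ⟶ U.left := u.left
  have hul : ul ≫ U.hom = ξ R := Over.w u
  haveI : Etale U.hom := U.prop
  obtain ⟨s, hs1, hs2⟩ := Groth.Agent.Lib.Helper89.HensZMT.exists_section R U.hom ul hul
  refine ⟨MorphismProperty.Over.homMk s hs1 trivial, ?_⟩
  apply Over.OverMorphism.ext
  exact hs2

set_option backward.isDefEq.respectTransparency.types false in
theorem bijective_toPresheafFiber (F : EtCoh.Ab (Spec (CommRingCat.of R))) :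
    Function.Bijective ((Scheme.pointSmallEtale (ξ R)).toPresheafFiber
      (EtCoh.top (Spec (CommRingCat.of R))) (pt R) F.obj) := by
  constructor
  · rw [injective_iff_map_eq_zero]
    intro s hs
    have hs' : (Scheme.pointSmallEtale (ξ R)).toPresheafFiber
        (EtCoh.top (Spec (CommRingCat.of R))) (pt R) F.obj s =
        (Scheme.pointSmallEtale (ξ R)).toPresheafFiber
        (EtCoh.top (Spec (CommRingCat.of R))) (pt R) F.obj 0 := by
      rw [hs, map_zero]
    rw [GrothendieckTopology.Point.toPresheafFiber_eq_iff'] at hs'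
    obtain ⟨U, f, u, hu, h0⟩ := hs'
    rw [map_zero] at h0
    obtain ⟨σ, hσ⟩ := exists_section R U u
    have hid : σ ≫ f = 𝟙 _ := by
      apply MorphismProperty.Over.Hom.ext
      have h1 : (σ ≫ f).left ≫ 𝟙 _ = 𝟙 _ := MorphismProperty.Over.w (σ ≫ f)
      exact (Category.comp_id _).symm.trans h1
    have : s = F.obj.map (σ ≫ f).op s := by
      rw [hid, op_id, F.obj.map_id]
      rfl
    rw [this, op_comp, F.obj.map_comp, ConcreteCategory.comp_apply, h0, map_zero]
  · intro t
    obtain ⟨U, u, s, rfl⟩ := (Scheme.pointSmallEtale (ξ R)).toPresheafFiber_jointly_surjective t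
    obtain ⟨σ, hσ⟩ := exists_section R U u
    refine ⟨F.obj.map σ.op s, ?_⟩
    have k := ConcreteCategory.congr_hom
      ((Scheme.pointSmallEtale (ξ R)).toPresheafFiber_w σ (pt R) F.obj) s
    rw [ConcreteCategory.comp_apply] at k
    rw [k, hσ]

end Groth.Agent.Lib.Helper70.StrictHens
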