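import Mathlib
import Groth.Prelude.Def_EtBase
import Groth.Agent.Lib.Helper70.StrictHens
import Groth.Agent.Lib.Helper70.StalkCons
import Groth.Prelude.Def_EtCore

set_option autoImplicit false
universe u
open CategoryTheory CategoryTheory.Limits AlgebraicGeometry Opposite

namespace Groth.Agent.Lib.Helper70.StrictHensCoh

open Groth.Agent.Lib.Helper70

theorem projective_ulift_int : Projective (AddCommGrpCat.of (ULift.{u + 1} ℤ)) := by
  constructor
  intro E X f e he
  rw [AddCommGrpCat.epi_iff_surjective] at he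
  obtain ⟨a, ha⟩ := he (f (ULift.up 1))
  let φ : ULift.{u + 1} ℤ →+ E :=
    ((zmultiplesHom E) a).comp (AddEquiv.ulift (α := ℤ)).toAddMonoidHom
  refine ⟨AddCommGrpCat.ofHom φ, ?_⟩
  ext x
  have hx : x = x.down • (ULift.up 1 : ULift.{u + 1} ℤ) := by
    apply ULift.ext
    simp
  have h1 : f x = x.down • f (ULift.up 1) := by
    conv_lhs => rw [hx]
    exact map_zsmul f.hom x.down (ULift.up 1)
  change e (φ x) = f x
  rw [h1]
  change e (x.down • a) = _
  rw [← ha]
  exact map_zsmul e.hom x.down a

set_option backward.isDefEq.respectTransparency.types false in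
theorem surjective_gsec (R : Type u) [CommRing R] [HenselianLocalRing R]
    [IsSepClosed (IsLocalRing.ResidueField R)] {F G : EtCoh.Ab (Spec (CommRingCat.of R))}
    (e : F ⟶ G) [Epi e] :
    Function.Surjective (e.hom.app (op (EtCoh.top (Spec (CommRingCat.of R))))) := by
  intro t
  have hsurj := (StalkCons.epi_iff_stalk_surjective e).1 inferInstance
    (IsLocalRing.ResidueField R) (StrictHens.ξ R)
  have hF := StrictHens.bijective_toPresheafFiber R F
  have hG := StrictHens.bijective_toPresheafFiber R G
  obtain ⟨σ, hσ⟩ := hsurj ((Scheme.pointSmallEtale (StrictHens.ξ R)).toPresheafFiber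
      (EtCoh.top (Spec (CommRingCat.of R))) (StrictHens.pt R) G.obj t)
  obtain ⟨s, hs⟩ := hF.2 σ
  refine ⟨s, hG.1 ?_⟩
  have hn := GrothendieckTopology.Point.toPresheafFiber_naturality_apply
    (Scheme.pointSmallEtale (StrictHens.ξ R)) e.hom (EtCoh.top (Spec (CommRingCat.of R)))
    (StrictHens.pt R) s
  rw [← hn, hs]
  exact hσ

theorem subsingleton_H (R : Type u) [CommRing R] [HenselianLocalRing R]
    [IsSepClosed (IsLocalRing.ResidueField R)] (F : EtCoh.Ab (Spec (CommRingCat.of R)))
    (p : ℕ) (hp : 1 ≤ p) : Subsingleton (EtCoh.H (Spec (CommRingCat.of R)) F p) := by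
  haveI : (EtCore.gsec (Spec (CommRingCat.of R))).PreservesEpimorphisms := by
    constructor
    intro A B e he
    change Epi (e.hom.app (op (EtCoh.top (Spec (CommRingCat.of R)))))
    rw [AddCommGrpCat.epi_iff_surjective]
    exact surjective_gsec R e
  haveI := (EtCore.constAdj (Spec (CommRingCat.of R))).map_projective _ projective_ulift_int.{u}
  obtain ⟨n, rfl⟩ : ∃ n, p = n + 1 := ⟨p - 1, by omega⟩
  exact subsingleton_of_forall_eq 0 (fun x => Abelian.Ext.eq_zero_of_projective x)

end Groth.Agent.Lib.Helper70.StrictHensCoh
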