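import Mathlib
import Groth.Prelude.Def_SGA4b
import Groth.Agent.Lib.Helper70.StalkCons

set_option autoImplicit false
open CategoryTheory CategoryTheory.Limits AlgebraicGeometry Opposite

universe u

namespace Groth.Agent.Lib.Helper70.StalkConsSet

open Groth.Agent.Lib.Helper70.StalkCons

variable {X : Scheme.{u}}

set_option backward.isDefEq.respectTransparency.types false in
/-- two sections of a sheaf of sets with the same germs are equal -/
theorem eq_of_germs (F : EtDesc.Sh X) (U : X.Etale) (s₁ s₂ : F.obj.obj (op U))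
    (h : ∀ (Ω : Type u) [Field Ω] [IsSepClosed Ω] (ξ : Spec (CommRingCat.of Ω) ⟶ X)
      (x : (Scheme.pointSmallEtale ξ).fiber.obj U),
      (Scheme.pointSmallEtale ξ).toPresheafFiber (A := Type (u + 1)) U x F.obj s₁ =
        (Scheme.pointSmallEtale ξ).toPresheafFiber (A := Type (u + 1)) U x F.obj s₂) :
    s₁ = s₂ := by
  have hsep := ((isSheaf_iff_isSheaf_of_type _ _).1 F.2).isSeparated
  let S : Sieve U :=
    { arrows := fun Y f => F.obj.map f.op s₁ = F.obj.map f.op s₂
      downward_closed := by
        intro Y Z f hf g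
        rw [op_comp, F.obj.map_comp, ConcreteCategory.comp_apply, ConcreteCategory.comp_apply, hf] }
  have hS : S ∈ X.smallEtaleTopology U := by
    rw [Groth.Agent.S6632.mem_smallEtaleTopology_iff]
    intro p
    have h2 := h _ (geomPt U p ≫ U.hom) (geomPtFiber U p)
    rw [GrothendieckTopology.Point.toPresheafFiber_eq_iff'] at h2
    obtain ⟨Y, f, y, hy, hz⟩ := h2
    let yl : Spec (CommRingCat.of (SeparableClosure (U.left.residueField p))) ⟶ Y.left := y.left
    refine ⟨Y, f, yl.base default, hz, ?_⟩
    have h3 : yl ≫ f.left = geomPt U p := congrArg (fun k => k.left) hy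
    rw [← Scheme.Hom.comp_apply, h3, geomPt_apply]
  exact (hsep S hS).ext (fun Y f hf => hf)

theorem mono_iff_stalk_injective {F G : EtDesc.Sh X} (v : F ⟶ G) :
    Mono v ↔ ∀ (Ω : Type u) [Field Ω] [IsSepClosed Ω] (ξ : Spec (CommRingCat.of Ω) ⟶ X),
      Function.Injective (((Scheme.pointSmallEtale ξ).sheafFiber (A := Type (u + 1))).map v) := by
  constructor
  · intro hv Ω _ _ ξ
    haveI : Mono ((sheafToPresheaf _ _).map v) := inferInstance
    have hinj : ∀ U, Function.Injective (v.hom.app U) := by
      intro U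
      haveI : Mono (v.hom.app U) := by
        have : Mono v.hom := ‹Mono ((sheafToPresheaf _ _).map v)›
        infer_instance
      exact (mono_iff_injective _).mp inferInstance
    haveI : Presheaf.IsLocallyInjective X.smallEtaleTopology v.hom :=
      Presheaf.isLocallyInjective_of_injective _ _ hinj
    exact (Scheme.pointSmallEtale ξ).toPresheafFiber_map_injective v.hom
  · intro h
    apply Sheaf.mono_of_injective
    intro U s₁ s₂ hs
    apply eq_of_germs F U.unop
    intro Ω _ _ ξ x
    apply h Ω ξ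
    have n1 := ConcreteCategory.congr_hom
      ((Scheme.pointSmallEtale ξ).toPresheafFiber_naturality v.hom U.unop x) s₁
    have n2 := ConcreteCategory.congr_hom
      ((Scheme.pointSmallEtale ξ).toPresheafFiber_naturality v.hom U.unop x) s₂
    rw [ConcreteCategory.comp_apply, ConcreteCategory.comp_apply] at n1 n2
    refine n1.trans (Eq.trans ?_ n2.symm)
    exact congrArg _ hs


set_option backward.isDefEq.respectTransparency.types false in
theorem isLocallySurjective_of_stalk_surjective {F G : EtDesc.Sh X} (a : F ⟶ G)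
    (h : ∀ (Ω : Type u) [Field Ω] [IsSepClosed Ω] (ξ : Spec (CommRingCat.of Ω) ⟶ X),
      Function.Surjective (((Scheme.pointSmallEtale ξ).sheafFiber (A := Type (u + 1))).map a)) :
    Presheaf.IsLocallySurjective X.smallEtaleTopology a.hom := by
  constructor
  intro U t
  rw [Groth.Agent.S6632.mem_smallEtaleTopology_iff]
  intro p
  let Φ := Scheme.pointSmallEtale (geomPt U p ≫ U.hom)
  obtain ⟨σ, hσ⟩ := h _ (geomPt U p ≫ U.hom)
    (Φ.toPresheafFiber (A := Type (u + 1)) U (geomPtFiber U p) G.obj t)
  obtain ⟨U', x', s', rfl⟩ := Φ.toPresheafFiber_jointly_surjective (A := Type (u + 1))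
    (P := F.obj) σ
  let e1 : Φ.fiber.Elements := ⟨U', x'⟩
  let e2 : Φ.fiber.Elements := ⟨U, geomPtFiber U p⟩
  let e := IsCofiltered.min e1 e2
  let f1 : e ⟶ e1 := IsCofiltered.minToLeft e1 e2
  let f2 : e ⟶ e2 := IsCofiltered.minToRight e1 e2
  have h1 : Φ.toPresheafFiber (A := Type (u + 1)) U' x' G.obj (a.hom.app _ s') =
      Φ.toPresheafFiber (A := Type (u + 1)) U (geomPtFiber U p) G.obj t := by
    have h1 := Φ.toPresheafFiber_naturality (A := Type (u + 1)) a.hom U' x'
    have h2 := ConcreteCategory.congr_hom h1 s'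
    rw [ConcreteCategory.comp_apply, ConcreteCategory.comp_apply] at h2
    exact h2.symm.trans hσ
  have h3 : Φ.toPresheafFiber (A := Type (u + 1)) e.1 e.2 G.obj
        (G.obj.map f1.1.op (a.hom.app _ s')) =
      Φ.toPresheafFiber (A := Type (u + 1)) e.1 e.2 G.obj (G.obj.map f2.1.op t) := by
    have k1 := ConcreteCategory.congr_hom (Φ.toPresheafFiber_w (A := Type (u + 1)) f1.1 e.2 G.obj)
      (a.hom.app _ s')
    have k2 := ConcreteCategory.congr_hom (Φ.toPresheafFiber_w (A := Type (u + 1)) f2.1 e.2 G.obj) t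
    rw [ConcreteCategory.comp_apply] at k1 k2
    rw [k1, k2]
    have q1 : Φ.fiber.map f1.1 e.2 = x' := f1.2
    have q2 : Φ.fiber.map f2.1 e.2 = geomPtFiber U p := f2.2
    rw [q1, q2]
    exact h1
  rw [GrothendieckTopology.Point.toPresheafFiber_eq_iff'] at h3
  obtain ⟨Y, f, y, hy, hz⟩ := h3
  let yl : Spec (CommRingCat.of (SeparableClosure (U.left.residueField p))) ⟶ Y.left := y.left
  refine ⟨Y, f ≫ f2.1, yl.base default, ?_, ?_⟩
  · refine ⟨F.obj.map (f ≫ f1.1).op s', ?_⟩
    have n1 := ConcreteCategory.congr_hom (a.hom.naturality (f ≫ f1.1).op) s'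
    rw [ConcreteCategory.comp_apply, ConcreteCategory.comp_apply] at n1
    refine n1.trans ?_
    rw [op_comp, G.obj.map_comp, ConcreteCategory.comp_apply, op_comp, G.obj.map_comp,
      ConcreteCategory.comp_apply]
    exact hz
  · have q2 : Φ.fiber.map f2.1 e.2 = geomPtFiber U p := f2.2
    have q3 : Φ.fiber.map (f ≫ f2.1) y = geomPtFiber U p := by
      rw [Functor.map_comp]
      change Φ.fiber.map f2.1 (Φ.fiber.map f y) = _
      rw [hy, q2]
    have h3 : yl ≫ (f ≫ f2.1).left = geomPt U p := congrArg (fun k => k.left) q3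
    rw [← Scheme.Hom.comp_apply, h3, geomPt_apply]

theorem epi_iff_stalk_surjective {F G : EtDesc.Sh X} (a : F ⟶ G) :
    Epi a ↔ ∀ (Ω : Type u) [Field Ω] [IsSepClosed Ω] (ξ : Spec (CommRingCat.of Ω) ⟶ X),
      Function.Surjective (((Scheme.pointSmallEtale ξ).sheafFiber (A := Type (u + 1))).map a) := by
  rw [← Sheaf.isLocallySurjective_iff_epi a]
  constructor
  · intro ha Ω _ _ ξ
    haveI : Presheaf.IsLocallySurjective X.smallEtaleTopology a.hom := ha
    exact (Scheme.pointSmallEtale ξ).toPresheafFiber_map_surjective a.hom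
  · intro h
    exact isLocallySurjective_of_stalk_surjective a h

end Groth.Agent.Lib.Helper70.StalkConsSet
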