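import Mathlib

namespace Groth.Agent.Lib.Helper70.EtaleNbhdRing

open Polynomial IntermediateField

universe u

/-- Lifting a monic polynomial along `χ : A → K` (with `K` "generated by fractions") after
scaling the roots. -/
lemma exists_monic_lift_scaleRoots {A K : Type*} [CommRing A] [Field K] (χ : A →+* K)
    (hχ : ∀ z : K, ∃ a b : A, χ b ≠ 0 ∧ z * χ b = χ a) (m : K[X]) (hm : m.Monic) :
    ∃ d : A, χ d ≠ 0 ∧ ∃ G : A[X], G.Monic ∧ G.map χ = m.scaleRoots (χ d) := by
  classical
  choose a b hb hab using hχ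
  obtain ⟨n, hn⟩ : ∃ n, n = m.natDegree := ⟨_, rfl⟩
  obtain ⟨d, hd⟩ : ∃ d : A, d = ∏ i ∈ Finset.range n, b (m.coeff i) := ⟨_, rfl⟩
  refine ⟨d, ?_, ?_⟩
  · rw [hd, map_prod]; exact Finset.prod_ne_zero_iff.mpr (fun i _ => hb _)
  · have hl : m.scaleRoots (χ d) ∈ Polynomial.lifts χ := by
      rw [Polynomial.lifts_iff_coeff_lifts]
      intro i
      rw [coeff_scaleRoots, ← hn]
      rcases lt_trichotomy i n with h | h | h
      · obtain ⟨e, he⟩ : ∃ e, n - i = e + 1 := ⟨n - i - 1, by omega⟩
        refine ⟨a (m.coeff i) * (∏ j ∈ (Finset.range n).erase i, b (m.coeff j)) * d ^ e, ?_⟩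
        have hi : i ∈ Finset.range n := Finset.mem_range.mpr h
        have e1 : χ d = χ (b (m.coeff i)) *
            χ (∏ j ∈ (Finset.range n).erase i, b (m.coeff j)) := by
          rw [hd, ← map_mul]
          exact congrArg χ (Finset.mul_prod_erase _ (fun j => b (m.coeff j)) hi).symm
        rw [he, pow_succ, map_mul, map_mul, map_pow, ← hab (m.coeff i)]
        have e3 : m.coeff i * (χ d ^ e * χ d) = m.coeff i * (χ d ^ e * (χ (b (m.coeff i)) *
            χ (∏ j ∈ (Finset.range n).erase i, b (m.coeff j)))) := by rw [← e1]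
        rw [e3]
        ring
      · subst h
        refine ⟨1, ?_⟩
        rw [hn, hm.coeff_natDegree]
        simp
      · refine ⟨0, ?_⟩
        rw [coeff_eq_zero_of_natDegree_lt (hn ▸ h)]
        simp
    obtain ⟨G, hG1, -, hG3⟩ :=
      Polynomial.lifts_and_natDegree_eq_and_monic hl ((monic_scaleRoots_iff _).mpr hm)
    exact ⟨G, hG3, hG1⟩

/-- Given `χ : A → K` with `K` generated by fractions of the image, and a finite separable field
extension `k / K`, there is a standard étale `A`-algebra with a map to `k` hitting a primitive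
element. -/
theorem exists_standardEtalePair {A K k : Type u} [CommRing A] [Field K] [Field k] [Algebra K k]
    [FiniteDimensional K k] [Algebra.IsSeparable K k] (χ : A →+* K)
    (hχ : ∀ z : K, ∃ a b : A, χ b ≠ 0 ∧ z * χ b = χ a) :
    ∃ (P : StandardEtalePair A) (φ : P.Ring →+* k) (θ : k),
      φ.comp (algebraMap A P.Ring) = (algebraMap K k).comp χ ∧ φ P.X = θ ∧ K⟮θ⟯ = ⊤ := by
  obtain ⟨θ₀, hθ₀⟩ := Field.exists_primitive_element K k
  have hint : IsIntegral K θ₀ := Algebra.IsIntegral.isIntegral θ₀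
  have hm : (minpoly K θ₀).Monic := minpoly.monic hint
  obtain ⟨d, hd, G, hGmonic, hGmap⟩ := exists_monic_lift_scaleRoots χ hχ _ hm
  obtain ⟨θ, hθ⟩ : ∃ θ : k, θ = χ d • θ₀ := ⟨_, rfl⟩
  have hminθ : minpoly K θ = (minpoly K θ₀).scaleRoots (χ d) := by
    rw [hθ]
    exact IsIntegrallyClosed.minpoly_smul hd hint
  have hsep : (minpoly K θ).Separable := Algebra.IsSeparable.isSeparable K θ
  have hprim : K⟮θ⟯ = ⊤ := by
    rw [eq_top_iff, ← hθ₀, adjoin_simple_le_iff]
    have h1 : θ₀ = (χ d)⁻¹ • θ := by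
      rw [hθ, smul_smul, inv_mul_cancel₀ hd, one_smul]
    rw [h1]
    exact IntermediateField.smul_mem _ (mem_adjoin_simple_self K θ)
  let _ : Algebra A k := ((algebraMap K k).comp χ).toAlgebra
  have hGK : G.map ((algebraMap K k).comp χ) = (minpoly K θ).map (algebraMap K k) := by
    rw [← Polynomial.map_map, hGmap, hminθ]
  have haeval : ∀ Q : A[X], aeval θ Q = eval θ (Q.map ((algebraMap K k).comp χ)) := by
    intro Q
    rw [eval_map]
    rfl
  have h1 : aeval θ G = 0 := by
    rw [haeval, hGK, eval_map_algebraMap, minpoly.aeval]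
  have h2 : IsUnit (aeval θ (derivative G)) := by
    rw [haeval, ← derivative_map, hGK, derivative_map, eval_map_algebraMap]
    exact IsUnit.mk0 _ (hsep.aeval_derivative_ne_zero (minpoly.aeval K θ))
  let P : StandardEtalePair A :=
    { f := G, monic_f := hGmonic, g := derivative G, cond := ⟨1, 0, 1, by simp⟩ }
  have hmap : P.HasMap θ := ⟨h1, h2⟩
  refine ⟨P, (P.lift θ hmap).toRingHom, θ, ?_, ?_, hprim⟩
  · ext x
    simp only [RingHom.comp_apply, AlgHom.toRingHom_eq_coe, RingHom.coe_coe, AlgHom.commutes]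
    rfl
  · simp only [AlgHom.toRingHom_eq_coe, RingHom.coe_coe]
    exact P.lift_X θ hmap

end Groth.Agent.Lib.Helper70.EtaleNbhdRing
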