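import Mathlib
import Groth.Agent.Lib.Helper70.EtaleNbhdRing

open AlgebraicGeometry CategoryTheory Limits

universe u

namespace Groth.Agent.Lib.Helper70.EtaleNbhd

open Groth.Agent.Lib.Helper70.EtaleNbhdRing IntermediateField

lemma evaluation_fraction {S : Scheme.{u}} {U₀ : S.Opens} (hU₀ : IsAffineOpen U₀) (s : S)
    (hs : s ∈ U₀) (z : S.residueField s) :
    ∃ a b : Γ(S, U₀), (S.evaluation U₀ s hs).hom b ≠ 0 ∧
      z * (S.evaluation U₀ s hs).hom b = (S.evaluation U₀ s hs).hom a := by
  obtain ⟨w, rfl⟩ := S.residue_surjective s z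
  let _ : Algebra Γ(S, U₀) (S.presheaf.stalk s) :=
    TopCat.Presheaf.algebra_section_stalk S.presheaf (⟨s, hs⟩ : U₀)
  have hloc : IsLocalization.AtPrime (S.presheaf.stalk s) (hU₀.primeIdealOf ⟨s, hs⟩).asIdeal :=
    hU₀.isLocalization_stalk ⟨s, hs⟩
  obtain ⟨⟨a, b⟩, hab⟩ := IsLocalization.surj (hU₀.primeIdealOf ⟨s, hs⟩).asIdeal.primeCompl w
  have hunit : IsUnit (algebraMap Γ(S, U₀) (S.presheaf.stalk s) b) :=
    IsLocalization.map_units (S.presheaf.stalk s) b
  refine ⟨a, b, ?_, ?_⟩
  · have : IsUnit ((S.residue s).hom (algebraMap Γ(S, U₀) (S.presheaf.stalk s) b)) :=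
      hunit.map _
    exact this.ne_zero
  · have := congrArg (S.residue s).hom hab
    rw [map_mul] at this
    exact this


set_option backward.isDefEq.respectTransparency.types false in
theorem exists_etale_nbhd (S : Scheme.{u}) (s : S) (k : Type u) [Field k]
    [Algebra (S.residueField s) k] [FiniteDimensional (S.residueField s) k]
    [Algebra.IsSeparable (S.residueField s) k] :
    ∃ (U : Scheme.{u}) (g : U ⟶ S) (u : U) (hu : g u = s), Etale g ∧
      letI := ((S.residueFieldCongr hu).inv ≫ g.residueFieldMap u).hom.toAlgebra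
      Nonempty (k ≃ₐ[S.residueField s] U.residueField u) := by
  obtain ⟨_, ⟨U₀, hU₀, rfl⟩, hsU₀, -⟩ :=
    S.isBasis_affineOpens.exists_subset_of_mem_open (Set.mem_univ s) isOpen_univ
  obtain ⟨P, φ, θ, hφ, hθ, hprim⟩ :=
    exists_standardEtalePair (k := k) (S.evaluation U₀ s hsU₀).hom
      (evaluation_fraction hU₀ s hsU₀)
  -- the scheme and the morphism
  let U : Scheme.{u} := Spec (.of P.Ring)
  let g₀ : U ⟶ Spec Γ(S, U₀) := Spec.map (CommRingCat.ofHom (algebraMap Γ(S, U₀) P.Ring))
  let g : U ⟶ S := g₀ ≫ hU₀.fromSpec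
  let t : Spec (.of k) ⟶ U := Spec.map (CommRingCat.ofHom φ)
  have hg₀ : Etale g₀ := by
    rw [HasRingHomProperty.Spec_iff (P := @Etale)]
    rw [CommRingCat.hom_ofHom, RingHom.etale_algebraMap]
    infer_instance
  have hg : Etale g := inferInstance
  -- key equation
  have key : t ≫ g = Spec.map (CommRingCat.ofHom (algebraMap (S.residueField s) k)) ≫
      S.fromSpecResidueField s := by
    have h1 : t ≫ g₀ = Spec.map (CommRingCat.ofHom (algebraMap (S.residueField s) k)) ≫
        Spec.map (S.evaluation U₀ s hsU₀) := by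
      simp only [t, g₀]
      rw [← Spec.map_comp, ← Spec.map_comp, ← CommRingCat.ofHom_comp, hφ]
      rfl
    have h2 : Spec.map (S.evaluation U₀ s hsU₀) ≫ hU₀.fromSpec = S.fromSpecResidueField s := by
      rw [← Scheme.germ_residue, Spec.map_comp, Category.assoc]
      rw [Scheme.fromSpecResidueField, ← hU₀.fromSpecStalk_eq_fromSpecStalk hsU₀]
      rfl
    simp only [g]
    rw [← Category.assoc, h1, Category.assoc, h2]
  let u : U := t (IsLocalRing.closedPoint k)
  have hu : g u = s := by
    have h1 : g u = (t ≫ g) (IsLocalRing.closedPoint k) := rfl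
    rw [h1, key, Scheme.Hom.comp_apply, Scheme.fromSpecResidueField_apply]
  let τ : U.residueField u ⟶ .of k := Scheme.descResidueField (Scheme.stalkClosedPointTo t)
  have hτ : Spec.map τ ≫ U.fromSpecResidueField u = t :=
    Scheme.descResidueField_stalkClosedPointTo_fromSpecResidueField k U t
  -- compatibility with the `κ(s)`-algebra structures
  have hcomm : ((S.residueFieldCongr hu).inv ≫ g.residueFieldMap u) ≫ τ =
      CommRingCat.ofHom (algebraMap (S.residueField s) k) := by
    apply Spec.map_injective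
    rw [← cancel_mono (S.fromSpecResidueField s), ← key, ← hτ]
    rw [Spec.map_comp, Spec.map_comp, Category.assoc, Category.assoc, Category.assoc]
    congr 1
    rw [← Scheme.Hom.SpecMap_residueFieldMap_fromSpecResidueField]
    congr 1
    exact Scheme.residueFieldCongr_fromSpecResidueField hu.symm
  -- `θ` is in the range of `τ`
  have hθmem : ∃ y : U.residueField u, τ.hom y = θ := by
    have h1 := Scheme.Spec.map_residueFieldIso_inv_eq_fromSpecResidueField (.of P.Ring) u
    have h3 : CommRingCat.ofHom (algebraMap P.Ring u.asIdeal.ResidueField) ≫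
        (Scheme.Spec.residueFieldIso (.of P.Ring) u).inv ≫ τ = CommRingCat.ofHom φ := by
      apply Spec.map_injective
      rw [Spec.map_comp, Spec.map_comp, Category.assoc]
      erw [h1]
      exact hτ
    refine ⟨(Scheme.Spec.residueFieldIso (.of P.Ring) u).inv
      (algebraMap P.Ring u.asIdeal.ResidueField P.X), ?_⟩
    rw [← hθ]
    exact congr($(h3).hom P.X)
  refine ⟨U, g, u, hu, hg, ?_⟩
  let _ := ((S.residueFieldCongr hu).inv ≫ g.residueFieldMap u).hom.toAlgebra
  let τₐ : U.residueField u →ₐ[S.residueField s] k :=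
    { τ.hom with
      commutes' := fun r => congr($(hcomm).hom r) }
  have hinj : Function.Injective τₐ := τₐ.toRingHom.injective
  have hsurj : Function.Surjective τₐ := by
    have htop : τₐ.fieldRange = ⊤ := by
      rw [eq_top_iff, ← hprim, adjoin_simple_le_iff]
      obtain ⟨y, hy⟩ := hθmem
      exact ⟨y, hy⟩
    intro z
    have hz : z ∈ τₐ.fieldRange := htop ▸ trivial
    exact hz
  exact ⟨(AlgEquiv.ofBijective τₐ ⟨hinj, hsurj⟩).symm⟩

end Groth.Agent.Lib.Helper70.EtaleNbhd
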