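import Mathlib
import Groth.Agent.Lib.Helper70.GeomPts

open AlgebraicGeometry CategoryTheory Limits IsLocalRing

universe u

namespace Groth.Agent.Lib.Helper70.Weighting

open Groth.Agent.Lib.Helper70.GeomPts

variable {Z V : Scheme.{u}} (Ω : Type u) [Field Ω]

/-- geometric points of an open subscheme -/
noncomputable def gptsOpenEquiv (π : Z ⟶ V) (A : Z.Opens) (vb : Spec (.of Ω) ⟶ V) :
    GPts Ω (A.ι ≫ π) vb ≃ {t : GPts Ω π vb // t.1 (closedPoint Ω) ∈ A} where
  toFun t := ⟨⟨t.1 ≫ A.ι, by rw [Category.assoc]; exact t.2⟩, by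
    change A.ι (t.1 (closedPoint Ω)) ∈ A
    exact (t.1 (closedPoint Ω)).2⟩
  invFun t := ⟨IsOpenImmersion.lift A.ι t.1.1 (by
      rintro _ ⟨z, rfl⟩
      have hz : z = closedPoint Ω := Subsingleton.elim _ _
      rw [hz, Scheme.Opens.range_ι]
      exact t.2), by
    have h1 := IsOpenImmersion.lift_fac_assoc A.ι t.1.1 (by
      rintro _ ⟨z, rfl⟩
      have hz : z = closedPoint Ω := Subsingleton.elim _ _
      rw [hz, Scheme.Opens.range_ι]
      exact t.2) π
    rw [h1]
    exact t.1.2⟩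
  left_inv t := by
    apply Subtype.ext
    rw [← cancel_mono A.ι]
    exact IsOpenImmersion.lift_fac _ _ _
  right_inv t := by
    apply Subtype.ext
    apply Subtype.ext
    exact IsOpenImmersion.lift_fac _ _ _


lemma finite_fibre_open_comp (π : Z ⟶ V) (A : Z.Opens) (v : V) (hfin : (π ⁻¹' {v}).Finite) :
    ((A.ι ≫ π) ⁻¹' {v}).Finite := by
  have : ((A.ι ≫ π) ⁻¹' {v}) = A.ι ⁻¹' (π ⁻¹' {v}) := rfl
  rw [this]
  exact hfin.preimage (A.ι.isOpenEmbedding.injective.injOn)

/-- the fibre integral over an open subscheme, in terms of geometric points -/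
lemma fibreIntegral_open_eq [IsAlgClosed Ω] (π : Z ⟶ V) [LocallyQuasiFinite π] (A : Z.Opens)
    (w : Z → ℤ) (vb : Spec (.of Ω) ⟶ V) (hfin : (π ⁻¹' {vb (closedPoint Ω)}).Finite) :
    MoreMor.fibreIntegral (A.ι ≫ π) (w ∘ A.ι) (vb (closedPoint Ω)) =
      ∑ᶠ t : {t : GPts Ω π vb // t.1 (closedPoint Ω) ∈ A}, w (t.1.1 (closedPoint Ω)) := by
  rw [fibreIntegral_eq_finsum_gpts Ω (A.ι ≫ π) (w ∘ A.ι) vb
    (finite_fibre_open_comp π A _ hfin) (fun u _ => finite_residueFieldMap (A.ι ≫ π) u)]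
  rw [← finsum_comp_equiv (gptsOpenEquiv Ω π A vb)]
  rfl

/-- additivity of the fibre integral over complementary opens -/
theorem fibreIntegral_add_of_isCompl (π : Z ⟶ V) [LocallyQuasiFinite π] (A B : Z.Opens)
    (hAB : IsCompl A B) (w : Z → ℤ) (v : V) (hfin : (π ⁻¹' {v}).Finite) :
    MoreMor.fibreIntegral π w v =
      MoreMor.fibreIntegral (A.ι ≫ π) (w ∘ A.ι) v + MoreMor.fibreIntegral (B.ι ≫ π) (w ∘ B.ι) v := by
  classical
  obtain ⟨Ω, _, _, vb, rfl⟩ := exists_geometric_point v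
  rw [fibreIntegral_open_eq Ω π A w vb hfin, fibreIntegral_open_eq Ω π B w vb hfin,
    fibreIntegral_eq_finsum_gpts Ω π w vb hfin (fun u _ => finite_residueFieldMap π u)]
  haveI : Finite (GPts Ω π vb) := finite_gpts Ω π vb hfin
  have := Fintype.ofFinite (GPts Ω π vb)
  rw [finsum_eq_sum_of_fintype, finsum_eq_sum_of_fintype, finsum_eq_sum_of_fintype]
  have hB : ∀ t : GPts Ω π vb, t.1 (closedPoint Ω) ∈ B ↔ ¬ t.1 (closedPoint Ω) ∈ A := by
    intro t
    constructor
    · intro hb ha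
      have : t.1 (closedPoint Ω) ∈ (A ⊓ B : Z.Opens) := ⟨ha, hb⟩
      rw [hAB.inf_eq_bot] at this
      exact this
    · intro ha
      have : t.1 (closedPoint Ω) ∈ (A ⊔ B : Z.Opens) := by rw [hAB.sup_eq_top]; trivial
      rcases this with h | h
      · exact absurd h ha
      · exact h
  rw [← Fintype.sum_subtype_add_sum_subtype (fun t : GPts Ω π vb => t.1 (closedPoint Ω) ∈ A)
    (fun t => w (t.1 (closedPoint Ω)))]
  congr 1
  exact (Fintype.sum_equiv (Equiv.subtypeEquivRight hB)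
    (fun t : {t : GPts Ω π vb // t.1 (closedPoint Ω) ∈ B} => w (t.1.1 (closedPoint Ω)))
    (fun t : {t : GPts Ω π vb // ¬ t.1 (closedPoint Ω) ∈ A} => w (t.1.1 (closedPoint Ω)))
    (fun _ => rfl)).symm


/-- invariance of the fibre integral under isomorphisms of the source -/
lemma fibreIntegral_iso {U U' V : Scheme.{u}} (π : U ⟶ V) [LocallyQuasiFinite π]
    (hfin : ∀ v : V, (π ⁻¹' {v}).Finite) (e : U' ⟶ U) [IsIso e] (w : U → ℤ) (v : V) :
    MoreMor.fibreIntegral (e ≫ π) (w ∘ e) v = MoreMor.fibreIntegral π w v := by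
  have hc : IsPullback e (e ≫ π) π (𝟙 V) := IsPullback.of_horiz_isIso ⟨by simp⟩
  exact fibreIntegral_base_change π hfin (e ≫ π) e (𝟙 V) hc w v

set_option backward.isDefEq.respectTransparency.types false in
/-- Transfer of weightings along étale base change followed by an open immersion. -/
theorem isWeighting_transfer {X Y X₁ Y₁ : Scheme.{u}} (f : X ⟶ Y) (w : X → ℤ)
    (hw : MoreMor.IsWeighting f w) (g : Y₁ ⟶ Y) [Etale g] (f₁ : X₁ ⟶ Y₁)
    (k : X₁ ⟶ pullback f g) [IsOpenImmersion k] (hk : k ≫ pullback.snd f g = f₁) :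
    MoreMor.IsWeighting f₁ (fun x => w (pullback.fst f g (k x))) := by
  intro V' g' _ U' hfin'
  let c : pullback f₁ g' ⟶ pullback f (g' ≫ g) :=
    pullback.map f₁ g' (pullback.snd f g) g' k (𝟙 _) (𝟙 _) (by simp [hk]) (by simp) ≫
      (pullbackLeftPullbackSndIso f g g').hom
  have hc_snd : c ≫ pullback.snd f (g' ≫ g) = pullback.snd f₁ g' := by
    simp only [c, Category.assoc, pullbackLeftPullbackSndIso_hom_snd]
    erw [pullback.lift_snd]
    simp
  have hc_fst : c ≫ pullback.fst f (g' ≫ g) = pullback.fst f₁ g' ≫ k ≫ pullback.fst f g := by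
    simp only [c, Category.assoc, pullbackLeftPullbackSndIso_hom_fst]
    erw [pullback.lift_fst_assoc]
    simp
  let i : (U' : Scheme.{u}) ⟶ pullback f (g' ≫ g) := U'.ι ≫ c
  let U : (pullback f (g' ≫ g)).Opens := i.opensRange
  let e : (U' : Scheme.{u}) ≅ U := i.isoOpensRange
  have he : e.hom ≫ U.ι = i := Scheme.Hom.isoOpensRange_hom_ι i
  have hπ : e.hom ≫ (U.ι ≫ pullback.snd f (g' ≫ g)) = U'.ι ≫ pullback.snd f₁ g' := by
    rw [← Category.assoc, he, Category.assoc, hc_snd]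
  have hfinU : IsFinite (U.ι ≫ pullback.snd f (g' ≫ g)) := by
    have : U.ι ≫ pullback.snd f (g' ≫ g) = e.inv ≫ (U'.ι ≫ pullback.snd f₁ g') := by
      rw [← hπ, Iso.inv_hom_id_assoc]
    rw [this]
    infer_instance
  have hlc := hw V' (g' ≫ g) U hfinU
  have hfinfib : ∀ v : V', ((U.ι ≫ pullback.snd f (g' ≫ g)) ⁻¹' {v}).Finite :=
    fun v => Scheme.Hom.finite_preimage_singleton _ v
  convert hlc using 1
  ext v'
  have h1 := fibreIntegral_iso (U.ι ≫ pullback.snd f (g' ≫ g)) hfinfib e.hom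
    (fun u => w (pullback.fst f (g' ≫ g) (U.ι u))) v'
  rw [hπ] at h1
  rw [← h1]
  congr 1
  funext u'
  simp only [Function.comp_apply]
  have h2 : pullback.fst f (g' ≫ g) (U.ι (e.hom u')) =
      pullback.fst f g (k (pullback.fst f₁ g' (U'.ι u'))) := by
    have h3 : U.ι (e.hom u') = i u' := by
      rw [← Scheme.Hom.comp_apply, he]
    rw [h3]
    change (i ≫ pullback.fst f (g' ≫ g)) u' = _
    simp only [i, Category.assoc, hc_fst]
    rfl
  rw [h2]

end Groth.Agent.Lib.Helper70.Weighting
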