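import Mathlib
import Groth.Agent.Lib.Helper70.Weighting

open AlgebraicGeometry CategoryTheory Limits IsLocalRing

universe u

namespace Groth.Agent.Lib.Helper70.WeightingLSC

open Groth.Agent.Lib.Helper70.GeomPts Groth.Agent.Lib.Helper70.Weighting

lemma locallyQuasiFinite_of_etale {X Y : Scheme.{u}} (g : X ⟶ Y) [Etale g] :
    LocallyQuasiFinite g := by
  rw [HasRingHomProperty.iff_appLE (P := @LocallyQuasiFinite)]
  intro U V e
  have h : (g.appLE U.1 V.1 e).hom.Etale :=
    HasRingHomProperty.appLE (P := @Etale) g inferInstance U V e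
  algebraize [(g.appLE U.1 V.1 e).hom]
  have : Algebra.QuasiFinite Γ(Y, U.1) Γ(X, V.1) := inferInstance
  exact this

lemma finite_fibre_of_isPullback {U V U' V' : Scheme.{u}} (π : U ⟶ V) [LocallyQuasiFinite π]
    (hfin : ∀ v : V, (π ⁻¹' {v}).Finite) (π' : U' ⟶ V') (h : U' ⟶ U) (g : V' ⟶ V)
    (hc : IsPullback h π' π g) (v' : V') : (π' ⁻¹' {v'}).Finite := by
  obtain ⟨Ω, _, _, vb', rfl⟩ := exists_geometric_point v'
  haveI : LocallyQuasiFinite π' := MorphismProperty.of_isPullback hc ‹_›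
  haveI : Finite (GPts Ω π (vb' ≫ g)) := finite_gpts Ω π _ (hfin _)
  haveI : Finite (GPts Ω π' vb') := Finite.of_equiv _ (gptsPullbackEquiv Ω hc vb').symm
  exact finite_fibre_of_finite_gpts Ω π' vb'

lemma fibreIntegral_nonneg {U V : Scheme.{u}} (π : U ⟶ V) (w : U → ℤ) (hw : ∀ u, 0 ≤ w u) (v : V) :
    0 ≤ MoreMor.fibreIntegral π w v := by
  unfold MoreMor.fibreIntegral
  exact finsum_nonneg fun u => mul_nonneg (hw _) (Int.natCast_nonneg _)


/-- transfer of lower semicontinuity along an open map -/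
lemma lowerSemicontinuousAt_of_comp_openMap {α β : Type*} [TopologicalSpace α] [TopologicalSpace β]
    (g : α → β) (hg : IsOpenMap g) (F : β → ℤ) (a : α)
    (h : LowerSemicontinuousAt (F ∘ g) a) : LowerSemicontinuousAt F (g a) := by
  intro c hc
  have h1 := h c hc
  rw [Filter.eventually_iff_exists_mem] at h1 ⊢
  obtain ⟨N, hN, hNc⟩ := h1
  refine ⟨g '' N, hg.image_mem_nhds hN, ?_⟩
  rintro _ ⟨a', ha', rfl⟩
  exact hNc a' ha'

set_option backward.isDefEq.respectTransparency.types false in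
theorem lsc_aux (n : ℕ) : ∀ {X Y : Scheme.{u}} (f : X ⟶ Y) [LocallyQuasiFinite f]
    [LocallyOfFiniteType f] [IsSeparated f] (_ : ∀ y : Y, (f ⁻¹' {y}).Finite) (w : X → ℤ)
    (_ : MoreMor.IsWeighting f w) (_ : ∀ x, 0 < w x)
    (Ω : Type u) [Field Ω] [IsAlgClosed Ω] (yb : Spec (.of Ω) ⟶ Y),
    Nat.card (GPts Ω f yb) = n →
    LowerSemicontinuousAt (MoreMor.fibreIntegral f w) (yb (closedPoint Ω)) := by
  induction n using Nat.strong_induction_on with
  | _ n ih =>
  intro X Y f _ _ _ hfin w hw hpos Ω _ _ yb hn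
  haveI : Finite (GPts Ω f yb) := finite_gpts Ω f yb (hfin _)
  rcases Nat.eq_zero_or_pos n with h0 | hpos_n
  · subst h0
    have hempty : IsEmpty (GPts Ω f yb) := by
      rcases Nat.card_eq_zero.mp hn with h | h
      · exact h
      · exact absurd ‹Finite (GPts Ω f yb)› (not_finite_iff_infinite.mpr h)
    have h1 : MoreMor.fibreIntegral f w (yb (closedPoint Ω)) = 0 := by
      rw [fibreIntegral_eq_finsum_gpts Ω f w yb (hfin _) (fun u _ => finite_residueFieldMap f u)]
      exact finsum_of_isEmpty _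
    intro c hc
    rw [h1] at hc
    exact Filter.Eventually.of_forall fun y' =>
      lt_of_lt_of_le hc (fibreIntegral_nonneg f w (fun x => (hpos x).le) y')
  · have hne : Nonempty (GPts Ω f yb) := by
      rw [← Finite.card_pos_iff, hn]; exact hpos_n
    obtain ⟨t⟩ := hne
    obtain ⟨x, hxdef⟩ : ∃ x : X, x = t.1 (closedPoint Ω) := ⟨_, rfl⟩
    have hx : f x = yb (closedPoint Ω) := by
      rw [hxdef]
      exact congrArg (fun s : Spec (.of Ω) ⟶ Y => s (closedPoint Ω)) t.2
    obtain ⟨V, g, hg, -, A, B, a, hAB, hfinA, ha⟩ :=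
      exists_etale_isCompl_of_quasiFiniteAt f hx (f.quasiFiniteAt x)
    haveI : LocallyQuasiFinite g := locallyQuasiFinite_of_etale g
    -- the point of `V`
    obtain ⟨v₀, hv₀def⟩ : ∃ v₀ : V, v₀ = pullback.snd f g a.1 := ⟨_, rfl⟩
    have hgv₀ : g v₀ = yb (closedPoint Ω) := by
      rw [hv₀def, ← hx, ← ha, ← Scheme.Hom.comp_apply, ← Scheme.Hom.comp_apply, pullback.condition]
    -- lift the geometric point
    obtain ⟨vb, hvb⟩ := exists_gpts_of_mem_fibre Ω g yb v₀ hgv₀
    -- notation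
    have hfinπ : ∀ v : V, ((pullback.snd f g) ⁻¹' {v}).Finite :=
      finite_fibre_of_isPullback f hfin (pullback.snd f g) (pullback.fst f g) g
        (IsPullback.of_hasPullback f g)
    -- (1) base change
    have hbc : ∀ v : V, MoreMor.fibreIntegral (pullback.snd f g) (w ∘ ⇑(pullback.fst f g)) v =
        MoreMor.fibreIntegral f w (g v) := fun v =>
      fibreIntegral_base_change f hfin (pullback.snd f g) (pullback.fst f g) g
        (IsPullback.of_hasPullback f g) w v
    -- (2) additivity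
    have hadd : ∀ v : V, MoreMor.fibreIntegral (pullback.snd f g) (w ∘ ⇑(pullback.fst f g)) v =
        MoreMor.fibreIntegral (A.ι ≫ pullback.snd f g) ((w ∘ ⇑(pullback.fst f g)) ∘ ⇑A.ι) v +
        MoreMor.fibreIntegral (B.ι ≫ pullback.snd f g) ((w ∘ ⇑(pullback.fst f g)) ∘ ⇑B.ι) v :=
      fun v => fibreIntegral_add_of_isCompl (pullback.snd f g) A B hAB _ v (hfinπ v)
    -- (3) the finite part is locally constant
    have hlcA : IsLocallyConstant
        (MoreMor.fibreIntegral (A.ι ≫ pullback.snd f g) ((w ∘ ⇑(pullback.fst f g)) ∘ ⇑A.ι)) :=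
      hw V g A hfinA
    -- (4) the other part, by induction
    have hwB : MoreMor.IsWeighting (B.ι ≫ pullback.snd f g)
        ((w ∘ ⇑(pullback.fst f g)) ∘ ⇑B.ι) :=
      isWeighting_transfer f w hw g (B.ι ≫ pullback.snd f g) B.ι rfl
    have hfinB : ∀ v : V, ((B.ι ≫ pullback.snd f g) ⁻¹' {v}).Finite := fun v =>
      finite_fibre_open_comp (pullback.snd f g) B v (hfinπ v)
    -- counting geometric points
    have hvbg : vb.1 ≫ g = yb := vb.2
    have e1 : GPts Ω (pullback.snd f g) vb.1 ≃ GPts Ω f yb :=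
      (gptsPullbackEquiv Ω (IsPullback.of_hasPullback f g) vb.1).trans
        (Equiv.cast (by rw [hvbg]))
    haveI : Finite (GPts Ω (pullback.snd f g) vb.1) := Finite.of_equiv _ e1.symm
    have hcard1 : Nat.card (GPts Ω (pullback.snd f g) vb.1) = n := by
      rw [Nat.card_congr e1, hn]
    have hcardB : Nat.card (GPts Ω (B.ι ≫ pullback.snd f g) vb.1) < n := by
      classical
      rw [← hcard1, Nat.card_congr (gptsOpenEquiv Ω (pullback.snd f g) B vb.1)]
      have := Fintype.ofFinite (GPts Ω (pullback.snd f g) vb.1)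
      rw [Nat.card_eq_fintype_card, Nat.card_eq_fintype_card]
      have haV : (A.ι ≫ pullback.snd f g) a = vb.1 (closedPoint Ω) := by
        rw [hvb, hv₀def]; rfl
      obtain ⟨tA, -⟩ := exists_gpts_of_mem_fibre Ω (A.ι ≫ pullback.snd f g) vb.1 a haV
      have hxA := (gptsOpenEquiv Ω (pullback.snd f g) A vb.1 tA).2
      refine Fintype.card_subtype_lt (x := (gptsOpenEquiv Ω (pullback.snd f g) A vb.1 tA).1) ?_
      intro hxB
      have : (gptsOpenEquiv Ω (pullback.snd f g) A vb.1 tA).1.1 (closedPoint Ω) ∈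
          (A ⊓ B : (pullback f g).Opens) := ⟨hxA, hxB⟩
      rw [hAB.inf_eq_bot] at this
      exact this
    have hlscB := ih _ hcardB (B.ι ≫ pullback.snd f g) hfinB _ hwB (fun z => hpos _) Ω vb.1 rfl
    -- (5)+(6)
    rw [← hgv₀, ← hvb]
    apply lowerSemicontinuousAt_of_comp_openMap g g.isOpenMap
    have hcomp : (MoreMor.fibreIntegral f w) ∘ g =
        fun v => MoreMor.fibreIntegral (A.ι ≫ pullback.snd f g)
          ((w ∘ ⇑(pullback.fst f g)) ∘ ⇑A.ι) v +
        MoreMor.fibreIntegral (B.ι ≫ pullback.snd f g) ((w ∘ ⇑(pullback.fst f g)) ∘ ⇑B.ι) v := by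
      funext v
      rw [Function.comp_apply, ← hbc, hadd]
    rw [hcomp]
    exact (hlcA.continuous.continuousAt.lowerSemicontinuousAt).add hlscB


/-- Stacks 0F3I: the fibre integral of a positive weighting of a separated locally quasi-finite
morphism with finite fibres is lower semicontinuous. -/
theorem lowerSemicontinuous_fibreIntegral {X Y : Scheme.{u}} (f : X ⟶ Y) [LocallyQuasiFinite f]
    [LocallyOfFiniteType f] [IsSeparated f] (hfin : ∀ y : Y, (f ⁻¹' {y}).Finite) (w : X → ℤ)
    (hw : MoreMor.IsWeighting f w) (hpos : ∀ x, 0 < w x) :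
    LowerSemicontinuous (MoreMor.fibreIntegral f w) := by
  intro y
  obtain ⟨Ω, _, _, yb, rfl⟩ := exists_geometric_point y
  exact lsc_aux _ f hfin w hw hpos Ω yb rfl

end Groth.Agent.Lib.Helper70.WeightingLSC
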