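import Mathlib
import Groth.Prelude.Def_MoreMor
import Groth.Agent.Lib.Helper70.GeomPts
import Groth.Agent.Lib.Helper70.EtaleNbhd
import Groth.Agent.Lib.Helper70.Weighting
import Groth.Agent.Lib.Helper70.WeightingLSC

open AlgebraicGeometry CategoryTheory Limits IsLocalRing

universe u

namespace Groth.Agent.Lib.Helper70.UniquePoint

open Groth.Agent.Lib.Helper70.GeomPts Groth.Agent.Lib.Helper70.EtaleNbhd
  Groth.Agent.Lib.Helper70.Weighting Groth.Agent.Lib.Helper70.WeightingLSC

variable {Z Z' : Scheme.{u}} {Ω : Type u} [Field Ω]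

/-- the embedding of the residue field at `z` given by a geometric point located at `z` -/
noncomputable def gptHom (t : Spec (.of Ω) ⟶ Z) (z : Z) (h : t (closedPoint Ω) = z) :
    Z.residueField z ⟶ .of Ω :=
  (Z.residueFieldCongr h).inv ≫ (Scheme.SpecToEquivOfField Ω Z t).2

lemma gptHom_spec (t : Spec (.of Ω) ⟶ Z) (z : Z) (h : t (closedPoint Ω) = z) :
    Spec.map (gptHom t z h) ≫ Z.fromSpecResidueField z = t := by
  subst h
  simp only [gptHom, Scheme.residueFieldCongr_refl, Iso.refl_inv]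
  exact (Scheme.SpecToEquivOfField Ω Z).left_inv t

lemma gptHom_congr {t t' : Spec (.of Ω) ⟶ Z} (e : t = t') (z : Z) (h : t (closedPoint Ω) = z) :
    gptHom t z h = gptHom t' z (e ▸ h) := by
  subst e; rfl

lemma gptHom_ext {t t' : Spec (.of Ω) ⟶ Z} (z : Z) (h : t (closedPoint Ω) = z)
    (h' : t' (closedPoint Ω) = z) (e : gptHom t z h = gptHom t' z h') : t = t' := by
  rw [← gptHom_spec t z h, ← gptHom_spec t' z h', e]

lemma gptHom_comp (π : Z ⟶ Z') (t : Spec (.of Ω) ⟶ Z) (z : Z) (h : t (closedPoint Ω) = z)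
    (z' : Z') (hz' : π z = z') :
    gptHom (t ≫ π) z' (by subst h hz'; rfl) =
      (Z'.residueFieldCongr hz').inv ≫ π.residueFieldMap z ≫ gptHom t z h := by
  subst h hz'
  simp only [gptHom, Scheme.residueFieldCongr_refl, Iso.refl_inv, Category.id_comp]
  exact Scheme.descResidueField_stalkClosedPointTo_comp π t

lemma closedPoint_of_eq {z : Z} (α : Z.residueField z ⟶ .of Ω) :
    (Spec.map α ≫ Z.fromSpecResidueField z) (closedPoint Ω) = z := by
  change (Z.fromSpecResidueField z) ((Spec.map α) (closedPoint Ω)) = z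
  exact Scheme.fromSpecResidueField_apply _ _

lemma gptHom_of_eq {z : Z} (α : Z.residueField z ⟶ .of Ω) :
    gptHom (Spec.map α ≫ Z.fromSpecResidueField z) z (closedPoint_of_eq α) = α := by
  have h1 := gptHom_spec (Spec.map α ≫ Z.fromSpecResidueField z) z (closedPoint_of_eq α)
  have h2 : Function.Injective (fun β : Z.residueField z ⟶ .of Ω =>
      Spec.map β ≫ Z.fromSpecResidueField z) := by
    intro β β' hβ
    have := (Scheme.SpecToEquivOfField Ω Z).symm.injective
      (a₁ := ⟨z, β⟩) (a₂ := ⟨z, β'⟩) hβ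
    simpa using this
  exact h2 h1

set_option backward.isDefEq.respectTransparency.types false in
theorem exists_etale_purely_insep {X Y : Scheme.{u}} (f : X ⟶ Y) [LocallyQuasiFinite f]
    (s : Spec (.of Ω) ⟶ X) :
    ∃ (V₁ : Scheme.{u}) (g₁ : V₁ ⟶ Y) (_ : Etale g₁) (s₁ : Spec (.of Ω) ⟶ pullback f g₁),
      s₁ ≫ pullback.fst f g₁ = s ∧
      ∀ t : Spec (.of Ω) ⟶ pullback f g₁,
        t ≫ pullback.snd f g₁ = s₁ ≫ pullback.snd f g₁ →
        t (closedPoint Ω) = s₁ (closedPoint Ω) → t = s₁ := by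
  obtain ⟨x, hx⟩ : ∃ x : X, s (closedPoint Ω) = x := ⟨_, rfl⟩
  let σ : X.residueField x ⟶ .of Ω := gptHom s x hx
  let _ : Algebra (Y.residueField (f x)) (X.residueField x) := (f.residueFieldMap x).hom.toAlgebra
  have : Module.Finite (Y.residueField (f x)) (X.residueField x) := finite_residueFieldMap f x
  let k := separableClosure (Y.residueField (f x)) (X.residueField x)
  obtain ⟨V₁, g₁, v₁, hv₁, hg₁, ⟨φ⟩⟩ := exists_etale_nbhd Y (f x) k
  let _ : Algebra (Y.residueField (f x)) (V₁.residueField v₁) :=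
    ((Y.residueFieldCongr hv₁).inv ≫ g₁.residueFieldMap v₁).hom.toAlgebra
  let ψ : V₁.residueField v₁ →+* X.residueField x :=
    (algebraMap k (X.residueField x)).comp φ.symm.toRingHom
  have hψ : ∀ r : Y.residueField (f x),
      ψ (((Y.residueFieldCongr hv₁).inv ≫ g₁.residueFieldMap v₁).hom r) =
        (f.residueFieldMap x).hom r := by
    intro r
    change algebraMap k (X.residueField x) (φ.symm (algebraMap _ _ r)) = _
    rw [φ.symm.commutes]
    rfl
  let β : V₁.residueField v₁ ⟶ .of Ω := CommRingCat.ofHom ψ ≫ σ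
  let vb₁ : Spec (.of Ω) ⟶ V₁ := Spec.map β ≫ V₁.fromSpecResidueField v₁
  have hvb₁pt : vb₁ (closedPoint Ω) = v₁ := closedPoint_of_eq β
  have comm : s ≫ f = vb₁ ≫ g₁ := by
    refine gptHom_ext (f x) (by rw [← hx]; rfl) (by rw [← hv₁, ← hvb₁pt]; rfl) ?_
    rw [gptHom_comp f s x hx (f x) rfl, gptHom_comp g₁ vb₁ v₁ hvb₁pt (f x) hv₁]
    rw [gptHom_of_eq β]
    ext r
    simp only [Scheme.residueFieldCongr_refl, Iso.refl_inv, Category.id_comp]
    have := hψ r
    simp only [CommRingCat.hom_comp, RingHom.coe_comp, Function.comp_apply] at this ⊢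
    change σ.hom _ = σ.hom (ψ _)
    rw [this]
  let s₁ : Spec (.of Ω) ⟶ pullback f g₁ := pullback.lift s vb₁ comm
  have hs₁fst : s₁ ≫ pullback.fst f g₁ = s := pullback.lift_fst _ _ _
  have hs₁snd : s₁ ≫ pullback.snd f g₁ = vb₁ := pullback.lift_snd _ _ _
  refine ⟨V₁, g₁, hg₁, s₁, hs₁fst, ?_⟩
  intro t ht hpt
  obtain ⟨a₁, ha₁⟩ : ∃ a₁ : ↥(pullback f g₁), s₁ (closedPoint Ω) = a₁ := ⟨_, rfl⟩
  rw [ha₁] at hpt
  have hxa : pullback.fst f g₁ a₁ = x := by
    rw [← ha₁, ← hx, ← hs₁fst]; rfl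
  have hva : pullback.snd f g₁ a₁ = v₁ := by
    rw [← ha₁, ← hvb₁pt, ← hs₁snd]; rfl
  let τ₁ := gptHom s₁ a₁ ha₁
  let τ := gptHom t a₁ hpt
  let ρX : X.residueField x ⟶ (pullback f g₁).residueField a₁ :=
    (X.residueFieldCongr hxa).inv ≫ (pullback.fst f g₁).residueFieldMap a₁
  let ρV : V₁.residueField v₁ ⟶ (pullback f g₁).residueField a₁ :=
    (V₁.residueFieldCongr hva).inv ≫ (pullback.snd f g₁).residueFieldMap a₁
  have e1 : ρX ≫ τ₁ = σ := by
    simp only [ρX, τ₁, Category.assoc]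
    rw [← gptHom_comp (pullback.fst f g₁) s₁ a₁ ha₁ x hxa]
    exact gptHom_congr hs₁fst x _
  have e2 : ρV ≫ τ₁ = β := by
    simp only [ρV, τ₁, Category.assoc]
    rw [← gptHom_comp (pullback.snd f g₁) s₁ a₁ ha₁ v₁ hva]
    rw [gptHom_congr hs₁snd v₁ _]
    exact gptHom_of_eq β
  have e3 : ρV ≫ τ = β := by
    simp only [ρV, τ, Category.assoc]
    rw [← gptHom_comp (pullback.snd f g₁) t a₁ hpt v₁ hva]
    rw [gptHom_congr (ht.trans hs₁snd) v₁ _]
    exact gptHom_of_eq β
  have key : ∀ c : k, ρX.hom (c : X.residueField x) = ρV.hom (φ c) := by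
    intro c
    apply τ₁.hom.injective
    have h1 : τ₁.hom (ρX.hom (c : X.residueField x)) = σ.hom c := congr($(e1).hom c)
    have h2 : τ₁.hom (ρV.hom (φ c)) = β.hom (φ c) := congr($(e2).hom (φ c))
    rw [h1, h2]
    change _ = σ.hom (algebraMap k (X.residueField x) (φ.symm (φ c)))
    rw [φ.symm_apply_apply]
    rfl
  have hagree : (ρX ≫ τ).hom.comp (algebraMap k (X.residueField x)) =
      (ρX ≫ τ₁).hom.comp (algebraMap k (X.residueField x)) := by
    ext c
    change τ.hom (ρX.hom (c : X.residueField x)) = τ₁.hom (ρX.hom (c : X.residueField x))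
    rw [key c]
    have h2 : τ₁.hom (ρV.hom (φ c)) = β.hom (φ c) := congr($(e2).hom (φ c))
    have h3 : τ.hom (ρV.hom (φ c)) = β.hom (φ c) := congr($(e3).hom (φ c))
    rw [h2, h3]
  have hρ : ρX ≫ τ = ρX ≫ τ₁ := by
    apply CommRingCat.hom_ext
    exact IsPurelyInseparable.injective_comp_algebraMap k (X.residueField x) Ω hagree
  have hfst : t ≫ pullback.fst f g₁ = s₁ ≫ pullback.fst f g₁ := by
    refine gptHom_ext x (by rw [← hxa, ← hpt]; rfl) (by rw [← hxa, ← ha₁]; rfl) ?_
    rw [gptHom_comp (pullback.fst f g₁) t a₁ hpt x hxa,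
      gptHom_comp (pullback.fst f g₁) s₁ a₁ ha₁ x hxa]
    simpa only [ρX, Category.assoc] using hρ
  exact pullback.hom_ext hfst ht


set_option backward.defeqAttrib.useBackward true in
set_option backward.isDefEq.respectTransparency false in
open TensorProduct in
theorem exists_etale_unique_point {X S : Scheme.{u}} (f : X ⟶ S) [LocallyOfFiniteType f]
    {x : X} (hx : f.QuasiFiniteAt x) :
    ∃ (U : Scheme.{u}) (g : U ⟶ S), Etale g ∧
    ∃ (V : (pullback f g).Opens) (v : V), IsFinite (V.ι ≫ pullback.snd f g) ∧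
      pullback.fst f g v.1 = x ∧
      ∀ v' : V, pullback.snd f g v'.1 = pullback.snd f g v.1 → v' = v := by
  obtain ⟨_, ⟨U, hU, rfl⟩, hxU, -⟩ := S.isBasis_affineOpens.exists_subset_of_mem_open
    (Set.mem_univ (f x)) isOpen_univ
  obtain ⟨_, ⟨V, hV, rfl⟩, hxV, hUV : V ≤ f ⁻¹ᵁ U⟩ :=
    X.isBasis_affineOpens.exists_subset_of_mem_open hxU (f ⁻¹ᵁ U).2
  have : (f.appLE U V hUV).hom.FiniteType := f.finiteType_appLE hU hV hUV
  algebraize [(f.appLE U V hUV).hom]
  have : (hV.primeIdealOf ⟨x, hxV⟩).asIdeal.LiesOver (hU.primeIdealOf ⟨f x, hxU⟩).asIdeal := by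
    suffices hU.primeIdealOf ⟨f x, hxU⟩ = Spec.map (f.appLE U V hUV) (hV.primeIdealOf ⟨x, hxV⟩) from
      ⟨congr(($this).1)⟩
    apply hU.isoSpec.inv.homeomorph.injective
    apply Subtype.ext
    simp only [IsAffineOpen.primeIdealOf, Scheme.Hom.homeomorph_apply,
      ← Scheme.Hom.comp_apply, ← Scheme.Opens.ι_apply, IsAffineOpen.isoSpec_hom]
    simp
  have : Algebra.QuasiFiniteAt Γ(S, U) (hV.primeIdealOf ⟨x, hxV⟩).asIdeal :=
    hx.quasiFiniteAt hV hU hUV hxV
  obtain ⟨R, _, _, _, P, _, _, e, _, P', _, _, hP', heP', -, _, huniq⟩ :=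
    Algebra.exists_etale_isIdempotentElem_forall_liesOver_eq
    (hU.primeIdealOf ⟨f x, hxU⟩).asIdeal (hV.primeIdealOf ⟨x, hxV⟩).asIdeal
  have : (algebraMap R (Localization.Away e)).Finite := RingHom.finite_algebraMap.mpr ‹_›
  let φ : Γ(S, U) ⟶ .of R := CommRingCat.ofHom <| algebraMap Γ(S, U) R
  have hφ : φ.hom.Etale := RingHom.etale_algebraMap.mpr ‹_›
  have : Etale (Spec.map φ) := HasRingHomProperty.Spec_iff.mpr hφ
  let e₁ : Spec (.of (R ⊗ Γ(X, V))) ≅ pullback (Spec.map (f.appLE U V hUV)) (Spec.map φ) :=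
    (pullbackSpecIso _ _ _).symm ≪≫ pullbackSymmetry _ _
  have he₁ : e₁.hom ≫ pullback.fst _ _ =
      Spec.map (CommRingCat.ofHom Algebra.TensorProduct.includeRight.toRingHom) := by
    dsimp [e₁, RingHom.algebraMap_toAlgebra]
    rw [Category.assoc, pullbackSymmetry_hom_comp_fst]
    exact pullbackSpecIso_inv_snd ..
  have he₁' : e₁.hom ≫ pullback.snd _ _ =
      Spec.map (CommRingCat.ofHom (algebraMap R (R ⊗[Γ(S, U)] Γ(X, V)))) := by
    dsimp [e₁, RingHom.algebraMap_toAlgebra]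
    rw [Category.assoc, pullbackSymmetry_hom_comp_snd]
    exact pullbackSpecIso_inv_fst ..
  let g : Spec (.of (R ⊗[Γ(S, U)] Γ(X, V))) ⟶ pullback f (Spec.map φ ≫ hU.fromSpec) :=
    e₁.hom ≫ pullback.map _ _ _ _ hV.fromSpec (𝟙 _) hU.fromSpec
      (IsAffineOpen.SpecMap_appLE_fromSpec ..) (by simp)
  have hgsnd : g ≫ pullback.snd f _ =
      Spec.map (CommRingCat.ofHom (algebraMap R (R ⊗[Γ(S, U)] Γ(X, V)))) := by
    simp only [g, Category.assoc]
    erw [pullback.lift_snd]
    rw [Category.comp_id, he₁']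
  let W₁ := g ''ᵁ PrimeSpectrum.basicOpen e
  have : IsFinite (W₁.ι ≫ pullback.snd f _) := by
    let ι : Spec (.of (Localization.Away e)) ⟶ pullback f (Spec.map φ ≫ hU.fromSpec) :=
      Spec.map (CommRingCat.ofHom <| algebraMap _ _) ≫ g
    have : ι.opensRange = W₁ := by
      simp only [Scheme.Hom.opensRange_comp, ι, W₁]
      congr 1
      exact TopologicalSpace.Opens.ext <| PrimeSpectrum.localization_away_comap_range _ _
    rw [← this, ← MorphismProperty.cancel_left_of_respectsIso @IsFinite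
      (Scheme.Hom.isoOpensRange _).hom]
    have H : (pullbackSpecIso _ R _).inv ≫ pullback.fst _ (Spec.map (f.appLE U V hUV)) = _ :=
      pullbackSpecIso_inv_fst ..
    simpa [Scheme.Hom.isoOpensRange, ι, g, e₁, RingHom.algebraMap_toAlgebra, φ, H,
      ← Spec.map_comp, IsFinite.SpecMap_iff]
  refine ⟨Spec (.of R), Spec.map φ ≫ hU.fromSpec, inferInstance,
    W₁, ⟨g ⟨P', ‹_›⟩, ?_⟩, ‹_›, ?_, ?_⟩
  · exact ⟨⟨P', ‹_›⟩, heP', rfl⟩
  · trans hV.fromSpec ⟨P'.comap Algebra.TensorProduct.includeRight.toRingHom, inferInstance⟩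
    · simp [← Scheme.Hom.comp_apply, -Scheme.Hom.comp_base, g, reassoc_of% he₁]; rfl
    convert! hV.fromSpec_primeIdealOf ⟨x, hxV⟩
  · rintro ⟨_, ⟨P'', hP''⟩, heP'', rfl⟩ hsnd
    apply Subtype.ext
    change g ⟨P'', hP''⟩ = g ⟨P', ‹_›⟩
    congr 1
    apply PrimeSpectrum.ext
    change P'' = P'
    have h1 : (g ≫ pullback.snd f _) ⟨P'', hP''⟩ = (g ≫ pullback.snd f _) ⟨P', ‹_›⟩ := hsnd
    rw [hgsnd] at h1
    have h2 : P''.comap (algebraMap R (R ⊗[Γ(S, U)] Γ(X, V))) =
        P'.comap (algebraMap R (R ⊗[Γ(S, U)] Γ(X, V))) := congr(($h1).1)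
    refine huniq P'' hP'' ⟨?_⟩ heP''
    rw [Ideal.under_def, h2]
    exact Ideal.over_def P' P


/-- geometric-point version of `exists_etale_unique_point` -/
theorem exists_etale_gpts_at_point {U V : Scheme.{u}} (π : U ⟶ V) [LocallyOfFiniteType π]
    [LocallyQuasiFinite π] [IsAlgClosed Ω] (s : Spec (.of Ω) ⟶ U) :
    ∃ (V' : Scheme.{u}) (g : V' ⟶ V) (_ : Etale g) (A : (pullback π g).Opens)
      (t : Spec (.of Ω) ⟶ A.toScheme),
      IsFinite (A.ι ≫ pullback.snd π g) ∧ t ≫ A.ι ≫ pullback.fst π g = s ∧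
      ∀ t' : Spec (.of Ω) ⟶ A.toScheme,
        t' ≫ A.ι ≫ pullback.snd π g = t ≫ A.ι ≫ pullback.snd π g →
        t' (closedPoint Ω) = t (closedPoint Ω) := by
  obtain ⟨V', g, hg, A, a, hfin, hfst, huniq⟩ :=
    exists_etale_unique_point π (π.quasiFiniteAt (s (closedPoint Ω)))
  haveI : LocallyQuasiFinite (A.ι ≫ pullback.fst π g) := locallyQuasiFinite_of_etale _
  obtain ⟨t, ht⟩ := exists_gpts_of_mem_fibre Ω (A.ι ≫ pullback.fst π g) s a hfst
  refine ⟨V', g, hg, A, t.1, hfin, t.2, ?_⟩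
  intro t' ht'
  rw [ht]
  apply huniq
  rw [← ht]
  exact congrArg (fun m : Spec (.of Ω) ⟶ V' => m (closedPoint Ω)) ht'

set_option backward.isDefEq.respectTransparency.types false in
/-- Étale localisation at a geometric point: after an étale base change there is an open
of the pullback, finite over the base, carrying exactly one geometric point over the chosen lift,
and this geometric point maps to the given one. -/
theorem exists_etale_unique_gpt {X Y : Scheme.{u}} (f : X ⟶ Y) [LocallyOfFiniteType f]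
    [LocallyQuasiFinite f] [IsAlgClosed Ω] (s : Spec (.of Ω) ⟶ X) :
    ∃ (V : Scheme.{u}) (g : V ⟶ Y) (_ : Etale g) (W : Scheme.{u}) (k : W ⟶ pullback f g)
      (_ : IsOpenImmersion k) (t : Spec (.of Ω) ⟶ W),
      IsFinite (k ≫ pullback.snd f g) ∧ t ≫ k ≫ pullback.fst f g = s ∧
      ∀ t' : Spec (.of Ω) ⟶ W,
        t' ≫ k ≫ pullback.snd f g = t ≫ k ≫ pullback.snd f g → t' = t := by
  obtain ⟨V₁, g₁, hg₁, s₁, hs₁, hPI⟩ := exists_etale_purely_insep f s
  obtain ⟨V₂, g₂, hg₂, A, t, hfin, ht, huniq⟩ :=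
    exists_etale_gpts_at_point (pullback.snd f g₁) s₁
  let k : A.toScheme ⟶ pullback f (g₂ ≫ g₁) := A.ι ≫ (pullbackLeftPullbackSndIso f g₁ g₂).hom
  have hk_snd : k ≫ pullback.snd f (g₂ ≫ g₁) = A.ι ≫ pullback.snd (pullback.snd f g₁) g₂ := by
    simp only [k, Category.assoc, pullbackLeftPullbackSndIso_hom_snd]
  have hk_fst : k ≫ pullback.fst f (g₂ ≫ g₁) =
      A.ι ≫ pullback.fst (pullback.snd f g₁) g₂ ≫ pullback.fst f g₁ := by
    simp only [k, Category.assoc, pullbackLeftPullbackSndIso_hom_fst]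
  refine ⟨V₂, g₂ ≫ g₁, inferInstance, A.toScheme, k, inferInstance, t, ?_, ?_, ?_⟩
  · rw [hk_snd]; exact hfin
  · rw [hk_fst, ← Category.assoc, ← Category.assoc, Category.assoc t, ht, hs₁]
  · intro t' ht'
    rw [hk_snd] at ht'
    have hpt := huniq t' ht'
    have h1 : (t' ≫ A.ι ≫ pullback.fst (pullback.snd f g₁) g₂) ≫ pullback.snd f g₁ =
        s₁ ≫ pullback.snd f g₁ := by
      rw [← ht]
      simp only [Category.assoc, pullback.condition]
      rw [← Category.assoc A.ι, ← Category.assoc t', ← Category.assoc t', Category.assoc t', ht']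
      simp only [Category.assoc]
    have h2 : (t' ≫ A.ι ≫ pullback.fst (pullback.snd f g₁) g₂) (closedPoint Ω) =
        s₁ (closedPoint Ω) := by
      rw [← ht]
      change (A.ι ≫ pullback.fst (pullback.snd f g₁) g₂) (t' (closedPoint Ω)) =
        (A.ι ≫ pullback.fst (pullback.snd f g₁) g₂) (t (closedPoint Ω))
      rw [hpt]
    have h3 := hPI _ h1 h2
    rw [← cancel_mono A.ι]
    apply pullback.hom_ext
    · rw [Category.assoc, Category.assoc, h3, ht]
    · rw [Category.assoc, Category.assoc, ht']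

set_option backward.isDefEq.respectTransparency.types false in
/-- For a weighting, the fibre integral over an open of an étale base change which is finite
over the base is locally constant (flexible form). -/
theorem isLocallyConstant_of_isWeighting {X Y : Scheme.{u}} (f : X ⟶ Y) (w : X → ℤ)
    (hw : MoreMor.IsWeighting f w) {V : Scheme.{u}} (g : V ⟶ Y) [Etale g] {W : Scheme.{u}}
    (k : W ⟶ pullback f g) [IsOpenImmersion k] (hfin : IsFinite (k ≫ pullback.snd f g)) :
    IsLocallyConstant (MoreMor.fibreIntegral (k ≫ pullback.snd f g)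
      (fun u => w (pullback.fst f g (k u)))) := by
  let e := Scheme.Hom.isoOpensRange k
  have he : e.hom ≫ k.opensRange.ι = k := Scheme.Hom.isoOpensRange_hom_ι k
  have hfinU : IsFinite (k.opensRange.ι ≫ pullback.snd f g) := by
    rw [← MorphismProperty.cancel_left_of_respectsIso @IsFinite e.hom, ← Category.assoc, he]
    exact hfin
  have h1 := hw V g k.opensRange hfinU
  have h2 : MoreMor.fibreIntegral (k ≫ pullback.snd f g)
      (fun u => w (pullback.fst f g (k u))) =
      MoreMor.fibreIntegral (k.opensRange.ι ≫ pullback.snd f g)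
        (fun u => w (pullback.fst f g (k.opensRange.ι u))) := by
    funext v
    have h3 := fibreIntegral_iso (k.opensRange.ι ≫ pullback.snd f g)
      (fun v => Scheme.Hom.finite_preimage_singleton _ v) e.hom
      (fun u => w (pullback.fst f g (k.opensRange.ι u))) v
    rw [← h3]
    have h4 : e.hom ≫ k.opensRange.ι ≫ pullback.snd f g = k ≫ pullback.snd f g := by
      rw [← Category.assoc, he]
    have h5 : ((fun u => w (pullback.fst f g (k.opensRange.ι u))) ∘ ⇑e.hom) =
        (fun u => w (pullback.fst f g (k u))) := by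
      funext u
      change w (pullback.fst f g ((e.hom ≫ k.opensRange.ι) u)) = _
      rw [he]
    rw [h5, h4]
  rw [h2]
  exact h1

end Groth.Agent.Lib.Helper70.UniquePoint
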