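import Mathlib
import Groth.Prelude.Def_MoreMor
import Groth.Agent.Lib.Helper70.UniquePoint

open AlgebraicGeometry CategoryTheory Limits IsLocalRing

universe u

namespace Groth.Agent.Lib.Helper70.WeightingBC

open Groth.Agent.Lib.Helper70.GeomPts Groth.Agent.Lib.Helper70.Weighting
  Groth.Agent.Lib.Helper70.WeightingLSC Groth.Agent.Lib.Helper70.UniquePoint

variable {Z V : Scheme.{u}} (Ω : Type u) [Field Ω]

/-- the fibre integral over an open subscheme, in terms of geometric points; only the fibre of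
the open is assumed finite -/
lemma fibreIntegral_open_eq' [IsAlgClosed Ω] (π : Z ⟶ V) [LocallyQuasiFinite π] (A : Z.Opens)
    (w : Z → ℤ) (vb : Spec (.of Ω) ⟶ V)
    (hfin : ((A.ι ≫ π) ⁻¹' {vb (closedPoint Ω)}).Finite) :
    MoreMor.fibreIntegral (A.ι ≫ π) (w ∘ A.ι) (vb (closedPoint Ω)) =
      ∑ᶠ t : {t : GPts Ω π vb // t.1 (closedPoint Ω) ∈ A}, w (t.1.1 (closedPoint Ω)) := by
  rw [fibreIntegral_eq_finsum_gpts Ω (A.ι ≫ π) (w ∘ A.ι) vb hfin
    (fun u _ => finite_residueFieldMap (A.ι ≫ π) u)]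
  rw [← finsum_comp_equiv (gptsOpenEquiv Ω π A vb)]
  rfl

lemma finite_gpts_mem [IsAlgClosed Ω] (π : Z ⟶ V) [LocallyQuasiFinite π] (A : Z.Opens)
    (vb : Spec (.of Ω) ⟶ V)
    (hfin : ((A.ι ≫ π) ⁻¹' {vb (closedPoint Ω)}).Finite) :
    {t : GPts Ω π vb | t.1 (closedPoint Ω) ∈ A}.Finite := by
  haveI : Finite (GPts Ω (A.ι ≫ π) vb) := finite_gpts Ω (A.ι ≫ π) vb hfin
  exact Set.finite_coe_iff.mp (Finite.of_equiv _ (gptsOpenEquiv Ω π A vb))

lemma finite_fibre_of_le (π : Z ⟶ V) (A O : Z.Opens) (hAO : A ≤ O) (v : V)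
    (hfin : ((O.ι ≫ π) ⁻¹' {v}).Finite) : ((A.ι ≫ π) ⁻¹' {v}).Finite := by
  have h1 : (O.ι '' ((O.ι ≫ π) ⁻¹' {v})).Finite := hfin.image _
  have h2 : (A.ι '' ((A.ι ≫ π) ⁻¹' {v})) ⊆ (O.ι '' ((O.ι ≫ π) ⁻¹' {v})) := by
    rintro _ ⟨a, ha, rfl⟩
    exact ⟨⟨a.1, hAO a.2⟩, ha, rfl⟩
  exact (h1.subset h2).of_finite_image A.ι.isOpenEmbedding.injective.injOn

/-- additivity of the fibre integral over a disjoint union of opens -/
theorem fibreIntegral_add_of_opens (π : Z ⟶ V) [LocallyQuasiFinite π] (O A B : Z.Opens)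
    (hO : O = A ⊔ B) (hAB : A ⊓ B = ⊥) (w : Z → ℤ) (v : V)
    (hfin : ((O.ι ≫ π) ⁻¹' {v}).Finite) :
    MoreMor.fibreIntegral (O.ι ≫ π) (w ∘ O.ι) v =
      MoreMor.fibreIntegral (A.ι ≫ π) (w ∘ A.ι) v + MoreMor.fibreIntegral (B.ι ≫ π) (w ∘ B.ι) v := by
  classical
  obtain ⟨Ω, _, _, vb, rfl⟩ := exists_geometric_point v
  have hAO : A ≤ O := hO ▸ le_sup_left
  have hBO : B ≤ O := hO ▸ le_sup_right
  have hfinA := finite_fibre_of_le π A O hAO _ hfin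
  have hfinB := finite_fibre_of_le π B O hBO _ hfin
  rw [fibreIntegral_open_eq' Ω π O w vb hfin, fibreIntegral_open_eq' Ω π A w vb hfinA,
    fibreIntegral_open_eq' Ω π B w vb hfinB]
  have e1 := finsum_set_coe_eq_finsum_mem (f := fun t : GPts Ω π vb => w (t.1 (closedPoint Ω)))
    {t : GPts Ω π vb | t.1 (closedPoint Ω) ∈ O}
  have e2 := finsum_set_coe_eq_finsum_mem (f := fun t : GPts Ω π vb => w (t.1 (closedPoint Ω)))
    {t : GPts Ω π vb | t.1 (closedPoint Ω) ∈ A}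
  have e3 := finsum_set_coe_eq_finsum_mem (f := fun t : GPts Ω π vb => w (t.1 (closedPoint Ω)))
    {t : GPts Ω π vb | t.1 (closedPoint Ω) ∈ B}
  refine e1.trans (Eq.trans ?_ (congrArg₂ (· + ·) e2.symm e3.symm))
  have hset : {t : GPts Ω π vb | t.1 (closedPoint Ω) ∈ O} =
      {t : GPts Ω π vb | t.1 (closedPoint Ω) ∈ A} ∪ {t : GPts Ω π vb | t.1 (closedPoint Ω) ∈ B} := by
    ext t
    simp only [Set.mem_ofPred_eq, Set.mem_union]
    rw [hO]
    exact Iff.rfl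
  rw [hset]
  refine finsum_mem_union ?_ (finite_gpts_mem Ω π A vb hfinA) (finite_gpts_mem Ω π B vb hfinB)
  rw [Set.disjoint_left]
  intro t ha hb
  have : t.1 (closedPoint Ω) ∈ (A ⊓ B : Z.Opens) := ⟨ha, hb⟩
  rw [hAB] at this
  exact this

/-- counting geometric points by integrating the constant function one -/
lemma card_gpts_eq_fibreIntegral_one [IsAlgClosed Ω] (π : Z ⟶ V) [LocallyQuasiFinite π]
    (vb : Spec (.of Ω) ⟶ V) (hfin : (π ⁻¹' {vb (closedPoint Ω)}).Finite) :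
    (Nat.card (GPts Ω π vb) : ℤ) = MoreMor.fibreIntegral π (fun _ => 1) (vb (closedPoint Ω)) := by
  rw [fibreIntegral_eq_finsum_gpts Ω π _ vb hfin (fun u _ => finite_residueFieldMap π u)]
  haveI : Finite (GPts Ω π vb) := finite_gpts Ω π vb hfin
  have := Fintype.ofFinite (GPts Ω π vb)
  rw [finsum_eq_sum_of_fintype, Nat.card_eq_fintype_card]
  simp

/-- base change of an open piece of a pullback -/
theorem isPullback_restrict {X Y T T' P P' : Scheme.{u}} {f : X ⟶ Y} {G : T ⟶ Y} {G' : T' ⟶ Y}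
    {h : P ⟶ X} {π : P ⟶ T} (hc : IsPullback h π f G)
    {h' : P' ⟶ X} {π' : P' ⟶ T'} (hc' : IsPullback h' π' f G')
    (a : T' ⟶ T) (ha : a ≫ G = G') (c : P' ⟶ P) (hc₁ : c ≫ h = h') (hc₂ : c ≫ π = π' ≫ a)
    (O : P.Opens) :
    IsPullback (c ∣_ O) ((c ⁻¹ᵁ O).ι ≫ π') (O.ι ≫ π) a := by
  have h1 : IsPullback c π' π a := by
    refine IsPullback.of_right ?_ hc₂ hc
    rw [hc₁, ha]; exact hc'
  exact (isPullback_morphismRestrict c O).paste_vert h1

/-- base change of the fibre integral of an open piece of a pullback -/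
theorem fibreIntegral_restrict_base_change {X Y T T' P P' : Scheme.{u}} {f : X ⟶ Y}
    [LocallyQuasiFinite f] {G : T ⟶ Y} {G' : T' ⟶ Y}
    {h : P ⟶ X} {π : P ⟶ T} (hc : IsPullback h π f G)
    {h' : P' ⟶ X} {π' : P' ⟶ T'} (hc' : IsPullback h' π' f G')
    (a : T' ⟶ T) (ha : a ≫ G = G') (c : P' ⟶ P) (hc₁ : c ≫ h = h') (hc₂ : c ≫ π = π' ≫ a)
    (O : P.Opens) (hfin : IsFinite (O.ι ≫ π)) (w : X → ℤ) (v' : T') :
    MoreMor.fibreIntegral ((c ⁻¹ᵁ O).ι ≫ π') (w ∘ ⇑h' ∘ ⇑(c ⁻¹ᵁ O).ι) v' =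
      MoreMor.fibreIntegral (O.ι ≫ π) (w ∘ ⇑h ∘ ⇑O.ι) (a v') := by
  have hpb := isPullback_restrict hc hc' a ha c hc₁ hc₂ O
  have h1 := fibreIntegral_base_change (O.ι ≫ π)
    (fun v => Scheme.Hom.finite_preimage_singleton _ v) ((c ⁻¹ᵁ O).ι ≫ π') (c ∣_ O) a hpb
    (w ∘ ⇑h ∘ ⇑O.ι) v'
  rw [← h1]
  congr 1
  funext u
  change w ((((c ⁻¹ᵁ O).ι ≫ h') : _ ⟶ X) u) = w (((c ∣_ O ≫ O.ι ≫ h) : _ ⟶ X) u)
  rw [← Category.assoc (c ∣_ O), morphismRestrict_ι, Category.assoc, hc₁]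

set_option backward.isDefEq.respectTransparency.types false in
/-- opens form of `exists_etale_unique_gpt` -/
theorem exists_etale_unique_gpt_opens {X Y : Scheme.{u}} (f : X ⟶ Y) [LocallyOfFiniteType f]
    [LocallyQuasiFinite f] {Ω : Type u} [Field Ω] [IsAlgClosed Ω] (s : Spec (.of Ω) ⟶ X) :
    ∃ (V : Scheme.{u}) (g : V ⟶ Y) (_ : Etale g) (O : (pullback f g).Opens)
      (t : Spec (.of Ω) ⟶ O.toScheme),
      IsFinite (O.ι ≫ pullback.snd f g) ∧ t ≫ O.ι ≫ pullback.fst f g = s ∧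
      ∀ t' : Spec (.of Ω) ⟶ O.toScheme,
        t' ≫ O.ι ≫ pullback.snd f g = t ≫ O.ι ≫ pullback.snd f g → t' = t := by
  obtain ⟨V, g, hg, W, k, hk, t, hfin, hts, huniq⟩ := exists_etale_unique_gpt f s
  let e := Scheme.Hom.isoOpensRange k
  have he : e.hom ≫ k.opensRange.ι = k := Scheme.Hom.isoOpensRange_hom_ι k
  have hfinU : IsFinite (k.opensRange.ι ≫ pullback.snd f g) := by
    rw [← MorphismProperty.cancel_left_of_respectsIso @IsFinite e.hom, ← Category.assoc, he]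
    exact hfin
  refine ⟨V, g, hg, k.opensRange, t ≫ e.hom, hfinU, ?_, ?_⟩
  · rw [Category.assoc, ← Category.assoc e.hom, he]; exact hts
  · intro t' ht'
    have h1 : (t' ≫ e.inv) ≫ k ≫ pullback.snd f g = t ≫ k ≫ pullback.snd f g := by
      calc (t' ≫ e.inv) ≫ k ≫ pullback.snd f g
          = (t' ≫ e.inv) ≫ (e.hom ≫ k.opensRange.ι) ≫ pullback.snd f g := by rw [he]
        _ = t' ≫ k.opensRange.ι ≫ pullback.snd f g := by
            simp only [Category.assoc, Iso.inv_hom_id_assoc]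
        _ = (t ≫ e.hom) ≫ k.opensRange.ι ≫ pullback.snd f g := ht'
        _ = t ≫ (e.hom ≫ k.opensRange.ι) ≫ pullback.snd f g := by simp only [Category.assoc]
        _ = t ≫ k ≫ pullback.snd f g := by rw [he]
    have h2 := huniq _ h1
    rw [← h2]
    simp

end Groth.Agent.Lib.Helper70.WeightingBC
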