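import Mathlib
import Groth.Prelude.Def_MoreMor
import Groth.Agent.Lib.Helper70.WeightingBC

open AlgebraicGeometry CategoryTheory Limits IsLocalRing

universe u

namespace Groth.Agent.Lib.Helper70.WeightingBC2

open Groth.Agent.Lib.Helper70.GeomPts Groth.Agent.Lib.Helper70.Weighting
  Groth.Agent.Lib.Helper70.WeightingLSC Groth.Agent.Lib.Helper70.UniquePoint
  Groth.Agent.Lib.Helper70.WeightingBC

set_option backward.isDefEq.respectTransparency.types false in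
/-- shrinking the base so that one finite open piece is contained in another -/
theorem shrink_compare {P T : Scheme.{u}} (π : P ⟶ T) [LocallyQuasiFinite π] (O O₀ : P.Opens)
    (hfin₀ : IsFinite (O₀.ι ≫ π)) {Ω : Type u} [Field Ω] [IsAlgClosed Ω]
    (tb : Spec (.of Ω) ⟶ T) (z : Spec (.of Ω) ⟶ P) (hzO : z (closedPoint Ω) ∈ O)
    (huniq : ∀ t' : GPts Ω (O₀.ι ≫ π) tb, t'.1 ≫ O₀.ι = z) :
    ∃ T₁ : T.Opens, tb (closedPoint Ω) ∈ T₁ ∧ ∀ u : P, u ∈ O₀ → π u ∈ T₁ → u ∈ O := by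
  let C : Set O₀.toScheme := (O₀.ι ⁻¹' (O : Set P))ᶜ
  have hC : IsClosed C := (O.isOpen.preimage O₀.ι.continuous).isClosed_compl
  have hD : IsClosed ((O₀.ι ≫ π) '' C) := (O₀.ι ≫ π).isClosedMap _ hC
  refine ⟨⟨((O₀.ι ≫ π) '' C)ᶜ, hD.isOpen_compl⟩, ?_, ?_⟩
  · rintro ⟨u, hu, hutb⟩
    obtain ⟨t', ht'⟩ := exists_gpts_of_mem_fibre Ω (O₀.ι ≫ π) tb u hutb
    apply hu
    change O₀.ι u ∈ O
    rw [← ht']
    change (t'.1 ≫ O₀.ι) (closedPoint Ω) ∈ O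
    rw [huniq t']
    exact hzO
  · intro u hu₀ huT
    by_contra hn
    exact huT ⟨⟨u, hu₀⟩, hn, rfl⟩

set_option backward.isDefEq.respectTransparency.types false in
/-- a finite open piece inside a finite open piece is a clopen summand -/
theorem split_off {P T : Scheme.{u}} (π : P ⟶ T) (O O₀ : P.Opens) (hle : O₀ ≤ O)
    (hfin : IsFinite (O.ι ≫ π)) (hfin₀ : IsFinite (O₀.ι ≫ π)) :
    ∃ B : P.Opens, O = O₀ ⊔ B ∧ O₀ ⊓ B = ⊥ ∧ IsFinite (B.ι ≫ π) := by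
  -- `O₀` is closed in `O`
  have h1 : P.homOfLE hle ≫ O.ι ≫ π = O₀.ι ≫ π := by
    rw [← Category.assoc, Scheme.homOfLE_ι]
  haveI : IsFinite (P.homOfLE hle ≫ O.ι ≫ π) := by rw [h1]; exact hfin₀
  haveI : IsFinite (O.ι ≫ π) := hfin
  haveI : IsFinite (P.homOfLE hle) := IsFinite.of_comp _ (O.ι ≫ π)
  have hcl : IsClosed (Set.range (P.homOfLE hle)) := (P.homOfLE hle).isClosedMap.isClosed_range
  have hrange : Set.range (P.homOfLE hle) = O.ι ⁻¹' (O₀ : Set P) := by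
    ext u
    constructor
    · rintro ⟨u₀, rfl⟩
      change (P.homOfLE hle ≫ O.ι) u₀ ∈ O₀
      rw [Scheme.homOfLE_ι]
      exact u₀.2
    · intro hu
      refine ⟨⟨u.1, hu⟩, ?_⟩
      apply O.ι.isOpenEmbedding.injective
      change (P.homOfLE hle ≫ O.ι) _ = _
      rw [Scheme.homOfLE_ι]
      rfl
  -- the complement
  have hopen : IsOpen ((O : Set P) \ (O₀ : Set P)) := by
    have h2 : (O : Set P) \ (O₀ : Set P) = O.ι '' (Set.range (P.homOfLE hle))ᶜ := by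
      rw [hrange]
      ext x
      constructor
      · rintro ⟨hx, hx₀⟩
        exact ⟨⟨x, hx⟩, hx₀, rfl⟩
      · rintro ⟨u, hu, rfl⟩
        exact ⟨u.2, hu⟩
    rw [h2]
    exact O.ι.isOpenEmbedding.isOpenMap _ hcl.isOpen_compl
  let B : P.Opens := ⟨(O : Set P) \ (O₀ : Set P), hopen⟩
  have hBO : B ≤ O := fun x hx => hx.1
  refine ⟨B, ?_, ?_, ?_⟩
  · apply le_antisymm
    · intro x hx
      by_cases hx₀ : x ∈ O₀
      · exact Or.inl hx₀
      · exact Or.inr ⟨hx, hx₀⟩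
    · exact sup_le hle hBO
  · ext x
    simp only [TopologicalSpace.Opens.coe_inf, Set.mem_inter_iff, SetLike.mem_coe,
      TopologicalSpace.Opens.coe_bot, Set.mem_empty_iff_false, iff_false, not_and]
    intro hx₀ hxB
    exact hxB.2 hx₀
  · have hclB : IsClosed (Set.range (P.homOfLE hBO)) := by
      have : Set.range (P.homOfLE hBO) = (O.ι ⁻¹' (O₀ : Set P))ᶜ := by
        ext u
        constructor
        · rintro ⟨b, rfl⟩
          have hb : (P.homOfLE hBO ≫ O.ι) b ∈ B := by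
            rw [Scheme.homOfLE_ι]; exact b.2
          exact hb.2
        · intro hu
          refine ⟨⟨u.1, u.2, hu⟩, ?_⟩
          apply O.ι.isOpenEmbedding.injective
          change (P.homOfLE hBO ≫ O.ι) _ = _
          rw [Scheme.homOfLE_ι]
          rfl
      rw [this]
      exact (O₀.isOpen.preimage O.ι.continuous).isClosed_compl
    haveI : IsClosedImmersion (P.homOfLE hBO) := IsClosedImmersion.of_isPreimmersion _ hclB
    have h3 : P.homOfLE hBO ≫ O.ι ≫ π = B.ι ≫ π := by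
      rw [← Category.assoc, Scheme.homOfLE_ι]
    rw [← h3]
    infer_instance

lemma fibreIntegral_eq_zero_of_not_mem_range {U V : Scheme.{u}} (π : U ⟶ V) (w : U → ℤ) (v : V)
    (hv : v ∉ Set.range π) : MoreMor.fibreIntegral π w v = 0 := by
  unfold MoreMor.fibreIntegral
  haveI : IsEmpty {u : U // π u = v} := ⟨fun u => hv ⟨u.1, u.2⟩⟩
  exact finsum_of_isEmpty _

set_option backward.isDefEq.respectTransparency.types false in
theorem bc_aux {X Y : Scheme.{u}} (f : X ⟶ Y) [LocallyQuasiFinite f] [LocallyOfFiniteType f]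
    (w : X → ℤ) (hw : MoreMor.IsWeighting f w) (n : ℕ) :
    ∀ {T P : Scheme.{u}} (G : T ⟶ Y) (h : P ⟶ X) (π : P ⟶ T) (_ : IsPullback h π f G)
      (O : P.Opens) (_ : IsFinite (O.ι ≫ π)) (Ω : Type u) [Field Ω] [IsAlgClosed Ω]
      (tb : Spec (.of Ω) ⟶ T), Nat.card (GPts Ω (O.ι ≫ π) tb) = n →
      ∃ N : Set T, IsOpen N ∧ tb (closedPoint Ω) ∈ N ∧ ∀ v ∈ N,
        MoreMor.fibreIntegral (O.ι ≫ π) (w ∘ ⇑h ∘ ⇑O.ι) v =
          MoreMor.fibreIntegral (O.ι ≫ π) (w ∘ ⇑h ∘ ⇑O.ι) (tb (closedPoint Ω)) := by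
  induction n using Nat.strong_induction_on with
  | _ n ih =>
  intro T P G h π hc O hfin Ω _ _ tb hn
  haveI : LocallyQuasiFinite π := MorphismProperty.of_isPullback hc ‹_›
  have hfib : ∀ v : T, ((O.ι ≫ π) ⁻¹' {v}).Finite := fun v =>
    Scheme.Hom.finite_preimage_singleton _ v
  haveI : Finite (GPts Ω (O.ι ≫ π) tb) := finite_gpts Ω (O.ι ≫ π) tb (hfib _)
  rcases Nat.eq_zero_or_pos n with h0 | hpos_n
  · subst h0
    have hempty : IsEmpty (GPts Ω (O.ι ≫ π) tb) := by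
      rcases Nat.card_eq_zero.mp hn with h | h
      · exact h
      · exact absurd ‹Finite (GPts Ω (O.ι ≫ π) tb)› (not_finite_iff_infinite.mpr h)
    have hnot : tb (closedPoint Ω) ∉ Set.range (O.ι ≫ π) := by
      rintro ⟨u, hu⟩
      obtain ⟨t, -⟩ := exists_gpts_of_mem_fibre Ω (O.ι ≫ π) tb u hu
      exact hempty.false t
    have hclosed : IsClosed (Set.range (O.ι ≫ π)) := (O.ι ≫ π).isClosedMap.isClosed_range
    refine ⟨(Set.range (O.ι ≫ π))ᶜ, hclosed.isOpen_compl, hnot, ?_⟩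
    intro v hv
    rw [fibreIntegral_eq_zero_of_not_mem_range _ _ v hv,
      fibreIntegral_eq_zero_of_not_mem_range _ _ _ hnot]
  · obtain ⟨⟨t, htπ⟩⟩ : Nonempty (GPts Ω (O.ι ≫ π) tb) := by
      rw [← Finite.card_pos_iff, hn]; exact hpos_n
    obtain ⟨s, hs⟩ : ∃ s : Spec (.of Ω) ⟶ X, s = t ≫ O.ι ≫ h := ⟨_, rfl⟩
    obtain ⟨V, g, hg, O₀, t₀, hfin₀, ht₀, huniq₀⟩ := exists_etale_unique_gpt_opens f s
    have hlc₀ : IsLocallyConstant (MoreMor.fibreIntegral (O₀.ι ≫ pullback.snd f g)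
        (w ∘ ⇑(pullback.fst f g) ∘ ⇑O₀.ι)) := hw V g O₀ hfin₀
    obtain ⟨vb, hvb⟩ : ∃ vb : Spec (.of Ω) ⟶ V, vb = t₀ ≫ O₀.ι ≫ pullback.snd f g := ⟨_, rfl⟩
    have hsf : s ≫ f = tb ≫ G := by
      rw [hs, ← htπ]
      simp only [Category.assoc, hc.w]
    have hvbG : tb ≫ G = vb ≫ g := by
      rw [hvb, ← hsf, ← ht₀]
      simp only [Category.assoc, pullback.condition]
    -- the étale cover of the base
    obtain ⟨a, ha⟩ : ∃ a : pullback G g ⟶ T, a = pullback.fst G g := ⟨_, rfl⟩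
    obtain ⟨b, hb⟩ : ∃ b : pullback G g ⟶ V, b = pullback.snd G g := ⟨_, rfl⟩
    haveI : Etale a := by rw [ha]; infer_instance
    have hab : b ≫ g = a ≫ G := by rw [ha, hb]; exact pullback.condition.symm
    obtain ⟨tb2, htb2a, htb2b⟩ : ∃ tb2 : Spec (.of Ω) ⟶ pullback G g, tb2 ≫ a = tb ∧ tb2 ≫ b = vb :=
      ⟨pullback.lift tb vb hvbG, by rw [ha]; exact pullback.lift_fst _ _ _,
        by rw [hb]; exact pullback.lift_snd _ _ _⟩
    -- the pullback over the cover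
    have hc2 := IsPullback.of_hasPullback f (a ≫ G)
    obtain ⟨ca, hca₁, hca₂⟩ : ∃ ca : pullback f (a ≫ G) ⟶ P,
        ca ≫ h = pullback.fst f (a ≫ G) ∧ ca ≫ π = pullback.snd f (a ≫ G) ≫ a :=
      ⟨hc.lift (pullback.fst f (a ≫ G)) (pullback.snd f (a ≫ G) ≫ a)
        (by rw [pullback.condition, Category.assoc]), hc.lift_fst _ _ _, hc.lift_snd _ _ _⟩
    obtain ⟨cb, hcb₁, hcb₂⟩ : ∃ cb : pullback f (a ≫ G) ⟶ pullback f g,
        cb ≫ pullback.fst f g = pullback.fst f (a ≫ G) ∧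
        cb ≫ pullback.snd f g = pullback.snd f (a ≫ G) ≫ b :=
      ⟨pullback.lift (pullback.fst f (a ≫ G)) (pullback.snd f (a ≫ G) ≫ b)
        (by rw [pullback.condition, Category.assoc, hab]),
        pullback.lift_fst _ _ _, pullback.lift_snd _ _ _⟩
    have hpbO := isPullback_restrict hc hc2 a rfl ca hca₁ hca₂ O
    have hpbO₀ := isPullback_restrict (IsPullback.of_hasPullback f g) hc2 b hab cb hcb₁ hcb₂ O₀
    have hfinO2 : IsFinite ((ca ⁻¹ᵁ O).ι ≫ pullback.snd f (a ≫ G)) :=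
      MorphismProperty.of_isPullback hpbO hfin
    have hfinO₀2 : IsFinite ((cb ⁻¹ᵁ O₀).ι ≫ pullback.snd f (a ≫ G)) :=
      MorphismProperty.of_isPullback hpbO₀ hfin₀
    -- the distinguished geometric point
    obtain ⟨z, hz₁, hz₂⟩ : ∃ z : Spec (.of Ω) ⟶ pullback f (a ≫ G),
        z ≫ pullback.fst f (a ≫ G) = s ∧ z ≫ pullback.snd f (a ≫ G) = tb2 :=
      ⟨pullback.lift s tb2 (by rw [← Category.assoc, htb2a, hsf]), pullback.lift_fst _ _ _,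
        pullback.lift_snd _ _ _⟩
    have hzca : z ≫ ca = t ≫ O.ι := by
      apply hc.hom_ext
      · rw [Category.assoc, hca₁, hz₁, hs, Category.assoc]
      · rw [Category.assoc, hca₂, ← Category.assoc, hz₂, htb2a, Category.assoc]; exact htπ.symm
    have hzcb : z ≫ cb = t₀ ≫ O₀.ι := by
      apply pullback.hom_ext
      · rw [Category.assoc, hcb₁, hz₁, Category.assoc, ht₀]
      · rw [Category.assoc, hcb₂, ← Category.assoc, hz₂, htb2b, hvb, Category.assoc]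
    have hzO : z (closedPoint Ω) ∈ ca ⁻¹ᵁ O := by
      change (z ≫ ca) (closedPoint Ω) ∈ O
      rw [hzca]
      exact (t (closedPoint Ω)).2
    -- the geometric points of the reference piece over the cover
    have huniq2 : ∀ t' : GPts Ω ((cb ⁻¹ᵁ O₀).ι ≫ pullback.snd f (a ≫ G)) tb2,
        t'.1 ≫ (cb ⁻¹ᵁ O₀).ι = z := by
      rintro ⟨t', ht'⟩
      have h1 : (t' ≫ cb ∣_ O₀) ≫ O₀.ι ≫ pullback.snd f g = t₀ ≫ O₀.ι ≫ pullback.snd f g := by
        rw [Category.assoc, hpbO₀.w, ← Category.assoc, ht', htb2b, hvb]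
      have h2 := huniq₀ _ h1
      apply pullback.hom_ext
      · rw [hz₁, ← ht₀, ← h2, ← hcb₁]
        simp only [Category.assoc]
        rw [← Category.assoc (cb ∣_ O₀), morphismRestrict_ι]
        simp only [Category.assoc]
      · rw [hz₂, Category.assoc]; exact ht'
    haveI : LocallyQuasiFinite (pullback.snd f (a ≫ G)) := MorphismProperty.of_isPullback hc2 ‹_›
    obtain ⟨T₁, htbT₁, hT₁⟩ := shrink_compare (pullback.snd f (a ≫ G)) (ca ⁻¹ᵁ O) (cb ⁻¹ᵁ O₀)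
      hfinO₀2 tb2 z hzO huniq2
    -- restriction to the open `T₁`
    obtain ⟨tb1, htb1⟩ : ∃ tb1 : Spec (.of Ω) ⟶ T₁.toScheme, tb1 ≫ T₁.ι = tb2 := by
      refine ⟨IsOpenImmersion.lift T₁.ι tb2 ?_, IsOpenImmersion.lift_fac _ _ _⟩
      rintro _ ⟨x, rfl⟩
      have hx : x = closedPoint Ω := Subsingleton.elim _ _
      rw [hx, Scheme.Opens.range_ι]
      exact htbT₁
    have hc3 := IsPullback.of_hasPullback f (T₁.ι ≫ a ≫ G)
    obtain ⟨cj, hcj₁, hcj₂⟩ : ∃ cj : pullback f (T₁.ι ≫ a ≫ G) ⟶ pullback f (a ≫ G),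
        cj ≫ pullback.fst f (a ≫ G) = pullback.fst f (T₁.ι ≫ a ≫ G) ∧
        cj ≫ pullback.snd f (a ≫ G) = pullback.snd f (T₁.ι ≫ a ≫ G) ≫ T₁.ι :=
      ⟨pullback.lift (pullback.fst f (T₁.ι ≫ a ≫ G)) (pullback.snd f (T₁.ι ≫ a ≫ G) ≫ T₁.ι)
        (by rw [pullback.condition, Category.assoc]),
        pullback.lift_fst _ _ _, pullback.lift_snd _ _ _⟩
    -- notation for the two pieces over the cover
    obtain ⟨O2, hO2⟩ : ∃ O2 : (pullback f (a ≫ G)).Opens, O2 = ca ⁻¹ᵁ O := ⟨_, rfl⟩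
    obtain ⟨O₀2, hO₀2⟩ : ∃ O₀2 : (pullback f (a ≫ G)).Opens, O₀2 = cb ⁻¹ᵁ O₀ := ⟨_, rfl⟩
    rw [← hO2] at hfinO2 hT₁
    rw [← hO₀2] at hfinO₀2 hT₁
    have I_O2 : ∀ (w' : X → ℤ) (v' : ↥(pullback G g)),
        MoreMor.fibreIntegral (O2.ι ≫ pullback.snd f (a ≫ G))
          (w' ∘ ⇑(pullback.fst f (a ≫ G)) ∘ ⇑O2.ι) v' =
        MoreMor.fibreIntegral (O.ι ≫ π) (w' ∘ ⇑h ∘ ⇑O.ι) (a v') := by
      intro w' v'
      rw [hO2]
      exact fibreIntegral_restrict_base_change hc hc2 a rfl ca hca₁ hca₂ O hfin w' v'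
    have I_O₀2 : ∀ (w' : X → ℤ) (v' : ↥(pullback G g)),
        MoreMor.fibreIntegral (O₀2.ι ≫ pullback.snd f (a ≫ G))
          (w' ∘ ⇑(pullback.fst f (a ≫ G)) ∘ ⇑O₀2.ι) v' =
        MoreMor.fibreIntegral (O₀.ι ≫ pullback.snd f g)
          (w' ∘ ⇑(pullback.fst f g) ∘ ⇑O₀.ι) (b v') := by
      intro w' v'
      rw [hO₀2]
      exact fibreIntegral_restrict_base_change (IsPullback.of_hasPullback f g) hc2 b hab cb
        hcb₁ hcb₂ O₀ hfin₀ w' v'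
    -- the two pieces over `T₁`
    obtain ⟨O₁, hO₁⟩ : ∃ O₁ : (pullback f (T₁.ι ≫ a ≫ G)).Opens, O₁ = cj ⁻¹ᵁ O2 := ⟨_, rfl⟩
    obtain ⟨O₀₁, hO₀₁⟩ : ∃ O₀₁ : (pullback f (T₁.ι ≫ a ≫ G)).Opens, O₀₁ = cj ⁻¹ᵁ O₀2 := ⟨_, rfl⟩
    have hfinO₁ : IsFinite (O₁.ι ≫ pullback.snd f (T₁.ι ≫ a ≫ G)) := by
      rw [hO₁]
      exact MorphismProperty.of_isPullback
        (isPullback_restrict hc2 hc3 T₁.ι rfl cj hcj₁ hcj₂ O2) hfinO2
    have hfinO₀₁ : IsFinite (O₀₁.ι ≫ pullback.snd f (T₁.ι ≫ a ≫ G)) := by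
      rw [hO₀₁]
      exact MorphismProperty.of_isPullback
        (isPullback_restrict hc2 hc3 T₁.ι rfl cj hcj₁ hcj₂ O₀2) hfinO₀2
    have I_O₁ : ∀ (w' : X → ℤ) (v' : ↥T₁.toScheme),
        MoreMor.fibreIntegral (O₁.ι ≫ pullback.snd f (T₁.ι ≫ a ≫ G))
          (w' ∘ ⇑(pullback.fst f (T₁.ι ≫ a ≫ G)) ∘ ⇑O₁.ι) v' =
        MoreMor.fibreIntegral (O2.ι ≫ pullback.snd f (a ≫ G))
          (w' ∘ ⇑(pullback.fst f (a ≫ G)) ∘ ⇑O2.ι) (T₁.ι v') := by
      intro w' v'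
      rw [hO₁]
      exact fibreIntegral_restrict_base_change hc2 hc3 T₁.ι rfl cj hcj₁ hcj₂ O2 hfinO2 w' v'
    have I_O₀₁ : ∀ (w' : X → ℤ) (v' : ↥T₁.toScheme),
        MoreMor.fibreIntegral (O₀₁.ι ≫ pullback.snd f (T₁.ι ≫ a ≫ G))
          (w' ∘ ⇑(pullback.fst f (T₁.ι ≫ a ≫ G)) ∘ ⇑O₀₁.ι) v' =
        MoreMor.fibreIntegral (O₀2.ι ≫ pullback.snd f (a ≫ G))
          (w' ∘ ⇑(pullback.fst f (a ≫ G)) ∘ ⇑O₀2.ι) (T₁.ι v') := by
      intro w' v'
      rw [hO₀₁]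
      exact fibreIntegral_restrict_base_change hc2 hc3 T₁.ι rfl cj hcj₁ hcj₂ O₀2 hfinO₀2 w' v'
    have hle : O₀₁ ≤ O₁ := by
      intro u hu
      rw [hO₀₁] at hu
      rw [hO₁]
      refine hT₁ (cj u) hu ?_
      change (cj ≫ pullback.snd f (a ≫ G)) u ∈ T₁
      rw [hcj₂]
      exact ((pullback.snd f (T₁.ι ≫ a ≫ G)) u).2
    obtain ⟨B, hOB, hdisj, hfinB⟩ := split_off (pullback.snd f (T₁.ι ≫ a ≫ G)) O₁ O₀₁ hle
      hfinO₁ hfinO₀₁
    haveI : LocallyQuasiFinite (pullback.snd f (T₁.ι ≫ a ≫ G)) :=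
      MorphismProperty.of_isPullback hc3 ‹_›
    have hadd : ∀ (w' : X → ℤ) (v' : ↥T₁.toScheme),
        MoreMor.fibreIntegral (O₁.ι ≫ pullback.snd f (T₁.ι ≫ a ≫ G))
          (w' ∘ ⇑(pullback.fst f (T₁.ι ≫ a ≫ G)) ∘ ⇑O₁.ι) v' =
        MoreMor.fibreIntegral (O₀₁.ι ≫ pullback.snd f (T₁.ι ≫ a ≫ G))
          (w' ∘ ⇑(pullback.fst f (T₁.ι ≫ a ≫ G)) ∘ ⇑O₀₁.ι) v' +
        MoreMor.fibreIntegral (B.ι ≫ pullback.snd f (T₁.ι ≫ a ≫ G))
          (w' ∘ ⇑(pullback.fst f (T₁.ι ≫ a ≫ G)) ∘ ⇑B.ι) v' := by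
      intro w' v'
      haveI := hfinO₁
      exact fibreIntegral_add_of_opens (pullback.snd f (T₁.ι ≫ a ≫ G)) O₁ O₀₁ B hOB hdisj
        (w' ∘ ⇑(pullback.fst f (T₁.ι ≫ a ≫ G))) v'
        (Scheme.Hom.finite_preimage_singleton _ v')
    -- points
    have hp1 : T₁.ι (tb1 (closedPoint Ω)) = tb2 (closedPoint Ω) := by rw [← htb1]; rfl
    have hp2 : a (tb2 (closedPoint Ω)) = tb (closedPoint Ω) := by rw [← htb2a]; rfl
    have hp3 : b (tb2 (closedPoint Ω)) = vb (closedPoint Ω) := by rw [← htb2b]; rfl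
    -- the key formula
    have key : ∀ (w' : X → ℤ) (v' : ↥T₁.toScheme),
        MoreMor.fibreIntegral (O.ι ≫ π) (w' ∘ ⇑h ∘ ⇑O.ι) (a (T₁.ι v')) =
        MoreMor.fibreIntegral (O₀.ι ≫ pullback.snd f g)
          (w' ∘ ⇑(pullback.fst f g) ∘ ⇑O₀.ι) (b (T₁.ι v')) +
        MoreMor.fibreIntegral (B.ι ≫ pullback.snd f (T₁.ι ≫ a ≫ G))
          (w' ∘ ⇑(pullback.fst f (T₁.ι ≫ a ≫ G)) ∘ ⇑B.ι) v' := by
      intro w' v'
      rw [← I_O2, ← I_O₁, hadd, I_O₀₁, I_O₀2]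
    -- counting geometric points
    have hcnt : Nat.card (GPts Ω (B.ι ≫ pullback.snd f (T₁.ι ≫ a ≫ G)) tb1) < n := by
      have h1 := key (fun _ => 1) (tb1 (closedPoint Ω))
      rw [hp1, hp2, hp3] at h1
      have h2 := card_gpts_eq_fibreIntegral_one Ω (O.ι ≫ π) tb (hfib _)
      haveI := hfin₀
      have h3 := card_gpts_eq_fibreIntegral_one Ω (O₀.ι ≫ pullback.snd f g) vb
        (Scheme.Hom.finite_preimage_singleton _ _)
      haveI := hfinB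
      have h4 := card_gpts_eq_fibreIntegral_one Ω (B.ι ≫ pullback.snd f (T₁.ι ≫ a ≫ G)) tb1
        (Scheme.Hom.finite_preimage_singleton _ _)
      have h5 : Nat.card (GPts Ω (O₀.ι ≫ pullback.snd f g) vb) = 1 := by
        letI : Unique (GPts Ω (O₀.ι ≫ pullback.snd f g) vb) :=
          ⟨⟨⟨t₀, hvb.symm⟩⟩, fun t' => Subtype.ext (huniq₀ t'.1 (t'.2.trans hvb))⟩
        exact Nat.card_unique
      rw [hn] at h2
      rw [h5] at h3
      have h1' : MoreMor.fibreIntegral (O.ι ≫ π) (fun _ => 1) (tb (closedPoint Ω)) =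
          MoreMor.fibreIntegral (O₀.ι ≫ pullback.snd f g) (fun _ => 1) (vb (closedPoint Ω)) +
          MoreMor.fibreIntegral (B.ι ≫ pullback.snd f (T₁.ι ≫ a ≫ G)) (fun _ => 1)
            (tb1 (closedPoint Ω)) := h1
      rw [← h2, ← h3, ← h4] at h1'
      push_cast at h1'
      omega
    obtain ⟨N_B, hN_Bopen, htb1N, hN_B⟩ := ih _ hcnt (T₁.ι ≫ a ≫ G)
      (pullback.fst f (T₁.ι ≫ a ≫ G)) (pullback.snd f (T₁.ι ≫ a ≫ G)) hc3 B hfinB Ω tb1 rfl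
    -- the neighbourhood
    let N₀ : Set V := {v | MoreMor.fibreIntegral (O₀.ι ≫ pullback.snd f g)
      (w ∘ ⇑(pullback.fst f g) ∘ ⇑O₀.ι) v =
      MoreMor.fibreIntegral (O₀.ι ≫ pullback.snd f g)
        (w ∘ ⇑(pullback.fst f g) ∘ ⇑O₀.ι) (vb (closedPoint Ω))}
    have hN₀ : IsOpen N₀ := hlc₀.isOpen_fiber _
    let N₁ : Set T₁.toScheme := N_B ∩ (T₁.ι ≫ b) ⁻¹' N₀
    have hN₁ : IsOpen N₁ := hN_Bopen.inter (hN₀.preimage (T₁.ι ≫ b).continuous)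
    have htb1N₁ : tb1 (closedPoint Ω) ∈ N₁ := by
      refine ⟨htb1N, ?_⟩
      change MoreMor.fibreIntegral _ _ (b (T₁.ι (tb1 (closedPoint Ω)))) = _
      rw [hp1, hp3]
    refine ⟨(T₁.ι ≫ a) '' N₁, (T₁.ι ≫ a).isOpenMap _ hN₁, ⟨tb1 (closedPoint Ω), htb1N₁, ?_⟩, ?_⟩
    · change a (T₁.ι (tb1 (closedPoint Ω))) = _
      rw [hp1, hp2]
    · rintro _ ⟨v₁, ⟨hv₁B, hv₁0⟩, rfl⟩
      change MoreMor.fibreIntegral _ _ (a (T₁.ι v₁)) = _
      rw [key w v₁, hN_B v₁ hv₁B]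
      have h7 : MoreMor.fibreIntegral (O₀.ι ≫ pullback.snd f g)
          (w ∘ ⇑(pullback.fst f g) ∘ ⇑O₀.ι) (b (T₁.ι v₁)) = _ := hv₁0
      rw [h7]
      have h8 := key w (tb1 (closedPoint Ω))
      rw [hp1, hp2, hp3] at h8
      exact h8.symm

/-- local constancy of the fibre integral of a weighting over a finite open piece of an arbitrary
base change -/
theorem isLocallyConstant_base_change {X Y : Scheme.{u}} (f : X ⟶ Y) [LocallyQuasiFinite f]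
    [LocallyOfFiniteType f] (w : X → ℤ) (hw : MoreMor.IsWeighting f w)
    {T P : Scheme.{u}} (G : T ⟶ Y) (h : P ⟶ X) (π : P ⟶ T) (hc : IsPullback h π f G)
    (O : P.Opens) (hfin : IsFinite (O.ι ≫ π)) :
    IsLocallyConstant (MoreMor.fibreIntegral (O.ι ≫ π) (w ∘ ⇑h ∘ ⇑O.ι)) := by
  rw [IsLocallyConstant.iff_exists_open]
  intro v
  obtain ⟨Ω, _, _, tb, rfl⟩ := exists_geometric_point v
  obtain ⟨N, hN, htb, hconst⟩ := bc_aux f w hw _ G h π hc O hfin Ω tb rfl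
  exact ⟨N, hN, htb, hconst⟩

/-- Stacks 0F3B: weightings are stable under arbitrary base change -/
theorem isWeighting_base_change {X Y : Scheme.{u}} (f : X ⟶ Y) [LocallyQuasiFinite f]
    [LocallyOfFiniteType f] (w : X → ℤ) (hw : MoreMor.IsWeighting f w)
    {X' Y' : Scheme.{u}} (f' : X' ⟶ Y') (h : X' ⟶ X) (g : Y' ⟶ Y) (hc : IsPullback h f' f g) :
    MoreMor.IsWeighting f' (w ∘ ⇑h) := by
  intro V' g' _ U' hfin'
  have hc' : IsPullback (pullback.fst f' g' ≫ h) (pullback.snd f' g') f (g' ≫ g) :=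
    (IsPullback.of_hasPullback f' g').paste_horiz hc
  exact isLocallyConstant_base_change f w hw (g' ≫ g) (pullback.fst f' g' ≫ h)
    (pullback.snd f' g') hc' U' hfin'

end Groth.Agent.Lib.Helper70.WeightingBC2
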