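import Mathlib
import Groth.Prelude.Def_MoreMor
import Groth.Agent.Lib.Helper70.WeightingBC2

open AlgebraicGeometry CategoryTheory Limits IsLocalRing

universe u

namespace Groth.Agent.Lib.Helper70.WeightingFinite

open Groth.Agent.Lib.Helper70.GeomPts Groth.Agent.Lib.Helper70.Weighting
  Groth.Agent.Lib.Helper70.WeightingLSC Groth.Agent.Lib.Helper70.UniquePoint
  Groth.Agent.Lib.Helper70.WeightingBC Groth.Agent.Lib.Helper70.WeightingBC2

/-- a single term is bounded by the fibre integral, for nonnegative functions -/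
lemma le_fibreIntegral {U V : Scheme.{u}} (q : U ⟶ V) [LocallyQuasiFinite q] (w : U → ℤ)
    (hw : ∀ u, 0 ≤ w u) (u : U) (hfib : (q ⁻¹' {q u}).Finite) :
    w u ≤ MoreMor.fibreIntegral q w (q u) := by
  classical
  unfold MoreMor.fibreIntegral
  haveI : Finite {u' : U // q u' = q u} := hfib.to_subtype
  have := Fintype.ofFinite {u' : U // q u' = q u}
  rw [finsum_eq_sum_of_fintype]
  refine le_trans ?_ (Finset.single_le_sum (f := fun u' : {u' : U // q u' = q u} =>
    w u'.1 * (letI := (q.residueFieldMap u'.1).hom.toAlgebra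
      (Field.finSepDegree (V.residueField (q u'.1)) (U.residueField u'.1) : ℤ)))
    (fun i _ => mul_nonneg (hw _) (Int.natCast_nonneg _)) (Finset.mem_univ ⟨u, rfl⟩))
  letI := (q.residueFieldMap u).hom.toAlgebra
  haveI : Module.Finite (V.residueField (q u)) (U.residueField u) := finite_residueFieldMap q u
  have h1 : 1 ≤ Field.finSepDegree (V.residueField (q u)) (U.residueField u) :=
    Nat.one_le_iff_ne_zero.mpr (NeZero.ne _)
  have h2 : (1 : ℤ) ≤ (Field.finSepDegree (V.residueField (q u)) (U.residueField u) : ℤ) := by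
    exact_mod_cast h1
  have h3 := hw u
  change w u ≤ w u * _
  nlinarith

set_option backward.isDefEq.respectTransparency.types false in
/-- a morphism which is finite on two complementary opens is finite -/
lemma isFinite_of_isCompl {Q T : Scheme.{u}} (π : Q ⟶ T) (A B : Q.Opens) (hAB : IsCompl A B)
    (hA : IsFinite (A.ι ≫ π)) (hB : IsFinite (B.ι ≫ π)) : IsFinite π := by
  obtain ⟨H⟩ := nonempty_isColimit_binaryCofanMk_of_isCompl A.ι B.ι (by simpa using hAB)
  let e : A.toScheme ⨿ B.toScheme ≅ Q :=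
    (colimit.isColimit (pair A.toScheme B.toScheme)).coconePointUniqueUpToIso H
  have h1 : coprod.inl ≫ e.hom = A.ι :=
    (colimit.isColimit (pair A.toScheme B.toScheme)).comp_coconePointUniqueUpToIso_hom H
      ⟨WalkingPair.left⟩
  have h2 : coprod.inr ≫ e.hom = B.ι :=
    (colimit.isColimit (pair A.toScheme B.toScheme)).comp_coconePointUniqueUpToIso_hom H
      ⟨WalkingPair.right⟩
  have h3 : e.hom ≫ π = coprod.desc (A.ι ≫ π) (B.ι ≫ π) := by
    apply coprod.hom_ext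
    · rw [← Category.assoc, h1, coprod.inl_desc]
    · rw [← Category.assoc, h2, coprod.inr_desc]
  rw [← MorphismProperty.cancel_left_of_respectsIso @IsFinite e.hom, h3]
  infer_instance

lemma isFinite_of_isEmpty {Q T : Scheme.{u}} (π : Q ⟶ T) [IsEmpty Q] : IsFinite π := by
  haveI : IsClosedImmersion π := inferInstance
  infer_instance

lemma isCompl_preimage {P' P : Scheme.{u}} (c : P' ⟶ P) (A B : P.Opens) (h : IsCompl A B) :
    IsCompl (c ⁻¹ᵁ A) (c ⁻¹ᵁ B) := by
  rw [isCompl_iff, disjoint_iff, codisjoint_iff]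
  constructor
  · ext x
    simp only [TopologicalSpace.Opens.coe_inf, Set.mem_inter_iff, SetLike.mem_coe,
      TopologicalSpace.Opens.coe_bot, Set.mem_empty_iff_false, iff_false, not_and]
    intro ha hb
    have : c x ∈ (A ⊓ B : P.Opens) := ⟨ha, hb⟩
    rw [h.inf_eq_bot] at this
    exact this
  · ext x
    simp only [TopologicalSpace.Opens.coe_sup, Set.mem_union, SetLike.mem_coe,
      TopologicalSpace.Opens.coe_top, Set.mem_univ, iff_true]
    have : c x ∈ (A ⊔ B : P.Opens) := by rw [h.sup_eq_top]; trivial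
    exact this

set_option backward.isDefEq.respectTransparency.types false in
theorem fin_aux (n : ℕ) : ∀ {X Y : Scheme.{u}} (f : X ⟶ Y) [LocallyQuasiFinite f]
    [LocallyOfFiniteType f] [IsSeparated f] (_ : ∀ y : Y, (f ⁻¹' {y}).Finite) (w : X → ℤ)
    (_ : MoreMor.IsWeighting f w) (_ : ∀ x, 0 < w x) (d : ℤ)
    (_ : ∀ y : Y, MoreMor.fibreIntegral f w y ≤ d)
    (Ω : Type u) [Field Ω] [IsAlgClosed Ω] (yb : Spec (.of Ω) ⟶ Y),
    MoreMor.fibreIntegral f w (yb (closedPoint Ω)) = d →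
    Nat.card (GPts Ω f yb) = n →
    ∃ (V : Scheme.{u}) (g : V ⟶ Y) (_ : Etale g) (v : V), g v = yb (closedPoint Ω) ∧
      IsFinite (pullback.snd f g) := by
  induction n using Nat.strong_induction_on with
  | _ n ih =>
  intro X Y f _ _ _ hfin w hw hpos d hmax Ω _ _ yb hd hn
  haveI : Finite (GPts Ω f yb) := finite_gpts Ω f yb (hfin _)
  rcases Nat.eq_zero_or_pos n with h0 | hpos_n
  · subst h0
    have hempty : IsEmpty (GPts Ω f yb) := by
      rcases Nat.card_eq_zero.mp hn with h | h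
      · exact h
      · exact absurd ‹Finite (GPts Ω f yb)› (not_finite_iff_infinite.mpr h)
    have h1 : MoreMor.fibreIntegral f w (yb (closedPoint Ω)) = 0 := by
      rw [fibreIntegral_eq_finsum_gpts Ω f w yb (hfin _) (fun u _ => finite_residueFieldMap f u)]
      exact finsum_of_isEmpty _
    have hX : IsEmpty X := by
      constructor
      intro x
      have h2 := le_fibreIntegral f w (fun u => (hpos u).le) x (hfin _)
      have h3 := hmax (f x)
      have h4 := hpos x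
      rw [← hd, h1] at h3
      omega
    haveI : IsEmpty ↥(pullback f (𝟙 Y)) := ⟨fun z => hX.false (pullback.fst f (𝟙 Y) z)⟩
    exact ⟨Y, 𝟙 Y, inferInstance, yb (closedPoint Ω), rfl, isFinite_of_isEmpty _⟩
  · obtain ⟨t⟩ : Nonempty (GPts Ω f yb) := by
      rw [← Finite.card_pos_iff, hn]; exact hpos_n
    obtain ⟨x, hxdef⟩ : ∃ x : X, x = t.1 (closedPoint Ω) := ⟨_, rfl⟩
    have hx : f x = yb (closedPoint Ω) := by
      rw [hxdef]
      exact congrArg (fun s : Spec (.of Ω) ⟶ Y => s (closedPoint Ω)) t.2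
    obtain ⟨V₁, g₁, hg₁, -, A, B, a, hAB, hfinA, ha⟩ :=
      exists_etale_isCompl_of_quasiFiniteAt f hx (f.quasiFiniteAt x)
    haveI : LocallyQuasiFinite g₁ := locallyQuasiFinite_of_etale g₁
    obtain ⟨v₀, hv₀def⟩ : ∃ v₀ : V₁, v₀ = pullback.snd f g₁ a.1 := ⟨_, rfl⟩
    have hgv₀ : g₁ v₀ = yb (closedPoint Ω) := by
      rw [hv₀def, ← hx, ← ha, ← Scheme.Hom.comp_apply, ← Scheme.Hom.comp_apply, pullback.condition]
    obtain ⟨⟨vb₁, hvb₁g⟩, hvb₁⟩ := exists_gpts_of_mem_fibre Ω g₁ yb v₀ hgv₀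
    change vb₁ (closedPoint Ω) = v₀ at hvb₁
    have hlcA : IsLocallyConstant (MoreMor.fibreIntegral (A.ι ≫ pullback.snd f g₁)
        (w ∘ ⇑(pullback.fst f g₁) ∘ ⇑A.ι)) := hw V₁ g₁ A hfinA
    let N : V₁.Opens := ⟨{v | MoreMor.fibreIntegral (A.ι ≫ pullback.snd f g₁)
        (w ∘ ⇑(pullback.fst f g₁) ∘ ⇑A.ι) v =
      MoreMor.fibreIntegral (A.ι ≫ pullback.snd f g₁)
        (w ∘ ⇑(pullback.fst f g₁) ∘ ⇑A.ι) v₀}, hlcA.isOpen_fiber _⟩
    have hv₀N : v₀ ∈ N := rfl
    have hc1 := IsPullback.of_hasPullback f g₁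
    have hc1' := IsPullback.of_hasPullback f (N.ι ≫ g₁)
    obtain ⟨c, hc₁, hc₂⟩ : ∃ c : pullback f (N.ι ≫ g₁) ⟶ pullback f g₁,
        c ≫ pullback.fst f g₁ = pullback.fst f (N.ι ≫ g₁) ∧
        c ≫ pullback.snd f g₁ = pullback.snd f (N.ι ≫ g₁) ≫ N.ι :=
      ⟨pullback.lift (pullback.fst f (N.ι ≫ g₁)) (pullback.snd f (N.ι ≫ g₁) ≫ N.ι)
        (by rw [pullback.condition, Category.assoc]),
        pullback.lift_fst _ _ _, pullback.lift_snd _ _ _⟩
    obtain ⟨A', hA'⟩ : ∃ A' : (pullback f (N.ι ≫ g₁)).Opens, A' = c ⁻¹ᵁ A := ⟨_, rfl⟩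
    obtain ⟨B', hB'⟩ : ∃ B' : (pullback f (N.ι ≫ g₁)).Opens, B' = c ⁻¹ᵁ B := ⟨_, rfl⟩
    have hAB' : IsCompl A' B' := by rw [hA', hB']; exact isCompl_preimage c A B hAB
    have hfinA' : IsFinite (A'.ι ≫ pullback.snd f (N.ι ≫ g₁)) := by
      rw [hA']
      exact MorphismProperty.of_isPullback
        (isPullback_restrict hc1 hc1' N.ι rfl c hc₁ hc₂ A) hfinA
    have I_A' : ∀ (w' : X → ℤ) (v' : ↥N.toScheme),
        MoreMor.fibreIntegral (A'.ι ≫ pullback.snd f (N.ι ≫ g₁))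
          (w' ∘ ⇑(pullback.fst f (N.ι ≫ g₁)) ∘ ⇑A'.ι) v' =
        MoreMor.fibreIntegral (A.ι ≫ pullback.snd f g₁)
          (w' ∘ ⇑(pullback.fst f g₁) ∘ ⇑A.ι) (N.ι v') := by
      intro w' v'
      rw [hA']
      exact fibreIntegral_restrict_base_change hc1 hc1' N.ι rfl c hc₁ hc₂ A hfinA w' v'
    haveI : LocallyQuasiFinite (pullback.snd f (N.ι ≫ g₁)) :=
      MorphismProperty.of_isPullback hc1' ‹_›
    have hfinπ' : ∀ v', ((pullback.snd f (N.ι ≫ g₁)) ⁻¹' {v'}).Finite :=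
      finite_fibre_of_isPullback f hfin _ _ _ hc1'
    have hbc' : ∀ (w' : X → ℤ) (v' : ↥N.toScheme),
        MoreMor.fibreIntegral (pullback.snd f (N.ι ≫ g₁))
          (w' ∘ ⇑(pullback.fst f (N.ι ≫ g₁))) v' =
        MoreMor.fibreIntegral f w' ((N.ι ≫ g₁) v') := fun w' v' =>
      fibreIntegral_base_change f hfin _ _ _ hc1' w' v'
    have hadd' : ∀ (w'' : ↥(pullback f (N.ι ≫ g₁)) → ℤ) (v' : ↥N.toScheme),
        MoreMor.fibreIntegral (pullback.snd f (N.ι ≫ g₁)) w'' v' =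
        MoreMor.fibreIntegral (A'.ι ≫ pullback.snd f (N.ι ≫ g₁)) (w'' ∘ ⇑A'.ι) v' +
        MoreMor.fibreIntegral (B'.ι ≫ pullback.snd f (N.ι ≫ g₁)) (w'' ∘ ⇑B'.ι) v' :=
      fun w'' v' => fibreIntegral_add_of_isCompl _ A' B' hAB' w'' v' (hfinπ' v')
    -- the restricted complement
    obtain ⟨fB, hfB⟩ : ∃ fB : B'.toScheme ⟶ N.toScheme,
        fB = B'.ι ≫ pullback.snd f (N.ι ≫ g₁) := ⟨_, rfl⟩
    haveI : LocallyQuasiFinite fB := by rw [hfB]; infer_instance
    haveI : LocallyOfFiniteType fB := by rw [hfB]; infer_instance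
    haveI : IsSeparated fB := by rw [hfB]; infer_instance
    have hwB : MoreMor.IsWeighting fB
        ((w ∘ ⇑(pullback.fst f (N.ι ≫ g₁))) ∘ ⇑B'.ι) := by
      rw [hfB]
      exact isWeighting_transfer f w hw (N.ι ≫ g₁) (B'.ι ≫ pullback.snd f (N.ι ≫ g₁)) B'.ι rfl
    have hfinB : ∀ v', (fB ⁻¹' {v'}).Finite := by
      intro v'
      rw [hfB]
      exact finite_fibre_open_comp _ B' v' (hfinπ' v')
    obtain ⟨dA, hdA⟩ : ∃ dA : ℤ, dA = MoreMor.fibreIntegral (A.ι ≫ pullback.snd f g₁)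
        (w ∘ ⇑(pullback.fst f g₁) ∘ ⇑A.ι) v₀ := ⟨_, rfl⟩
    have hFA' : ∀ v' : ↥N.toScheme, MoreMor.fibreIntegral (A'.ι ≫ pullback.snd f (N.ι ≫ g₁))
        (w ∘ ⇑(pullback.fst f (N.ι ≫ g₁)) ∘ ⇑A'.ι) v' = dA := by
      intro v'
      rw [I_A' w v', hdA]
      exact v'.2
    have hsplit : ∀ v' : ↥N.toScheme, MoreMor.fibreIntegral f w ((N.ι ≫ g₁) v') =
        dA + MoreMor.fibreIntegral fB ((w ∘ ⇑(pullback.fst f (N.ι ≫ g₁))) ∘ ⇑B'.ι) v' := by
      intro v'
      rw [← hbc' w v', hadd' _ v', hfB]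
      congr 1
      exact hFA' v'
    have hmaxB : ∀ v' : ↥N.toScheme,
        MoreMor.fibreIntegral fB ((w ∘ ⇑(pullback.fst f (N.ι ≫ g₁))) ∘ ⇑B'.ι) v' ≤ d - dA := by
      intro v'
      have h1 := hsplit v'
      have h2 := hmax ((N.ι ≫ g₁) v')
      omega
    -- the geometric point of `N`
    obtain ⟨vb₁', hvb₁'⟩ : ∃ vb₁' : Spec (.of Ω) ⟶ N.toScheme, vb₁' ≫ N.ι = vb₁ := by
      refine ⟨IsOpenImmersion.lift N.ι vb₁ ?_, IsOpenImmersion.lift_fac _ _ _⟩
      rintro _ ⟨z, rfl⟩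
      have hz : z = closedPoint Ω := Subsingleton.elim _ _
      rw [hz, Scheme.Opens.range_ι, hvb₁]
      exact hv₀N
    have hp1 : N.ι (vb₁' (closedPoint Ω)) = v₀ := by rw [← hvb₁, ← hvb₁']; rfl
    have hp2 : (N.ι ≫ g₁) (vb₁' (closedPoint Ω)) = yb (closedPoint Ω) := by
      change g₁ (N.ι (vb₁' (closedPoint Ω))) = _
      rw [hp1, hgv₀]
    have hdB : MoreMor.fibreIntegral fB ((w ∘ ⇑(pullback.fst f (N.ι ≫ g₁))) ∘ ⇑B'.ι)
        (vb₁' (closedPoint Ω)) = d - dA := by
      have h1 := hsplit (vb₁' (closedPoint Ω))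
      rw [hp2, hd] at h1
      omega
    -- counting geometric points
    have hcnt : Nat.card (GPts Ω fB vb₁') < n := by
      have h1 := hadd' (fun _ => 1) (vb₁' (closedPoint Ω))
      have h2 := hbc' (fun _ => 1) (vb₁' (closedPoint Ω))
      have h3 := I_A' (fun _ => 1) (vb₁' (closedPoint Ω))
      rw [hp2] at h2
      rw [hp1] at h3
      have k1 := card_gpts_eq_fibreIntegral_one Ω f yb (hfin _)
      haveI := hfinA
      have k2 := card_gpts_eq_fibreIntegral_one Ω (A.ι ≫ pullback.snd f g₁) vb₁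
        (Scheme.Hom.finite_preimage_singleton _ _)
      have k3 := card_gpts_eq_fibreIntegral_one Ω fB vb₁' (hfinB _)
      rw [hvb₁] at k2
      rw [hfB] at k3
      have hposA : 0 < Nat.card (GPts Ω (A.ι ≫ pullback.snd f g₁) vb₁) := by
        have haV : (A.ι ≫ pullback.snd f g₁) a = vb₁ (closedPoint Ω) := by
          rw [hvb₁, hv₀def]; rfl
        obtain ⟨tA, -⟩ := exists_gpts_of_mem_fibre Ω (A.ι ≫ pullback.snd f g₁) vb₁ a haV
        haveI : Finite (GPts Ω (A.ι ≫ pullback.snd f g₁) vb₁) :=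
          finite_gpts Ω _ vb₁ (Scheme.Hom.finite_preimage_singleton _ _)
        exact Finite.card_pos_iff.mpr ⟨tA⟩
      have e1 : MoreMor.fibreIntegral f (fun _ => 1) (yb (closedPoint Ω)) =
          MoreMor.fibreIntegral (A.ι ≫ pullback.snd f g₁) (fun _ => 1) v₀ +
          MoreMor.fibreIntegral (B'.ι ≫ pullback.snd f (N.ι ≫ g₁)) (fun _ => 1)
            (vb₁' (closedPoint Ω)) := by
        have h2' : MoreMor.fibreIntegral (pullback.snd f (N.ι ≫ g₁)) (fun _ => 1)
            (vb₁' (closedPoint Ω)) = MoreMor.fibreIntegral f (fun _ => 1)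
              (yb (closedPoint Ω)) := h2
        have h3' : MoreMor.fibreIntegral (A'.ι ≫ pullback.snd f (N.ι ≫ g₁)) (fun _ => 1)
            (vb₁' (closedPoint Ω)) = MoreMor.fibreIntegral (A.ι ≫ pullback.snd f g₁)
              (fun _ => 1) v₀ := h3
        rw [← h2', ← h3']
        exact h1
      rw [← k1, ← k2, ← k3, hn] at e1
      push_cast at e1
      rw [hfB]
      omega
    obtain ⟨V₂, g₂, hg₂, v₂, hv₂, hfin₂⟩ := ih _ hcnt fB hfinB _ hwB (fun z => hpos _)
      (d - dA) hmaxB Ω vb₁' hdB rfl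
    refine ⟨V₂, g₂ ≫ N.ι ≫ g₁, inferInstance, v₂, ?_, ?_⟩
    · change (N.ι ≫ g₁) (g₂ v₂) = _
      rw [hv₂, hp2]
    · rw [← MorphismProperty.cancel_left_of_respectsIso @IsFinite
        (pullbackLeftPullbackSndIso f (N.ι ≫ g₁) g₂).hom, pullbackLeftPullbackSndIso_hom_snd]
      have hcQ := IsPullback.of_hasPullback (pullback.snd f (N.ι ≫ g₁)) g₂
      have hpbA := isPullback_restrict (IsPullback.id_horiz (pullback.snd f (N.ι ≫ g₁))) hcQ g₂
        (Category.comp_id g₂) (pullback.fst (pullback.snd f (N.ι ≫ g₁)) g₂)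
        (Category.comp_id _) pullback.condition A'
      have hpbB := isPullback_restrict (IsPullback.id_horiz (pullback.snd f (N.ι ≫ g₁))) hcQ g₂
        (Category.comp_id g₂) (pullback.fst (pullback.snd f (N.ι ≫ g₁)) g₂)
        (Category.comp_id _) pullback.condition B'
      refine isFinite_of_isCompl _ _ _
        (isCompl_preimage (pullback.fst (pullback.snd f (N.ι ≫ g₁)) g₂) A' B' hAB') ?_ ?_
      · exact MorphismProperty.of_isPullback hpbA hfinA'
      · rw [← hfB] at hpbB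
        rw [← hpbB.isoPullback_hom_snd]
        infer_instance

set_option backward.isDefEq.respectTransparency.types false in
/-- finiteness descends along étale surjections, for separated locally quasi-finite morphisms
locally of finite type -/
lemma isFinite_of_etale_cover {X Y V : Scheme.{u}} (f : X ⟶ Y) [IsSeparated f]
    [LocallyOfFiniteType f] [LocallyQuasiFinite f] (g : V ⟶ Y) [Etale g] [Surjective g]
    (h : IsFinite (pullback.snd f g)) : IsFinite f := by
  haveI : UniversallyClosed f :=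
    MorphismProperty.of_pullback_snd_of_descendsAlong (P := @UniversallyClosed)
      (Q := @Surjective ⊓ @Flat ⊓ @LocallyOfFinitePresentation) (f := f) (g := g)
      ⟨⟨(inferInstance : Surjective g), (inferInstance : Flat g)⟩,
        (inferInstance : LocallyOfFinitePresentation g)⟩
      (inferInstance : UniversallyClosed (pullback.snd f g))
  haveI : IsProper f := {}
  exact IsFinite.of_isProper_of_locallyQuasiFinite f

set_option backward.isDefEq.respectTransparency.types false in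
/-- a morphism which becomes finite after an étale base change is finite over the image -/
lemma isFinite_restrict_range {P T V : Scheme.{u}} (π : P ⟶ T) [IsSeparated π]
    [LocallyOfFiniteType π] [LocallyQuasiFinite π] (a : V ⟶ T) [Etale a]
    (h : IsFinite (pullback.snd π a)) :
    IsFinite (π ∣_ (⟨Set.range a, a.isOpenMap.isOpen_range⟩ : T.Opens)) := by
  obtain ⟨U, hU⟩ : ∃ U : T.Opens, U = ⟨Set.range a, a.isOpenMap.isOpen_range⟩ := ⟨_, rfl⟩
  rw [← hU]
  have hrange : Set.range a ⊆ Set.range U.ι := by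
    rw [Scheme.Opens.range_ι, hU]; rfl
  obtain ⟨a', ha'⟩ : ∃ a' : V ⟶ U.toScheme, a' ≫ U.ι = a :=
    ⟨IsOpenImmersion.lift U.ι a hrange, IsOpenImmersion.lift_fac _ _ _⟩
  -- `a'` is a base change of `a`
  have hpb : IsPullback (𝟙 V) a' a U.ι := by
    have h1 : IsPullback (𝟙 V) a' a' (𝟙 U.toScheme) := IsPullback.id_horiz a'
    have h2 : IsPullback (𝟙 U.toScheme) (𝟙 U.toScheme) U.ι U.ι :=
      (IsKernelPair.id_of_mono U.ι)
    have h3 := h1.paste_vert h2
    rw [Category.comp_id, ha'] at h3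
    exact h3
  haveI : Etale a' := MorphismProperty.of_isPullback hpb inferInstance
  haveI : Surjective a' := by
    constructor
    intro u
    have hmem : ∀ z : T, z ∈ U → z ∈ Set.range a := by
      intro z hz
      rw [hU] at hz
      exact hz
    have hu : U.ι u ∈ Set.range a := hmem _ u.2
    obtain ⟨v, hv⟩ := hu
    refine ⟨v, ?_⟩
    apply U.ι.isOpenEmbedding.injective
    rw [← hv, ← ha']
    rfl
  haveI : IsSeparated (π ∣_ U) := MorphismProperty.of_isPullback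
    (isPullback_morphismRestrict π U).flip inferInstance
  haveI : LocallyOfFiniteType (π ∣_ U) := MorphismProperty.of_isPullback
    (isPullback_morphismRestrict π U).flip inferInstance
  haveI : LocallyQuasiFinite (π ∣_ U) := MorphismProperty.of_isPullback
    (isPullback_morphismRestrict π U).flip inferInstance
  refine isFinite_of_etale_cover (π ∣_ U) a' ?_
  have h4 : IsPullback (pullback.fst (π ∣_ U) a' ≫ (π ⁻¹ᵁ U).ι) (pullback.snd (π ∣_ U) a') π
      (a' ≫ U.ι) :=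
    (IsPullback.of_hasPullback (π ∣_ U) a').paste_horiz (isPullback_morphismRestrict π U).flip
  have h5 : IsPullback (pullback.fst (π ∣_ U) a' ≫ (π ⁻¹ᵁ U).ι) (pullback.snd (π ∣_ U) a') π a := by
    rw [ha'] at h4
    exact h4
  rw [← h5.isoPullback_hom_snd]
  infer_instance

set_option backward.isDefEq.respectTransparency.types false in
/-- restriction of a restriction -/
lemma isFinite_restrict_restrict {X Y : Scheme.{u}} (f : X ⟶ Y) (Yd U : Y.Opens)
    (h : IsFinite (f ∣_ U)) : IsFinite ((f ∣_ Yd) ∣_ (Yd.ι ⁻¹ᵁ U)) := by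
  have hrange : Set.range ((Yd.ι ⁻¹ᵁ U).ι ≫ Yd.ι) ⊆ Set.range U.ι := by
    rintro _ ⟨z, rfl⟩
    rw [Scheme.Opens.range_ι]
    exact z.2
  obtain ⟨k, hk⟩ : ∃ k : (Yd.ι ⁻¹ᵁ U).toScheme ⟶ U.toScheme, k ≫ U.ι = (Yd.ι ⁻¹ᵁ U).ι ≫ Yd.ι :=
    ⟨IsOpenImmersion.lift U.ι _ hrange, IsOpenImmersion.lift_fac _ _ _⟩
  have h1 := (isPullback_morphismRestrict (f ∣_ Yd) (Yd.ι ⁻¹ᵁ U)).paste_vert
    (isPullback_morphismRestrict f Yd)
  have h2 : IsPullback (((f ∣_ Yd) ⁻¹ᵁ (Yd.ι ⁻¹ᵁ U)).ι ≫ (f ⁻¹ᵁ Yd).ι)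
      ((f ∣_ Yd) ∣_ (Yd.ι ⁻¹ᵁ U)) f (k ≫ U.ι) := by
    rw [hk]; exact h1.flip
  have h3 := IsPullback.of_right' h2 (isPullback_morphismRestrict f U).flip
  exact MorphismProperty.of_isPullback h3 h

set_option backward.isDefEq.respectTransparency.types false in
/-- Stacks 0F3K -/
theorem isOpen_and_isFinite_of_max {X Y : Scheme.{u}} (f : X ⟶ Y) [LocallyQuasiFinite f]
    [LocallyOfFiniteType f] [IsSeparated f] (hfin : ∀ y : Y, (f ⁻¹' {y}).Finite)
    (w : X → ℤ) (hw : MoreMor.IsWeighting f w) (hpos : ∀ x, 0 < w x) (d : ℤ)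
    (hmax : ∀ y : Y, MoreMor.fibreIntegral f w y ≤ d) :
    ∃ hYd : IsOpen {y : Y | MoreMor.fibreIntegral f w y = d},
      IsFinite (f ∣_ ⟨{y : Y | MoreMor.fibreIntegral f w y = d}, hYd⟩) := by
  have hlsc := lowerSemicontinuous_fibreIntegral f hfin w hw hpos
  have hset : {y : Y | MoreMor.fibreIntegral f w y = d} =
      (MoreMor.fibreIntegral f w) ⁻¹' Set.Ioi (d - 1) := by
    ext y
    simp only [Set.mem_ofPred_eq, Set.mem_preimage, Set.mem_Ioi]
    have := hmax y
    omega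
  have hYd : IsOpen {y : Y | MoreMor.fibreIntegral f w y = d} := by
    rw [hset]; exact lowerSemicontinuous_iff_isOpen_preimage.mp hlsc _
  refine ⟨hYd, ?_⟩
  obtain ⟨Yd, hYddef⟩ : ∃ Yd : Y.Opens,
      Yd = ⟨{y : Y | MoreMor.fibreIntegral f w y = d}, hYd⟩ := ⟨_, rfl⟩
  rw [← hYddef]
  have hmemYd : ∀ y : Y, y ∈ Yd → MoreMor.fibreIntegral f w y = d := by
    intro y hy
    rw [hYddef] at hy
    exact hy
  apply IsZariskiLocalAtTarget.of_forall_exists_morphismRestrict (P := @IsFinite)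
  intro y'
  obtain ⟨Ω, _, _, yb, hyb⟩ := exists_geometric_point (Yd.ι y')
  have hd : MoreMor.fibreIntegral f w (yb (closedPoint Ω)) = d := by
    rw [hyb]; exact hmemYd _ y'.2
  obtain ⟨V, g, hg, v, hv, hfinV⟩ := fin_aux _ f hfin w hw hpos d hmax Ω yb hd rfl
  refine ⟨Yd.ι ⁻¹ᵁ (⟨Set.range g, g.isOpenMap.isOpen_range⟩ : Y.Opens), ?_, ?_⟩
  · change Yd.ι y' ∈ Set.range g
    rw [← hyb, ← hv]
    exact ⟨v, rfl⟩
  · exact isFinite_restrict_restrict f _ _ (isFinite_restrict_range f g hfinV)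

end Groth.Agent.Lib.Helper70.WeightingFinite
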