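import Mathlib
import Groth.Prelude.Def_MoreMor
import Groth.Agent.Lib.Helper70.WeightingFinite

open AlgebraicGeometry CategoryTheory Limits IsLocalRing

universe u

namespace Groth.Agent.Lib.Helper70.WeightingComp

open Groth.Agent.Lib.Helper70.GeomPts Groth.Agent.Lib.Helper70.Weighting
  Groth.Agent.Lib.Helper70.WeightingLSC Groth.Agent.Lib.Helper70.UniquePoint
  Groth.Agent.Lib.Helper70.WeightingBC Groth.Agent.Lib.Helper70.WeightingBC2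
  Groth.Agent.Lib.Helper70.WeightingFinite

variable {A B T : Scheme.{u}} (Ω : Type u) [Field Ω]

/-- geometric points of a composite -/
noncomputable def gptsCompEquiv (α : A ⟶ B) (β : B ⟶ T) (vb : Spec (.of Ω) ⟶ T) :
    GPts Ω (α ≫ β) vb ≃ Σ ty : GPts Ω β vb, GPts Ω α ty.1 where
  toFun tu := ⟨⟨tu.1 ≫ α, by rw [Category.assoc]; exact tu.2⟩, ⟨tu.1, rfl⟩⟩
  invFun p := ⟨p.2.1, by rw [← Category.assoc, p.2.2]; exact p.1.2⟩
  left_inv tu := rfl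
  right_inv := by
    rintro ⟨⟨y, hy⟩, ⟨u, hu⟩⟩
    change u ≫ α = y at hu
    subst hu
    rfl

lemma finite_fibre_comp (α : A ⟶ B) (β : B ⟶ T) (hα : ∀ b, (α ⁻¹' {b}).Finite)
    (hβ : ∀ v, (β ⁻¹' {v}).Finite) (v : T) : ((α ≫ β) ⁻¹' {v}).Finite := by
  have h1 : ((α ≫ β) ⁻¹' {v}) = ⋃ b ∈ (β ⁻¹' {v}), α ⁻¹' {b} := by
    ext a
    simp only [Set.mem_preimage, Set.mem_singleton_iff, Set.mem_iUnion, exists_prop]
    constructor
    · intro h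
      exact ⟨α a, h, rfl⟩
    · rintro ⟨b, hb, rfl⟩
      exact hb
  rw [h1]
  exact (hβ v).biUnion fun b _ => hα b

/-- Fubini for fibre integrals -/
theorem fibreIntegral_comp (α : A ⟶ B) (β : B ⟶ T) [LocallyQuasiFinite α] [LocallyQuasiFinite β]
    (hα : ∀ b, (α ⁻¹' {b}).Finite) (hβ : ∀ v, (β ⁻¹' {v}).Finite) (w₁ : A → ℤ) (w₂ : B → ℤ)
    (v : T) :
    MoreMor.fibreIntegral (α ≫ β) (fun a => w₁ a * w₂ (α a)) v =
      MoreMor.fibreIntegral β (fun b => MoreMor.fibreIntegral α w₁ b * w₂ b) v := by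
  classical
  obtain ⟨Ω, _, _, vb, rfl⟩ := exists_geometric_point v
  have hαβ := finite_fibre_comp α β hα hβ
  rw [fibreIntegral_eq_finsum_gpts Ω (α ≫ β) _ vb (hαβ _)
    (fun u _ => finite_residueFieldMap (α ≫ β) u)]
  rw [fibreIntegral_eq_finsum_gpts Ω β _ vb (hβ _) (fun u _ => finite_residueFieldMap β u)]
  haveI : Finite (GPts Ω (α ≫ β) vb) := finite_gpts Ω _ vb (hαβ _)
  haveI : Finite (GPts Ω β vb) := finite_gpts Ω _ vb (hβ _)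
  haveI : ∀ ty : GPts Ω β vb, Finite (GPts Ω α ty.1) := fun ty => finite_gpts Ω α ty.1 (hα _)
  have := Fintype.ofFinite (GPts Ω (α ≫ β) vb)
  have := Fintype.ofFinite (GPts Ω β vb)
  have : ∀ ty : GPts Ω β vb, Fintype (GPts Ω α ty.1) := fun ty => Fintype.ofFinite _
  rw [finsum_eq_sum_of_fintype, finsum_eq_sum_of_fintype]
  rw [Fintype.sum_equiv (gptsCompEquiv Ω α β vb)
    (fun tu => w₁ (tu.1 (closedPoint Ω)) * w₂ (α (tu.1 (closedPoint Ω))))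
    (fun p : Σ ty : GPts Ω β vb, GPts Ω α ty.1 =>
      w₁ (p.2.1 (closedPoint Ω)) * w₂ (p.1.1 (closedPoint Ω)))]
  · rw [Fintype.sum_sigma]
    refine Fintype.sum_congr _ _ fun ty => ?_
    rw [fibreIntegral_eq_finsum_gpts Ω α w₁ ty.1 (hα _) (fun u _ => finite_residueFieldMap α u)]
    rw [finsum_eq_sum_of_fintype, Finset.sum_mul]
  · intro tu
    rfl

lemma fibreIntegral_congr_fibre {U V : Scheme.{u}} (π : U ⟶ V) (w w' : U → ℤ) (v : V)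
    (h : ∀ u, π u = v → w u = w' u) :
    MoreMor.fibreIntegral π w v = MoreMor.fibreIntegral π w' v := by
  unfold MoreMor.fibreIntegral
  refine finsum_congr fun u => ?_
  rw [h u.1 u.2]

lemma fibreIntegral_const_mul {U V : Scheme.{u}} (π : U ⟶ V) (w : U → ℤ) (k : ℤ) (v : V) :
    MoreMor.fibreIntegral π (fun u => k * w u) v = k * MoreMor.fibreIntegral π w v := by
  unfold MoreMor.fibreIntegral
  rw [mul_finsum]
  refine finsum_congr fun u => ?_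
  rw [mul_assoc]

set_option backward.isDefEq.respectTransparency.types false in
/-- flexible form of `isLocallyConstant_base_change` -/
theorem isLocallyConstant_base_change' {X Y : Scheme.{u}} (f : X ⟶ Y) [LocallyQuasiFinite f]
    [LocallyOfFiniteType f] (w : X → ℤ) (hw : MoreMor.IsWeighting f w)
    {T P W : Scheme.{u}} (G : T ⟶ Y) (h : P ⟶ X) (π : P ⟶ T) (hc : IsPullback h π f G)
    (k : W ⟶ P) [IsOpenImmersion k] (hfin : IsFinite (k ≫ π)) :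
    IsLocallyConstant (MoreMor.fibreIntegral (k ≫ π) (w ∘ ⇑h ∘ ⇑k)) := by
  let e := Scheme.Hom.isoOpensRange k
  have he : e.hom ≫ k.opensRange.ι = k := Scheme.Hom.isoOpensRange_hom_ι k
  have hfinU : IsFinite (k.opensRange.ι ≫ π) := by
    rw [← MorphismProperty.cancel_left_of_respectsIso @IsFinite e.hom, ← Category.assoc, he]
    exact hfin
  have h1 := isLocallyConstant_base_change f w hw G h π hc k.opensRange hfinU
  haveI : LocallyQuasiFinite π := MorphismProperty.of_isPullback hc ‹_›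
  have h2 : MoreMor.fibreIntegral (k ≫ π) (w ∘ ⇑h ∘ ⇑k) =
      MoreMor.fibreIntegral (k.opensRange.ι ≫ π) (w ∘ ⇑h ∘ ⇑k.opensRange.ι) := by
    funext v
    have h3 := fibreIntegral_iso (k.opensRange.ι ≫ π)
      (fun v => Scheme.Hom.finite_preimage_singleton _ v) e.hom
      (w ∘ ⇑h ∘ ⇑k.opensRange.ι) v
    rw [← h3]
    have h4 : e.hom ≫ k.opensRange.ι ≫ π = k ≫ π := by
      rw [← Category.assoc, he]
    have h5 : ((w ∘ ⇑h ∘ ⇑k.opensRange.ι) ∘ ⇑e.hom) = (w ∘ ⇑h ∘ ⇑k) := by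
      funext u
      change w (h ((e.hom ≫ k.opensRange.ι) u)) = _
      rw [he]
      rfl
    rw [h5, h4]
  rw [h2]
  exact h1

set_option backward.isDefEq.respectTransparency.types false in
/-- the two-step case: a finite open piece of `X_T` lying over a finite open piece of `Y_T` all of
whose geometric points over `tb` sit at one point -/
theorem locallyConstantAt_of_le_preimage {X Y Z : Scheme.{u}} (f : X ⟶ Y) (g : Y ⟶ Z)
    [LocallyQuasiFinite f] [LocallyOfFiniteType f] [LocallyQuasiFinite g] [LocallyOfFiniteType g]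
    (wf : X → ℤ) (wg : Y → ℤ) (hf : MoreMor.IsWeighting f wf) (hg : MoreMor.IsWeighting g wg)
    {T YT XT : Scheme.{u}} (G : T ⟶ Z) (pY : YT ⟶ Y) (gT : YT ⟶ T) (hY : IsPullback pY gT g G)
    (pX : XT ⟶ X) (fT : XT ⟶ YT) (hX : IsPullback pX fT f pY)
    (O₀ : YT.Opens) (hfinO : IsFinite (O₀.ι ≫ gT)) (A : XT.Opens)
    (hfinA : IsFinite (A.ι ≫ fT ≫ gT)) (hAO : A ≤ fT ⁻¹ᵁ O₀)
    {Ω : Type u} [Field Ω] [IsAlgClosed Ω] (tb : Spec (.of Ω) ⟶ T)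
    (hsub : ∀ ty ty' : GPts Ω (O₀.ι ≫ gT) tb, ty.1 (closedPoint Ω) = ty'.1 (closedPoint Ω)) :
    ∃ N : Set T, IsOpen N ∧ tb (closedPoint Ω) ∈ N ∧ ∀ v ∈ N,
      MoreMor.fibreIntegral (A.ι ≫ fT ≫ gT) (fun u => wf (pX (A.ι u)) * wg (f (pX (A.ι u)))) v =
      MoreMor.fibreIntegral (A.ι ≫ fT ≫ gT) (fun u => wf (pX (A.ι u)) * wg (f (pX (A.ι u))))
        (tb (closedPoint Ω)) := by
  -- the morphism `A ⟶ O₀`
  obtain ⟨k, hk⟩ : ∃ k : A.toScheme ⟶ (fT ⁻¹ᵁ O₀).toScheme, k = XT.homOfLE hAO := ⟨_, rfl⟩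
  haveI : IsOpenImmersion k := by rw [hk]; infer_instance
  have hkι : k ≫ (fT ⁻¹ᵁ O₀).ι = A.ι := by rw [hk]; exact Scheme.homOfLE_ι _ _
  obtain ⟨fA, hfA⟩ : ∃ fA : A.toScheme ⟶ O₀.toScheme, fA = k ≫ fT ∣_ O₀ := ⟨_, rfl⟩
  have hfAι : fA ≫ O₀.ι = A.ι ≫ fT := by
    rw [hfA, Category.assoc, morphismRestrict_ι, ← Category.assoc, hkι]
  have hcomp : fA ≫ O₀.ι ≫ gT = A.ι ≫ fT ≫ gT := by
    rw [← Category.assoc, hfAι, Category.assoc]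
  haveI : IsFinite (O₀.ι ≫ gT) := hfinO
  haveI : IsFinite (fA ≫ O₀.ι ≫ gT) := by rw [hcomp]; exact hfinA
  haveI : IsFinite fA := IsFinite.of_comp fA (O₀.ι ≫ gT)
  -- the inner integral is locally constant
  have hcP : IsPullback ((fT ⁻¹ᵁ O₀).ι ≫ pX) (fT ∣_ O₀) f (O₀.ι ≫ pY) :=
    (isPullback_morphismRestrict fT O₀).flip.paste_horiz hX
  have hlc_c : IsLocallyConstant (MoreMor.fibreIntegral fA (wf ∘ ⇑((fT ⁻¹ᵁ O₀).ι ≫ pX) ∘ ⇑k)) := by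
    have := isLocallyConstant_base_change' f wf hf (O₀.ι ≫ pY) ((fT ⁻¹ᵁ O₀).ι ≫ pX) (fT ∣_ O₀) hcP k
      (by rw [← hfA]; infer_instance)
    rw [← hfA] at this
    exact this
  obtain ⟨c, hc⟩ : ∃ c : O₀.toScheme → ℤ,
      c = MoreMor.fibreIntegral fA (wf ∘ ⇑((fT ⁻¹ᵁ O₀).ι ≫ pX) ∘ ⇑k) := ⟨_, rfl⟩
  rw [← hc] at hlc_c
  -- Fubini
  have hfub : ∀ v : T, MoreMor.fibreIntegral (A.ι ≫ fT ≫ gT)
      (fun u => wf (pX (A.ι u)) * wg (f (pX (A.ι u)))) v =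
      MoreMor.fibreIntegral (O₀.ι ≫ gT) (fun b => c b * wg (pY (O₀.ι b))) v := by
    intro v
    have h1 := fibreIntegral_comp fA (O₀.ι ≫ gT)
      (fun b => Scheme.Hom.finite_preimage_singleton fA b)
      (fun v => Scheme.Hom.finite_preimage_singleton (O₀.ι ≫ gT) v)
      (wf ∘ ⇑((fT ⁻¹ᵁ O₀).ι ≫ pX) ∘ ⇑k) (fun b => wg (pY (O₀.ι b))) v
    rw [← hc] at h1
    rw [← h1]
    have h2 : (fun a => (wf ∘ ⇑((fT ⁻¹ᵁ O₀).ι ≫ pX) ∘ ⇑k) a * wg (pY (O₀.ι (fA a)))) =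
        (fun u => wf (pX (A.ι u)) * wg (f (pX (A.ι u)))) := by
      funext a
      have e1 : ((fT ⁻¹ᵁ O₀).ι ≫ pX) (k a) = pX (A.ι a) := by
        change ((k ≫ (fT ⁻¹ᵁ O₀).ι) ≫ pX) a = _
        rw [hkι]; rfl
      have e2 : pY (O₀.ι (fA a)) = f (pX (A.ι a)) := by
        change ((fA ≫ O₀.ι) ≫ pY) a = ((A.ι ≫ pX) ≫ f) a
        rw [hfAι, Category.assoc, Category.assoc, hX.w]
      change wf (((fT ⁻¹ᵁ O₀).ι ≫ pX) (k a)) * wg (pY (O₀.ι (fA a))) = _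
      rw [e1, e2]
    rw [h2, hcomp]
  -- the neighbourhood
  classical
  obtain ⟨c₀, hc₀⟩ : ∃ c₀ : ℤ, ∀ ty : GPts Ω (O₀.ι ≫ gT) tb, c (ty.1 (closedPoint Ω)) = c₀ := by
    by_cases hne : Nonempty (GPts Ω (O₀.ι ≫ gT) tb)
    · obtain ⟨ty₀⟩ := hne
      exact ⟨c (ty₀.1 (closedPoint Ω)), fun ty => by rw [hsub ty ty₀]⟩
    · exact ⟨0, fun ty => (hne ⟨ty⟩).elim⟩
  let C₀ : Set O₀.toScheme := {b | c b = c₀}
  have hC₀ : IsOpen C₀ := hlc_c.isOpen_fiber _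
  have hD : IsClosed ((O₀.ι ≫ gT) '' C₀ᶜ) := (O₀.ι ≫ gT).isClosedMap _ hC₀.isClosed_compl
  have hlc_g := isLocallyConstant_base_change g wg hg G pY gT hY O₀ hfinO
  let Ng : Set T := {v | MoreMor.fibreIntegral (O₀.ι ≫ gT) (wg ∘ ⇑pY ∘ ⇑O₀.ι) v =
    MoreMor.fibreIntegral (O₀.ι ≫ gT) (wg ∘ ⇑pY ∘ ⇑O₀.ι) (tb (closedPoint Ω))}
  have hNg : IsOpen Ng := hlc_g.isOpen_fiber _
  have hformula : ∀ v ∈ ((O₀.ι ≫ gT) '' C₀ᶜ)ᶜ, MoreMor.fibreIntegral (A.ι ≫ fT ≫ gT)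
      (fun u => wf (pX (A.ι u)) * wg (f (pX (A.ι u)))) v =
      c₀ * MoreMor.fibreIntegral (O₀.ι ≫ gT) (wg ∘ ⇑pY ∘ ⇑O₀.ι) v := by
    intro v hv
    rw [hfub v, ← fibreIntegral_const_mul]
    apply fibreIntegral_congr_fibre
    intro b hb
    have hbC : b ∈ C₀ := by
      by_contra hn
      exact hv ⟨b, hn, hb⟩
    have : c b = c₀ := hbC
    rw [this]
    rfl
  have htbD : tb (closedPoint Ω) ∈ ((O₀.ι ≫ gT) '' C₀ᶜ)ᶜ := by
    rintro ⟨b, hb, hbtb⟩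
    obtain ⟨ty, hty⟩ := exists_gpts_of_mem_fibre Ω (O₀.ι ≫ gT) tb b hbtb
    apply hb
    change c b = c₀
    rw [← hty]
    exact hc₀ ty
  refine ⟨((O₀.ι ≫ gT) '' C₀ᶜ)ᶜ ∩ Ng, hD.isOpen_compl.inter hNg, ⟨htbD, rfl⟩, ?_⟩
  rintro v ⟨hvD, hvg⟩
  rw [hformula v hvD, hformula _ htbD]
  have : MoreMor.fibreIntegral (O₀.ι ≫ gT) (wg ∘ ⇑pY ∘ ⇑O₀.ι) v = _ := hvg
  rw [this]

set_option backward.isDefEq.respectTransparency.types false in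
/-- transfer of "all geometric points of the piece over the base point coincide" along a base
change of pieces -/
theorem gpts_unique_transfer {X Y T T' P P' : Scheme.{u}} {f : X ⟶ Y} {G : T ⟶ Y} {G' : T' ⟶ Y}
    {h : P ⟶ X} {π : P ⟶ T} (hc : IsPullback h π f G)
    {h' : P' ⟶ X} {π' : P' ⟶ T'} (hc' : IsPullback h' π' f G')
    (a : T' ⟶ T) (ha : a ≫ G = G') (c : P' ⟶ P) (hc₁ : c ≫ h = h') (hc₂ : c ≫ π = π' ≫ a)
    (O : P.Opens) {Ω : Type u} [Field Ω] (tb' : Spec (.of Ω) ⟶ T') (z₀ : Spec (.of Ω) ⟶ P)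
    (hyp : ∀ t'' : GPts Ω (O.ι ≫ π) (tb' ≫ a), t''.1 ≫ O.ι = z₀)
    (z : Spec (.of Ω) ⟶ P') (hz₁ : z ≫ c = z₀) (hz₂ : z ≫ π' = tb') :
    ∀ t' : GPts Ω ((c ⁻¹ᵁ O).ι ≫ π') tb', t'.1 ≫ (c ⁻¹ᵁ O).ι = z := by
  rintro ⟨t', ht'⟩
  have hpb := isPullback_restrict hc hc' a ha c hc₁ hc₂ O
  have h1 : (t' ≫ c ∣_ O) ≫ O.ι ≫ π = tb' ≫ a := by
    rw [Category.assoc, hpb.w, ← Category.assoc, ht']
  have h2 := hyp ⟨t' ≫ c ∣_ O, h1⟩
  have h3 : t' ≫ (c ⁻¹ᵁ O).ι ≫ c = z₀ := by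
    rw [← h2]
    change _ = (t' ≫ c ∣_ O) ≫ O.ι
    rw [Category.assoc, morphismRestrict_ι]
  apply hc'.hom_ext
  · have h4 : (t' ≫ (c ⁻¹ᵁ O).ι) ≫ c ≫ h = z ≫ c ≫ h := by
      rw [← Category.assoc, ← Category.assoc z, Category.assoc t', h3, hz₁]
    rw [← hc₁]
    exact h4
  · rw [Category.assoc, hz₂]; exact ht'

/-- a common étale refinement of two étale neighbourhoods, over a base `T` -/
theorem exists_common_etale {Z T Z₁ Z₂ : Scheme.{u}} (G : T ⟶ Z) (e₁ : Z₁ ⟶ Z) [Etale e₁]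
    (e₂ : Z₂ ⟶ Z) [Etale e₂] {Ω : Type u} [Field Ω] (tb : Spec (.of Ω) ⟶ T)
    (zb₁ : Spec (.of Ω) ⟶ Z₁) (zb₂ : Spec (.of Ω) ⟶ Z₂) (h₁ : tb ≫ G = zb₁ ≫ e₁)
    (h₂ : tb ≫ G = zb₂ ≫ e₂) :
    ∃ (T₁ : Scheme.{u}) (aT : T₁ ⟶ T) (_ : Etale aT) (b₁ : T₁ ⟶ Z₁) (b₂ : T₁ ⟶ Z₂)
      (tb₁ : Spec (.of Ω) ⟶ T₁), b₁ ≫ e₁ = aT ≫ G ∧ b₂ ≫ e₂ = aT ≫ G ∧ tb₁ ≫ aT = tb ∧
        tb₁ ≫ b₁ = zb₁ ∧ tb₁ ≫ b₂ = zb₂ := by
  let r : Spec (.of Ω) ⟶ pullback G e₁ := pullback.lift tb zb₁ h₁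
  have hr : r ≫ pullback.fst G e₁ ≫ G = zb₂ ≫ e₂ := by
    rw [← Category.assoc, pullback.lift_fst, h₂]
  refine ⟨pullback (pullback.fst G e₁ ≫ G) e₂,
    pullback.fst (pullback.fst G e₁ ≫ G) e₂ ≫ pullback.fst G e₁, inferInstance,
    pullback.fst (pullback.fst G e₁ ≫ G) e₂ ≫ pullback.snd G e₁,
    pullback.snd (pullback.fst G e₁ ≫ G) e₂, pullback.lift r zb₂ hr, ?_, ?_, ?_, ?_, ?_⟩
  · rw [Category.assoc, ← pullback.condition, Category.assoc]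
  · rw [← pullback.condition, Category.assoc]
  · rw [← Category.assoc, pullback.lift_fst, pullback.lift_fst]
  · rw [← Category.assoc, pullback.lift_fst, pullback.lift_snd]
  · rw [pullback.lift_snd]

end Groth.Agent.Lib.Helper70.WeightingComp
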