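import Mathlib
import Groth.Prelude.Def_MoreMor
import Groth.Agent.Lib.Helper70.WeightingComp

open AlgebraicGeometry CategoryTheory Limits IsLocalRing

universe u

namespace Groth.Agent.Lib.Helper70.MultiPt

open Groth.Agent.Lib.Helper70.GeomPts Groth.Agent.Lib.Helper70.Weighting
  Groth.Agent.Lib.Helper70.WeightingLSC Groth.Agent.Lib.Helper70.UniquePoint
  Groth.Agent.Lib.Helper70.WeightingBC Groth.Agent.Lib.Helper70.WeightingBC2
  Groth.Agent.Lib.Helper70.WeightingComp

variable {X S : Scheme.{u}} {Ω : Type u} [Field Ω]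

/-- `O` is an open piece of the base change of `f` along `g`, finite over the base, carrying over
the geometric point `ub` exactly the lift of the geometric point `t` -/
def Good (f : X ⟶ S) (yb : Spec (.of Ω) ⟶ S) (t : GPts Ω f yb) {U : Scheme.{u}} (g : U ⟶ S)
    (ub : Spec (.of Ω) ⟶ U) (O : (pullback f g).Opens) : Prop :=
  IsFinite (O.ι ≫ pullback.snd f g) ∧
  (∃ z : Spec (.of Ω) ⟶ O.toScheme, z ≫ O.ι ≫ pullback.snd f g = ub ∧
    z ≫ O.ι ≫ pullback.fst f g = t.1) ∧
  ∀ t' : GPts Ω (O.ι ≫ pullback.snd f g) ub, t'.1 ≫ O.ι ≫ pullback.fst f g = t.1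

set_option backward.isDefEq.respectTransparency.types false in
theorem Good.transfer {f : X ⟶ S} {yb : Spec (.of Ω) ⟶ S} {t : GPts Ω f yb} {U U' : Scheme.{u}}
    {g : U ⟶ S} {g' : U' ⟶ S} (b : U' ⟶ U) (hb : b ≫ g = g') {ub : Spec (.of Ω) ⟶ U}
    (ub' : Spec (.of Ω) ⟶ U') (hub : ub' ≫ b = ub) (c : pullback f g' ⟶ pullback f g)
    (hc₁ : c ≫ pullback.fst f g = pullback.fst f g')
    (hc₂ : c ≫ pullback.snd f g = pullback.snd f g' ≫ b) {O : (pullback f g).Opens}
    (h : Good f yb t g ub O) : Good f yb t g' ub' (c ⁻¹ᵁ O) := by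
  subst hub
  obtain ⟨hfin, ⟨z, hz₁, hz₂⟩, huniq⟩ := h
  have hpb := isPullback_restrict (IsPullback.of_hasPullback f g) (IsPullback.of_hasPullback f g')
    b hb c hc₁ hc₂ O
  have hfst : (c ⁻¹ᵁ O).ι ≫ pullback.fst f g' = c ∣_ O ≫ O.ι ≫ pullback.fst f g := by
    rw [← hc₁, ← Category.assoc, ← Category.assoc, morphismRestrict_ι]
  refine ⟨MorphismProperty.of_isPullback hpb hfin, ⟨hpb.lift z ub' hz₁, ?_, ?_⟩, ?_⟩
  · exact hpb.lift_snd _ _ _
  · rw [hfst, ← Category.assoc, hpb.lift_fst, hz₂]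
  · rintro ⟨t'', ht''⟩
    have h1 : (t'' ≫ c ∣_ O) ≫ O.ι ≫ pullback.snd f g = ub' ≫ b := by
      rw [Category.assoc, hpb.w, ← Category.assoc, ht'']
    have h2 := huniq ⟨t'' ≫ c ∣_ O, h1⟩
    change t'' ≫ (c ⁻¹ᵁ O).ι ≫ pullback.fst f g' = t.1
    rw [hfst, ← Category.assoc]
    exact h2

set_option backward.isDefEq.respectTransparency.types false in
/-- simultaneous étale localisation at finitely many geometric points over the same geometric
point of the base -/
theorem exists_good [IsAlgClosed Ω] (f : X ⟶ S) [LocallyOfFiniteType f] [LocallyQuasiFinite f]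
    (yb : Spec (.of Ω) ⟶ S) (T : Finset (GPts Ω f yb)) :
    ∃ (U : Scheme.{u}) (g : U ⟶ S) (_ : Etale g) (ub : Spec (.of Ω) ⟶ U), ub ≫ g = yb ∧
      ∃ O : GPts Ω f yb → (pullback f g).Opens, ∀ t ∈ T, Good f yb t g ub (O t) := by
  classical
  induction T using Finset.induction_on with
  | empty =>
    exact ⟨S, 𝟙 S, inferInstance, yb, Category.comp_id _, fun _ => ⊥, fun t ht => by simp at ht⟩
  | insert t₀ T ht₀ ih =>
    obtain ⟨U, g, hg, ub, hub, O, hO⟩ := ih
    obtain ⟨V, g', hg', O', t', hfin', hts', huniq'⟩ := exists_etale_unique_gpt_opens f t₀.1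
    obtain ⟨vb', hvb'⟩ : ∃ vb' : Spec (.of Ω) ⟶ V, vb' = t' ≫ O'.ι ≫ pullback.snd f g' := ⟨_, rfl⟩
    have hvbg : vb' ≫ g' = yb := by
      rw [hvb', Category.assoc, Category.assoc, ← pullback.condition, ← Category.assoc O'.ι,
        ← Category.assoc t', hts', t₀.2]
    have hgood' : Good f yb t₀ g' vb' O' := by
      refine ⟨hfin', ⟨t', hvb'.symm, hts'⟩, ?_⟩
      rintro ⟨t'', ht''⟩
      change t'' ≫ O'.ι ≫ pullback.fst f g' = t₀.1
      rw [huniq' t'' (by rw [ht'', hvb']), hts']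
    obtain ⟨T₁, aT, haT, b₁, b₂, tb₁, hb₁, hb₂, htb, htb₁, htb₂⟩ :=
      exists_common_etale (𝟙 S) g g' yb ub vb' (by rw [Category.comp_id, hub])
        (by rw [Category.comp_id, hvbg])
    rw [Category.comp_id] at hb₁ hb₂
    obtain ⟨c₁, hc₁₁, hc₁₂⟩ : ∃ c₁ : pullback f aT ⟶ pullback f g,
        c₁ ≫ pullback.fst f g = pullback.fst f aT ∧
        c₁ ≫ pullback.snd f g = pullback.snd f aT ≫ b₁ :=
      ⟨pullback.lift (pullback.fst f aT) (pullback.snd f aT ≫ b₁)
        (by rw [pullback.condition, Category.assoc, hb₁]),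
        pullback.lift_fst _ _ _, pullback.lift_snd _ _ _⟩
    obtain ⟨c₂, hc₂₁, hc₂₂⟩ : ∃ c₂ : pullback f aT ⟶ pullback f g',
        c₂ ≫ pullback.fst f g' = pullback.fst f aT ∧
        c₂ ≫ pullback.snd f g' = pullback.snd f aT ≫ b₂ :=
      ⟨pullback.lift (pullback.fst f aT) (pullback.snd f aT ≫ b₂)
        (by rw [pullback.condition, Category.assoc, hb₂]),
        pullback.lift_fst _ _ _, pullback.lift_snd _ _ _⟩
    refine ⟨T₁, aT, haT, tb₁, htb, fun t => if t = t₀ then c₂ ⁻¹ᵁ O' else c₁ ⁻¹ᵁ (O t), ?_⟩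
    intro t ht
    beta_reduce
    by_cases h : t = t₀
    · subst h
      rw [if_pos rfl]
      exact hgood'.transfer b₂ hb₂ tb₁ htb₂ c₂ hc₂₁ hc₂₂
    · rw [if_neg h]
      have htT : t ∈ T := by
        rcases Finset.mem_insert.mp ht with h' | h'
        · exact absurd h' h
        · exact h'
      exact (hO t htT).transfer b₁ hb₁ tb₁ htb₁ c₁ hc₁₁ hc₁₂

/-- a point carrying at most one geometric point over a given one has purely inseparable residue
field extension -/
lemma isPurelyInseparable_of_gpts_subsingleton [IsAlgClosed Ω] {P T : Scheme.{u}} (π : P ⟶ T)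
    (ub : Spec (.of Ω) ⟶ T) (v : P) (hv : π v = ub (closedPoint Ω))
    (hfin : letI := (π.residueFieldMap v).hom.toAlgebra
      Module.Finite (T.residueField (π v)) (P.residueField v))
    (huniq : ∀ t₁ t₂ : GPts Ω π ub, t₁.1 (closedPoint Ω) = v → t₂.1 (closedPoint Ω) = v → t₁ = t₂) :
    letI := (π.residueFieldMap v).hom.toAlgebra
    IsPurelyInseparable (T.residueField (π v)) (P.residueField v) := by
  let _ := (π.residueFieldMap v).hom.toAlgebra
  have := hfin
  have halg : Algebra.IsAlgebraic (T.residueField (π v)) (P.residueField v) :=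
    Algebra.IsAlgebraic.of_finite _ _
  have hcard := card_ringHom_eq_finSepDegree Ω (π.residueFieldMap v).hom
    (jAt Ω π ub ⟨v, hv⟩).hom halg
  have hsub : Subsingleton {σ : P.residueField v →+* Ω //
      σ.comp (π.residueFieldMap v).hom = (jAt Ω π ub ⟨v, hv⟩).hom} := by
    constructor
    intro σ₁ σ₂
    let p₁ : Σ u : {u : P // π u = ub (closedPoint Ω)},
        {σ : P.residueField u.1 ⟶ .of Ω // π.residueFieldMap u.1 ≫ σ = jAt Ω π ub u} :=
      ⟨⟨v, hv⟩, (homSubtypeEquiv Ω _ _).symm σ₁⟩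
    let p₂ : Σ u : {u : P // π u = ub (closedPoint Ω)},
        {σ : P.residueField u.1 ⟶ .of Ω // π.residueFieldMap u.1 ≫ σ = jAt Ω π ub u} :=
      ⟨⟨v, hv⟩, (homSubtypeEquiv Ω _ _).symm σ₂⟩
    have h1 : (gptsEquiv Ω π ub).symm p₁ = (gptsEquiv Ω π ub).symm p₂ :=
      huniq _ _ (gptsEquiv_symm_apply_closedPoint Ω π ub p₁)
        (gptsEquiv_symm_apply_closedPoint Ω π ub p₂)
    have h2 : p₁ = p₂ := (gptsEquiv Ω π ub).symm.injective h1
    have h3 := eq_of_heq (Sigma.mk.inj h2).2
    exact (homSubtypeEquiv Ω _ _).symm.injective h3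
  have h1 : Field.finSepDegree (T.residueField (π v)) (P.residueField v) ≤ 1 := by
    rw [← hcard]
    exact Finite.card_le_one_iff_subsingleton.mpr hsub
  have h2 : Field.finSepDegree (T.residueField (π v)) (P.residueField v) ≠ 0 := NeZero.ne _
  exact isPurelyInseparable_of_finSepDegree_eq_one (by omega)

set_option backward.isDefEq.respectTransparency.types false in
/-- the point of a good piece -/
theorem Good.exists_point [IsAlgClosed Ω] {f : X ⟶ S} {yb : Spec (.of Ω) ⟶ S} {t : GPts Ω f yb}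
    {U : Scheme.{u}} {g : U ⟶ S} {ub : Spec (.of Ω) ⟶ U} {O : (pullback f g).Opens}
    (h : Good f yb t g ub O) :
    ∃ v : ↥(pullback f g), v ∈ O ∧ pullback.snd f g v = ub (closedPoint Ω) ∧
      pullback.fst f g v = t.1 (closedPoint Ω) ∧
      (∀ w : ↥(pullback f g), w ∈ O → pullback.snd f g w = ub (closedPoint Ω) → w = v) ∧
      (∀ t'' : GPts Ω (pullback.snd f g) ub,
        t''.1 (closedPoint Ω) = v ↔ t''.1 ≫ pullback.fst f g = t.1) := by
  obtain ⟨hfin, ⟨z, hz₁, hz₂⟩, huniq⟩ := h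
  have := hfin
  have hzall : ∀ t' : GPts Ω (O.ι ≫ pullback.snd f g) ub, t'.1 = z := by
    rintro ⟨t', ht'⟩
    rw [← cancel_mono O.ι]
    apply pullback.hom_ext
    · rw [Category.assoc, Category.assoc, hz₂]
      exact huniq ⟨t', ht'⟩
    · rw [Category.assoc, Category.assoc, hz₁]
      exact ht'
  refine ⟨O.ι (z (closedPoint Ω)), (z (closedPoint Ω)).2, ?_, ?_, ?_, ?_⟩
  · rw [← hz₁]; rfl
  · rw [← hz₂]; rfl
  · intro w hw hwu
    obtain ⟨t', ht'⟩ := exists_gpts_of_mem_fibre Ω (O.ι ≫ pullback.snd f g) ub ⟨w, hw⟩ hwu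
    rw [hzall t'] at ht'
    rw [ht']
    rfl
  · intro t''
    constructor
    · intro ht''
      have hrange : Set.range t''.1 ⊆ Set.range O.ι := by
        rintro _ ⟨a, rfl⟩
        have ha : a = closedPoint Ω := Subsingleton.elim _ _
        rw [ha, ht'', Scheme.Opens.range_ι]
        exact (z (closedPoint Ω)).2
      have hl : IsOpenImmersion.lift O.ι t''.1 hrange ≫ O.ι = t''.1 :=
        IsOpenImmersion.lift_fac _ _ _
      have h1 := hzall ⟨IsOpenImmersion.lift O.ι t''.1 hrange, by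
        rw [← Category.assoc, hl]; exact t''.2⟩
      change IsOpenImmersion.lift O.ι t''.1 hrange = z at h1
      rw [← hl, h1, Category.assoc, hz₂]
    · intro ht''
      have h1 : t''.1 = z ≫ O.ι := by
        apply pullback.hom_ext
        · rw [ht'', Category.assoc, hz₂]
        · rw [t''.2, Category.assoc, hz₁]
      rw [h1]
      rfl

/-- finitely many geometric points over a given one are located at a given point -/
lemma finite_gpts_at (f : X ⟶ S) [LocallyQuasiFinite f] (yb : Spec (.of Ω) ⟶ S) (x : X) :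
    Finite {t : GPts Ω f yb // t.1 (closedPoint Ω) = x} := by
  by_cases hx : yb (closedPoint Ω) = f x
  · have hfin := finite_ringHom Ω (f.residueFieldMap x).hom (gptHom yb (f x) hx).hom
      (finite_residueFieldMap f x)
    let Φ : {t : GPts Ω f yb // t.1 (closedPoint Ω) = x} →
        {σ : X.residueField x →+* Ω // σ.comp (f.residueFieldMap x).hom =
          (gptHom yb (f x) hx).hom} := fun t =>
      ⟨(gptHom t.1.1 x t.2).hom, by
        have h1 := gptHom_comp f t.1.1 x t.2 (f x) rfl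
        simp only [Scheme.residueFieldCongr_refl, Iso.refl_inv, Category.id_comp] at h1
        rw [← CommRingCat.hom_comp, ← h1]
        exact congrArg _ (gptHom_congr t.1.2 (f x) _)⟩
    refine Finite.of_injective Φ ?_
    intro t t' htt'
    apply Subtype.ext
    apply Subtype.ext
    apply gptHom_ext x t.2 t'.2
    have h2 : (gptHom t.1.1 x t.2).hom = (gptHom t'.1.1 x t'.2).hom := congrArg Subtype.val htt'
    exact CommRingCat.hom_ext h2
  · have : IsEmpty {t : GPts Ω f yb // t.1 (closedPoint Ω) = x} := by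
      constructor
      rintro ⟨⟨t, ht⟩, htx⟩
      apply hx
      rw [← ht, ← htx]
      rfl
    infer_instance

/-- an open piece of a separated morphism which is finite over the base is closed -/
lemma isClosed_of_isFinite {P T : Scheme.{u}} (π : P ⟶ T) [IsSeparated π] (O : P.Opens)
    (hfin : IsFinite (O.ι ≫ π)) : IsClosed (O : Set P) := by
  have := hfin
  have : IsFinite O.ι := IsFinite.of_comp O.ι π
  have hcl : IsClosed (Set.range O.ι) := O.ι.isClosedMap.isClosed_range
  rwa [Scheme.Opens.range_ι] at hcl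

set_option backward.isDefEq.respectTransparency.types false in
/-- separated case: the pieces can be chosen pairwise disjoint -/
theorem exists_good_disjoint [IsAlgClosed Ω] (f : X ⟶ S) [LocallyOfFiniteType f]
    [LocallyQuasiFinite f] [IsSeparated f] (yb : Spec (.of Ω) ⟶ S) (T : Finset (GPts Ω f yb)) :
    ∃ (U : Scheme.{u}) (g : U ⟶ S) (_ : Etale g) (ub : Spec (.of Ω) ⟶ U), ub ≫ g = yb ∧
      ∃ O : GPts Ω f yb → (pullback f g).Opens, (∀ t ∈ T, Good f yb t g ub (O t)) ∧
        ∀ t ∈ T, ∀ t' ∈ T, t ≠ t' → ∀ w : ↥(pullback f g), w ∈ O t → w ∈ O t' → False := by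
  classical
  obtain ⟨U, g, hg, ub, hub, O, hO⟩ := exists_good f yb T
  -- the bad loci
  let D : GPts Ω f yb → GPts Ω f yb → Set U := fun t t' =>
    (pullback.snd f g) '' ((O t : Set ↥(pullback f g)) ∩ (O t' : Set ↥(pullback f g)))
  have hDclosed : ∀ t ∈ T, ∀ t' ∈ T, IsClosed (D t t') := by
    intro t ht t' ht'
    have hfin := (hO t ht).1
    have hcl' : IsClosed (O t' : Set ↥(pullback f g)) :=
      isClosed_of_isFinite (pullback.snd f g) (O t') (hO t' ht').1
    have h1 : D t t' = ((O t).ι ≫ pullback.snd f g) '' ((O t).ι ⁻¹' (O t' : Set ↥(pullback f g))) := by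
      ext y
      constructor
      · rintro ⟨w, ⟨hw, hw'⟩, rfl⟩
        exact ⟨⟨w, hw⟩, hw', rfl⟩
      · rintro ⟨w, hw', rfl⟩
        exact ⟨w.1, ⟨w.2, hw'⟩, rfl⟩
    rw [h1]
    exact ((O t).ι ≫ pullback.snd f g).isClosedMap _ (hcl'.preimage (O t).ι.continuous)
  have hDu : ∀ t ∈ T, ∀ t' ∈ T, t ≠ t' → ub (closedPoint Ω) ∉ D t t' := by
    rintro t ht t' ht' hne ⟨w, ⟨hw, hw'⟩, hwu⟩
    obtain ⟨v, -, -, -, hv, hiff⟩ := (hO t ht).exists_point
    obtain ⟨v', -, -, -, hv', hiff'⟩ := (hO t' ht').exists_point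
    have e1 := hv w hw hwu
    have e2 := hv' w hw' hwu
    obtain ⟨t'', ht''⟩ := exists_gpts_of_mem_fibre Ω (pullback.snd f g) ub w hwu
    have k1 := (hiff t'').mp (ht''.trans e1)
    have k2 := (hiff' t'').mp (ht''.trans e2)
    exact hne (Subtype.ext (k1.symm.trans k2))
  let K : Finset (GPts Ω f yb × GPts Ω f yb) := (T ×ˢ T).filter (fun p => p.1 ≠ p.2)
  have hclosed : IsClosed (⋃ p ∈ K, D p.1 p.2) := by
    refine isClosed_biUnion_finset fun p hp => ?_
    have hp' := Finset.mem_filter.mp hp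
    have hp'' := Finset.mem_product.mp hp'.1
    exact hDclosed _ hp''.1 _ hp''.2
  obtain ⟨U', hU'⟩ : ∃ U' : U.Opens, (U' : Set U) = (⋃ p ∈ K, D p.1 p.2)ᶜ :=
    ⟨⟨_, hclosed.isOpen_compl⟩, rfl⟩
  have huU' : ub (closedPoint Ω) ∈ U' := by
    change ub (closedPoint Ω) ∈ (U' : Set U)
    rw [hU']
    intro hmem
    simp only [Set.mem_iUnion] at hmem
    obtain ⟨p, hp, hpD⟩ := hmem
    have hp' := Finset.mem_filter.mp hp
    have hp'' := Finset.mem_product.mp hp'.1
    exact hDu _ hp''.1 _ hp''.2 hp'.2 hpD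
  obtain ⟨ub', hub'⟩ : ∃ ub' : Spec (.of Ω) ⟶ U'.toScheme, ub' ≫ U'.ι = ub := by
    refine ⟨IsOpenImmersion.lift U'.ι ub ?_, IsOpenImmersion.lift_fac _ _ _⟩
    rintro _ ⟨a, rfl⟩
    have ha : a = closedPoint Ω := Subsingleton.elim _ _
    rw [ha, Scheme.Opens.range_ι]
    exact huU'
  obtain ⟨c, hc₁, hc₂⟩ : ∃ c : pullback f (U'.ι ≫ g) ⟶ pullback f g,
      c ≫ pullback.fst f g = pullback.fst f (U'.ι ≫ g) ∧
      c ≫ pullback.snd f g = pullback.snd f (U'.ι ≫ g) ≫ U'.ι :=
    ⟨pullback.lift (pullback.fst f (U'.ι ≫ g)) (pullback.snd f (U'.ι ≫ g) ≫ U'.ι)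
      (by rw [pullback.condition, Category.assoc]),
      pullback.lift_fst _ _ _, pullback.lift_snd _ _ _⟩
  refine ⟨U'.toScheme, U'.ι ≫ g, inferInstance, ub', by rw [← Category.assoc, hub', hub],
    fun t => c ⁻¹ᵁ (O t), ?_, ?_⟩
  · intro t ht
    exact (hO t ht).transfer U'.ι rfl ub' hub' c hc₁ hc₂
  · intro t ht t' ht' hne w hw hw'
    have h1 : pullback.snd f g (c w) ∈ D t t' := ⟨c w, ⟨hw, hw'⟩, rfl⟩
    have h2 : pullback.snd f g (c w) ∈ (U' : Set U) := by
      rw [← Scheme.Hom.comp_apply, hc₂, Scheme.Hom.comp_apply]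
      exact (pullback.snd f (U'.ι ≫ g) w).2
    rw [hU'] at h2
    apply h2
    simp only [Set.mem_iUnion]
    exact ⟨(t, t'), Finset.mem_filter.mpr ⟨Finset.mem_product.mpr ⟨ht, ht'⟩, hne⟩, h1⟩

/-- common form of `exists_good` and `exists_good_disjoint` -/
theorem exists_good' [IsAlgClosed Ω] (f : X ⟶ S) [LocallyOfFiniteType f]
    [LocallyQuasiFinite f] (yb : Spec (.of Ω) ⟶ S) (T : Finset (GPts Ω f yb)) (disj : Prop)
    (hsep : disj → IsSeparated f) :
    ∃ (U : Scheme.{u}) (g : U ⟶ S) (_ : Etale g) (ub : Spec (.of Ω) ⟶ U), ub ≫ g = yb ∧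
      ∃ O : GPts Ω f yb → (pullback f g).Opens, (∀ t ∈ T, Good f yb t g ub (O t)) ∧
        (disj → ∀ t ∈ T, ∀ t' ∈ T, t ≠ t' →
          ∀ w : ↥(pullback f g), w ∈ O t → w ∈ O t' → False) := by
  by_cases hd : disj
  · have := hsep hd
    obtain ⟨U, g, hg, ub, hub, O, hO, hdisj⟩ := exists_good_disjoint f yb T
    exact ⟨U, g, hg, ub, hub, O, hO, fun _ => hdisj⟩
  · obtain ⟨U, g, hg, ub, hub, O, hO⟩ := exists_good f yb T
    exact ⟨U, g, hg, ub, hub, O, hO, fun h => absurd h hd⟩

/-- the conclusion of the multi-point étale localisation theorem (Stacks 02LN-type) -/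
def HasPieces {ι : Type} (f : X ⟶ S) (s : S) (x : ι → X) (disj : Prop) : Prop :=
  ∃ (U : Scheme.{u}) (g : U ⟶ S) (u : U), Etale g ∧ g u = s ∧
    ∃ (J : ι → Type) (_ : ∀ i, Finite (J i)) (V : ∀ i, J i → (pullback f g).Opens)
      (v : ∀ i, J i → ↑(pullback f g)),
      (∀ i j, v i j ∈ V i j ∧ IsFinite ((V i j).ι ≫ pullback.snd f g) ∧
        pullback.snd f g (v i j) = u ∧
        (∀ w : ↑(pullback f g), w ∈ V i j → pullback.snd f g w = u → w = v i j) ∧
        (letI := ((pullback.snd f g).residueFieldMap (v i j)).hom.toAlgebra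
         Module.Finite ↑(U.residueField (pullback.snd f g (v i j)))
            ↑((pullback f g).residueField (v i j)) ∧
         IsPurelyInseparable ↑(U.residueField (pullback.snd f g (v i j)))
            ↑((pullback f g).residueField (v i j))) ∧
        pullback.fst f g (v i j) = x i) ∧
      (∀ i j i' j', v i j = v i' j' → i = i' ∧ HEq j j') ∧
      (∀ (w : ↑(pullback f g)) (i : ι), pullback.snd f g w = u → pullback.fst f g w = x i →
        ∃ j, w = v i j) ∧
      (disj → ∀ i j i' j', ((V i j : Set ↑(pullback f g)) ∩ (V i' j')).Nonempty →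
        i = i' ∧ HEq j j')

set_option backward.isDefEq.respectTransparency.types false in
/-- the multi-point étale localisation theorem for locally quasi-finite morphisms -/
theorem hasPieces_of_locallyQuasiFinite {ι : Type} [Finite ι] (f : X ⟶ S)
    [LocallyOfFiniteType f] [LocallyQuasiFinite f] (s : S) (x : ι → X)
    (hinj : Function.Injective x) (disj : Prop)
    (hsep : disj → IsSeparated f) : HasPieces f s x disj := by
  classical
  obtain ⟨Ω, _, _, yb, hyb⟩ := exists_geometric_point s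
  have hfinT : ∀ i, Finite {t : GPts Ω f yb // t.1 (closedPoint Ω) = x i} :=
    fun i => finite_gpts_at f yb (x i)
  let n : ι → ℕ := fun i => Nat.card {t : GPts Ω f yb // t.1 (closedPoint Ω) = x i}
  let e : ∀ i, {t : GPts Ω f yb // t.1 (closedPoint Ω) = x i} ≃ Fin (n i) :=
    fun i => Finite.equivFin _
  have hfinU : (⋃ i, {t : GPts Ω f yb | t.1 (closedPoint Ω) = x i}).Finite :=
    Set.finite_iUnion fun i => Set.finite_coe_iff.mp (hfinT i)
  obtain ⟨T, hT⟩ : ∃ T : Finset (GPts Ω f yb), ∀ t, t ∈ T ↔ ∃ i, t.1 (closedPoint Ω) = x i :=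
    ⟨hfinU.toFinset, fun t => by simp⟩
  obtain ⟨U, g, hg, ub, hub, O, hO, hdisj⟩ := exists_good' f yb T disj hsep
  have hpt : ∀ t : {t // t ∈ T}, ∃ v : ↥(pullback f g), v ∈ O t.1 ∧
      pullback.snd f g v = ub (closedPoint Ω) ∧
      pullback.fst f g v = t.1.1 (closedPoint Ω) ∧
      (∀ w : ↥(pullback f g), w ∈ O t.1 → pullback.snd f g w = ub (closedPoint Ω) → w = v) ∧
      (∀ t'' : GPts Ω (pullback.snd f g) ub,
        t''.1 (closedPoint Ω) = v ↔ t''.1 ≫ pullback.fst f g = t.1.1) :=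
    fun t => (hO t.1 t.2).exists_point
  choose pt hpt₁ hpt₂ hpt₃ hpt₄ hpt₅ using hpt
  have hmem : ∀ i (j : Fin (n i)), ((e i).symm j).1 ∈ T := fun i j =>
    (hT _).mpr ⟨i, ((e i).symm j).2⟩
  have hgu : g (ub (closedPoint Ω)) = s := by rw [← hyb, ← hub]; rfl
  refine ⟨U, g, ub (closedPoint Ω), hg, hgu, fun i => Fin (n i), fun i => inferInstance,
    fun i j => O ((e i).symm j).1, fun i j => pt ⟨((e i).symm j).1, hmem i j⟩, ?_, ?_, ?_, ?_⟩
  · intro i j
    beta_reduce
    refine ⟨hpt₁ ⟨_, hmem i j⟩, (hO _ (hmem i j)).1, hpt₂ _, hpt₄ ⟨_, hmem i j⟩,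
      ⟨finite_residueFieldMap _ _, ?_⟩, ?_⟩
    · refine isPurelyInseparable_of_gpts_subsingleton (pullback.snd f g) ub _ (hpt₂ _)
        (finite_residueFieldMap _ _) ?_
      intro t₁ t₂ h₁ h₂
      apply Subtype.ext
      apply pullback.hom_ext
      · rw [(hpt₅ _ t₁).mp h₁, (hpt₅ _ t₂).mp h₂]
      · rw [t₁.2, t₂.2]
    · rw [hpt₃]
      exact ((e i).symm j).2
  · intro i j i' j' hv
    beta_reduce at hv
    have hx : x i = x i' := by
      have h1 := hpt₃ ⟨((e i).symm j).1, hmem i j⟩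
      have h2 := hpt₃ ⟨((e i').symm j').1, hmem i' j'⟩
      rw [← ((e i).symm j).2, ← ((e i').symm j').2]
      dsimp only at h1 h2
      rw [← h1, ← h2, hv]
    have hii' := hinj hx
    subst hii'
    refine ⟨rfl, heq_of_eq ?_⟩
    obtain ⟨t'', ht''⟩ := exists_gpts_of_mem_fibre Ω (pullback.snd f g) ub
      (pt ⟨((e i).symm j).1, hmem i j⟩) (hpt₂ _)
    have k1 := (hpt₅ ⟨((e i).symm j).1, hmem i j⟩ t'').mp ht''
    have k2 := (hpt₅ ⟨((e i).symm j').1, hmem i j'⟩ t'').mp (ht''.trans hv)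
    have k3 : (e i).symm j = (e i).symm j' := Subtype.ext (Subtype.ext (k1.symm.trans k2))
    exact (e i).symm.injective k3
  · intro w i hwu hwx
    beta_reduce
    obtain ⟨t'', ht''⟩ := exists_gpts_of_mem_fibre Ω (pullback.snd f g) ub w hwu
    have htyb : (t''.1 ≫ pullback.fst f g) ≫ f = yb := by
      rw [Category.assoc, pullback.condition, ← Category.assoc, t''.2, hub]
    have htx : (t''.1 ≫ pullback.fst f g) (closedPoint Ω) = x i := by
      rw [← hwx, ← ht'']; rfl
    refine ⟨e i ⟨⟨t''.1 ≫ pullback.fst f g, htyb⟩, htx⟩, ?_⟩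
    rw [← ht'']
    refine (hpt₅ _ t'').mpr ?_
    have : ((e i).symm (e i ⟨⟨t''.1 ≫ pullback.fst f g, htyb⟩, htx⟩)).1.1 =
        t''.1 ≫ pullback.fst f g := by
      rw [Equiv.symm_apply_apply]
    exact this.symm
  · intro hd i j i' j' hne
    beta_reduce at hne
    obtain ⟨w, hw, hw'⟩ := hne
    by_cases htt : ((e i).symm j).1 = ((e i').symm j').1
    · have hx : x i = x i' := by
        rw [← ((e i).symm j).2, ← ((e i').symm j').2, htt]
      have hii' := hinj hx
      subst hii'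
      refine ⟨rfl, heq_of_eq ?_⟩
      exact (e i).symm.injective (Subtype.ext htt)
    · exact (hdisj hd _ (hmem i j) _ (hmem i' j') htt w hw hw').elim

/-- residue field extensions and open immersions -/
lemma residue_transfer {B P T : Scheme.{u}} (c : B ⟶ P) [IsOpenImmersion c] (π : P ⟶ T)
    (π' : B ⟶ T) (hπ : c ≫ π = π') (b : B)
    (h : letI := (π'.residueFieldMap b).hom.toAlgebra
      Module.Finite (T.residueField (π' b)) (B.residueField b) ∧
        IsPurelyInseparable (T.residueField (π' b)) (B.residueField b)) :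
    letI := (π.residueFieldMap (c b)).hom.toAlgebra
    Module.Finite (T.residueField (π (c b))) (P.residueField (c b)) ∧
      IsPurelyInseparable (T.residueField (π (c b))) (P.residueField (c b)) := by
  subst hπ
  let φ : T.residueField (π (c b)) →+* P.residueField (c b) := (π.residueFieldMap (c b)).hom
  let ψ : P.residueField (c b) →+* B.residueField b := (c.residueFieldMap b).hom
  have e : ((c ≫ π).residueFieldMap b).hom = ψ.comp φ := by
    rw [Scheme.residueFieldMap_comp]; rfl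
  let _ : Algebra (T.residueField (π (c b))) (P.residueField (c b)) := φ.toAlgebra
  let _ : Algebra (P.residueField (c b)) (B.residueField b) := ψ.toAlgebra
  let _ : Algebra (T.residueField (π (c b))) (B.residueField b) := (ψ.comp φ).toAlgebra
  have : IsScalarTower (T.residueField (π (c b))) (P.residueField (c b)) (B.residueField b) :=
    IsScalarTower.of_algebraMap_eq (fun _ => rfl)
  have h' : Module.Finite (T.residueField (π (c b))) (B.residueField b) ∧
      IsPurelyInseparable (T.residueField (π (c b))) (B.residueField b) := by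
    have h2 := h
    rw [e] at h2
    exact h2
  obtain ⟨h1, h2⟩ := h'
  refine ⟨?_, IsPurelyInseparable.tower_bot (T.residueField (π (c b))) (P.residueField (c b))
    (B.residueField b)⟩
  exact Module.Finite.of_injective
    (IsScalarTower.toAlgHom (T.residueField (π (c b))) (P.residueField (c b))
      (B.residueField b)).toLinearMap (RingHom.injective ψ)

set_option backward.isDefEq.respectTransparency.types false in
/-- transport of the pieces along an open immersion of the source -/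
theorem HasPieces.of_openImmersion {ι : Type} {X₀ : Scheme.{u}} (j : X₀ ⟶ X) [IsOpenImmersion j]
    (f : X ⟶ S) (s : S) (x₀ : ι → X₀) (disj : Prop) (h : HasPieces (j ≫ f) s x₀ disj) :
    HasPieces f s (fun i => j (x₀ i)) disj := by
  obtain ⟨U, g, u, hg, hgu, J, hJ, V₀, v₀, h1, h2, h3, h4⟩ := h
  let c : pullback (j ≫ f) g ⟶ pullback f g :=
    pullback.lift (pullback.fst (j ≫ f) g ≫ j) (pullback.snd (j ≫ f) g)
      (by rw [Category.assoc, pullback.condition])
  have hc1 : c ≫ pullback.fst f g = pullback.fst (j ≫ f) g ≫ j := pullback.lift_fst _ _ _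
  have hc2 : c ≫ pullback.snd f g = pullback.snd (j ≫ f) g := pullback.lift_snd _ _ _
  have hpb : IsPullback (pullback.fst (j ≫ f) g) c j (pullback.fst f g) := by
    refine IsPullback.of_bot ?_ hc1.symm (IsPullback.of_hasPullback f g)
    rw [hc2]
    exact IsPullback.of_hasPullback (j ≫ f) g
  have : IsOpenImmersion c := MorphismProperty.of_isPullback (P := @IsOpenImmersion) hpb
    inferInstance
  have hcinj : Function.Injective c := c.isOpenEmbedding.injective
  have hsnd : ∀ a, pullback.snd f g (c a) = pullback.snd (j ≫ f) g a := fun a => by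
    rw [← Scheme.Hom.comp_apply, hc2]
  have hfst : ∀ a, pullback.fst f g (c a) = j (pullback.fst (j ≫ f) g a) := fun a => by
    rw [← Scheme.Hom.comp_apply, hc1]; rfl
  refine ⟨U, g, u, hg, hgu, J, hJ, fun i k => c ''ᵁ (V₀ i k), fun i k => c (v₀ i k),
    ?_, ?_, ?_, ?_⟩
  · intro i k
    beta_reduce
    obtain ⟨k1, k2, k3, k4, k5, k6⟩ := h1 i k
    refine ⟨⟨v₀ i k, k1, rfl⟩, ?_, (hsnd _).trans k3, ?_, ?_, ?_⟩
    · rw [← MorphismProperty.cancel_left_of_respectsIso @IsFinite (c.isoImage (V₀ i k)).hom,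
        ← Category.assoc, Scheme.Hom.isoImage_hom_ι, Category.assoc, hc2]
      exact k2
    · rintro w ⟨a, ha, rfl⟩ hw
      have hw' : pullback.snd (j ≫ f) g a = u := (hsnd a).symm.trans hw
      exact congrArg (⇑c) (k4 a ha hw')
    · exact residue_transfer c (pullback.snd f g) (pullback.snd (j ≫ f) g) hc2 (v₀ i k) k5
    · rw [hfst, k6]
  · intro i k i' k' hv
    exact h2 i k i' k' (hcinj hv)
  · intro w i hwu hwx
    beta_reduce at hwx
    obtain ⟨z, hz1, hz2⟩ := Scheme.Pullback.exists_preimage_pullback (f := j)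
      (g := pullback.fst f g) (x₀ i) w hwx.symm
    obtain ⟨a, ha⟩ : ∃ a, c a = w := by
      refine ⟨hpb.isoPullback.inv z, ?_⟩
      rw [← Scheme.Hom.comp_apply, hpb.isoPullback_inv_snd]
      exact hz2
    have ha1 : pullback.snd (j ≫ f) g a = u := by rw [← hsnd, ha, hwu]
    have ha2 : pullback.fst (j ≫ f) g a = x₀ i := by
      apply j.isOpenEmbedding.injective
      rw [← hfst, ha, hwx]
    obtain ⟨k, hk⟩ := h3 a i ha1 ha2
    exact ⟨k, by rw [← ha, hk]⟩
  · intro hd i k i' k' hne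
    obtain ⟨w, ⟨a, ha, rfl⟩, ⟨a', ha', haa'⟩⟩ := hne
    have : a' = a := hcinj haa'
    subst this
    exact h4 hd i k i' k' ⟨a', ha, ha'⟩

/-- the multi-point étale localisation theorem at quasi-finite points of a morphism locally of
finite type -/
theorem hasPieces {ι : Type} [Finite ι] (f : X ⟶ S) [LocallyOfFiniteType f] (s : S) (x : ι → X)
    (hinj : Function.Injective x) (hx : ∀ i, f.QuasiFiniteAt (x i)) (disj : Prop)
    (hsep : disj → IsSeparated f) : HasPieces f s x disj := by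
  let x₀ : ι → ↥f.quasiFiniteLocus.toScheme := fun i => ⟨x i, hx i⟩
  have hinj₀ : Function.Injective x₀ := fun i i' h => hinj (congrArg Subtype.val h)
  have h1 := hasPieces_of_locallyQuasiFinite (f.quasiFiniteLocus.ι ≫ f) s x₀ hinj₀ disj
    (fun hd => by have := hsep hd; infer_instance)
  exact HasPieces.of_openImmersion f.quasiFiniteLocus.ι f s x₀ disj h1

end Groth.Agent.Lib.Helper70.MultiPt
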