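import Mathlib
import Groth.Agent.Lib.Helper70.FiniteUnramLocal
import Groth.Agent.Lib.Helper70.AffineStalk

open AlgebraicGeometry CategoryTheory IsLocalRing

universe u

namespace Groth.Agent.Lib.Helper70.FiniteUnramScheme

open Groth.Agent.Lib.Helper70.FiniteUnramLocal Groth.Agent.Lib.Helper70

lemma res_injective_of_eq {X : Scheme.{u}} {W W' : X.Opens} (e' : W' ≤ W) (h : W' = W) :
    Function.Injective (X.presheaf.map (homOfLE e').op).hom := by
  subst h
  have : homOfLE e' = 𝟙 _ := rfl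
  rw [this]
  simp only [op_id, CategoryTheory.Functor.map_id]
  exact fun _ _ h => h

/-- Step 1: stalk map surjective. -/
theorem stalkMap_surjective {X S : Scheme.{u}} (f : X ⟶ S) [IsFinite f] [FormallyUnramified f]
    (s : S) (x : X) (hx : f.base ⁻¹' {s} = {x})
    (hκ : Function.Surjective (f.residueFieldMap x))
    (U : S.Opens) (hU : IsAffineOpen U) (hxU : x ∈ f ⁻¹ᵁ U) :
    ∃ r : Γ(S, U), s ∈ S.basicOpen r ∧ Function.Surjective (f.app (S.basicOpen r)).hom := by
  have hfx : f x = s := by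
    have : x ∈ f.base ⁻¹' {s} := hx ▸ Set.mem_singleton x
    exact this
  have hV : IsAffineOpen (f ⁻¹ᵁ U) := hU.preimage f
  have happ : f.appLE U (f ⁻¹ᵁ U) le_rfl = f.app U := Scheme.Hom.appLE_eq_app ..
  algebraize [(f.appLE U (f ⁻¹ᵁ U) le_rfl).hom]
  have hfin : Module.Finite Γ(S, U) Γ(X, f ⁻¹ᵁ U) := by
    have : (f.appLE U (f ⁻¹ᵁ U) le_rfl).hom.Finite := by
      rw [happ]
      exact f.finite_app U hU
    exact this
  have hunr : Algebra.FormallyUnramified Γ(S, U) Γ(X, f ⁻¹ᵁ U) :=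
    HasRingHomProperty.appLE (P := @FormallyUnramified) f inferInstance ⟨U, hU⟩
      ⟨f ⁻¹ᵁ U, hV⟩ le_rfl
  let p := (hU.primeIdealOf ⟨f x, hxU⟩).asIdeal
  let q := (hV.primeIdealOf ⟨x, hxU⟩).asIdeal
  have hpq : q.LiesOver p :=
    ⟨congr($(IsAffineOpen.comap_primeIdealOf_appLE U hU (f ⁻¹ᵁ U) hV le_rfl hxU).1).symm⟩
  have hq : p.primesOver Γ(X, f ⁻¹ᵁ U) = {q} := by
    ext q'
    simp only [Set.mem_singleton_iff]
    constructor
    · rintro ⟨hq'prime, hq'over⟩
      set x' := hV.fromSpec ⟨q', hq'prime⟩ with hx'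
      have hx'V : x' ∈ f ⁻¹ᵁ U := fromSpec_mem hV _
      have h1 : hV.primeIdealOf ⟨x', hx'V⟩ = ⟨q', hq'prime⟩ := primeIdealOf_fromSpec hV _
      have h2 := IsAffineOpen.comap_primeIdealOf_appLE U hU (f ⁻¹ᵁ U) hV le_rfl hx'V
      rw [h1] at h2
      have h3 : hU.primeIdealOf ⟨f x', hx'V⟩ = hU.primeIdealOf ⟨f x, hxU⟩ := by
        rw [← h2]
        ext1
        exact (hq'over.over).symm
      have h4 : f x' = f x := by
        have := congrArg hU.fromSpec h3
        rwa [hU.fromSpec_primeIdealOf, hU.fromSpec_primeIdealOf] at this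
      have h5 : x' = x := by
        have : x' ∈ f.base ⁻¹' {s} := by
          show f x' = s
          rw [h4, hfx]
        rw [hx] at this
        exact this
      have h6 : hV.primeIdealOf ⟨x', hx'V⟩ = hV.primeIdealOf ⟨x, hxU⟩ := by
        congr 1
        exact Subtype.ext h5
      rw [h1] at h6
      exact congr($(h6).1)
    · rintro rfl
      exact ⟨inferInstance, hpq⟩
  let _ := Localization.AtPrime.algebraOfLiesOver p q
  have hfinloc : Module.Finite (Localization.AtPrime p) (Localization.AtPrime q) :=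
    Localization.finite_of_primesOver_eq_singleton hq
  have e := IsAffineOpen.arrowStalkMapIso f U hU (f ⁻¹ᵁ U) hV le_rfl hxU
  have hstalk : Function.Surjective (f.stalkMap x).hom := by
    have hfinstalk : (f.stalkMap x).hom.Finite := by
      refine (RingHom.finite_respectsIso.arrow_mk_iso_iff e).mpr ?_
      exact hfinloc
    algebraize [(f.stalkMap x).hom]
    have : IsLocalHom (algebraMap (S.presheaf.stalk (f x)) (X.presheaf.stalk x)) :=
      inferInstanceAs (IsLocalHom (f.stalkMap x).hom)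
    have : Algebra.FormallyUnramified (S.presheaf.stalk (f x)) (X.presheaf.stalk x) :=
      FormallyUnramified.stalkMap f x
    exact surjective_of_finite_of_formallyUnramified hκ
  have hloc : Function.Surjective
      (Localization.localRingHom p q (algebraMap Γ(S, U) Γ(X, f ⁻¹ᵁ U)) (q.over_def p)) := by
    exact (RingHom.surjective_respectsIso.arrow_mk_iso_iff e).mp hstalk
  obtain ⟨r, hrp, hr⟩ := exists_smul_le_range hq hloc
  refine ⟨r, ?_, ?_⟩
  · rw [← hfx]
    have h1 : hU.fromSpec (hU.primeIdealOf ⟨f x, hxU⟩) = f x := hU.fromSpec_primeIdealOf ⟨f x, hxU⟩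
    have h2 : hU.primeIdealOf ⟨f x, hxU⟩ ∈ hU.fromSpec ⁻¹ᵁ S.basicOpen r := by
      rw [hU.fromSpec_preimage_basicOpen]
      exact hrp
    have h3 : hU.fromSpec (hU.primeIdealOf ⟨f x, hxU⟩) ∈ S.basicOpen r := h2
    rwa [h1] at h3
  · have h1 := IsAffineOpen.appLE_eq_away_map f hU hV le_rfl r
    have hle : X.basicOpen (f.appLE U (f ⁻¹ᵁ U) le_rfl r) ≤ f ⁻¹ᵁ S.basicOpen r := by
      simp [Scheme.Hom.appLE]
    have h2 : Function.Surjective (f.appLE (S.basicOpen r)
        (X.basicOpen (f.appLE U (f ⁻¹ᵁ U) le_rfl r)) hle).hom := by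
      rw [h1]
      let := hU.isLocalization_basicOpen r
      let := hV.isLocalization_basicOpen (f.appLE U (f ⁻¹ᵁ U) le_rfl r)
      exact away_map_surjective _ r _ _ hr
    have heq : X.basicOpen (f.appLE U (f ⁻¹ᵁ U) le_rfl r) = f ⁻¹ᵁ S.basicOpen r := by
      rw [happ, Scheme.preimage_basicOpen]
    have hinj : Function.Injective (X.presheaf.map (homOfLE hle).op).hom :=
      res_injective_of_eq hle heq
    intro y
    obtain ⟨a, ha⟩ := h2 ((X.presheaf.map (homOfLE hle).op).hom y)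
    refine ⟨a, hinj ?_⟩
    rw [← ha]
    rfl

end Groth.Agent.Lib.Helper70.FiniteUnramScheme

namespace Groth.Agent.Lib.Helper70.FiniteUnramScheme

theorem exists_isClosedImmersion {X S : Scheme.{u}} (f : X ⟶ S) [IsFinite f] [FormallyUnramified f]
    (s : S) (x : X) (hx : f.base ⁻¹' {s} = {x})
    (hκ : Function.Surjective (f.residueFieldMap x)) :
    ∃ U : S.Opens, s ∈ U ∧ IsAffineOpen U ∧ IsClosedImmersion (f ∣_ U) := by
  have hfx : f x = s := by
    have : x ∈ f.base ⁻¹' {s} := hx ▸ Set.mem_singleton x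
    exact this
  obtain ⟨_, ⟨U, hU, rfl⟩, hsU, -⟩ :=
    S.isBasis_affineOpens.exists_subset_of_mem_open (Set.mem_univ s) isOpen_univ
  obtain ⟨r, hsr, hr⟩ := stalkMap_surjective f s x hx hκ U hU (by
    show f x ∈ U
    rwa [hfx])
  have hW : IsAffineOpen (S.basicOpen r) := hU.basicOpen r
  refine ⟨S.basicOpen r, hsr, hW, ?_⟩
  have : IsAffine (S.basicOpen r).toScheme := hW
  have : IsAffine (f ⁻¹ᵁ S.basicOpen r).toScheme := hW.preimage f
  apply IsClosedImmersion.of_surjective_of_isAffine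
  rw [morphismRestrict_appTop]
  have key : ∀ W' : S.Opens, W' = S.basicOpen r → Function.Surjective (f.app W').hom := by
    rintro _ rfl
    exact hr
  have h1 := key ((S.basicOpen r).ι ''ᵁ ⊤) (by simp)
  have h2 : Function.Bijective (X.presheaf.map
      (eqToHom (image_morphismRestrict_preimage f (S.basicOpen r) ⊤)).op).hom :=
    ConcreteCategory.bijective_of_isIso _
  intro y
  obtain ⟨z, hz⟩ := h2.2 y
  obtain ⟨a, ha⟩ := h1 z
  exact ⟨a, by rw [← hz, ← ha]; rfl⟩

end Groth.Agent.Lib.Helper70.FiniteUnramScheme
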