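import Mathlib
import Groth.Agent.Lib.Helper70.FiniteUnramScheme

open AlgebraicGeometry CategoryTheory IsLocalRing Groth.Agent.Lib.Helper70.FiniteUnramScheme

universe u

namespace Groth.Agent.Lib.Helper70.FiniteEtaleIso

theorem exists_isIso {X S : Scheme.{u}} (f : X ⟶ S) [IsFinite f] [AlgebraicGeometry.Etale f]
    (s : S) (x : X) (hx : f.base ⁻¹' {s} = {x})
    (hκ : Function.Surjective (f.residueFieldMap x)) :
    ∃ U : S.Opens, s ∈ U ∧ IsIso (f ∣_ U) := by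
  have hfx : f x = s := by
    have : x ∈ f.base ⁻¹' {s} := hx ▸ Set.mem_singleton x
    exact this
  obtain ⟨U, hsU, -, hU⟩ := exists_isClosedImmersion f s x hx hκ
  have hxU : x ∈ f ⁻¹ᵁ U := by
    show f x ∈ U
    rwa [hfx]
  have : IsOpenImmersion (f ∣_ U) := IsOpenImmersion.of_flat_of_mono _
  let W' := (f ∣_ U).opensRange
  refine ⟨U.ι ''ᵁ W', ?_, ?_⟩
  · refine ⟨⟨s, hsU⟩, ⟨⟨x, hxU⟩, ?_⟩, rfl⟩
    apply Subtype.ext
    exact (morphismRestrict_base_coe f U ⟨x, hxU⟩).trans hfx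
  · refine ((MorphismProperty.isomorphisms Scheme).arrow_mk_iso_iff
      (morphismRestrictRestrict f U W')).mp ?_
    show IsIso ((f ∣_ U) ∣_ W')
    rw [isIso_iff_isOpenImmersion_and_surjective]
    refine ⟨inferInstance, ⟨?_⟩⟩
    rintro ⟨y, z, rfl⟩
    have hz : z ∈ (f ∣_ U) ⁻¹ᵁ W' := show (f ∣_ U) z ∈ W' from ⟨z, rfl⟩
    refine ⟨⟨z, hz⟩, ?_⟩
    apply Subtype.ext
    exact morphismRestrict_base_coe (f ∣_ U) W' ⟨z, hz⟩

end Groth.Agent.Lib.Helper70.FiniteEtaleIso
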