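import Mathlib
import Groth.Prelude.Def_BigSite
import Groth.Agent.Lib.Helper70.MultiPt
import Groth.Agent.Lib.Helper70.FiniteEtaleIso

open AlgebraicGeometry CategoryTheory Limits IsLocalRing

universe u

namespace Groth.Agent.Lib.Helper70.PropA

/-- an unramified morphism induces surjective residue field maps at points that are purely
inseparable over the base -/
lemma surjective_residueFieldMap {A P T : Scheme.{u}} (q : A ⟶ P) [Etale q] (π : P ⟶ T)
    (π' : A ⟶ T) (hπ : q ≫ π = π') (a : A)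
    (h : letI := (π'.residueFieldMap a).hom.toAlgebra
      IsPurelyInseparable (T.residueField (π' a)) (A.residueField a)) :
    Function.Surjective (q.residueFieldMap a) := by
  subst hπ
  let φ : T.residueField (π (q a)) →+* P.residueField (q a) := (π.residueFieldMap (q a)).hom
  let ψ : P.residueField (q a) →+* A.residueField a := (q.residueFieldMap a).hom
  have e : ((q ≫ π).residueFieldMap a).hom = ψ.comp φ := by
    rw [Scheme.residueFieldMap_comp]; rfl
  let _ : Algebra (T.residueField (π (q a))) (P.residueField (q a)) := φ.toAlgebra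
  let _ : Algebra (P.residueField (q a)) (A.residueField a) := (q.residueFieldMap a).hom.toAlgebra
  let _ : Algebra (T.residueField (π (q a))) (A.residueField a) := (ψ.comp φ).toAlgebra
  have : IsScalarTower (T.residueField (π (q a))) (P.residueField (q a)) (A.residueField a) :=
    IsScalarTower.of_algebraMap_eq (fun _ => rfl)
  have h' : IsPurelyInseparable (T.residueField (π (q a))) (A.residueField a) := by
    have h2 := h
    rw [e] at h2
    exact h2
  have h3 : IsPurelyInseparable (P.residueField (q a)) (A.residueField a) :=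
    IsPurelyInseparable.tower_top (T.residueField (π (q a))) (P.residueField (q a))
      (A.residueField a)
  have h4 : Algebra.IsSeparable (P.residueField (q a)) (A.residueField a) := inferInstance
  exact IsPurelyInseparable.surjective_algebraMap_of_isSeparable (P.residueField (q a))
    (A.residueField a)

set_option backward.isDefEq.respectTransparency.types false in
/-- the core of condition (A): a finite open piece with a unique purely inseparable point over `v₀`
in the base change of `U₀ ⟶ X ⟶ Y` gives, after shrinking the étale neighbourhood, a clopen piece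
of the base change of `X ⟶ Y` with an `X`-morphism to `U₀` -/
theorem core {X Y U₀ V : Scheme.{u}} (f : X ⟶ Y) [IsSeparated f] (e₀ : U₀ ⟶ X) [Etale e₀]
    (v : V ⟶ Y) (v₀ : V) (W' : (pullback (e₀ ≫ f) v).Opens)
    (hfin : IsFinite (W'.ι ≫ pullback.snd (e₀ ≫ f) v)) (u'' : ↑(pullback (e₀ ≫ f) v))
    (hu'' : u'' ∈ W') (hsnd : pullback.snd (e₀ ≫ f) v u'' = v₀)
    (huniq : ∀ w, w ∈ W' → pullback.snd (e₀ ≫ f) v w = v₀ → w = u'')
    (hpi : letI := ((pullback.snd (e₀ ≫ f) v).residueFieldMap u'').hom.toAlgebra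
       IsPurelyInseparable (V.residueField (pullback.snd (e₀ ≫ f) v u''))
        ((pullback (e₀ ≫ f) v).residueField u'')) :
    ∃ (V₁ : V.Opens), v₀ ∈ V₁ ∧ ∃ (W : (pullback f (V₁.ι ≫ v)).Opens)
      (_ : IsClosed (W : Set ↑(pullback f (V₁.ι ≫ v)))) (hW : W.toScheme ⟶ U₀),
      hW ≫ e₀ = W.ι ≫ pullback.fst f (V₁.ι ≫ v) ∧
        pullback.fst (e₀ ≫ f) v u'' ∈ Set.range hW.base := by
  obtain ⟨ε, hε1, hε2⟩ : ∃ ε : pullback (e₀ ≫ f) v ⟶ pullback f v,
      ε ≫ pullback.fst f v = pullback.fst (e₀ ≫ f) v ≫ e₀ ∧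
      ε ≫ pullback.snd f v = pullback.snd (e₀ ≫ f) v :=
    ⟨pullback.map (e₀ ≫ f) v f v e₀ (𝟙 V) (𝟙 Y) (by simp) (by simp),
      pullback.lift_fst _ _ _, (pullback.lift_snd _ _ _).trans (Category.comp_id _)⟩
  have hpb : IsPullback (pullback.fst (e₀ ≫ f) v) ε e₀ (pullback.fst f v) := by
    refine IsPullback.of_bot ?_ hε1.symm (IsPullback.of_hasPullback f v)
    rw [hε2]
    exact IsPullback.of_hasPullback (e₀ ≫ f) v
  have hεet : Etale ε := MorphismProperty.of_isPullback hpb inferInstance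
  obtain ⟨q, hq⟩ : ∃ q : W'.toScheme ⟶ pullback f v, q = W'.ι ≫ ε := ⟨_, rfl⟩
  have hqet : Etale q := by rw [hq]; infer_instance
  have hqsnd : q ≫ pullback.snd f v = W'.ι ≫ pullback.snd (e₀ ≫ f) v := by
    rw [hq, Category.assoc, hε2]
  have hqfin : IsFinite q := by
    have : IsFinite (q ≫ pullback.snd f v) := by rw [hqsnd]; exact hfin
    exact IsFinite.of_comp q (pullback.snd f v)
  let z : W'.toScheme := ⟨u'', hu''⟩
  have hzι : W'.ι z = u'' := rfl
  have hqz : ∀ z' : W'.toScheme, q z' = ε (W'.ι z') := fun z' => by rw [hq]; rfl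
  have hsndq : ∀ z' : W'.toScheme, pullback.snd f v (q z') = pullback.snd (e₀ ≫ f) v (W'.ι z') := by
    intro z'
    rw [← Scheme.Hom.comp_apply, hqsnd]; rfl
  have hfib : q.base ⁻¹' {q z} = {z} := by
    ext z'
    simp only [Set.mem_preimage, Set.mem_singleton_iff]
    constructor
    · intro hz'
      have h1 : pullback.snd (e₀ ≫ f) v (W'.ι z') = v₀ := by
        rw [← hsndq, hz', hsndq, hzι, hsnd]
      exact Subtype.ext (huniq _ z'.2 h1)
    · rintro rfl; rfl
  have hsurj : Function.Surjective (q.residueFieldMap z) := by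
    have h1 : Function.Surjective (ε.residueFieldMap u'') :=
      surjective_residueFieldMap ε (pullback.snd f v) _ hε2 u'' hpi
    subst hq
    rw [Scheme.residueFieldMap_comp]
    have h2 : Function.Bijective (W'.ι.residueFieldMap z) :=
      ConcreteCategory.bijective_of_isIso _
    exact h2.surjective.comp h1
  obtain ⟨O, hwO, hiso⟩ := Groth.Agent.Lib.Helper70.FiniteEtaleIso.exists_isIso q (q z) z hfib hsurj
  -- the clopen image of `q`
  have hCcl : IsClosed (Set.range q) := q.isClosedMap.isClosed_range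
  have hCop : IsOpen (Set.range q) := q.isOpenMap.isOpen_range
  -- the bad locus in `V`
  have hfin' : IsFinite (q ≫ pullback.snd f v) := by rw [hqsnd]; exact hfin
  have hDcl : IsClosed ((q ≫ pullback.snd f v) '' (q ⁻¹' (O : Set ↑(pullback f v))ᶜ)) :=
    (q ≫ pullback.snd f v).isClosedMap _ (O.2.isClosed_compl.preimage q.continuous)
  have hv₀D : v₀ ∉ (q ≫ pullback.snd f v) '' (q ⁻¹' (O : Set ↑(pullback f v))ᶜ) := by
    rintro ⟨z', hz'O, hz'⟩
    have h1 : pullback.snd (e₀ ≫ f) v (W'.ι z') = v₀ := by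
      rw [← hsndq]; exact hz'
    have h2 : z' = z := Subtype.ext (huniq _ z'.2 h1)
    subst h2
    exact hz'O hwO
  obtain ⟨V₁, hV₁⟩ : ∃ V₁ : V.Opens, (V₁ : Set V) =
      ((q ≫ pullback.snd f v) '' (q ⁻¹' (O : Set ↑(pullback f v))ᶜ))ᶜ :=
    ⟨⟨_, hDcl.isOpen_compl⟩, rfl⟩
  have hv₀V₁ : v₀ ∈ V₁ := by
    show v₀ ∈ (V₁ : Set V)
    rw [hV₁]; exact hv₀D
  refine ⟨V₁, hv₀V₁, ?_⟩
  obtain ⟨m, hm1, hm2, hm3⟩ : ∃ m : pullback f (V₁.ι ≫ v) ⟶ pullback f v,
      m ≫ pullback.fst f v = pullback.fst f (V₁.ι ≫ v) ∧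
      m ≫ pullback.snd f v = pullback.snd f (V₁.ι ≫ v) ≫ V₁.ι ∧
      ∀ (a : ↑(pullback f v)) (b : V₁.toScheme), pullback.snd f v a = V₁.ι b → ∃ p, m p = a := by
    refine ⟨(pullbackLeftPullbackSndIso f v V₁.ι).inv ≫ pullback.fst _ _, ?_, ?_, ?_⟩
    · rw [Category.assoc, pullbackLeftPullbackSndIso_inv_fst]
    · rw [Category.assoc, pullback.condition, ← Category.assoc,
        pullbackLeftPullbackSndIso_inv_snd_snd]
    · intro a b hab
      obtain ⟨p₁, hp₁, -⟩ := Scheme.Pullback.exists_preimage_pullback a b hab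
      refine ⟨(pullbackLeftPullbackSndIso f v V₁.ι).hom p₁, ?_⟩
      rw [← Scheme.Hom.comp_apply, Iso.hom_inv_id_assoc]
      exact hp₁
  let C : (pullback f v).Opens := ⟨Set.range q, hCop⟩
  let W : (pullback f (V₁.ι ≫ v)).Opens := m ⁻¹ᵁ C
  have hWcl : IsClosed (W : Set ↑(pullback f (V₁.ι ≫ v))) := hCcl.preimage m.continuous
  have hWO : ∀ p : ↑(pullback f (V₁.ι ≫ v)), p ∈ W → m p ∈ O := by
    intro p hp
    obtain ⟨z', hz'⟩ : m p ∈ Set.range q := hp
    by_contra hnot
    have h1 : (q ≫ pullback.snd f v) z' ∈ (V₁ : Set V)ᶜ := by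
      rw [hV₁, compl_compl]
      exact ⟨z', by show q z' ∉ O; rw [hz']; exact hnot, rfl⟩
    apply h1
    have h2 : (q ≫ pullback.snd f v) z' = V₁.ι (pullback.snd f (V₁.ι ≫ v) p) := by
      rw [Scheme.Hom.comp_apply, hz', ← Scheme.Hom.comp_apply, hm2]; rfl
    rw [h2]
    exact (pullback.snd f (V₁.ι ≫ v) p).2
  have hrange : Set.range (W.ι ≫ m).base ⊆ Set.range O.ι.base := by
    rintro _ ⟨p, rfl⟩
    rw [Scheme.Opens.range_ι]
    exact hWO _ p.2
  obtain ⟨φ, hφ⟩ : ∃ φ : W.toScheme ⟶ O.toScheme, φ ≫ O.ι = W.ι ≫ m :=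
    ⟨IsOpenImmersion.lift O.ι (W.ι ≫ m) hrange, IsOpenImmersion.lift_fac _ _ _⟩
  refine ⟨W, hWcl, φ ≫ inv (q ∣_ O) ≫ (q ⁻¹ᵁ O).ι ≫ W'.ι ≫ pullback.fst (e₀ ≫ f) v, ?_, ?_⟩
  · simp only [Category.assoc]
    rw [← hε1, ← Category.assoc W'.ι, ← hq, ← morphismRestrict_ι_assoc, IsIso.inv_hom_id_assoc,
      ← Category.assoc, hφ, Category.assoc, hm1]
  · obtain ⟨p, hp⟩ := hm3 (q z) ⟨v₀, hv₀V₁⟩ (by rw [hsndq, hzι, hsnd]; rfl)
    have hpW : p ∈ W := by
      show m p ∈ Set.range q
      rw [hp]; exact ⟨z, rfl⟩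
    let pW : W.toScheme := ⟨p, hpW⟩
    refine ⟨pW, ?_⟩
    let t : W'.toScheme := (q ⁻¹ᵁ O).ι (inv (q ∣_ O) (φ pW))
    have ht : q t = q z := by
      show q ((q ⁻¹ᵁ O).ι (inv (q ∣_ O) (φ pW))) = q z
      rw [← Scheme.Hom.comp_apply, ← Scheme.Hom.comp_apply, ← morphismRestrict_ι,
        IsIso.inv_hom_id_assoc, ← Scheme.Hom.comp_apply, hφ, Scheme.Hom.comp_apply]
      exact hp
    have htz : t = z := by
      have : t ∈ q.base ⁻¹' {q z} := ht
      rw [hfib] at this
      exact this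
    show pullback.fst (e₀ ≫ f) v (W'.ι t) = pullback.fst (e₀ ≫ f) v u''
    rw [htz, hzι]

end Groth.Agent.Lib.Helper70.PropA
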