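import Mathlib
import Groth.Prelude.Def_BigSite
import Groth.Agent.Lib.Helper70.PropA
import Groth.Agent.Lib.Helper4.ProperOver2
import Groth.Agent.S0793

open AlgebraicGeometry CategoryTheory Limits IsLocalRing

universe u

namespace Groth.Agent.Lib.Helper70.PropA3

open Groth.Agent.Lib.Helper70.PropA

set_option backward.isDefEq.respectTransparency.types false in
/-- the core of condition (A): a finite open piece with a unique purely inseparable point over `v₀`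
in the base change of `U₀ ⟶ X ⟶ Y` gives, after shrinking the étale neighbourhood, a clopen piece
of the base change of `X ⟶ Y` with an `X`-morphism to `U₀` -/
theorem core'' {X Y U₀ V : Scheme.{u}} (f : X ⟶ Y) [IsSeparated f] [LocallyOfFiniteType f] (e₀ : U₀ ⟶ X) [Etale e₀]
    (v : V ⟶ Y) (v₀ : V) (W' : (pullback (e₀ ≫ f) v).Opens)
    (hfin : IsFinite (W'.ι ≫ pullback.snd (e₀ ≫ f) v)) (u'' : ↑(pullback (e₀ ≫ f) v))
    (hu'' : u'' ∈ W') (hsnd : pullback.snd (e₀ ≫ f) v u'' = v₀)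
    (huniq : ∀ w, w ∈ W' → pullback.snd (e₀ ≫ f) v w = v₀ → w = u'')
    (hpi : letI := ((pullback.snd (e₀ ≫ f) v).residueFieldMap u'').hom.toAlgebra
       IsPurelyInseparable (V.residueField (pullback.snd (e₀ ≫ f) v u''))
        ((pullback (e₀ ≫ f) v).residueField u'')) :
    ∃ (V₁ : V.Opens), v₀ ∈ V₁ ∧ ∃ (W : (pullback f (V₁.ι ≫ v)).Opens)
      (_ : IsClosed (W : Set ↑(pullback f (V₁.ι ≫ v))))
      (_ : ClSub.IsProperOver (pullback.snd f (V₁.ι ≫ v)) (W : Set ↑(pullback f (V₁.ι ≫ v))))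
      (k : W.toScheme ⟶ W'.toScheme),
      k ≫ W'.ι ≫ pullback.fst (e₀ ≫ f) v ≫ e₀ = W.ι ≫ pullback.fst f (V₁.ι ≫ v) ∧
      k ≫ W'.ι ≫ pullback.snd (e₀ ≫ f) v = W.ι ≫ pullback.snd f (V₁.ι ≫ v) ≫ V₁.ι ∧
      ∀ (T : Scheme.{u}) (y : T ⟶ pullback f (V₁.ι ≫ v)) (zT : T ⟶ W'.toScheme),
        y ≫ pullback.fst f (V₁.ι ≫ v) = zT ≫ W'.ι ≫ pullback.fst (e₀ ≫ f) v ≫ e₀ →
        y ≫ pullback.snd f (V₁.ι ≫ v) ≫ V₁.ι = zT ≫ W'.ι ≫ pullback.snd (e₀ ≫ f) v →
        ∀ t : T, y t ∈ W := by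
  obtain ⟨ε, hε1, hε2⟩ : ∃ ε : pullback (e₀ ≫ f) v ⟶ pullback f v,
      ε ≫ pullback.fst f v = pullback.fst (e₀ ≫ f) v ≫ e₀ ∧
      ε ≫ pullback.snd f v = pullback.snd (e₀ ≫ f) v :=
    ⟨pullback.map (e₀ ≫ f) v f v e₀ (𝟙 V) (𝟙 Y) (by simp) (by simp),
      pullback.lift_fst _ _ _, (pullback.lift_snd _ _ _).trans (Category.comp_id _)⟩
  have hpb : IsPullback (pullback.fst (e₀ ≫ f) v) ε e₀ (pullback.fst f v) := by
    refine IsPullback.of_bot ?_ hε1.symm (IsPullback.of_hasPullback f v)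
    rw [hε2]
    exact IsPullback.of_hasPullback (e₀ ≫ f) v
  have hεet : Etale ε := MorphismProperty.of_isPullback hpb inferInstance
  obtain ⟨q, hq⟩ : ∃ q : W'.toScheme ⟶ pullback f v, q = W'.ι ≫ ε := ⟨_, rfl⟩
  have hqet : Etale q := by rw [hq]; infer_instance
  have hqsnd : q ≫ pullback.snd f v = W'.ι ≫ pullback.snd (e₀ ≫ f) v := by
    rw [hq, Category.assoc, hε2]
  have hqfin : IsFinite q := by
    have : IsFinite (q ≫ pullback.snd f v) := by rw [hqsnd]; exact hfin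
    exact IsFinite.of_comp q (pullback.snd f v)
  let z : W'.toScheme := ⟨u'', hu''⟩
  have hzι : W'.ι z = u'' := rfl
  have hqz : ∀ z' : W'.toScheme, q z' = ε (W'.ι z') := fun z' => by rw [hq]; rfl
  have hsndq : ∀ z' : W'.toScheme, pullback.snd f v (q z') = pullback.snd (e₀ ≫ f) v (W'.ι z') := by
    intro z'
    rw [← Scheme.Hom.comp_apply, hqsnd]; rfl
  have hfib : q.base ⁻¹' {q z} = {z} := by
    ext z'
    simp only [Set.mem_preimage, Set.mem_singleton_iff]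
    constructor
    · intro hz'
      have h1 : pullback.snd (e₀ ≫ f) v (W'.ι z') = v₀ := by
        rw [← hsndq, hz', hsndq, hzι, hsnd]
      exact Subtype.ext (huniq _ z'.2 h1)
    · rintro rfl; rfl
  have hsurj : Function.Surjective (q.residueFieldMap z) := by
    have h1 : Function.Surjective (ε.residueFieldMap u'') :=
      surjective_residueFieldMap ε (pullback.snd f v) _ hε2 u'' hpi
    subst hq
    rw [Scheme.residueFieldMap_comp]
    have h2 : Function.Bijective (W'.ι.residueFieldMap z) :=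
      ConcreteCategory.bijective_of_isIso _
    exact h2.surjective.comp h1
  obtain ⟨O, hwO, hiso⟩ := Groth.Agent.Lib.Helper70.FiniteEtaleIso.exists_isIso q (q z) z hfib hsurj
  -- the clopen image of `q`
  have hCcl : IsClosed (Set.range q) := q.isClosedMap.isClosed_range
  have hCop : IsOpen (Set.range q) := q.isOpenMap.isOpen_range
  -- the bad locus in `V`
  have hfin' : IsFinite (q ≫ pullback.snd f v) := by rw [hqsnd]; exact hfin
  have hDcl : IsClosed ((q ≫ pullback.snd f v) '' (q ⁻¹' (O : Set ↑(pullback f v))ᶜ)) :=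
    (q ≫ pullback.snd f v).isClosedMap _ (O.2.isClosed_compl.preimage q.continuous)
  have hv₀D : v₀ ∉ (q ≫ pullback.snd f v) '' (q ⁻¹' (O : Set ↑(pullback f v))ᶜ) := by
    rintro ⟨z', hz'O, hz'⟩
    have h1 : pullback.snd (e₀ ≫ f) v (W'.ι z') = v₀ := by
      rw [← hsndq]; exact hz'
    have h2 : z' = z := Subtype.ext (huniq _ z'.2 h1)
    subst h2
    exact hz'O hwO
  obtain ⟨V₁, hV₁⟩ : ∃ V₁ : V.Opens, (V₁ : Set V) =
      ((q ≫ pullback.snd f v) '' (q ⁻¹' (O : Set ↑(pullback f v))ᶜ))ᶜ :=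
    ⟨⟨_, hDcl.isOpen_compl⟩, rfl⟩
  have hv₀V₁ : v₀ ∈ V₁ := by
    show v₀ ∈ (V₁ : Set V)
    rw [hV₁]; exact hv₀D
  refine ⟨V₁, hv₀V₁, ?_⟩
  obtain ⟨m, hm1, hm2, hm3⟩ : ∃ m : pullback f (V₁.ι ≫ v) ⟶ pullback f v,
      m ≫ pullback.fst f v = pullback.fst f (V₁.ι ≫ v) ∧
      m ≫ pullback.snd f v = pullback.snd f (V₁.ι ≫ v) ≫ V₁.ι ∧
      ∀ (a : ↑(pullback f v)) (b : V₁.toScheme), pullback.snd f v a = V₁.ι b → ∃ p, m p = a := by
    refine ⟨(pullbackLeftPullbackSndIso f v V₁.ι).inv ≫ pullback.fst _ _, ?_, ?_, ?_⟩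
    · rw [Category.assoc, pullbackLeftPullbackSndIso_inv_fst]
    · rw [Category.assoc, pullback.condition, ← Category.assoc,
        pullbackLeftPullbackSndIso_inv_snd_snd]
    · intro a b hab
      obtain ⟨p₁, hp₁, -⟩ := Scheme.Pullback.exists_preimage_pullback a b hab
      refine ⟨(pullbackLeftPullbackSndIso f v V₁.ι).hom p₁, ?_⟩
      rw [← Scheme.Hom.comp_apply, Iso.hom_inv_id_assoc]
      exact hp₁
  let C : (pullback f v).Opens := ⟨Set.range q, hCop⟩
  let W : (pullback f (V₁.ι ≫ v)).Opens := m ⁻¹ᵁ C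
  have hWcl : IsClosed (W : Set ↑(pullback f (V₁.ι ≫ v))) := hCcl.preimage m.continuous
  have hWO : ∀ p : ↑(pullback f (V₁.ι ≫ v)), p ∈ W → m p ∈ O := by
    intro p hp
    obtain ⟨z', hz'⟩ : m p ∈ Set.range q := hp
    by_contra hnot
    have h1 : (q ≫ pullback.snd f v) z' ∈ (V₁ : Set V)ᶜ := by
      rw [hV₁, compl_compl]
      exact ⟨z', by show q z' ∉ O; rw [hz']; exact hnot, rfl⟩
    apply h1
    have h2 : (q ≫ pullback.snd f v) z' = V₁.ι (pullback.snd f (V₁.ι ≫ v) p) := by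
      rw [Scheme.Hom.comp_apply, hz', ← Scheme.Hom.comp_apply, hm2]; rfl
    rw [h2]
    exact (pullback.snd f (V₁.ι ≫ v) p).2
  have hrange : Set.range (W.ι ≫ m).base ⊆ Set.range O.ι.base := by
    rintro _ ⟨p, rfl⟩
    rw [Scheme.Opens.range_ι]
    exact hWO _ p.2
  obtain ⟨φ, hφ⟩ : ∃ φ : W.toScheme ⟶ O.toScheme, φ ≫ O.ι = W.ι ≫ m :=
    ⟨IsOpenImmersion.lift O.ι (W.ι ≫ m) hrange, IsOpenImmersion.lift_fac _ _ _⟩
  obtain ⟨k, hk⟩ : ∃ k : W.toScheme ⟶ W'.toScheme, k = φ ≫ inv (q ∣_ O) ≫ (q ⁻¹ᵁ O).ι := ⟨_, rfl⟩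
  have hkq : k ≫ q = W.ι ≫ m := by
    rw [hk]
    simp only [Category.assoc]
    rw [← morphismRestrict_ι, IsIso.inv_hom_id_assoc, hφ]
  have hWprop : ClSub.IsProperOver (pullback.snd f (V₁.ι ≫ v))
      (W : Set ↑(pullback f (V₁.ι ≫ v))) := by
    haveI : UniversallyClosed q := inferInstance
    haveI : IsProper (q ≫ pullback.snd f v) := inferInstance
    have hC : ClSub.IsProperOver (pullback.snd f v) (Set.range q) :=
      Groth.Agent.Lib.Helper4.isProperOver_range_of_universallyClosed (pullback.snd f v) q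
    have sq : IsPullback m (pullback.snd f (V₁.ι ≫ v)) (pullback.snd f v) V₁.ι := by
      refine IsPullback.of_right ?_ hm2 (IsPullback.of_hasPullback f v)
      rw [hm1]
      exact IsPullback.of_hasPullback f (V₁.ι ≫ v)
    exact Groth.Agent.S0793.result (pullback.snd f v) V₁.ι m (pullback.snd f (V₁.ι ≫ v)) sq
      (Set.range q) hC
  refine ⟨W, hWcl, hWprop, k, ?_, ?_, ?_⟩
  · rw [← hε1, ← Category.assoc W'.ι, ← hq, ← Category.assoc, hkq, Category.assoc, hm1]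
  · rw [← hqsnd, ← Category.assoc, hkq, Category.assoc, hm2]
  · intro T y zT h1 h2 t
    have hym : y ≫ m = zT ≫ q := by
      apply pullback.hom_ext
      · rw [Category.assoc, hm1, h1, Category.assoc, hq, Category.assoc, hε1]
      · rw [Category.assoc, hm2, h2, Category.assoc, hqsnd]
    show m (y t) ∈ Set.range q
    refine ⟨zT t, ?_⟩
    rw [← Scheme.Hom.comp_apply, ← hym]
    rfl

end Groth.Agent.Lib.Helper70.PropA3
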