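import Mathlib
import Groth.Prelude.Def_BigSite
import Groth.Agent.Lib.Helper70.PropA2
import Groth.Agent.Lib.Helper70.MultiPt

open AlgebraicGeometry CategoryTheory Limits IsLocalRing

universe u

namespace Groth.Agent.Lib.Helper70.FinPushGeom

open Groth.Agent.Lib.Helper70.GeomPts Groth.Agent.Lib.Helper70.MultiPt

set_option backward.isDefEq.respectTransparency.types false in
/-- geometric-point form of condition (A): an étale neighbourhood `(U, u)` of a geometric point of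
`X` is dominated, over a suitable étale neighbourhood `(V, v)` of its image in `Y`, by a clopen
piece `W` of `X ×_Y V` which contains exactly the geometric points of `X ×_Y V` over `v` lying
over `u ≫ e` -/
theorem exists_clopen {X Y U : Scheme.{u}} (f : X ⟶ Y) [IsSeparated f] [LocallyOfFiniteType f]
    [LocallyQuasiFinite f] {Ω : Type u} [Field Ω] [IsAlgClosed Ω]
    (η : Spec (.of Ω) ⟶ Y) (e : U ⟶ X) [Etale e] (u : Spec (.of Ω) ⟶ U) (hu : u ≫ e ≫ f = η) :
    ∃ (V : Scheme.{u}) (g : V ⟶ Y) (_ : Etale g) (v : Spec (.of Ω) ⟶ V), v ≫ g = η ∧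
      ∃ (W : (pullback f g).Opens) (_ : IsClosed (W : Set ↑(pullback f g)))
        (h : W.toScheme ⟶ U), h ≫ e = W.ι ≫ pullback.fst f g ∧
        (∀ y : Spec (.of Ω) ⟶ pullback f g, y ≫ pullback.snd f g = v →
          y ≫ pullback.fst f g = u ≫ e → ∀ t, y t ∈ W) ∧
        (∀ yW : Spec (.of Ω) ⟶ W.toScheme, yW ≫ W.ι ≫ pullback.snd f g = v → yW ≫ h = u) := by
  classical
  have : LocallyQuasiFinite e := Groth.Agent.Lib.Helper70.WeightingLSC.locallyQuasiFinite_of_etale e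
  have hlqf : LocallyQuasiFinite (e ≫ f) := inferInstance
  let t₀ : GPts Ω (e ≫ f) η := ⟨u, hu⟩
  obtain ⟨V₀, g₀, hg₀, vb, hvb, O, hO⟩ := exists_good (e ≫ f) η {t₀}
  have hgood := hO t₀ (Finset.mem_singleton_self _)
  obtain ⟨p, hpO, hp₂, hp₃, hp₄, hp₅⟩ := hgood.exists_point
  obtain ⟨hfin, ⟨z, hz₁, hz₂⟩, huniq⟩ := hgood
  have hpi := isPurelyInseparable_of_gpts_subsingleton (pullback.snd (e ≫ f) g₀) vb p hp₂
    (finite_residueFieldMap _ _) (by
      intro t₁ t₂ h₁ h₂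
      apply Subtype.ext
      apply pullback.hom_ext
      · rw [(hp₅ t₁).mp h₁, (hp₅ t₂).mp h₂]
      · rw [t₁.2, t₂.2])
  obtain ⟨V₁, hV₁, W, hWcl, k, hk₁, hk₂, hk₃⟩ := PropA2.core' f e g₀ (vb (closedPoint Ω)) (O t₀)
    hfin p hpO hp₂ hp₄ hpi
  have hrange : Set.range vb.base ⊆ Set.range V₁.ι.base := by
    rintro _ ⟨a, rfl⟩
    rw [Subsingleton.elim a (closedPoint Ω), Scheme.Opens.range_ι]
    exact hV₁
  obtain ⟨v, hv⟩ : ∃ v : Spec (.of Ω) ⟶ V₁.toScheme, v ≫ V₁.ι = vb :=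
    ⟨IsOpenImmersion.lift V₁.ι vb hrange, IsOpenImmersion.lift_fac _ _ _⟩
  refine ⟨V₁.toScheme, V₁.ι ≫ g₀, inferInstance, v, by rw [← Category.assoc, hv, hvb], W, hWcl,
    k ≫ (O t₀).ι ≫ pullback.fst (e ≫ f) g₀, ?_, ?_, ?_⟩
  · simp only [Category.assoc]; exact hk₁
  · intro y hy₂ hy₁ t
    refine hk₃ _ y z ?_ ?_ t
    · rw [hy₁]
      have := congrArg (fun q => q ≫ e) hz₂
      simpa only [Category.assoc] using this.symm
    · rw [← Category.assoc, hy₂, hv, hz₁]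
  · intro yW hyW
    have h1 : (yW ≫ k) ≫ (O t₀).ι ≫ pullback.snd (e ≫ f) g₀ = vb := by
      rw [Category.assoc, hk₂, ← Category.assoc, ← Category.assoc, Category.assoc yW, hyW, hv]
    have h2 := huniq ⟨yW ≫ k, h1⟩
    simpa only [Category.assoc] using h2

end Groth.Agent.Lib.Helper70.FinPushGeom
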