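import Mathlib
import Groth.Prelude.Def_BigSite
import Groth.Agent.S6632

open AlgebraicGeometry CategoryTheory Limits Opposite

universe u

namespace Groth.Agent.Lib.Helper70.PropAFaithful

variable {X : Scheme.{u}}

/-- the underlying sheaf of types of an abelian étale sheaf -/
noncomputable abbrev toType (F : EtCoh.Ab X) : Sheaf X.smallEtaleTopology (Type (u + 1)) :=
  (sheafCompose X.smallEtaleTopology (forget AddCommGrpCat.{u + 1})).obj F

/-- sections that agree locally agree -/
theorem eq_of_locally_eq (G : EtCoh.Ab X) (U : X.Etale) (t₁ t₂ : G.obj.obj (op U))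
    (h : ∀ u : U.left, ∃ (Z : X.Etale) (k : Z ⟶ U) (z : Z.left), k.left.base z = u ∧
      G.obj.map k.op t₁ = G.obj.map k.op t₂) : t₁ = t₂ := by
  let S : Sieve U :=
    { arrows := fun Z k => G.obj.map k.op t₁ = G.obj.map k.op t₂
      downward_closed := by
        intro Z Z' k hk g
        simp only [op_comp, Functor.map_comp, ConcreteCategory.comp_apply]
        rw [hk] }
  have hS : S ∈ X.smallEtaleTopology U := by
    rw [Groth.Agent.S6632.mem_smallEtaleTopology_iff]
    intro u
    obtain ⟨Z, k, z, hz, hk⟩ := h u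
    exact ⟨Z, k, z, hk, hz⟩
  have hsep := ((isSheaf_iff_isSheaf_of_type _ _).1 (toType G).2).isSeparated _ hS
  apply hsep.ext (t₁ := t₁) (t₂ := t₂)
  intro Z k hk
  exact hk

/-- sections over an empty étale scheme are all equal -/
theorem eq_of_isEmpty (G : EtCoh.Ab X) (T : X.Etale) (hT : IsEmpty T.left)
    (t₁ t₂ : G.obj.obj (op T)) : t₁ = t₂ :=
  eq_of_locally_eq G T t₁ t₂ (fun u => (hT.false u).elim)

/-- gluing a section on one part of a disjoint cover with zero on the other -/
theorem exists_extension (F : EtCoh.Ab X) (P Z Zc : X.Etale) (a : Z ⟶ P) (b : Zc ⟶ P)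
    (ha : Mono a.left)
    (hcov : ∀ p : P.left, p ∈ Set.range a.left.base ∨ p ∈ Set.range b.left.base)
    (hdisj : ∀ (z : Z.left) (z' : Zc.left), a.left.base z ≠ b.left.base z')
    (s : F.obj.obj (op Z)) : ∃ s' : F.obj.obj (op P), F.obj.map a.op s' = s := by
  let Xi : Bool → X.Etale := fun i => cond i Z Zc
  let π : ∀ i, Xi i ⟶ P := fun i => match i with
    | true => a
    | false => b
  let x : ∀ i, (toType F).obj.obj (op (Xi i)) := fun i => match i with
    | true => s
    | false => (0 : F.obj.obj (op Zc))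
  have hcover : Sieve.generate (Presieve.ofArrows Xi π) ∈ X.smallEtaleTopology P := by
    rw [Groth.Agent.S6632.mem_smallEtaleTopology_iff]
    intro p
    rcases hcov p with ⟨z, hz⟩ | ⟨z, hz⟩
    · exact ⟨Z, a, z, Sieve.le_generate _ _ _ (Presieve.ofArrows.mk (ι := Bool) true), hz⟩
    · exact ⟨Zc, b, z, Sieve.le_generate _ _ _ (Presieve.ofArrows.mk (ι := Bool) false), hz⟩
  have hsheaf : (Presieve.ofArrows Xi π).IsSheafFor (toType F).obj := by
    rw [Presieve.isSheafFor_iff_generate]
    exact (isSheaf_iff_isSheaf_of_type _ _).1 (toType F).2 _ hcover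
  rw [Presieve.isSheafFor_arrows_iff] at hsheaf
  have hcompat : Presieve.Arrows.Compatible (toType F).obj π x := by
    intro i j T gi gj hij
    have hempty : ∀ (gi : T ⟶ Z) (gj : T ⟶ Zc), gi ≫ a = gj ≫ b → IsEmpty T.left := by
      intro gi gj h
      refine ⟨fun t => hdisj (gi.left.base t) (gj.left.base t) ?_⟩
      have h1 : (gi ≫ a).left.base t = (gj ≫ b).left.base t := by rw [h]
      exact h1
    match i, j with
    | true, true =>
      have h1 : gi.left ≫ a.left = gj.left ≫ a.left := by
        have := congrArg (fun k => k.left) hij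
        exact this
      have h2 : gi.left = gj.left := (cancel_mono a.left).mp h1
      have h3 : gi = gj := MorphismProperty.Over.Hom.ext h2
      rw [h3]
    | true, false => exact eq_of_isEmpty F T (hempty gi gj hij) _ _
    | false, true => exact eq_of_isEmpty F T (hempty gj gi hij.symm) _ _
    | false, false =>
      show F.obj.map gi.op (0 : F.obj.obj (op Zc)) = F.obj.map gj.op (0 : F.obj.obj (op Zc))
      rw [map_zero, map_zero]
  obtain ⟨s', hs', -⟩ := hsheaf x hcompat
  exact ⟨s', hs' true⟩

set_option backward.isDefEq.respectTransparency.types false in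
/-- under condition (A), a morphism of abelian étale sheaves killed by the direct image is zero -/
theorem eq_zero_of_push_eq_zero {X Y : Scheme.{u}} (f : X ⟶ Y) (hA : BigSite.PropA f)
    {F G : EtCoh.Ab X} (φ : F ⟶ G) (h0 : (EtCoh.push f).map φ = 0) : φ = 0 := by
  apply Sheaf.hom_ext
  apply NatTrans.ext
  funext U
  apply ConcreteCategory.hom_ext
  intro s
  obtain ⟨U⟩ := U
  show φ.hom.app (op U) s = 0
  apply eq_of_locally_eq G U
  intro u
  obtain ⟨V, v, hv, W, hWcl, h, hh, hu⟩ := hA U.left U.hom u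
  obtain ⟨z, hz⟩ := hu
  -- the clopen piece and its complement as objects of the small étale site
  let Wc : (pullback f v).Opens := ⟨(W : Set ↥(pullback f v))ᶜ, hWcl.isOpen_compl⟩
  let Z : X.Etale := Scheme.Etale.mk (W.ι ≫ pullback.fst f v)
  let Zc : X.Etale := Scheme.Etale.mk (Wc.ι ≫ pullback.fst f v)
  let Vv : Y.Etale := Scheme.Etale.mk v
  let P : X.Etale := (EtCoh.bc f).obj Vv
  let a : Z ⟶ P := MorphismProperty.Over.homMk (W.ι ≫ (pullbackSymmetry f v).hom)
    (by
      show (W.ι ≫ (pullbackSymmetry f v).hom) ≫ pullback.snd v f = W.ι ≫ pullback.fst f v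
      rw [Category.assoc, pullbackSymmetry_hom_comp_snd]) trivial
  let b : Zc ⟶ P := MorphismProperty.Over.homMk (Wc.ι ≫ (pullbackSymmetry f v).hom)
    (by
      show (Wc.ι ≫ (pullbackSymmetry f v).hom) ≫ pullback.snd v f = Wc.ι ≫ pullback.fst f v
      rw [Category.assoc, pullbackSymmetry_hom_comp_snd]) trivial
  let k : Z ⟶ U := MorphismProperty.Over.homMk h hh trivial
  refine ⟨Z, k, z, hz, ?_⟩
  have ha : Mono a.left := by
    show Mono (W.ι ≫ (pullbackSymmetry f v).hom)
    infer_instance
  have hcov : ∀ p : P.left, p ∈ Set.range a.left.base ∨ p ∈ Set.range b.left.base := by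
    intro p
    obtain ⟨p', rfl⟩ : ∃ p' : ↥(pullback f v), (pullbackSymmetry f v).hom p' = p :=
      ⟨(pullbackSymmetry f v).inv p, by
        rw [← Scheme.Hom.comp_apply, Iso.inv_hom_id]; rfl⟩
    by_cases hp : p' ∈ W
    · exact Or.inl ⟨⟨p', hp⟩, rfl⟩
    · exact Or.inr ⟨⟨p', hp⟩, rfl⟩
  have hdisj : ∀ (z : Z.left) (z' : Zc.left), a.left.base z ≠ b.left.base z' := by
    intro z z' hzz'
    have h1 : (pullbackSymmetry f v).hom (W.ι z) = (pullbackSymmetry f v).hom (Wc.ι z') := hzz'
    have hinj : Function.Injective (pullbackSymmetry f v).hom :=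
      (pullbackSymmetry f v).hom.homeomorph.injective
    have h2 : W.ι z = Wc.ι z' := hinj h1
    have h3 : (Wc.ι z') ∈ W := by rw [← h2]; exact z.2
    exact z'.2 h3
  obtain ⟨s', hs'⟩ := exists_extension F P Z Zc a b ha hcov hdisj (F.obj.map k.op s)
  have h1 : φ.hom.app (op P) s' = 0 := by
    have h2 := congrArg (fun ψ => ψ.hom.app (op Vv) s') h0
    exact h2
  have n1 := NatTrans.naturality_apply φ.hom k.op s
  have n2 := NatTrans.naturality_apply φ.hom a.op s'
  rw [← n1, ← hs', n2, h1, map_zero, map_zero]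

end Groth.Agent.Lib.Helper70.PropAFaithful
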