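import Mathlib
import Groth.Prelude.Def_EtBase
import Groth.Agent.Lib.Helper70.StalkPullGerm
import Groth.Agent.Lib.Helper70.Supp2

set_option autoImplicit false
open CategoryTheory CategoryTheory.Limits AlgebraicGeometry Opposite

universe u

namespace Groth.Agent.Lib.Helper70.PullSection

open Groth.Agent.Lib.Helper70.ClosedImmStalk2 Groth.Agent.Lib.Helper70.StalkPull
  Groth.Agent.Lib.Helper70.StalkPullGerm Groth.Agent.Lib.Helper70.StalkCons

variable {S : Scheme.{u}} (F : EtCoh.Ab S)

set_option backward.isDefEq.respectTransparency.types false in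
/-- if the germ of a section at a geometric point vanishes, then the centre of the geometric point
is not in the support -/
theorem notMem_of_germ_eq_zero' {Ω : Type u} [Field Ω] [IsSepClosed Ω]
    (ξ : Spec (CommRingCat.of Ω) ⟶ S) (U : S.Etale) (σ : EtCoh.sect F U)
    (xl : Spec (CommRingCat.of Ω) ⟶ U.left) (hxl : xl ≫ U.hom = ξ)
    (h0 : (Scheme.pointSmallEtale ξ).toPresheafFiber U (Over.homMk xl hxl) F.obj σ = 0) :
    xl.base default ∉ EtShriek.sectSupp F U σ := by
  intro hp
  have h0' : (Scheme.pointSmallEtale ξ).toPresheafFiber U (Over.homMk xl hxl) F.obj σ =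
      (Scheme.pointSmallEtale ξ).toPresheafFiber U (Over.homMk xl hxl) F.obj 0 := by
    rw [h0]
    exact (map_zero ((Scheme.pointSmallEtale ξ).toPresheafFiber U (Over.homMk xl hxl)
      F.obj).hom).symm
  rw [GrothendieckTopology.Point.toPresheafFiber_eq_iff'] at h0'
  obtain ⟨Y, f, y, hy, hz'⟩ := h0'
  rw [map_zero] at hz'
  let yl : Spec (CommRingCat.of Ω) ⟶ Y.left := y.left
  refine hp Y f ⟨yl.base default, ?_⟩ hz'
  have h3 : yl ≫ f.left = xl := congrArg (fun k => k.left) hy
  rw [← Scheme.Hom.comp_apply, h3]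

variable {T : Scheme.{u}} (f : T ⟶ S)

instance : ((EtCoh.bc f).sheafPushforwardContinuous AddCommGrpCat.{u + 1} S.smallEtaleTopology
    T.smallEtaleTopology).IsRightAdjoint := (EtCoh.pullPushAdj f).isRightAdjoint

set_option backward.isDefEq.respectTransparency.types false in
/-- germs of the pulled back section -/
theorem germ_pull {Ω : Type u} [Field Ω] [IsSepClosed Ω] (τ : Spec (CommRingCat.of Ω) ⟶ T)
    (V : S.Etale) (v : (Scheme.pointSmallEtale (τ ≫ f)).fiber.obj V) (s : EtCoh.sect F V) :
    (stalkPullIso f τ AddCommGrpCat.{u + 1}).inv.app F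
      ((Scheme.pointSmallEtale (τ ≫ f)).toPresheafFiber V v F.obj s) =
    (Scheme.pointSmallEtale τ).toPresheafFiber ((EtCoh.bc f).obj V) (tilde f τ V v)
      ((EtCoh.pull f).obj F).obj (((EtCoh.pullPushAdj f).unit.app F).hom.app (op V) s) := by
  have h := germ_stalkPullIso_inv f τ AddCommGrpCat.{u + 1} F V v
  exact ConcreteCategory.congr_hom h s

set_option backward.isDefEq.respectTransparency.types false in
/-- the pullback of a global section `d` along `f` vanishes iff `f` lands in the complement of the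
support of `d` -/
theorem unit_eq_zero_iff (d : EtCoh.sect F (EtCoh.top S)) :
    ((EtCoh.pullPushAdj f).unit.app F).hom.app (op (EtCoh.top S)) d = 0 ↔
      Set.range f.base ⊆ (EtShriek.sectSupp F (EtCoh.top S) d)ᶜ := by
  constructor
  · rintro h _ ⟨y, rfl⟩
    let τ := geomPt (EtCoh.top T) y
    let v : (Scheme.pointSmallEtale (τ ≫ f)).fiber.obj (EtCoh.top S) :=
      Over.homMk (τ ≫ f) (Category.comp_id _)
    have h1 := germ_pull F f τ (EtCoh.top S) v d
    have hz : (Scheme.pointSmallEtale τ).toPresheafFiber ((EtCoh.bc f).obj (EtCoh.top S))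
        (tilde f τ (EtCoh.top S) v) ((EtCoh.pull f).obj F).obj
        (((EtCoh.pullPushAdj f).unit.app F).hom.app (op (EtCoh.top S)) d) = 0 := by
      rw [h]
      exact map_zero ((Scheme.pointSmallEtale τ).toPresheafFiber ((EtCoh.bc f).obj (EtCoh.top S))
        (tilde f τ (EtCoh.top S) v) ((EtCoh.pull f).obj F).obj).hom
    have h1' := h1.trans hz
    have h2 : (Scheme.pointSmallEtale (τ ≫ f)).toPresheafFiber (EtCoh.top S) v F.obj d = 0 := by
      have e := ConcreteCategory.congr_hom
        ((stalkPullIso f τ AddCommGrpCat.{u + 1}).app F).inv_hom_id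
        ((Scheme.pointSmallEtale (τ ≫ f)).toPresheafFiber (EtCoh.top S) v F.obj d)
      have e2 := congrArg ((stalkPullIso f τ AddCommGrpCat.{u + 1}).hom.app F) h1'
      exact e.symm.trans (e2.trans (map_zero ((stalkPullIso f τ AddCommGrpCat.{u + 1}).hom.app F).hom))
    have h3 := notMem_of_germ_eq_zero' F (τ ≫ f) (EtCoh.top S) d (τ ≫ f) (Category.comp_id _) h2
    have h4 : (τ ≫ f).base default = f.base y := by
      have h5 : τ.base default = y := geomPt_apply (EtCoh.top T) y default
      exact (Scheme.Hom.comp_apply τ f default).trans (congrArg f.base h5)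
    exact fun hmem => h3 (h4 ▸ hmem)
  · intro h
    apply eq_zero_of_germs ((EtCoh.pull f).obj F) ((EtCoh.bc f).obj (EtCoh.top S))
    intro Ω _ _ τ x
    let v := (tilde f τ (EtCoh.top S)).symm x
    have hx : x = tilde f τ (EtCoh.top S) v := (Equiv.apply_symm_apply _ _).symm
    rw [hx, ← germ_pull F f τ (EtCoh.top S) v d]
    have hv : v = Over.homMk v.left (Over.w v) := by
      apply Over.OverMorphism.ext
      rfl
    have h0 : (Scheme.pointSmallEtale (τ ≫ f)).toPresheafFiber (EtCoh.top S) v F.obj d = 0 := by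
      rw [hv]
      apply Supp.germ_eq_zero_of_notMem
      have hvl : (v.left : Spec (CommRingCat.of Ω) ⟶ S) = τ ≫ f :=
        (Category.comp_id _).symm.trans (Over.w v)
      apply h
      refine ⟨τ.base default, ?_⟩
      rw [hvl]
      rfl
    rw [h0]
    exact map_zero ((stalkPullIso f τ AddCommGrpCat.{u + 1}).inv.app F).hom

end Groth.Agent.Lib.Helper70.PullSection
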