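import Mathlib
import Groth.Agent.Lib.Helper70.Supp2
import Groth.Agent.S6632

set_option autoImplicit false
open CategoryTheory CategoryTheory.Limits AlgebraicGeometry Opposite

universe u

namespace Groth.Agent.Lib.Helper70.PushStalkZero

open Groth.Agent.Lib.Helper70.StalkCons Groth.Agent.Lib.Helper70.Supp

variable {X Y : Scheme.{u}} (f : X ⟶ Y) [UniversallyClosed f] (H : EtCoh.Ab X)
  {Ω : Type u} [Field Ω] [IsSepClosed Ω] (ξ : Spec (CommRingCat.of Ω) ⟶ Y)

set_option backward.isDefEq.respectTransparency.types false in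
/-- the stalk of `f_* H` at `ξ` vanishes if `f` is universally closed and `H` has vanishing stalks
at all geometric points over `ξ` -/
theorem isZero_stalk_push
    (hH : ∀ (Ω' : Type u) [Field Ω'] [IsSepClosed Ω'] (x : Spec (CommRingCat.of Ω') ⟶ X),
      f.base (x.base default) = ξ.base default → IsZero ((EtCoh.stalk x).obj H)) :
    IsZero ((EtCoh.stalk ξ).obj ((EtCoh.push f).obj H)) := by
  suffices h : ∀ t : ToType ((EtCoh.stalk ξ).obj ((EtCoh.push f).obj H)), t = 0 by
    haveI : Subsingleton ((EtCoh.stalk ξ).obj ((EtCoh.push f).obj H)) :=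
      ⟨fun a b => (h a).trans (h b).symm⟩
    exact AddCommGrpCat.isZero_of_subsingleton _
  intro t
  obtain ⟨W, w, s, rfl⟩ := (Scheme.pointSmallEtale ξ).toPresheafFiber_jointly_surjective t
  let WL : Scheme.{u} := W.left
  let Wh : WL ⟶ Y := W.hom
  let wl : Spec (CommRingCat.of Ω) ⟶ WL := w.left
  have hwl : wl ≫ Wh = ξ := Over.w w
  -- the section `s` lives over `bc f W`
  let s' : EtCoh.sect H ((EtCoh.bc f).obj W) := s
  let pW : ((EtCoh.bc f).obj W).left ⟶ WL := pullback.fst W.hom f
  let C : Set WL := pW.base '' EtShriek.sectSupp H ((EtCoh.bc f).obj W) s'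
  haveI : UniversallyClosed pW :=
    MorphismProperty.pullback_fst (P := @UniversallyClosed) W.hom f inferInstance
  have hC : IsClosed C := pW.isClosedMap _ (isClosed_sectSupp H _ s')
  have hw0 : wl.base default ∉ C := by
    rintro ⟨p, hp, hpw⟩
    refine notMem_of_isZero_stalk H _ s' p ?_ hp
    apply hH
    rw [Scheme.Hom.comp_apply, geomPt_apply]
    have e0 : pullback.snd W.hom f ≫ f = pW ≫ Wh := pullback.condition.symm
    have e1 : f.base ((pullback.snd W.hom f).base p) = Wh.base (pW.base p) :=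
      congrArg (fun q : ((EtCoh.bc f).obj W).left ⟶ Y => q.base p) e0
    refine e1.trans ?_
    rw [hpw, ← Scheme.Hom.comp_apply, hwl]
  let O : WL.Opens := ⟨Cᶜ, hC.isOpen_compl⟩
  haveI : Etale Wh := W.prop
  haveI : IsOpenImmersion O.ι := Scheme.Opens.instIsOpenImmersionι O
  let W' : Y.Etale := Scheme.Etale.mk (O.ι ≫ Wh)
  let g : W' ⟶ W := MorphismProperty.Over.homMk O.ι rfl trivial
  have hrange : Set.range wl.base ⊆ Set.range O.ι.base := by
    rintro _ ⟨t, rfl⟩
    rw [Subsingleton.elim t default, Scheme.Opens.range_ι]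
    exact hw0
  let wl' : Spec (CommRingCat.of Ω) ⟶ O.toScheme := IsOpenImmersion.lift O.ι wl hrange
  have hwl' : wl' ≫ O.ι = wl := IsOpenImmersion.lift_fac _ _ _
  let w' : (Scheme.pointSmallEtale ξ).fiber.obj W' := Over.homMk wl' (by
    change wl' ≫ O.ι ≫ Wh = ξ
    rw [← Category.assoc, hwl', hwl])
  have hw' : (Scheme.pointSmallEtale ξ).fiber.map g w' = w := by
    apply Over.OverMorphism.ext
    exact hwl'
  have hs0 : ((EtCoh.push f).obj H).obj.map g.op s = 0 := by
    change H.obj.map ((EtCoh.bc f).map g).op s' = 0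
    apply eq_zero_of_sectSupp_eq_empty
    rw [Set.eq_empty_iff_forall_notMem]
    intro p' hp'
    let bg : ((EtCoh.bc f).obj W').left ⟶ ((EtCoh.bc f).obj W).left := ((EtCoh.bc f).map g).left
    have hp : bg.base p' ∈ EtShriek.sectSupp H ((EtCoh.bc f).obj W) s' := by
      by_contra hnp
      refine notMem_of_germ_eq_zero H _ _ p' ?_ hp'
      have k := ConcreteCategory.congr_hom ((Scheme.pointSmallEtale
        (geomPt ((EtCoh.bc f).obj W') p' ≫ ((EtCoh.bc f).obj W').hom)).toPresheafFiber_w
          ((EtCoh.bc f).map g) (geomPtFiber _ p') H.obj) s'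
      rw [ConcreteCategory.comp_apply] at k
      refine k.trans ?_
      set x := (Scheme.pointSmallEtale
        (geomPt ((EtCoh.bc f).obj W') p' ≫ ((EtCoh.bc f).obj W').hom)).fiber.map
          ((EtCoh.bc f).map g) (geomPtFiber _ p') with hxdef
      have hx : x = Over.homMk x.left (Over.w x) := by
        apply Over.OverMorphism.ext
        rfl
      rw [hx]
      apply germ_eq_zero_of_notMem
      have hxl : x.left = geomPt ((EtCoh.bc f).obj W') p' ≫ bg := rfl
      rw [hxl, Scheme.Hom.comp_apply, geomPt_apply]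
      exact hnp
    have hmem : pW.base (bg.base p') ∈ C := ⟨_, hp, rfl⟩
    let pW' : ((EtCoh.bc f).obj W').left ⟶ O.toScheme := pullback.fst W'.hom f
    have e5 : bg ≫ pW = pW' ≫ O.ι := Groth.Agent.S6632.bc_map_left_fst f g
    have h2 : pW.base (bg.base p') = O.ι.base (pW'.base p') :=
      congrArg (fun q : ((EtCoh.bc f).obj W').left ⟶ WL => q.base p') e5
    rw [h2] at hmem
    exact (pW'.base p').2 hmem
  rw [← hw']
  have k := ConcreteCategory.congr_hom
    ((Scheme.pointSmallEtale ξ).toPresheafFiber_w g w' ((EtCoh.push f).obj H).obj) s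
  rw [ConcreteCategory.comp_apply] at k
  refine k.symm.trans ?_
  rw [hs0]
  exact map_zero ((Scheme.pointSmallEtale ξ).toPresheafFiber W' w' ((EtCoh.push f).obj H).obj).hom

end Groth.Agent.Lib.Helper70.PushStalkZero
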