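import Mathlib
import Groth.Prelude.Def_EtBase
import Groth.Agent.Lib.Helper70.FinPushGeom
import Groth.Agent.Lib.Helper70.ClosedImmStalk2
import Groth.Agent.Lib.Helper70.PullSection
import Groth.Agent.Lib.Helper70.PropAFaithful
import Groth.Agent.Lib.Helper70.PushStalkZero
import Groth.Agent.S6632

set_option autoImplicit false
open CategoryTheory CategoryTheory.Limits AlgebraicGeometry Opposite

universe u

namespace Groth.Agent.Lib.Helper70.FinPushStalk

open Groth.Agent.Lib.Helper70.ClosedImmStalk2 Groth.Agent.Lib.Helper70.PropAFaithful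

section Glue

variable {X : Scheme.{u}}

/-- gluing a section on one part of a disjoint cover with zero on the other -/
theorem exists_extension' (F : EtCoh.Ab X) (P Z Zc : X.Etale) (a : Z ⟶ P) (b : Zc ⟶ P)
    (ha : Mono a.left)
    (hcov : ∀ p : P.left, p ∈ Set.range a.left.base ∨ p ∈ Set.range b.left.base)
    (hdisj : ∀ (z : Z.left) (z' : Zc.left), a.left.base z ≠ b.left.base z')
    (s : F.obj.obj (op Z)) : ∃ s' : F.obj.obj (op P), F.obj.map a.op s' = s ∧
      F.obj.map b.op s' = 0 := by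
  let Xi : Bool → X.Etale := fun i => cond i Z Zc
  let π : ∀ i, Xi i ⟶ P := fun i => match i with
    | true => a
    | false => b
  let x : ∀ i, (toType F).obj.obj (op (Xi i)) := fun i => match i with
    | true => s
    | false => (0 : F.obj.obj (op Zc))
  have hcover : Sieve.generate (Presieve.ofArrows Xi π) ∈ X.smallEtaleTopology P := by
    rw [Groth.Agent.S6632.mem_smallEtaleTopology_iff]
    intro p
    rcases hcov p with ⟨z, hz⟩ | ⟨z, hz⟩
    · exact ⟨Z, a, z, Sieve.le_generate _ _ _ (Presieve.ofArrows.mk (ι := Bool) true), hz⟩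
    · exact ⟨Zc, b, z, Sieve.le_generate _ _ _ (Presieve.ofArrows.mk (ι := Bool) false), hz⟩
  have hsheaf : (Presieve.ofArrows Xi π).IsSheafFor (toType F).obj := by
    rw [Presieve.isSheafFor_iff_generate]
    exact (isSheaf_iff_isSheaf_of_type _ _).1 (toType F).2 _ hcover
  rw [Presieve.isSheafFor_arrows_iff] at hsheaf
  have hcompat : Presieve.Arrows.Compatible (toType F).obj π x := by
    intro i j T gi gj hij
    have hempty : ∀ (gi : T ⟶ Z) (gj : T ⟶ Zc), gi ≫ a = gj ≫ b → IsEmpty T.left := by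
      intro gi gj h
      refine ⟨fun t => hdisj (gi.left.base t) (gj.left.base t) ?_⟩
      have h1 : (gi ≫ a).left.base t = (gj ≫ b).left.base t := by rw [h]
      exact h1
    match i, j with
    | true, true =>
      have h1 : gi.left ≫ a.left = gj.left ≫ a.left := by
        have := congrArg (fun k => k.left) hij
        exact this
      have h2 : gi.left = gj.left := (cancel_mono a.left).mp h1
      have h3 : gi = gj := MorphismProperty.Over.Hom.ext h2
      rw [h3]
    | true, false => exact eq_of_isEmpty F T (hempty gi gj hij) _ _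
    | false, true => exact eq_of_isEmpty F T (hempty gj gi hij.symm) _ _
    | false, false =>
      show F.obj.map gi.op (0 : F.obj.obj (op Zc)) = F.obj.map gj.op (0 : F.obj.obj (op Zc))
      rw [map_zero, map_zero]
  obtain ⟨s', hs', -⟩ := hsheaf x hcompat
  exact ⟨s', hs' true, hs' false⟩

end Glue

variable {X Y : Scheme.{u}} (f : X ⟶ Y) (F : EtCoh.Ab X) {Ω : Type u} [Field Ω] [IsSepClosed Ω]
  (η : Spec (CommRingCat.of Ω) ⟶ Y) (ξ : Spec (CommRingCat.of Ω) ⟶ X) (hξ : ξ ≫ f = η)

set_option backward.isDefEq.respectTransparency.types false in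
/-- geometric points of `V` over `η` lift to geometric points of `V ×_Y X` over `ξ` -/
noncomputable def lift (V : Y.Etale) (x : (Scheme.pointSmallEtale η).fiber.obj V) :
    (Scheme.pointSmallEtale ξ).fiber.obj ((EtCoh.bc f).obj V) :=
  Over.homMk (pullback.lift (x.left : Spec (CommRingCat.of Ω) ⟶ V.left) ξ
    ((CategoryTheory.Over.w x).trans hξ.symm)) (pullback.lift_snd _ _ _)

set_option backward.isDefEq.respectTransparency.types false in
theorem lift_map {V V' : Y.Etale} (g : V ⟶ V') (x : (Scheme.pointSmallEtale η).fiber.obj V) :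
    lift f η ξ hξ V' ((Scheme.pointSmallEtale η).fiber.map g x) =
      (Scheme.pointSmallEtale ξ).fiber.map ((EtCoh.bc f).map g) (lift f η ξ hξ V x) := by
  subst hξ
  exact tilde_map f ξ g x

set_option backward.isDefEq.respectTransparency.types false in
/-- the comparison map `(f_* F)_η ⟶ F_ξ` -/
noncomputable def Ψ : (Scheme.pointSmallEtale η).presheafFiber.obj ((EtCoh.push f).obj F).obj ⟶
    (Scheme.pointSmallEtale ξ).presheafFiber.obj F.obj :=
  (Scheme.pointSmallEtale η).presheafFiberDesc (P := ((EtCoh.push f).obj F).obj)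
    (fun V x => ((Scheme.pointSmallEtale ξ).toPresheafFiber ((EtCoh.bc f).obj V)
      (lift f η ξ hξ V x) F.obj : ((EtCoh.push f).obj F).obj.obj (op V) ⟶ _))
    (by
      intro V V' g x
      change F.obj.map ((EtCoh.bc f).map g).op ≫ (Scheme.pointSmallEtale ξ).toPresheafFiber _
        (lift f η ξ hξ V x) F.obj = (Scheme.pointSmallEtale ξ).toPresheafFiber _
        (lift f η ξ hξ V' ((Scheme.pointSmallEtale η).fiber.map g x)) F.obj
      rw [lift_map, (Scheme.pointSmallEtale ξ).toPresheafFiber_w])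

set_option backward.isDefEq.respectTransparency.types false in
theorem Ψ_germ (V : Y.Etale) (x : (Scheme.pointSmallEtale η).fiber.obj V)
    (z : ToType (((EtCoh.push f).obj F).obj.obj (op V))) :
    Ψ f F η ξ hξ ((Scheme.pointSmallEtale η).toPresheafFiber V x ((EtCoh.push f).obj F).obj z) =
      (Scheme.pointSmallEtale ξ).toPresheafFiber ((EtCoh.bc f).obj V) (lift f η ξ hξ V x) F.obj z := by
  have := (Scheme.pointSmallEtale η).toPresheafFiber_presheafFiberDesc
    (P := ((EtCoh.push f).obj F).obj)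
    (fun V x => ((Scheme.pointSmallEtale ξ).toPresheafFiber ((EtCoh.bc f).obj V)
      (lift f η ξ hξ V x) F.obj : ((EtCoh.push f).obj F).obj.obj (op V) ⟶ _)) (by
      intro V V' g x
      change F.obj.map ((EtCoh.bc f).map g).op ≫ (Scheme.pointSmallEtale ξ).toPresheafFiber _
        (lift f η ξ hξ V x) F.obj = (Scheme.pointSmallEtale ξ).toPresheafFiber _
        (lift f η ξ hξ V' ((Scheme.pointSmallEtale η).fiber.map g x)) F.obj
      rw [lift_map, (Scheme.pointSmallEtale ξ).toPresheafFiber_w]) V x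
  exact ConcreteCategory.congr_hom this z

section Fin

open Groth.Agent.Lib.Helper70.StalkCons Groth.Agent.Lib.Helper70.Supp
  Groth.Agent.Lib.Helper70.PullSection Groth.Agent.Lib.Helper70.GeomPts

variable {X Y : Scheme.{u}} (f : X ⟶ Y) [IsFinite f] (F : EtCoh.Ab X) {Ω : Type u} [Field Ω]
  [IsAlgClosed Ω] (η : Spec (CommRingCat.of Ω) ⟶ Y)

set_option backward.isDefEq.respectTransparency.types false in
/-- joint injectivity of the comparison maps -/
theorem eq_zero_of_Ψ_eq_zero
    (a : ToType ((Scheme.pointSmallEtale η).presheafFiber.obj ((EtCoh.push f).obj F).obj))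
    (h : ∀ (ξ : Spec (CommRingCat.of Ω) ⟶ X) (hξ : ξ ≫ f = η), Ψ f F η ξ hξ a = 0) : a = 0 := by
  obtain ⟨W, w, s, rfl⟩ := (Scheme.pointSmallEtale η).toPresheafFiber_jointly_surjective a
  let WL : Scheme.{u} := W.left
  let Wh : WL ⟶ Y := W.hom
  let wl : Spec (CommRingCat.of Ω) ⟶ WL := w.left
  have hwl : wl ≫ Wh = η := Over.w w
  let s' : EtCoh.sect F ((EtCoh.bc f).obj W) := s
  let pW : ((EtCoh.bc f).obj W).left ⟶ WL := pullback.fst W.hom f
  let C : Set WL := pW.base '' EtShriek.sectSupp F ((EtCoh.bc f).obj W) s'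
  haveI : IsFinite pW := MorphismProperty.pullback_fst (P := @IsFinite) W.hom f inferInstance
  have hC : IsClosed C := pW.isClosedMap _ (isClosed_sectSupp F _ s')
  have hw0 : wl.base default ∉ C := by
    rintro ⟨p, hp, hpw⟩
    have hpw' : pW p = wl (IsLocalRing.closedPoint Ω) := by
      refine hpw.trans ?_
      congr 1
      exact Subsingleton.elim _ _
    obtain ⟨t, ht⟩ := exists_gpts_of_mem_fibre Ω pW wl p hpw'
    obtain ⟨t1, ht1⟩ : ∃ t1 : Spec (CommRingCat.of Ω) ⟶ ((EtCoh.bc f).obj W).left, t1 = t.1 :=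
      ⟨_, rfl⟩
    have ht2 : t1 ≫ pW = wl := by rw [ht1]; exact t.2
    let ξ : Spec (CommRingCat.of Ω) ⟶ X := t1 ≫ pullback.snd W.hom f
    have hξ : ξ ≫ f = η := by
      change (t1 ≫ pullback.snd W.hom f) ≫ f = η
      have e0 : pullback.snd W.hom f ≫ f = pW ≫ Wh := pullback.condition.symm
      exact (Category.assoc _ _ _).trans ((congrArg (fun q => t1 ≫ q) e0).trans
        ((Category.assoc _ _ _).symm.trans ((congrArg (fun q => q ≫ Wh) ht2).trans hwl)))
    have h0 := h ξ hξ
    rw [Ψ_germ] at h0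
    have hl : lift f η ξ hξ W w = Over.homMk t1 rfl := by
      apply Over.OverMorphism.ext
      apply pullback.hom_ext
      · exact (pullback.lift_fst _ _ _).trans ht2.symm
      · exact (pullback.lift_snd _ _ _)
    rw [hl] at h0
    have h3 := notMem_of_germ_eq_zero' F ξ ((EtCoh.bc f).obj W) s' t1 rfl h0
    apply h3
    have h4 : t1.base default = p := by
      rw [ht1, ← ht]
      congr 1
      exact Subsingleton.elim _ _
    rw [h4]
    exact hp
  let O : WL.Opens := ⟨Cᶜ, hC.isOpen_compl⟩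
  haveI : Etale Wh := W.prop
  haveI : IsOpenImmersion O.ι := Scheme.Opens.instIsOpenImmersionι O
  let W' : Y.Etale := Scheme.Etale.mk (O.ι ≫ Wh)
  let g : W' ⟶ W := MorphismProperty.Over.homMk O.ι rfl trivial
  have hrange : Set.range wl.base ⊆ Set.range O.ι.base := by
    rintro _ ⟨t, rfl⟩
    rw [Subsingleton.elim t default, Scheme.Opens.range_ι]
    exact hw0
  let wl' : Spec (CommRingCat.of Ω) ⟶ O.toScheme := IsOpenImmersion.lift O.ι wl hrange
  have hwl' : wl' ≫ O.ι = wl := IsOpenImmersion.lift_fac _ _ _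
  let w' : (Scheme.pointSmallEtale η).fiber.obj W' := Over.homMk wl' (by
    change wl' ≫ O.ι ≫ Wh = η
    rw [← Category.assoc, hwl', hwl])
  have hw' : (Scheme.pointSmallEtale η).fiber.map g w' = w := by
    apply Over.OverMorphism.ext
    exact hwl'
  have hs0 : ((EtCoh.push f).obj F).obj.map g.op s = 0 := by
    change F.obj.map ((EtCoh.bc f).map g).op s' = 0
    apply eq_zero_of_sectSupp_eq_empty
    rw [Set.eq_empty_iff_forall_notMem]
    intro p' hp'
    let bg : ((EtCoh.bc f).obj W').left ⟶ ((EtCoh.bc f).obj W).left := ((EtCoh.bc f).map g).left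
    have hp : bg.base p' ∈ EtShriek.sectSupp F ((EtCoh.bc f).obj W) s' := by
      by_contra hnp
      refine notMem_of_germ_eq_zero F _ _ p' ?_ hp'
      have k := ConcreteCategory.congr_hom ((Scheme.pointSmallEtale
        (geomPt ((EtCoh.bc f).obj W') p' ≫ ((EtCoh.bc f).obj W').hom)).toPresheafFiber_w
          ((EtCoh.bc f).map g) (geomPtFiber _ p') F.obj) s'
      rw [ConcreteCategory.comp_apply] at k
      refine k.trans ?_
      set x := (Scheme.pointSmallEtale
        (geomPt ((EtCoh.bc f).obj W') p' ≫ ((EtCoh.bc f).obj W').hom)).fiber.map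
          ((EtCoh.bc f).map g) (geomPtFiber _ p') with hxdef
      have hx : x = Over.homMk x.left (Over.w x) := by
        apply Over.OverMorphism.ext
        rfl
      rw [hx]
      apply germ_eq_zero_of_notMem
      have hxl : x.left = geomPt ((EtCoh.bc f).obj W') p' ≫ bg := rfl
      rw [hxl, Scheme.Hom.comp_apply, geomPt_apply]
      exact hnp
    have hmem : pW.base (bg.base p') ∈ C := ⟨_, hp, rfl⟩
    let pW' : ((EtCoh.bc f).obj W').left ⟶ O.toScheme := pullback.fst W'.hom f
    have e5 : bg ≫ pW = pW' ≫ O.ι := Groth.Agent.S6632.bc_map_left_fst f g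
    have h2 : pW.base (bg.base p') = O.ι.base (pW'.base p') :=
      congrArg (fun q : ((EtCoh.bc f).obj W').left ⟶ WL => q.base p') e5
    rw [h2] at hmem
    exact (pW'.base p').2 hmem
  rw [← hw']
  have k := ConcreteCategory.congr_hom
    ((Scheme.pointSmallEtale η).toPresheafFiber_w g w' ((EtCoh.push f).obj F).obj) s
  rw [ConcreteCategory.comp_apply] at k
  refine k.symm.trans ?_
  rw [hs0]
  exact map_zero ((Scheme.pointSmallEtale η).toPresheafFiber W' w' ((EtCoh.push f).obj F).obj).hom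

set_option backward.isDefEq.respectTransparency.types false in
/-- each factor is hit, independently of the others -/
theorem exists_preimage (ξ₀ : Spec (CommRingCat.of Ω) ⟶ X) (hξ₀ : ξ₀ ≫ f = η)
    (b₀ : ToType ((Scheme.pointSmallEtale ξ₀).presheafFiber.obj F.obj)) :
    ∃ a : ToType ((Scheme.pointSmallEtale η).presheafFiber.obj ((EtCoh.push f).obj F).obj),
      Ψ f F η ξ₀ hξ₀ a = b₀ ∧
      ∀ (ξ : Spec (CommRingCat.of Ω) ⟶ X) (hξ : ξ ≫ f = η), ξ ≠ ξ₀ → Ψ f F η ξ hξ a = 0 := by
  obtain ⟨U, u, σ, rfl⟩ := (Scheme.pointSmallEtale ξ₀).toPresheafFiber_jointly_surjective b₀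
  let UL : Scheme.{u} := U.left
  let Uh : UL ⟶ X := U.hom
  haveI : Etale Uh := U.prop
  obtain ⟨ul, hul⟩ : ∃ ul : Spec (CommRingCat.of Ω) ⟶ UL, ul = u.left := ⟨_, rfl⟩
  have hulh : ul ≫ Uh = ξ₀ := by rw [hul]; exact Over.w u
  have hu' : ul ≫ Uh ≫ f = η := by rw [← Category.assoc, hulh, hξ₀]
  obtain ⟨V, g, hg, v, hv, W, hWcl, h, hh, hmem, hout⟩ :=
    Groth.Agent.Lib.Helper70.FinPushGeom.exists_clopen f η Uh ul hu'
  let Wc : (pullback f g).Opens := ⟨(W : Set ↥(pullback f g))ᶜ, hWcl.isOpen_compl⟩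
  let Z : X.Etale := Scheme.Etale.mk (W.ι ≫ pullback.fst f g)
  let Zc : X.Etale := Scheme.Etale.mk (Wc.ι ≫ pullback.fst f g)
  let Vv : Y.Etale := Scheme.Etale.mk g
  let P : X.Etale := (EtCoh.bc f).obj Vv
  let a : Z ⟶ P := MorphismProperty.Over.homMk (W.ι ≫ (pullbackSymmetry f g).hom)
    (by
      show (W.ι ≫ (pullbackSymmetry f g).hom) ≫ pullback.snd g f = W.ι ≫ pullback.fst f g
      rw [Category.assoc, pullbackSymmetry_hom_comp_snd]) trivial
  let b : Zc ⟶ P := MorphismProperty.Over.homMk (Wc.ι ≫ (pullbackSymmetry f g).hom)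
    (by
      show (Wc.ι ≫ (pullbackSymmetry f g).hom) ≫ pullback.snd g f = Wc.ι ≫ pullback.fst f g
      rw [Category.assoc, pullbackSymmetry_hom_comp_snd]) trivial
  let k : Z ⟶ U := MorphismProperty.Over.homMk h hh trivial
  have ha : Mono a.left := by
    show Mono (W.ι ≫ (pullbackSymmetry f g).hom)
    infer_instance
  have hcov : ∀ p : P.left, p ∈ Set.range a.left.base ∨ p ∈ Set.range b.left.base := by
    intro p
    obtain ⟨p', rfl⟩ : ∃ p' : ↥(pullback f g), (pullbackSymmetry f g).hom p' = p :=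
      ⟨(pullbackSymmetry f g).inv p, by
        rw [← Scheme.Hom.comp_apply, Iso.inv_hom_id]; rfl⟩
    by_cases hp : p' ∈ W
    · exact Or.inl ⟨⟨p', hp⟩, rfl⟩
    · exact Or.inr ⟨⟨p', hp⟩, rfl⟩
  have hdisj : ∀ (z : Z.left) (z' : Zc.left), a.left.base z ≠ b.left.base z' := by
    intro z z' hzz'
    have h1 : (pullbackSymmetry f g).hom (W.ι z) = (pullbackSymmetry f g).hom (Wc.ι z') := hzz'
    have hinj : Function.Injective (pullbackSymmetry f g).hom :=
      (pullbackSymmetry f g).hom.homeomorph.injective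
    have h2 : W.ι z = Wc.ι z' := hinj h1
    have h3 : (Wc.ι z') ∈ W := by rw [← h2]; exact z.2
    exact z'.2 h3
  obtain ⟨τ, hτ1, hτ2⟩ := exists_extension' F P Z Zc a b ha hcov hdisj (F.obj.map k.op σ)
  let vv : (Scheme.pointSmallEtale η).fiber.obj Vv := Over.homMk v hv
  refine ⟨(Scheme.pointSmallEtale η).toPresheafFiber Vv vv ((EtCoh.push f).obj F).obj τ, ?_, ?_⟩
  · rw [Ψ_germ]
    let y' : Spec (CommRingCat.of Ω) ⟶ pullback f g := pullback.lift ξ₀ v (by rw [hξ₀, hv])
    have hy'W : ∀ t, y' t ∈ W :=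
      hmem y' (pullback.lift_snd _ _ _) ((pullback.lift_fst _ _ _).trans hulh.symm)
    have hrange : Set.range y'.base ⊆ Set.range W.ι.base := by
      rintro _ ⟨t, rfl⟩
      rw [Scheme.Opens.range_ι]
      exact hy'W t
    let yW : Spec (CommRingCat.of Ω) ⟶ W.toScheme := IsOpenImmersion.lift W.ι y' hrange
    have hyW : yW ≫ W.ι = y' := IsOpenImmersion.lift_fac _ _ _
    let x₁ : (Scheme.pointSmallEtale ξ₀).fiber.obj Z := Over.homMk yW (by
      change yW ≫ W.ι ≫ pullback.fst f g = ξ₀
      rw [← Category.assoc, hyW]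
      exact pullback.lift_fst _ _ _)
    have hx₁a : (Scheme.pointSmallEtale ξ₀).fiber.map a x₁ = lift f η ξ₀ hξ₀ Vv vv := by
      apply Over.OverMorphism.ext
      change yW ≫ W.ι ≫ (pullbackSymmetry f g).hom = pullback.lift v ξ₀ _
      rw [← Category.assoc, hyW]
      apply pullback.hom_ext
      · rw [Category.assoc, pullbackSymmetry_hom_comp_fst, pullback.lift_snd, pullback.lift_fst]
      · rw [Category.assoc, pullbackSymmetry_hom_comp_snd, pullback.lift_fst, pullback.lift_snd]
    have hx₁k : (Scheme.pointSmallEtale ξ₀).fiber.map k x₁ = u := by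
      apply Over.OverMorphism.ext
      change yW ≫ h = u.left
      rw [← hul]
      apply hout
      rw [← Category.assoc, hyW]
      exact pullback.lift_snd _ _ _
    rw [← hx₁a]
    have k1 := ConcreteCategory.congr_hom
      ((Scheme.pointSmallEtale ξ₀).toPresheafFiber_w a x₁ F.obj) τ
    rw [ConcreteCategory.comp_apply] at k1
    refine k1.symm.trans ?_
    rw [hτ1]
    have k2 := ConcreteCategory.congr_hom
      ((Scheme.pointSmallEtale ξ₀).toPresheafFiber_w k x₁ F.obj) σ
    rw [ConcreteCategory.comp_apply] at k2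
    refine k2.trans ?_
    rw [hx₁k]
  · intro ξ hξ hne
    rw [Ψ_germ]
    let y' : Spec (CommRingCat.of Ω) ⟶ pullback f g := pullback.lift ξ v (by rw [hξ, hv])
    have hy'W : ∀ t, y' t ∉ W := by
      intro t ht
      have hrange : Set.range y'.base ⊆ Set.range W.ι.base := by
        rintro _ ⟨t', rfl⟩
        rw [Scheme.Opens.range_ι, Subsingleton.elim t' t]
        exact ht
      let yW : Spec (CommRingCat.of Ω) ⟶ W.toScheme := IsOpenImmersion.lift W.ι y' hrange
      have hyW : yW ≫ W.ι = y' := IsOpenImmersion.lift_fac _ _ _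
      have h1 : yW ≫ h = ul := hout yW (by
        rw [← Category.assoc, hyW]
        exact pullback.lift_snd _ _ _)
      apply hne
      calc ξ = y' ≫ pullback.fst f g := (pullback.lift_fst _ _ _).symm
        _ = yW ≫ W.ι ≫ pullback.fst f g := by rw [← Category.assoc, hyW]
        _ = yW ≫ h ≫ Uh := by rw [hh]
        _ = ul ≫ Uh := by rw [← Category.assoc, h1]
        _ = ξ₀ := hulh
    have hrange : Set.range y'.base ⊆ Set.range Wc.ι.base := by
      rintro _ ⟨t, rfl⟩
      rw [Scheme.Opens.range_ι]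
      exact hy'W t
    let yWc : Spec (CommRingCat.of Ω) ⟶ Wc.toScheme := IsOpenImmersion.lift Wc.ι y' hrange
    have hyWc : yWc ≫ Wc.ι = y' := IsOpenImmersion.lift_fac _ _ _
    let x₂ : (Scheme.pointSmallEtale ξ).fiber.obj Zc := Over.homMk yWc (by
      change yWc ≫ Wc.ι ≫ pullback.fst f g = ξ
      rw [← Category.assoc, hyWc]
      exact pullback.lift_fst _ _ _)
    have hx₂b : (Scheme.pointSmallEtale ξ).fiber.map b x₂ = lift f η ξ hξ Vv vv := by
      apply Over.OverMorphism.ext
      change yWc ≫ Wc.ι ≫ (pullbackSymmetry f g).hom = pullback.lift v ξ _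
      rw [← Category.assoc, hyWc]
      apply pullback.hom_ext
      · rw [Category.assoc, pullbackSymmetry_hom_comp_fst, pullback.lift_snd, pullback.lift_fst]
      · rw [Category.assoc, pullbackSymmetry_hom_comp_snd, pullback.lift_fst, pullback.lift_snd]
    rw [← hx₂b]
    have k1 := ConcreteCategory.congr_hom
      ((Scheme.pointSmallEtale ξ).toPresheafFiber_w b x₂ F.obj) τ
    rw [ConcreteCategory.comp_apply] at k1
    refine k1.symm.trans ?_
    rw [hτ2]
    exact map_zero ((Scheme.pointSmallEtale ξ).toPresheafFiber Zc x₂ F.obj).hom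

set_option backward.isDefEq.respectTransparency.types false in
/-- the stalk of a finite direct image is the sum of the stalks at the points of the geometric
fibre -/
theorem nonempty_iso :
    Nonempty ((EtCoh.stalk η).obj ((EtCoh.push f).obj F) ≅
      ∐ fun ξ : {ξ : Spec (CommRingCat.of Ω) ⟶ X // ξ ≫ f = η} => (EtCoh.stalk ξ.1).obj F) := by
  classical
  haveI : Finite {ξ : Spec (CommRingCat.of Ω) ⟶ X // ξ ≫ f = η} :=
    finite_gpts Ω f η (f.finite_preimage_singleton _)
  letI : Fintype {ξ : Spec (CommRingCat.of Ω) ⟶ X // ξ ≫ f = η} := Fintype.ofFinite _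
  let G : {ξ : Spec (CommRingCat.of Ω) ⟶ X // ξ ≫ f = η} → AddCommGrpCat.{u + 1} :=
    fun ξ => (EtCoh.stalk ξ.1).obj F
  let Φ : (Scheme.pointSmallEtale η).presheafFiber.obj ((EtCoh.push f).obj F).obj ⟶ ∏ᶜ G :=
    Pi.lift (fun ξ => Ψ f F η ξ.1 ξ.2)
  have hΦ : ∀ ξ a, Pi.π G ξ (Φ a) = Ψ f F η ξ.1 ξ.2 a := by
    intro ξ a
    have h1 : Φ ≫ Pi.π G ξ = Ψ f F η ξ.1 ξ.2 := Pi.lift_π _ _
    exact (ConcreteCategory.comp_apply Φ (Pi.π G ξ) a).symm.trans (ConcreteCategory.congr_hom h1 a)
  have hext : ∀ x y : ToType (∏ᶜ G), (∀ ξ, Pi.π G ξ x = Pi.π G ξ y) → x = y := by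
    intro x y hxy
    apply (Concrete.productEquiv G).injective
    funext ξ
    rw [Concrete.productEquiv_apply_apply, Concrete.productEquiv_apply_apply]
    exact hxy ξ
  have hbij : Function.Bijective Φ := by
    constructor
    · intro a₁ a₂ h12
      have h0 : a₁ - a₂ = 0 := by
        apply eq_zero_of_Ψ_eq_zero f F η
        intro ξ hξ
        have h1 := hΦ ⟨ξ, hξ⟩ (a₁ - a₂)
        have h2 : Φ (a₁ - a₂) = 0 := by
          have h3 : Φ (a₁ - a₂) = Φ a₁ - Φ a₂ := map_sub Φ.hom a₁ a₂
          rw [h3, h12, sub_self]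
        rw [h2] at h1
        exact h1.symm.trans (map_zero (Pi.π G ⟨ξ, hξ⟩).hom)
      exact sub_eq_zero.mp h0
    · intro b
      choose a ha1 ha2 using fun ξ : {ξ : Spec (CommRingCat.of Ω) ⟶ X // ξ ≫ f = η} =>
        exists_preimage f F η ξ.1 ξ.2 (Pi.π G ξ b)
      refine ⟨∑ ξ, a ξ, ?_⟩
      apply hext
      intro ξ'
      rw [hΦ]
      have h1 : Ψ f F η ξ'.1 ξ'.2 (∑ ξ, a ξ) = ∑ ξ, Ψ f F η ξ'.1 ξ'.2 (a ξ) :=
        map_sum (Ψ f F η ξ'.1 ξ'.2).hom _ _
      rw [h1, Finset.sum_eq_single ξ']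
      · exact ha1 ξ'
      · intro ξ _ hne
        exact ha2 ξ ξ'.1 ξ'.2 (fun h => hne (Subtype.ext h).symm)
      · intro h
        exact absurd (Finset.mem_univ _) h
  have hiso : IsIso Φ := (ConcreteCategory.isIso_iff_bijective Φ).mpr hbij
  exact ⟨@asIso _ _ _ _ Φ hiso ≪≫ (biproduct.isoProduct G).symm ≪≫ biproduct.isoCoproduct G⟩

end Fin

end Groth.Agent.Lib.Helper70.FinPushStalk
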