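import Mathlib
import Groth.Prelude.Def_EtBase
import Groth.Prelude.Def_EtMod2
import Groth.Agent.Lib.Helper70.FinPushStalk
import Groth.Agent.Lib.Helper70.StalkConsAlg

set_option autoImplicit false
open CategoryTheory CategoryTheory.Limits AlgebraicGeometry Opposite

universe u

namespace Groth.Agent.Lib.Helper70.FinPushRefl

open Groth.Agent.Lib.Helper70.FinPushStalk

section Nat

variable {X Y : Scheme.{u}} (f : X ⟶ Y) {F G : EtCoh.Ab X} (a : F ⟶ G) {Ω : Type u} [Field Ω]
  [IsSepClosed Ω] (η : Spec (CommRingCat.of Ω) ⟶ Y) (ξ : Spec (CommRingCat.of Ω) ⟶ X)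
  (hξ : ξ ≫ f = η)

set_option backward.isDefEq.respectTransparency.types false in
/-- naturality of the comparison maps -/
theorem Ψ_naturality
    (c : ToType ((Scheme.pointSmallEtale η).presheafFiber.obj ((EtCoh.push f).obj F).obj)) :
    Ψ f G η ξ hξ ((EtCoh.stalk η).map ((EtCoh.push f).map a) c) =
      (EtCoh.stalk ξ).map a (Ψ f F η ξ hξ c) := by
  obtain ⟨V, v, s, rfl⟩ := (Scheme.pointSmallEtale η).toPresheafFiber_jointly_surjective c
  have h1 := ConcreteCategory.congr_hom ((Scheme.pointSmallEtale η).toPresheafFiber_naturality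
    ((EtCoh.push f).map a).hom V v) s
  rw [ConcreteCategory.comp_apply, ConcreteCategory.comp_apply] at h1
  have h1' : (EtCoh.stalk η).map ((EtCoh.push f).map a)
      ((Scheme.pointSmallEtale η).toPresheafFiber V v ((EtCoh.push f).obj F).obj s) =
      (Scheme.pointSmallEtale η).toPresheafFiber V v ((EtCoh.push f).obj G).obj
        (((EtCoh.push f).map a).hom.app (op V) s) := h1
  rw [h1', Ψ_germ, Ψ_germ]
  have h2 := ConcreteCategory.congr_hom ((Scheme.pointSmallEtale ξ).toPresheafFiber_naturality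
    a.hom ((EtCoh.bc f).obj V) (lift f η ξ hξ V v)) s
  rw [ConcreteCategory.comp_apply, ConcreteCategory.comp_apply] at h2
  exact h2.symm

end Nat

section Fin

variable {X Y : Scheme.{u}} (f : X ⟶ Y) [IsFinite f]

set_option backward.isDefEq.respectTransparency.types false in
/-- the direct image along a finite morphism reflects isomorphisms of abelian sheaves -/
theorem isIso_of_isIso_push {F G : EtCoh.Ab X} (a : F ⟶ G) (h : IsIso ((EtCoh.push f).map a)) :
    IsIso a := by
  apply Groth.Agent.Lib.Helper70.StalkConsAlg.isIso_of_stalk_bijective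
  intro Ω _ _ ξ
  have hiso : IsIso ((EtCoh.stalk (ξ ≫ f)).map ((EtCoh.push f).map a)) := inferInstance
  have hbij : Function.Bijective ((EtCoh.stalk (ξ ≫ f)).map ((EtCoh.push f).map a)) :=
    (ConcreteCategory.isIso_iff_bijective _).mp hiso
  constructor
  · rw [injective_iff_map_eq_zero]
    intro x hx
    obtain ⟨c', hc1, hc2⟩ := exists_preimage f F (ξ ≫ f) ξ rfl x
    have hc0 : (EtCoh.stalk (ξ ≫ f)).map ((EtCoh.push f).map a) c' = 0 := by
      apply eq_zero_of_Ψ_eq_zero f G (ξ ≫ f)
      intro ξ' hξ'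
      rw [Ψ_naturality]
      by_cases hne : ξ' = ξ
      · subst hne
        rw [hc1, hx]
        rfl
      · rw [hc2 ξ' hξ' hne]
        exact map_zero ((EtCoh.stalk ξ').map a).hom
    have hc'0 : c' = 0 := hbij.1 (hc0.trans
      (map_zero ((EtCoh.stalk (ξ ≫ f)).map ((EtCoh.push f).map a)).hom).symm)
    rw [← hc1, hc'0]
    exact map_zero (Ψ f F (ξ ≫ f) ξ rfl).hom
  · intro b
    obtain ⟨c, hc1, -⟩ := exists_preimage f G (ξ ≫ f) ξ rfl b
    obtain ⟨c', rfl⟩ := hbij.2 c
    refine ⟨Ψ f F (ξ ≫ f) ξ rfl c', ?_⟩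
    rw [← Ψ_naturality]
    exact hc1

end Fin

section Mod

variable (Λ : Type (u + 1)) [CommRing Λ] {X Y : Scheme.{u}} (f : X ⟶ Y) [IsFinite f]

set_option backward.isDefEq.respectTransparency.types false in
/-- the direct image of sheaves of modules along a finite morphism reflects isomorphisms -/
theorem reflectsIsomorphisms_push : (EtModW.push Λ f).ReflectsIsomorphisms := by
  constructor
  intro F G u hu
  let UX := sheafCompose X.smallEtaleTopology (forget₂ (ModuleCat.{u + 1} Λ) AddCommGrpCat.{u + 1})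
  let UY := sheafCompose Y.smallEtaleTopology (forget₂ (ModuleCat.{u + 1} Λ) AddCommGrpCat.{u + 1})
  have h1 : IsIso (UY.map ((EtModW.push Λ f).map u)) := inferInstance
  have h2 : IsIso ((EtCoh.push f).map (UX.map u)) := h1
  have h3 : IsIso (UX.map u) := isIso_of_isIso_push f (UX.map u) h2
  exact isIso_of_reflects_iso u UX

end Mod

end Groth.Agent.Lib.Helper70.FinPushRefl
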