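import Mathlib
import Groth.Prelude.Def_EtBase
import Groth.Prelude.Def_EtShriek2
import Groth.Agent.Lib.Helper70.FinPushStalk
import Groth.Agent.Lib.Helper70.FinPushRefl
import Groth.Agent.Lib.Helper70.FinPushGeom2
import Groth.Agent.Lib.Helper70.Supp2
import Groth.Agent.Lib.Helper4.ProperOver2
import Groth.Agent.S0793
import Groth.Agent.S0791

set_option autoImplicit false
open CategoryTheory CategoryTheory.Limits AlgebraicGeometry Opposite

universe u

namespace Groth.Agent.Lib.Helper70.ShriekStalk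

open Groth.Agent.Lib.Helper70.FinPushStalk Groth.Agent.Lib.Helper70.StalkCons
  Groth.Agent.Lib.Helper70.Supp Groth.Agent.Lib.Helper70.GeomPts

section Supp

variable {X : Scheme.{u}} (F : EtCoh.Ab X)

set_option backward.isDefEq.respectTransparency.types false in
theorem mem_sectSupp_iff_germ_ne_zero (U : X.Etale) (σ : EtCoh.sect F U) (p : U.left) :
    p ∈ EtShriek.sectSupp F U σ ↔
      (Scheme.pointSmallEtale (geomPt U p ≫ U.hom)).toPresheafFiber U
          (geomPtFiber U p) F.obj σ ≠ 0 := by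
  constructor
  · intro hp h0
    exact notMem_of_germ_eq_zero F U σ p h0 hp
  · intro h0
    by_contra hp
    apply h0
    have hp' : (geomPt U p).base default ∉ EtShriek.sectSupp F U σ := by
      rw [geomPt_apply]; exact hp
    exact germ_eq_zero_of_notMem F (geomPt U p ≫ U.hom) U σ (geomPt U p) rfl hp'

set_option backward.isDefEq.respectTransparency.types false in
theorem sectSupp_zero (U : X.Etale) : EtShriek.sectSupp F U (0 : EtCoh.sect F U) = ∅ := by
  rw [Set.eq_empty_iff_forall_notMem]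
  intro p
  rw [mem_sectSupp_iff_germ_ne_zero, not_not]
  exact map_zero ((Scheme.pointSmallEtale (geomPt U p ≫ U.hom)).toPresheafFiber U
          (geomPtFiber U p) F.obj).hom

set_option backward.isDefEq.respectTransparency.types false in
theorem sectSupp_add (U : X.Etale) (σ τ : EtCoh.sect F U) :
    EtShriek.sectSupp F U (σ + τ) ⊆ EtShriek.sectSupp F U σ ∪ EtShriek.sectSupp F U τ := by
  intro p hp
  by_contra h
  rw [Set.mem_union, not_or] at h
  obtain ⟨h1, h2⟩ := h
  rw [mem_sectSupp_iff_germ_ne_zero] at hp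
  rw [mem_sectSupp_iff_germ_ne_zero, not_not] at h1 h2
  apply hp
  have := map_add ((Scheme.pointSmallEtale (geomPt U p ≫ U.hom)).toPresheafFiber U
          (geomPtFiber U p) F.obj).hom σ τ
  refine this.trans ?_
  rw [h1, h2, add_zero]

set_option backward.isDefEq.respectTransparency.types false in
theorem sectSupp_neg (U : X.Etale) (σ : EtCoh.sect F U) :
    EtShriek.sectSupp F U (-σ) ⊆ EtShriek.sectSupp F U σ := by
  intro p hp
  rw [mem_sectSupp_iff_germ_ne_zero] at hp ⊢
  intro h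
  apply hp
  have := map_neg ((Scheme.pointSmallEtale (geomPt U p ≫ U.hom)).toPresheafFiber U
          (geomPtFiber U p) F.obj).hom σ
  refine this.trans ?_
  rw [h, neg_zero]

set_option backward.isDefEq.respectTransparency.types false in
/-- the support of a restricted section lies over the support of the section -/
theorem sectSupp_map_subset {U U' : X.Etale} (g : U' ⟶ U) (σ : EtCoh.sect F U) :
    EtShriek.sectSupp F U' (F.obj.map g.op σ) ⊆ g.left.base ⁻¹' EtShriek.sectSupp F U σ := by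
  intro p' hp'
  by_contra hnp
  refine notMem_of_germ_eq_zero F _ _ p' ?_ hp'
  have k := ConcreteCategory.congr_hom ((Scheme.pointSmallEtale
    (geomPt U' p' ≫ U'.hom)).toPresheafFiber_w g (geomPtFiber _ p') F.obj) σ
  rw [ConcreteCategory.comp_apply] at k
  refine k.trans ?_
  set x := (Scheme.pointSmallEtale (geomPt U' p' ≫ U'.hom)).fiber.map g (geomPtFiber _ p')
    with hxdef
  have hx : x = Over.homMk x.left (Over.w x) := by
    apply Over.OverMorphism.ext
    rfl
  rw [hx]
  apply germ_eq_zero_of_notMem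
  have hxl : x.left = geomPt U' p' ≫ g.left := rfl
  rw [hxl, Scheme.Hom.comp_apply, geomPt_apply]
  exact hnp

/-- a section vanishing on an étale neighbourhood of a point is not supported there -/
theorem notMem_sectSupp_of_map_eq_zero {U T : X.Etale} (b : T ⟶ U) (σ : EtCoh.sect F U)
    (h : F.obj.map b.op σ = 0) (t : T.left) : b.left.base t ∉ EtShriek.sectSupp F U σ := by
  intro hp
  exact hp T b ⟨t, rfl⟩ h

end Supp

section Good

variable {X Y : Scheme.{u}} (f : X ⟶ Y) (F : EtCoh.Ab X)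

/-- a closed set containing the support on which the projection is closed with finite fibres -/
def Good (V : Y.Etale) (s : EtCoh.sect F ((EtCoh.bc f).obj V)) : Prop :=
  ∃ Z : Set ((EtCoh.bc f).obj V).left, IsClosed Z ∧ EtShriek.sectSupp F _ s ⊆ Z ∧
    (∀ C : Set ((EtCoh.bc f).obj V).left, IsClosed C → C ⊆ Z →
      IsClosed ((EtShriek.prV f V).base '' C)) ∧
    (LocallyQuasiFinite f → ∀ q : V.left, (Z ∩ (EtShriek.prV f V).base ⁻¹' {q}).Finite)

set_option backward.isDefEq.respectTransparency.types false in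
theorem good_of_shriekPred (V : Y.Etale) (s : EtCoh.sect F ((EtCoh.bc f).obj V))
    (hs : EtShriek.ShriekPred f F V s) : Good f F V s := by
  have h1 := hs V (𝟙 V)
  have e1 : F.obj.map ((EtCoh.bc f).map (𝟙 V)).op s = s := by
    rw [CategoryTheory.Functor.map_id, op_id, F.obj.map_id]
    rfl
  rw [e1] at h1
  obtain ⟨Z, hsub, hcl, hprop⟩ := h1
  obtain ⟨ι, hι⟩ : ∃ ι : (Scheme.IdealSheafData.vanishingIdeal ⟨Z, hcl⟩).subscheme ⟶
      ((EtCoh.bc f).obj V).left, ι = (Scheme.IdealSheafData.vanishingIdeal ⟨Z, hcl⟩).subschemeι :=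
    ⟨_, rfl⟩
  have hrange : Set.range ι = Z := by
    rw [hι]; exact Groth.Agent.Lib.Helper4.range_vanishingIdeal_subschemeι Z hcl
  haveI : IsClosedImmersion ι := by rw [hι]; infer_instance
  haveI : IsProper (ι ≫ EtShriek.prV f V) := by rw [hι]; exact hprop
  refine ⟨Z, hcl, hsub, ?_, ?_⟩
  · intro C hC hCZ
    have h2 : (EtShriek.prV f V).base '' C = (ι ≫ EtShriek.prV f V).base '' (ι.base ⁻¹' C) := by
      have hCr : C ⊆ Set.range ι.base := by rw [hrange]; exact hCZ
      rw [Scheme.Hom.comp_base, TopCat.coe_comp, Set.image_comp,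
        Set.image_preimage_eq_of_subset hCr]
    rw [h2]
    exact (ι ≫ EtShriek.prV f V).isClosedMap _ (hC.preimage ι.continuous)
  · intro hlqf q
    haveI : LocallyQuasiFinite (EtShriek.prV f V) := by
      show LocallyQuasiFinite (pullback.fst V.hom f)
      infer_instance
    haveI : LocallyQuasiFinite (ι ≫ EtShriek.prV f V) := inferInstance
    have hfin := Scheme.Hom.finite_preimage_singleton (ι ≫ EtShriek.prV f V) q
    refine (hfin.image ι.base).subset ?_
    rintro z ⟨hzZ, hzq⟩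
    rw [← hrange] at hzZ
    obtain ⟨t, rfl⟩ := hzZ
    exact ⟨t, hzq, rfl⟩

set_option backward.isDefEq.respectTransparency.types false in
theorem good_of_mem (V : Y.Etale) (s : EtCoh.sect F ((EtCoh.bc f).obj V))
    (hs : s ∈ EtShriek.shriekSubgroup f F V) : Good f F V s := by
  refine AddSubgroup.closure_induction (p := fun s _ => Good f F V s) ?_ ?_ ?_ ?_ hs
  · intro x hx
    exact good_of_shriekPred f F V x hx
  · refine ⟨∅, isClosed_empty, ?_, ?_, ?_⟩
    · rw [sectSupp_zero]
    · intro C hC hCZ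
      rw [Set.subset_empty_iff.mp hCZ, Set.image_empty]
      exact isClosed_empty
    · intro _ q
      rw [Set.empty_inter]
      exact Set.finite_empty
  · rintro x y _ _ ⟨Z₁, hcl₁, hsub₁, hmap₁, hfin₁⟩ ⟨Z₂, hcl₂, hsub₂, hmap₂, hfin₂⟩
    refine ⟨Z₁ ∪ Z₂, hcl₁.union hcl₂, ?_, ?_, ?_⟩
    · exact (sectSupp_add F _ x y).trans (Set.union_subset_union hsub₁ hsub₂)
    · intro C hC hCZ
      have hC' : C = (C ∩ Z₁) ∪ (C ∩ Z₂) := by
        rw [← Set.inter_union_distrib_left]
        exact (Set.inter_eq_left.mpr hCZ).symm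
      rw [hC', Set.image_union]
      exact (hmap₁ _ (hC.inter hcl₁) Set.inter_subset_right).union
        (hmap₂ _ (hC.inter hcl₂) Set.inter_subset_right)
    · intro hlqf q
      rw [Set.union_inter_distrib_right]
      exact (hfin₁ hlqf q).union (hfin₂ hlqf q)
  · rintro x _ ⟨Z, hcl, hsub, hmap, hfin⟩
    exact ⟨Z, hcl, (sectSupp_neg F _ x).trans hsub, hmap, hfin⟩

end Good

section Basic

variable {X Y : Scheme.{u}} (f : X ⟶ Y) (F : EtCoh.Ab X) {Ω : Type u} [Field Ω] [IsSepClosed Ω]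
  (η : Spec (CommRingCat.of Ω) ⟶ Y) (ξ : Spec (CommRingCat.of Ω) ⟶ X) (hξ : ξ ≫ f = η)

/-- the comparison map from the presheaf fibre of the presheaf of sections with proper support -/
noncomputable def ΨP : (Scheme.pointSmallEtale η).presheafFiber.obj (EtShriek.lowerShriekPre f F) ⟶
    (Scheme.pointSmallEtale ξ).presheafFiber.obj F.obj :=
  (Scheme.pointSmallEtale η).presheafFiber.map (EtShriek.lowerShriekPreι f F) ≫ Ψ f F η ξ hξ

set_option backward.isDefEq.respectTransparency.types false in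
theorem ΨP_germ (V : Y.Etale) (x : (Scheme.pointSmallEtale η).fiber.obj V)
    (z : EtShriek.shriekSubgroup f F V) :
    ΨP f F η ξ hξ ((Scheme.pointSmallEtale η).toPresheafFiber V x (EtShriek.lowerShriekPre f F) z) =
      (Scheme.pointSmallEtale ξ).toPresheafFiber ((EtCoh.bc f).obj V) (lift f η ξ hξ V x) F.obj
        z.1 := by
  have h1 := ConcreteCategory.congr_hom ((Scheme.pointSmallEtale η).toPresheafFiber_naturality
    (EtShriek.lowerShriekPreι f F) V x) z
  rw [ConcreteCategory.comp_apply, ConcreteCategory.comp_apply] at h1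
  refine (ConcreteCategory.comp_apply _ _ _).trans ?_
  rw [h1]
  exact Ψ_germ f F η ξ hξ V x z.1

end Basic

section GPtsSubset

variable {U V : Scheme.{u}} (Ω : Type u) [Field Ω]

/-- finiteness of the set of geometric points over a geometric point located in a finite set -/
theorem finite_gpts_subset (π : U ⟶ V) [LocallyQuasiFinite π] (vb : Spec (.of Ω) ⟶ V)
    (S : Set U) (hS : S.Finite) :
    Finite {t : GPts Ω π vb // t.1 (IsLocalRing.closedPoint Ω) ∈ S} := by
  haveI : Finite {u : {u : U // π u = vb (IsLocalRing.closedPoint Ω)} // u.1 ∈ S} := by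
    haveI : Finite S := hS.to_subtype
    refine Finite.of_injective (fun u => (⟨u.1.1, u.2⟩ : S)) ?_
    intro a b hab
    apply Subtype.ext
    apply Subtype.ext
    exact congrArg (fun s : S => s.1) hab
  haveI : ∀ u : {u : U // π u = vb (IsLocalRing.closedPoint Ω)}, Finite
      {σ : U.residueField u.1 ⟶ .of Ω // π.residueFieldMap u.1 ≫ σ = jAt Ω π vb u} := by
    intro u
    haveI := finite_ringHom Ω (π.residueFieldMap u.1).hom (jAt Ω π vb u).hom
      (finite_residueFieldMap π u.1)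
    exact Finite.of_equiv _ (homSubtypeEquiv Ω _ _).symm
  let Φ : {t : GPts Ω π vb // t.1 (IsLocalRing.closedPoint Ω) ∈ S} →
      Σ a : {u : {u : U // π u = vb (IsLocalRing.closedPoint Ω)} // u.1 ∈ S},
        {σ : U.residueField a.1.1 ⟶ .of Ω // π.residueFieldMap a.1.1 ≫ σ = jAt Ω π vb a.1} :=
    fun t => ⟨⟨(gptsEquiv Ω π vb t.1).1, t.2⟩, (gptsEquiv Ω π vb t.1).2⟩
  refine Finite.of_injective Φ ?_
  intro t₁ t₂ h12
  apply Subtype.ext
  apply (gptsEquiv Ω π vb).injective
  have h1 : (Φ t₁).1.1 = (Φ t₂).1.1 := by rw [h12]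
  have h2 : HEq (Φ t₁).2 (Φ t₂).2 := by rw [h12]
  exact Sigma.ext h1 h2

end GPtsSubset

section Main

variable {X Y : Scheme.{u}} (f : X ⟶ Y) [LocallyQuasiFinite f] (F : EtCoh.Ab X) {Ω : Type u}
  [Field Ω] [IsAlgClosed Ω] (η : Spec (CommRingCat.of Ω) ⟶ Y)

set_option backward.isDefEq.respectTransparency.types false in
/-- joint injectivity of the comparison maps -/
theorem eq_zero_of_ΨP_eq_zero
    (a : ToType ((Scheme.pointSmallEtale η).presheafFiber.obj (EtShriek.lowerShriekPre f F)))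
    (h : ∀ (ξ : Spec (CommRingCat.of Ω) ⟶ X) (hξ : ξ ≫ f = η), ΨP f F η ξ hξ a = 0) : a = 0 := by
  obtain ⟨W, w, s, rfl⟩ := (Scheme.pointSmallEtale η).toPresheafFiber_jointly_surjective a
  obtain ⟨s', hs'⟩ : ∃ s' : EtShriek.shriekSubgroup f F W, s' = s := ⟨_, rfl⟩
  obtain ⟨Z, hZcl, hZsub, hZmap, -⟩ := good_of_mem f F W s'.1 s'.2
  let WL : Scheme.{u} := W.left
  let Wh : WL ⟶ Y := W.hom
  let wl : Spec (CommRingCat.of Ω) ⟶ WL := w.left
  have hwl : wl ≫ Wh = η := Over.w w
  let pW : ((EtCoh.bc f).obj W).left ⟶ WL := pullback.fst W.hom f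
  let C : Set WL := pW.base '' EtShriek.sectSupp F ((EtCoh.bc f).obj W) s'.1
  haveI : LocallyQuasiFinite pW := by
    show LocallyQuasiFinite (pullback.fst W.hom f)
    infer_instance
  have hC : IsClosed C := hZmap _ (isClosed_sectSupp F _ s'.1) hZsub
  have hw0 : wl.base default ∉ C := by
    rintro ⟨p, hp, hpw⟩
    have hpw' : pW p = wl (IsLocalRing.closedPoint Ω) := by
      refine hpw.trans ?_
      congr 1
      exact Subsingleton.elim _ _
    obtain ⟨t, ht⟩ := exists_gpts_of_mem_fibre Ω pW wl p hpw'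
    obtain ⟨t1, ht1⟩ : ∃ t1 : Spec (CommRingCat.of Ω) ⟶ ((EtCoh.bc f).obj W).left, t1 = t.1 :=
      ⟨_, rfl⟩
    have ht2 : t1 ≫ pW = wl := by rw [ht1]; exact t.2
    let ξ : Spec (CommRingCat.of Ω) ⟶ X := t1 ≫ pullback.snd W.hom f
    have hξ : ξ ≫ f = η := by
      change (t1 ≫ pullback.snd W.hom f) ≫ f = η
      have e0 : pullback.snd W.hom f ≫ f = pW ≫ Wh := pullback.condition.symm
      exact (Category.assoc _ _ _).trans ((congrArg (fun q => t1 ≫ q) e0).trans
        ((Category.assoc _ _ _).symm.trans ((congrArg (fun q => q ≫ Wh) ht2).trans hwl)))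
    have h0 := h ξ hξ
    rw [← hs', ΨP_germ] at h0
    have hl : lift f η ξ hξ W w = Over.homMk t1 rfl := by
      apply Over.OverMorphism.ext
      apply pullback.hom_ext
      · exact (pullback.lift_fst _ _ _).trans ht2.symm
      · exact (pullback.lift_snd _ _ _)
    rw [hl] at h0
    have h3 := Groth.Agent.Lib.Helper70.PullSection.notMem_of_germ_eq_zero' F ξ
      ((EtCoh.bc f).obj W) s'.1 t1 rfl h0
    apply h3
    have h4 : t1.base default = p := by
      rw [ht1, ← ht]
      congr 1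
      exact Subsingleton.elim _ _
    rw [h4]
    exact hp
  let O : WL.Opens := ⟨Cᶜ, hC.isOpen_compl⟩
  haveI : Etale Wh := W.prop
  haveI : IsOpenImmersion O.ι := Scheme.Opens.instIsOpenImmersionι O
  let W' : Y.Etale := Scheme.Etale.mk (O.ι ≫ Wh)
  let g : W' ⟶ W := MorphismProperty.Over.homMk O.ι rfl trivial
  have hrange : Set.range wl.base ⊆ Set.range O.ι.base := by
    rintro _ ⟨t, rfl⟩
    rw [Subsingleton.elim t default, Scheme.Opens.range_ι]
    exact hw0
  let wl' : Spec (CommRingCat.of Ω) ⟶ O.toScheme := IsOpenImmersion.lift O.ι wl hrange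
  have hwl' : wl' ≫ O.ι = wl := IsOpenImmersion.lift_fac _ _ _
  let w' : (Scheme.pointSmallEtale η).fiber.obj W' := Over.homMk wl' (by
    change wl' ≫ O.ι ≫ Wh = η
    rw [← Category.assoc, hwl', hwl])
  have hw' : (Scheme.pointSmallEtale η).fiber.map g w' = w := by
    apply Over.OverMorphism.ext
    exact hwl'
  have hs0' : F.obj.map ((EtCoh.bc f).map g).op s'.1 = 0 := by
    apply eq_zero_of_sectSupp_eq_empty
    rw [Set.eq_empty_iff_forall_notMem]
    intro p' hp'
    let bg : ((EtCoh.bc f).obj W').left ⟶ ((EtCoh.bc f).obj W).left := ((EtCoh.bc f).map g).left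
    have hp : bg.base p' ∈ EtShriek.sectSupp F ((EtCoh.bc f).obj W) s'.1 := by
      by_contra hnp
      refine notMem_of_germ_eq_zero F _ _ p' ?_ hp'
      have k := ConcreteCategory.congr_hom ((Scheme.pointSmallEtale
        (geomPt ((EtCoh.bc f).obj W') p' ≫ ((EtCoh.bc f).obj W').hom)).toPresheafFiber_w
          ((EtCoh.bc f).map g) (geomPtFiber _ p') F.obj) s'.1
      rw [ConcreteCategory.comp_apply] at k
      refine k.trans ?_
      set x := (Scheme.pointSmallEtale
        (geomPt ((EtCoh.bc f).obj W') p' ≫ ((EtCoh.bc f).obj W').hom)).fiber.map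
          ((EtCoh.bc f).map g) (geomPtFiber _ p') with hxdef
      have hx : x = Over.homMk x.left (Over.w x) := by
        apply Over.OverMorphism.ext
        rfl
      rw [hx]
      apply germ_eq_zero_of_notMem
      have hxl : x.left = geomPt ((EtCoh.bc f).obj W') p' ≫ bg := rfl
      rw [hxl, Scheme.Hom.comp_apply, geomPt_apply]
      exact hnp
    have hmem : pW.base (bg.base p') ∈ C := ⟨_, hp, rfl⟩
    let pW' : ((EtCoh.bc f).obj W').left ⟶ O.toScheme := pullback.fst W'.hom f
    have e5 : bg ≫ pW = pW' ≫ O.ι := Groth.Agent.S6632.bc_map_left_fst f g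
    have h2 : pW.base (bg.base p') = O.ι.base (pW'.base p') :=
      congrArg (fun q : ((EtCoh.bc f).obj W').left ⟶ WL => q.base p') e5
    rw [h2] at hmem
    exact (pW'.base p').2 hmem
  have hs0 : (EtShriek.lowerShriekPre f F).map g.op s = 0 := by
    rw [← hs']
    apply Subtype.ext
    exact hs0'
  rw [← hw']
  have k := ConcreteCategory.congr_hom
    ((Scheme.pointSmallEtale η).toPresheafFiber_w g w' (EtShriek.lowerShriekPre f F)) s
  rw [ConcreteCategory.comp_apply] at k
  refine k.symm.trans ?_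
  rw [hs0]
  exact map_zero ((Scheme.pointSmallEtale η).toPresheafFiber W' w'
    (EtShriek.lowerShriekPre f F)).hom

set_option backward.isDefEq.respectTransparency.types false in
/-- only finitely many comparison maps are nonzero on a given element -/
theorem finite_support
    (a : ToType ((Scheme.pointSmallEtale η).presheafFiber.obj (EtShriek.lowerShriekPre f F))) :
    {ξ : {ξ : Spec (CommRingCat.of Ω) ⟶ X // ξ ≫ f = η} | ΨP f F η ξ.1 ξ.2 a ≠ 0}.Finite := by
  obtain ⟨W, w, s, rfl⟩ := (Scheme.pointSmallEtale η).toPresheafFiber_jointly_surjective a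
  obtain ⟨s', hs'⟩ : ∃ s' : EtShriek.shriekSubgroup f F W, s' = s := ⟨_, rfl⟩
  subst hs'
  obtain ⟨Z, hZcl, hZsub, -, hZfin⟩ := good_of_mem f F W s'.1 s'.2
  let WL : Scheme.{u} := W.left
  let wl : Spec (CommRingCat.of Ω) ⟶ WL := w.left
  let pW : ((EtCoh.bc f).obj W).left ⟶ WL := pullback.fst W.hom f
  haveI : LocallyQuasiFinite pW := by
    show LocallyQuasiFinite (pullback.fst W.hom f)
    infer_instance
  let S : Set ((EtCoh.bc f).obj W).left := Z ∩ pW.base ⁻¹' {wl (IsLocalRing.closedPoint Ω)}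
  have hS : S.Finite := hZfin inferInstance _
  haveI := finite_gpts_subset Ω pW wl S hS
  rw [← Set.finite_coe_iff]
  let Φ : {ξ : {ξ : Spec (CommRingCat.of Ω) ⟶ X // ξ ≫ f = η} |
      ΨP f F η ξ.1 ξ.2 ((Scheme.pointSmallEtale η).toPresheafFiber W w
        (EtShriek.lowerShriekPre f F) s') ≠ 0} →
      {t : GPts Ω pW wl // t.1 (IsLocalRing.closedPoint Ω) ∈ S} := fun ξ =>
    ⟨⟨(lift f η ξ.1.1 ξ.1.2 W w).left, pullback.lift_fst _ _ _⟩, by
      have h0 := ξ.2
      simp only [Set.mem_ofPred_eq] at h0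
      rw [ΨP_germ] at h0
      obtain ⟨yl, hyl⟩ : ∃ yl : Spec (CommRingCat.of Ω) ⟶ ((EtCoh.bc f).obj W).left,
          yl = (lift f η ξ.1.1 ξ.1.2 W w).left := ⟨_, rfl⟩
      have hylw : yl ≫ ((EtCoh.bc f).obj W).hom = ξ.1.1 := by
        rw [hyl]; exact Over.w (lift f η ξ.1.1 ξ.1.2 W w)
      have hx : lift f η ξ.1.1 ξ.1.2 W w = Over.homMk yl hylw := by
        apply Over.OverMorphism.ext
        exact hyl.symm
      rw [hx] at h0
      have h1 : yl.base default ∈ EtShriek.sectSupp F _ s'.1 := by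
        by_contra hn
        exact h0 (germ_eq_zero_of_notMem F ξ.1.1 _ s'.1 yl hylw hn)
      have h2 : (default : ↥(Spec (CommRingCat.of Ω))) = IsLocalRing.closedPoint Ω :=
        Subsingleton.elim _ _
      rw [h2] at h1
      have goal : yl.base (IsLocalRing.closedPoint Ω) ∈ S := by
        have e : yl ≫ pW = wl := by
          rw [hyl]
          exact pullback.lift_fst (w.left : Spec (CommRingCat.of Ω) ⟶ W.left) ξ.1.1 _
        refine ⟨hZsub h1, ?_⟩
        show pW.base (yl.base _) = _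
        rw [← Scheme.Hom.comp_apply, e]
      rw [hyl] at goal
      exact goal⟩
  refine Finite.of_injective Φ ?_
  intro ξ₁ ξ₂ h12
  apply Subtype.ext
  apply Subtype.ext
  have h1 : ((lift f η ξ₁.1.1 ξ₁.1.2 W w).left : Spec (CommRingCat.of Ω) ⟶
      ((EtCoh.bc f).obj W).left) = (lift f η ξ₂.1.1 ξ₂.1.2 W w).left :=
    congrArg (fun t => t.1.1) h12
  have e1 : ((lift f η ξ₁.1.1 ξ₁.1.2 W w).left : Spec (CommRingCat.of Ω) ⟶
      ((EtCoh.bc f).obj W).left) ≫ pullback.snd W.hom f = ξ₁.1.1 := pullback.lift_snd _ _ _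
  have e2 : ((lift f η ξ₂.1.1 ξ₂.1.2 W w).left : Spec (CommRingCat.of Ω) ⟶
      ((EtCoh.bc f).obj W).left) ≫ pullback.snd W.hom f = ξ₂.1.1 := pullback.lift_snd _ _ _
  rw [← e1, ← e2, h1]

end Main

section Surj

variable {X Y : Scheme.{u}} (f : X ⟶ Y) [IsSeparated f] [LocallyOfFiniteType f]
  [LocallyQuasiFinite f] (F : EtCoh.Ab X) {Ω : Type u}
  [Field Ω] [IsAlgClosed Ω] (η : Spec (CommRingCat.of Ω) ⟶ Y)

set_option backward.isDefEq.respectTransparency.types false in
/-- each factor is hit, independently of the others -/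
theorem exists_preimage (ξ₀ : Spec (CommRingCat.of Ω) ⟶ X) (hξ₀ : ξ₀ ≫ f = η)
    (b₀ : ToType ((Scheme.pointSmallEtale ξ₀).presheafFiber.obj F.obj)) :
    ∃ a : ToType ((Scheme.pointSmallEtale η).presheafFiber.obj (EtShriek.lowerShriekPre f F)),
      ΨP f F η ξ₀ hξ₀ a = b₀ ∧
      ∀ (ξ : Spec (CommRingCat.of Ω) ⟶ X) (hξ : ξ ≫ f = η), ξ ≠ ξ₀ → ΨP f F η ξ hξ a = 0 := by
  obtain ⟨U, u, σ, rfl⟩ := (Scheme.pointSmallEtale ξ₀).toPresheafFiber_jointly_surjective b₀
  let UL : Scheme.{u} := U.left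
  let Uh : UL ⟶ X := U.hom
  haveI : Etale Uh := U.prop
  obtain ⟨ul, hul⟩ : ∃ ul : Spec (CommRingCat.of Ω) ⟶ UL, ul = u.left := ⟨_, rfl⟩
  have hulh : ul ≫ Uh = ξ₀ := by rw [hul]; exact Over.w u
  have hu' : ul ≫ Uh ≫ f = η := by rw [← Category.assoc, hulh, hξ₀]
  obtain ⟨V, g, hg, v, hv, W, hWcl, hWprop, h, hh, hmem, hout⟩ :=
    Groth.Agent.Lib.Helper70.FinPushGeom2.exists_clopen' f η Uh ul hu'
  let Wc : (pullback f g).Opens := ⟨(W : Set ↥(pullback f g))ᶜ, hWcl.isOpen_compl⟩
  let Z : X.Etale := Scheme.Etale.mk (W.ι ≫ pullback.fst f g)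
  let Zc : X.Etale := Scheme.Etale.mk (Wc.ι ≫ pullback.fst f g)
  let Vv : Y.Etale := Scheme.Etale.mk g
  let P : X.Etale := (EtCoh.bc f).obj Vv
  let a : Z ⟶ P := MorphismProperty.Over.homMk (W.ι ≫ (pullbackSymmetry f g).hom)
    (by
      show (W.ι ≫ (pullbackSymmetry f g).hom) ≫ pullback.snd g f = W.ι ≫ pullback.fst f g
      rw [Category.assoc, pullbackSymmetry_hom_comp_snd]) trivial
  let b : Zc ⟶ P := MorphismProperty.Over.homMk (Wc.ι ≫ (pullbackSymmetry f g).hom)
    (by
      show (Wc.ι ≫ (pullbackSymmetry f g).hom) ≫ pullback.snd g f = Wc.ι ≫ pullback.fst f g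
      rw [Category.assoc, pullbackSymmetry_hom_comp_snd]) trivial
  let k : Z ⟶ U := MorphismProperty.Over.homMk h hh trivial
  have ha : Mono a.left := by
    show Mono (W.ι ≫ (pullbackSymmetry f g).hom)
    infer_instance
  have hcov : ∀ p : P.left, p ∈ Set.range a.left.base ∨ p ∈ Set.range b.left.base := by
    intro p
    obtain ⟨p', rfl⟩ : ∃ p' : ↥(pullback f g), (pullbackSymmetry f g).hom p' = p :=
      ⟨(pullbackSymmetry f g).inv p, by
        rw [← Scheme.Hom.comp_apply, Iso.inv_hom_id]; rfl⟩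
    by_cases hp : p' ∈ W
    · exact Or.inl ⟨⟨p', hp⟩, rfl⟩
    · exact Or.inr ⟨⟨p', hp⟩, rfl⟩
  have hinj : Function.Injective (pullbackSymmetry f g).hom :=
    (pullbackSymmetry f g).hom.homeomorph.injective
  have hdisj : ∀ (z : Z.left) (z' : Zc.left), a.left.base z ≠ b.left.base z' := by
    intro z z' hzz'
    have h1 : (pullbackSymmetry f g).hom (W.ι z) = (pullbackSymmetry f g).hom (Wc.ι z') := hzz'
    have h2 : W.ι z = Wc.ι z' := hinj h1
    have h3 : (Wc.ι z') ∈ W := by rw [← h2]; exact z.2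
    exact z'.2 h3
  obtain ⟨τ, hτ1, hτ2⟩ := exists_extension' F P Z Zc a b ha hcov hdisj (F.obj.map k.op σ)
  -- the section `τ` has proper support
  let Wt : Set P.left := (pullbackSymmetry f g).inv.base ⁻¹' (W : Set ↥(pullback f g))
  have hsuppτ : EtShriek.sectSupp F P τ ⊆ Wt := by
    intro p hp
    by_contra hnp
    have hpc : (pullbackSymmetry f g).inv p ∈ Wc := hnp
    have hpb : p = b.left.base ⟨(pullbackSymmetry f g).inv p, hpc⟩ := by
      show p = (pullbackSymmetry f g).hom ((pullbackSymmetry f g).inv p)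
      rw [← Scheme.Hom.comp_apply, Iso.inv_hom_id]; rfl
    rw [hpb] at hp
    exact notMem_sectSupp_of_map_eq_zero F b τ hτ2 _ hp
  have hWtprop : ClSub.IsProperOver (EtShriek.prV f Vv) Wt := by
    have sq : IsPullback (pullbackSymmetry f g).inv (pullback.fst g f) (pullback.snd f g)
        (𝟙 V) := by
      refine IsPullback.of_horiz_isIso ⟨?_⟩
      rw [Category.comp_id, pullbackSymmetry_inv_comp_snd]
    exact Groth.Agent.S0793.result (pullback.snd f g) (𝟙 V) (pullbackSymmetry f g).inv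
      (pullback.fst g f) sq (W : Set ↥(pullback f g)) hWprop
  have hpred : EtShriek.ShriekPred f F Vv τ := by
    intro V' φ
    obtain ⟨bφ, hbφ⟩ : ∃ bφ : ((EtCoh.bc f).obj V').left ⟶ pullback g f,
        bφ = ((EtCoh.bc f).map φ).left := ⟨_, rfl⟩
    obtain ⟨φl, hφl⟩ : ∃ φl : V'.left ⟶ V, φl = φ.left := ⟨_, rfl⟩
    obtain ⟨V'h, hV'h⟩ : ∃ V'h : V'.left ⟶ Y, V'h = V'.hom := ⟨_, rfl⟩
    have e1 : bφ ≫ pullback.fst g f = pullback.fst V'.hom f ≫ φl := by
      rw [hbφ, hφl]; exact Groth.Agent.S6632.bc_map_left_fst f φ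
    have e2 : bφ ≫ pullback.snd g f = pullback.snd V'.hom f := by
      rw [hbφ]; exact Groth.Agent.S6632.bc_map_left_snd f φ
    have hφ : φl ≫ g = V'h := by rw [hφl, hV'h]; exact MorphismProperty.Over.w φ
    have sq : IsPullback bφ (pullback.fst V'.hom f) (pullback.fst g f) φl := by
      refine IsPullback.of_right ?_ e1 (IsPullback.of_hasPullback g f).flip
      rw [e2, hφ, hV'h]
      exact (IsPullback.of_hasPullback V'.hom f).flip
    haveI : LocallyOfFiniteType (EtShriek.prV f Vv) := by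
      show LocallyOfFiniteType (pullback.fst g f)
      infer_instance
    refine ⟨bφ.base ⁻¹' Wt, ?_, ?_⟩
    · refine (sectSupp_map_subset F ((EtCoh.bc f).map φ) τ).trans ?_
      intro p' hp'
      have : ((EtCoh.bc f).map φ).left.base p' ∈ Wt := hsuppτ hp'
      rw [← hbφ] at this
      exact this
    · exact Groth.Agent.S0793.result (EtShriek.prV f Vv) φl bφ (EtShriek.prV f V') sq Wt
        hWtprop
  let τ' : EtShriek.shriekSubgroup f F Vv := ⟨τ, AddSubgroup.subset_closure hpred⟩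
  let vv : (Scheme.pointSmallEtale η).fiber.obj Vv := Over.homMk v hv
  refine ⟨(Scheme.pointSmallEtale η).toPresheafFiber Vv vv (EtShriek.lowerShriekPre f F) τ',
    ?_, ?_⟩
  · rw [ΨP_germ]
    show (Scheme.pointSmallEtale ξ₀).toPresheafFiber ((EtCoh.bc f).obj Vv)
      (lift f η ξ₀ hξ₀ Vv vv) F.obj τ = _
    let y' : Spec (CommRingCat.of Ω) ⟶ pullback f g := pullback.lift ξ₀ v (by rw [hξ₀, hv])
    have hy'W : ∀ t, y' t ∈ W :=
      hmem y' (pullback.lift_snd _ _ _) ((pullback.lift_fst _ _ _).trans hulh.symm)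
    have hrange : Set.range y'.base ⊆ Set.range W.ι.base := by
      rintro _ ⟨t, rfl⟩
      rw [Scheme.Opens.range_ι]
      exact hy'W t
    let yW : Spec (CommRingCat.of Ω) ⟶ W.toScheme := IsOpenImmersion.lift W.ι y' hrange
    have hyW : yW ≫ W.ι = y' := IsOpenImmersion.lift_fac _ _ _
    let x₁ : (Scheme.pointSmallEtale ξ₀).fiber.obj Z := Over.homMk yW (by
      change yW ≫ W.ι ≫ pullback.fst f g = ξ₀
      rw [← Category.assoc, hyW]
      exact pullback.lift_fst _ _ _)
    have hx₁a : (Scheme.pointSmallEtale ξ₀).fiber.map a x₁ = lift f η ξ₀ hξ₀ Vv vv := by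
      apply Over.OverMorphism.ext
      change yW ≫ W.ι ≫ (pullbackSymmetry f g).hom = pullback.lift v ξ₀ _
      rw [← Category.assoc, hyW]
      apply pullback.hom_ext
      · rw [Category.assoc, pullbackSymmetry_hom_comp_fst, pullback.lift_snd, pullback.lift_fst]
      · rw [Category.assoc, pullbackSymmetry_hom_comp_snd, pullback.lift_fst, pullback.lift_snd]
    have hx₁k : (Scheme.pointSmallEtale ξ₀).fiber.map k x₁ = u := by
      apply Over.OverMorphism.ext
      change yW ≫ h = u.left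
      rw [← hul]
      apply hout
      rw [← Category.assoc, hyW]
      exact pullback.lift_snd _ _ _
    rw [← hx₁a]
    have k1 := ConcreteCategory.congr_hom
      ((Scheme.pointSmallEtale ξ₀).toPresheafFiber_w a x₁ F.obj) τ
    rw [ConcreteCategory.comp_apply] at k1
    refine k1.symm.trans ?_
    rw [hτ1]
    have k2 := ConcreteCategory.congr_hom
      ((Scheme.pointSmallEtale ξ₀).toPresheafFiber_w k x₁ F.obj) σ
    rw [ConcreteCategory.comp_apply] at k2
    refine k2.trans ?_
    rw [hx₁k]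
  · intro ξ hξ hne
    rw [ΨP_germ]
    show (Scheme.pointSmallEtale ξ).toPresheafFiber ((EtCoh.bc f).obj Vv)
      (lift f η ξ hξ Vv vv) F.obj τ = _
    let y' : Spec (CommRingCat.of Ω) ⟶ pullback f g := pullback.lift ξ v (by rw [hξ, hv])
    have hy'W : ∀ t, y' t ∉ W := by
      intro t ht
      have hrange : Set.range y'.base ⊆ Set.range W.ι.base := by
        rintro _ ⟨t', rfl⟩
        rw [Scheme.Opens.range_ι, Subsingleton.elim t' t]
        exact ht
      let yW : Spec (CommRingCat.of Ω) ⟶ W.toScheme := IsOpenImmersion.lift W.ι y' hrange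
      have hyW : yW ≫ W.ι = y' := IsOpenImmersion.lift_fac _ _ _
      have h1 : yW ≫ h = ul := hout yW (by
        rw [← Category.assoc, hyW]
        exact pullback.lift_snd _ _ _)
      apply hne
      calc ξ = y' ≫ pullback.fst f g := (pullback.lift_fst _ _ _).symm
        _ = yW ≫ W.ι ≫ pullback.fst f g := by rw [← Category.assoc, hyW]
        _ = yW ≫ h ≫ Uh := by rw [hh]
        _ = ul ≫ Uh := by rw [← Category.assoc, h1]
        _ = ξ₀ := hulh
    have hrange : Set.range y'.base ⊆ Set.range Wc.ι.base := by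
      rintro _ ⟨t, rfl⟩
      rw [Scheme.Opens.range_ι]
      exact hy'W t
    let yWc : Spec (CommRingCat.of Ω) ⟶ Wc.toScheme := IsOpenImmersion.lift Wc.ι y' hrange
    have hyWc : yWc ≫ Wc.ι = y' := IsOpenImmersion.lift_fac _ _ _
    let x₂ : (Scheme.pointSmallEtale ξ).fiber.obj Zc := Over.homMk yWc (by
      change yWc ≫ Wc.ι ≫ pullback.fst f g = ξ
      rw [← Category.assoc, hyWc]
      exact pullback.lift_fst _ _ _)
    have hx₂b : (Scheme.pointSmallEtale ξ).fiber.map b x₂ = lift f η ξ hξ Vv vv := by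
      apply Over.OverMorphism.ext
      change yWc ≫ Wc.ι ≫ (pullbackSymmetry f g).hom = pullback.lift v ξ _
      rw [← Category.assoc, hyWc]
      apply pullback.hom_ext
      · rw [Category.assoc, pullbackSymmetry_hom_comp_fst, pullback.lift_snd, pullback.lift_fst]
      · rw [Category.assoc, pullbackSymmetry_hom_comp_snd, pullback.lift_fst, pullback.lift_snd]
    rw [← hx₂b]
    have k1 := ConcreteCategory.congr_hom
      ((Scheme.pointSmallEtale ξ).toPresheafFiber_w b x₂ F.obj) τ
    rw [ConcreteCategory.comp_apply] at k1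
    refine k1.symm.trans ?_
    rw [hτ2]
    exact map_zero ((Scheme.pointSmallEtale ξ).toPresheafFiber Zc x₂ F.obj).hom

omit [IsSeparated f] [LocallyOfFiniteType f] in
/-- two elements with the same images under all comparison maps are equal -/
theorem ext_ΨP
    (a a' : ToType ((Scheme.pointSmallEtale η).presheafFiber.obj (EtShriek.lowerShriekPre f F)))
    (h : ∀ (ξ : Spec (CommRingCat.of Ω) ⟶ X) (hξ : ξ ≫ f = η),
      ΨP f F η ξ hξ a = ΨP f F η ξ hξ a') : a = a' := by
  have h0 : a - a' = 0 := by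
    apply eq_zero_of_ΨP_eq_zero f F η
    intro ξ hξ
    have h1 : ΨP f F η ξ hξ (a - a') = ΨP f F η ξ hξ a - ΨP f F η ξ hξ a' :=
      map_sub (ΨP f F η ξ hξ).hom a a'
    rw [h1, h ξ hξ, sub_self]
  exact sub_eq_zero.mp h0

/-- the index type of the geometric fibre -/
abbrev J := {ξ : Spec (CommRingCat.of Ω) ⟶ X // ξ ≫ f = η}

/-- the inclusion of a stalk, as a function -/
noncomputable def inj (ξ : J f η) (b : ToType ((Scheme.pointSmallEtale ξ.1).presheafFiber.obj F.obj)) :
    ToType ((Scheme.pointSmallEtale η).presheafFiber.obj (EtShriek.lowerShriekPre f F)) :=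
  Classical.choose (exists_preimage f F η ξ.1 ξ.2 b)

theorem ΨP_inj_self (ξ : J f η)
    (b : ToType ((Scheme.pointSmallEtale ξ.1).presheafFiber.obj F.obj)) :
    ΨP f F η ξ.1 ξ.2 (inj f F η ξ b) = b :=
  (Classical.choose_spec (exists_preimage f F η ξ.1 ξ.2 b)).1

theorem ΨP_inj_ne (ξ ξ' : J f η) (hne : ξ' ≠ ξ)
    (b : ToType ((Scheme.pointSmallEtale ξ.1).presheafFiber.obj F.obj)) :
    ΨP f F η ξ'.1 ξ'.2 (inj f F η ξ b) = 0 :=
  (Classical.choose_spec (exists_preimage f F η ξ.1 ξ.2 b)).2 ξ'.1 ξ'.2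
    (fun h => hne (Subtype.ext h))

theorem inj_add (ξ : J f η)
    (b b' : ToType ((Scheme.pointSmallEtale ξ.1).presheafFiber.obj F.obj)) :
    inj f F η ξ (b + b') = inj f F η ξ b + inj f F η ξ b' := by
  apply ext_ΨP f F η
  intro ξ' hξ'
  have h1 : ΨP f F η ξ' hξ' (inj f F η ξ b + inj f F η ξ b') =
      ΨP f F η ξ' hξ' (inj f F η ξ b) + ΨP f F η ξ' hξ' (inj f F η ξ b') :=
    map_add (ΨP f F η ξ' hξ').hom _ _
  rw [h1]
  by_cases hne : (⟨ξ', hξ'⟩ : J f η) = ξ
  · subst hne
    rw [ΨP_inj_self f F η ⟨ξ', hξ'⟩, ΨP_inj_self f F η ⟨ξ', hξ'⟩, ΨP_inj_self f F η ⟨ξ', hξ'⟩]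
  · rw [ΨP_inj_ne f F η ξ ⟨ξ', hξ'⟩ hne, ΨP_inj_ne f F η ξ ⟨ξ', hξ'⟩ hne,
      ΨP_inj_ne f F η ξ ⟨ξ', hξ'⟩ hne, add_zero]

/-- the inclusion of a stalk -/
noncomputable def ιJ (ξ : J f η) : (Scheme.pointSmallEtale ξ.1).presheafFiber.obj F.obj ⟶
    (Scheme.pointSmallEtale η).presheafFiber.obj (EtShriek.lowerShriekPre f F) :=
  AddCommGrpCat.ofHom (AddMonoidHom.mk' (inj f F η ξ) (inj_add f F η ξ))

theorem ιJ_apply (ξ : J f η)
    (b : ToType ((Scheme.pointSmallEtale ξ.1).presheafFiber.obj F.obj)) :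
    ιJ f F η ξ b = inj f F η ξ b := rfl

omit [IsSeparated f] [LocallyOfFiniteType f] [LocallyQuasiFinite f] in
theorem support_subset (Z : AddCommGrpCat.{u + 1})
    (g : ∀ ξ : J f η, (Scheme.pointSmallEtale ξ.1).presheafFiber.obj F.obj ⟶ Z)
    (a : ToType ((Scheme.pointSmallEtale η).presheafFiber.obj (EtShriek.lowerShriekPre f F))) :
    (Function.support fun ξ : J f η => g ξ (ΨP f F η ξ.1 ξ.2 a)) ⊆
      {ξ : J f η | ΨP f F η ξ.1 ξ.2 a ≠ 0} := by
  intro ξ hξ h0
  apply hξ
  show g ξ (ΨP f F η ξ.1 ξ.2 a) = 0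
  rw [h0]
  exact map_zero (g ξ).hom

omit [IsSeparated f] [LocallyOfFiniteType f] in
theorem finite_support' (Z : AddCommGrpCat.{u + 1})
    (g : ∀ ξ : J f η, (Scheme.pointSmallEtale ξ.1).presheafFiber.obj F.obj ⟶ Z)
    (a : ToType ((Scheme.pointSmallEtale η).presheafFiber.obj (EtShriek.lowerShriekPre f F))) :
    (Function.support fun ξ : J f η => g ξ (ΨP f F η ξ.1 ξ.2 a)).Finite :=
  (finite_support f F η a).subset (support_subset f F η Z g a)

/-- every element is the sum of the inclusions of its components -/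
theorem eq_finsum_inj
    (a : ToType ((Scheme.pointSmallEtale η).presheafFiber.obj (EtShriek.lowerShriekPre f F))) :
    a = ∑ᶠ ξ : J f η, ιJ f F η ξ (ΨP f F η ξ.1 ξ.2 a) := by
  apply ext_ΨP f F η
  intro ξ' hξ'
  have hfin := finite_support' f F η _ (ιJ f F η) a
  rw [map_finsum (ΨP f F η ξ' hξ').hom hfin]
  rw [finsum_eq_single _ (⟨ξ', hξ'⟩ : J f η)]
  · exact (ΨP_inj_self f F η ⟨ξ', hξ'⟩ _).symm
  · intro ξ hne
    exact ΨP_inj_ne f F η ξ ⟨ξ', hξ'⟩ hne.symm _

/-- the map out of the presheaf fibre induced by maps out of the stalks -/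
noncomputable def descJ (Z : AddCommGrpCat.{u + 1})
    (g : ∀ ξ : J f η, (Scheme.pointSmallEtale ξ.1).presheafFiber.obj F.obj ⟶ Z) :
    (Scheme.pointSmallEtale η).presheafFiber.obj (EtShriek.lowerShriekPre f F) ⟶ Z :=
  AddCommGrpCat.ofHom (AddMonoidHom.mk'
    (fun a => ∑ᶠ ξ : J f η, g ξ (ΨP f F η ξ.1 ξ.2 a)) (by
      intro a a'
      rw [← finsum_add_distrib (finite_support' f F η Z g a) (finite_support' f F η Z g a')]
      congr 1
      funext ξ
      have h1 : ΨP f F η ξ.1 ξ.2 (a + a') = ΨP f F η ξ.1 ξ.2 a + ΨP f F η ξ.1 ξ.2 a' :=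
        map_add (ΨP f F η ξ.1 ξ.2).hom a a'
      rw [h1]
      exact map_add (g ξ).hom _ _))

theorem descJ_apply (Z : AddCommGrpCat.{u + 1})
    (g : ∀ ξ : J f η, (Scheme.pointSmallEtale ξ.1).presheafFiber.obj F.obj ⟶ Z)
    (a : ToType ((Scheme.pointSmallEtale η).presheafFiber.obj (EtShriek.lowerShriekPre f F))) :
    descJ f F η Z g a = ∑ᶠ ξ : J f η, g ξ (ΨP f F η ξ.1 ξ.2 a) := rfl

/-- the presheaf fibre is the coproduct of the stalks -/
noncomputable def isColimitCofan :
    IsColimit (Cofan.mk _ (ιJ f F η) :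
      Cofan fun ξ : J f η => (Scheme.pointSmallEtale ξ.1).presheafFiber.obj F.obj) :=
  Cofan.IsColimit.mk _ (fun s => descJ f F η s.pt s.inj)
    (by
      intro s ξ
      refine ConcreteCategory.hom_ext _ _ (fun b => ?_)
      rw [ConcreteCategory.comp_apply]
      show descJ f F η s.pt s.inj (ιJ f F η ξ b) = _
      rw [descJ_apply, finsum_eq_single _ ξ]
      · rw [ιJ_apply, ΨP_inj_self]
      · intro ξ' hne
        rw [ιJ_apply, ΨP_inj_ne f F η ξ ξ' hne]
        exact map_zero (s.inj ξ').hom)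
    (by
      intro s m hm
      refine ConcreteCategory.hom_ext _ _ (fun a => ?_)
      rw [descJ_apply]
      conv_lhs => rw [eq_finsum_inj f F η a]
      rw [map_finsum m.hom (finite_support' f F η _ (ιJ f F η) a)]
      congr 1
      funext ξ
      have := ConcreteCategory.congr_hom (hm ξ) (ΨP f F η ξ.1 ξ.2 a)
      rw [ConcreteCategory.comp_apply] at this
      exact this)

set_option backward.isDefEq.respectTransparency.types false in
/-- the stalk of the direct image with proper support along a separated locally quasi-finite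
morphism is the sum of the stalks at the points of the geometric fibre -/
theorem nonempty_iso :
    Nonempty ((EtCoh.stalk η).obj ((EtShriek.lowerShriek f).obj F) ≅
      ∐ fun ξ : {ξ : Spec (CommRingCat.of Ω) ⟶ X // ξ ≫ f = η} => (EtCoh.stalk ξ.1).obj F) := by
  let e1 : (EtCoh.stalk η).obj ((EtShriek.lowerShriek f).obj F) ≅
      (Scheme.pointSmallEtale η).presheafFiber.obj (EtShriek.lowerShriekPre f F) :=
    ((Scheme.pointSmallEtale η).presheafToSheafCompSheafFiberIso AddCommGrpCat.{u + 1}).app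
      (EtShriek.lowerShriekPre f F)
  let e2 : (Scheme.pointSmallEtale η).presheafFiber.obj (EtShriek.lowerShriekPre f F) ≅
      ∐ fun ξ : J f η => (Scheme.pointSmallEtale ξ.1).presheafFiber.obj F.obj :=
    (isColimitCofan f F η).coconePointUniqueUpToIso (colimit.isColimit _)
  exact ⟨e1 ≪≫ e2⟩

end Surj

end Groth.Agent.Lib.Helper70.ShriekStalk
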