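import Mathlib
import Groth.Prelude.Def_EtShriek2

set_option autoImplicit false
open CategoryTheory CategoryTheory.Limits AlgebraicGeometry Opposite

universe u

namespace Groth.Agent.Lib.Helper70.ExtZeroStalk

variable {U X : Scheme.{u}} (j : U ⟶ X) [Etale j] (F : EtCoh.Ab U)
  {Ω : Type u} [Field Ω] [IsSepClosed Ω] (ξ : Spec (CommRingCat.of Ω) ⟶ X)

/-- the geometric points of `U` over `ξ` -/
abbrev Lifts := {u : Spec (CommRingCat.of Ω) ⟶ U // u ≫ j = ξ}

/-- the coproduct of the stalks -/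
noncomputable abbrev T : AddCommGrpCat.{u + 1} :=
  ∐ fun u : Lifts j ξ => (EtCoh.stalk u.1).obj F

set_option backward.isDefEq.respectTransparency.types false in
/-- the total germ map -/
noncomputable def γ (W : U.Etale) (yl : Spec (CommRingCat.of Ω) ⟶ W.left)
    (h : (yl ≫ W.hom) ≫ j = ξ) : F.obj.obj (op W) ⟶ T j F ξ :=
  (Scheme.pointSmallEtale (yl ≫ W.hom)).toPresheafFiber W (Over.homMk yl rfl) F.obj ≫
    Sigma.ι (fun u : Lifts j ξ => (EtCoh.stalk u.1).obj F) ⟨yl ≫ W.hom, h⟩

set_option backward.isDefEq.respectTransparency.types false in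
theorem γ_eq (u : Lifts j ξ) (W : U.Etale) (yl : Spec (CommRingCat.of Ω) ⟶ W.left)
    (hyl : yl ≫ W.hom = u.1) (h : (yl ≫ W.hom) ≫ j = ξ) :
    γ j F ξ W yl h =
      (Scheme.pointSmallEtale u.1).toPresheafFiber W (Over.homMk yl hyl) F.obj ≫
        Sigma.ι (fun u : Lifts j ξ => (EtCoh.stalk u.1).obj F) u := by
  obtain ⟨u1, hu⟩ := u
  dsimp only at hyl
  subst hyl
  rfl

set_option backward.isDefEq.respectTransparency.types false in
theorem γ_naturality {W' W : U.Etale} (g : W' ⟶ W) (yl : Spec (CommRingCat.of Ω) ⟶ W'.left)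
    (h' : (yl ≫ W'.hom) ≫ j = ξ) (h : ((yl ≫ g.left) ≫ W.hom) ≫ j = ξ) :
    F.obj.map g.op ≫ γ j F ξ W' yl h' = γ j F ξ W (yl ≫ g.left) h := by
  have hw : (yl ≫ g.left) ≫ W.hom = yl ≫ W'.hom := by
    rw [Category.assoc, MorphismProperty.Over.w g]
  rw [γ_eq j F ξ ⟨yl ≫ W'.hom, h'⟩ W (yl ≫ g.left) hw h]
  rw [γ, ← Category.assoc]
  congr 1
  exact (Scheme.pointSmallEtale (yl ≫ W'.hom)).toPresheafFiber_w g (Over.homMk yl rfl) F.obj

variable [EtShriek.JCont j]

set_option backward.isDefEq.respectTransparency.types false in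
theorem hx (W : U.Etale) (x : (Scheme.pointSmallEtale ξ).fiber.obj ((EtShriek.compEtale j).obj W)) :
    ((x.left : Spec (CommRingCat.of Ω) ⟶ W.left) ≫ W.hom) ≫ j = ξ :=
  (Category.assoc _ _ _).trans (Over.w x)

set_option backward.isDefEq.respectTransparency.types false in
set_option backward.defeqAttrib.useBackward true in
/-- forward map -/
noncomputable def θ {Z : AddCommGrpCat.{u + 1}} (φ : T j F ξ ⟶ Z) :
    F ⟶ (EtShriek.restrAlong j).obj ((Scheme.pointSmallEtale ξ).skyscraperSheaf Z) :=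
  ⟨{ app := fun W => Pi.lift (fun x : (Scheme.pointSmallEtale ξ).fiber.obj
        ((EtShriek.compEtale j).obj W.unop) => γ j F ξ W.unop x.left (hx j ξ W.unop x) ≫ φ)
     naturality := by
      intro W W' g
      apply Pi.hom_ext
      intro x'
      dsimp
      simp only [Category.assoc, Pi.lift_π]
      rw [Pi.map'_comp_π, Category.comp_id, Pi.lift_π, ← Category.assoc]
      congr 1
      exact γ_naturality j F ξ g.unop x'.left _ _ }⟩

set_option backward.isDefEq.respectTransparency.types false in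
set_option backward.defeqAttrib.useBackward true in
theorem θ_π {Z : AddCommGrpCat.{u + 1}} (φ : T j F ξ ⟶ Z) (W : U.Etale)
    (x : (Scheme.pointSmallEtale ξ).fiber.obj ((EtShriek.compEtale j).obj W)) :
    (θ j F ξ φ).hom.app (op W) ≫ Pi.π (fun (_ : (Scheme.pointSmallEtale ξ).fiber.obj
      ((EtShriek.compEtale j).obj W)) => Z) x = γ j F ξ W x.left (hx j ξ W x) ≫ φ :=
  Pi.lift_π _ _

set_option backward.isDefEq.respectTransparency.types false in
/-- the element of the fibre of `ξ` attached to an element of the fibre of a lift `u` -/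
noncomputable def hat (u : Lifts j ξ) (W : U.Etale) (y : (Scheme.pointSmallEtale u.1).fiber.obj W) :
    (Scheme.pointSmallEtale ξ).fiber.obj ((EtShriek.compEtale j).obj W) :=
  Over.homMk (y.left : Spec (CommRingCat.of Ω) ⟶ W.left) (by
    have h1 : (y.left : Spec (CommRingCat.of Ω) ⟶ W.left) ≫ W.hom = u.1 := Over.w y
    change (y.left : Spec (CommRingCat.of Ω) ⟶ W.left) ≫ W.hom ≫ j = ξ
    exact (Category.assoc _ _ _).symm.trans ((congrArg (fun q => q ≫ j) h1).trans u.2))

set_option backward.isDefEq.respectTransparency.types false in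
set_option backward.defeqAttrib.useBackward true in
theorem θ_π_hat {Z : AddCommGrpCat.{u + 1}} (φ : T j F ξ ⟶ Z) (u : Lifts j ξ) (W : U.Etale)
    (y : (Scheme.pointSmallEtale u.1).fiber.obj W) :
    (θ j F ξ φ).hom.app (op W) ≫ Pi.π (fun (_ : (Scheme.pointSmallEtale ξ).fiber.obj
      ((EtShriek.compEtale j).obj W)) => Z) (hat j ξ u W y) =
    (Scheme.pointSmallEtale u.1).toPresheafFiber W y F.obj ≫
      Sigma.ι (fun u : Lifts j ξ => (EtCoh.stalk u.1).obj F) u ≫ φ := by
  rw [θ_π, ← Category.assoc]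
  congr 1
  have hy : y = Over.homMk y.left (Over.w y) := by
    apply Over.OverMorphism.ext
    rfl
  conv_rhs => rw [hy]
  exact γ_eq j F ξ u W y.left (Over.w y) _

set_option backward.isDefEq.respectTransparency.types false in
theorem θ_injective {Z : AddCommGrpCat.{u + 1}} :
    Function.Injective (θ j F ξ (Z := Z)) := by
  intro φ φ' h
  apply Sigma.hom_ext
  intro u
  apply GrothendieckTopology.Point.presheafFiber_hom_ext
  intro W y
  exact (θ_π_hat j F ξ φ u W y).symm.trans ((congrArg (fun t => t.hom.app (op W) ≫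
    Pi.π (fun (_ : (Scheme.pointSmallEtale ξ).fiber.obj
      ((EtShriek.compEtale j).obj W)) => Z) (hat j ξ u W y)) h).trans (θ_π_hat j F ξ φ' u W y))

set_option backward.isDefEq.respectTransparency.types false in
set_option backward.defeqAttrib.useBackward true in
theorem restr_sky_map_π {Z : AddCommGrpCat.{u + 1}} {W W' : U.Etale} (f : W ⟶ W')
    (x : (Scheme.pointSmallEtale ξ).fiber.obj ((EtShriek.compEtale j).obj W)) :
    ((EtShriek.restrAlong j).obj ((Scheme.pointSmallEtale ξ).skyscraperSheaf Z)).obj.map f.op ≫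
      Pi.π (fun (_ : (Scheme.pointSmallEtale ξ).fiber.obj
        ((EtShriek.compEtale j).obj W)) => Z) x =
    Pi.π (fun (_ : (Scheme.pointSmallEtale ξ).fiber.obj
        ((EtShriek.compEtale j).obj W')) => Z)
      ((Scheme.pointSmallEtale ξ).fiber.map ((EtShriek.compEtale j).map f) x) := by
  dsimp
  rw [Pi.map'_comp_π, Category.comp_id]

set_option backward.isDefEq.respectTransparency.types false in
set_option backward.defeqAttrib.useBackward true in
theorem θ_surjective {Z : AddCommGrpCat.{u + 1}} :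
    Function.Surjective (θ j F ξ (Z := Z)) := by
  intro ψ
  have compat : ∀ (u : Lifts j ξ) ⦃W W' : U.Etale⦄ (f : W ⟶ W')
      (y : (Scheme.pointSmallEtale u.1).fiber.obj W),
      F.obj.map f.op ≫ (ψ.hom.app (op W) ≫ Pi.π (fun (_ : (Scheme.pointSmallEtale ξ).fiber.obj
        ((EtShriek.compEtale j).obj W)) => Z) (hat j ξ u W y)) =
      ψ.hom.app (op W') ≫ Pi.π (fun (_ : (Scheme.pointSmallEtale ξ).fiber.obj
        ((EtShriek.compEtale j).obj W')) => Z)
          (hat j ξ u W' ((Scheme.pointSmallEtale u.1).fiber.map f y)) := by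
    intro u W W' f y
    have n := ψ.hom.naturality f.op
    rw [← Category.assoc, n, Category.assoc, restr_sky_map_π]
    rfl
  obtain ⟨φ, hφ⟩ : ∃ φ : T j F ξ ⟶ Z, ∀ (u : Lifts j ξ) (W : U.Etale)
      (y : (Scheme.pointSmallEtale u.1).fiber.obj W),
      (Scheme.pointSmallEtale u.1).toPresheafFiber W y F.obj ≫
        Sigma.ι (fun u : Lifts j ξ => (EtCoh.stalk u.1).obj F) u ≫ φ =
      ψ.hom.app (op W) ≫ Pi.π (fun (_ : (Scheme.pointSmallEtale ξ).fiber.obj
        ((EtShriek.compEtale j).obj W)) => Z) (hat j ξ u W y) := by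
    let D : ∀ u : Lifts j ξ, (EtCoh.stalk u.1).obj F ⟶ Z := fun u =>
      (Scheme.pointSmallEtale u.1).presheafFiberDesc (fun W y => ψ.hom.app (op W) ≫
        Pi.π (fun (_ : (Scheme.pointSmallEtale ξ).fiber.obj
          ((EtShriek.compEtale j).obj W)) => Z) (hat j ξ u W y)) (compat u)
    refine ⟨Sigma.desc D, ?_⟩
    intro u W y
    have h1 : Sigma.ι (fun u : Lifts j ξ => (EtCoh.stalk u.1).obj F) u ≫ Sigma.desc D = D u :=
      Sigma.ι_desc D u
    exact (congrArg (fun q => (Scheme.pointSmallEtale u.1).toPresheafFiber W y F.obj ≫ q) h1).trans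
      (GrothendieckTopology.Point.toPresheafFiber_presheafFiberDesc
        (Scheme.pointSmallEtale u.1) _ (compat u) W y)
  refine ⟨φ, ?_⟩
  apply Sheaf.hom_ext
  ext W : 2
  apply Pi.hom_ext
  intro x
  refine (θ_π j F ξ φ W.unop x).trans ?_
  rw [γ, Category.assoc]
  exact hφ ⟨x.left ≫ W.unop.hom, hx j ξ W.unop x⟩ W.unop (Over.homMk x.left rfl)

set_option backward.isDefEq.respectTransparency.types false in
set_option backward.defeqAttrib.useBackward true in
theorem θ_naturality {Z Z' : AddCommGrpCat.{u + 1}} (φ : T j F ξ ⟶ Z) (g : Z ⟶ Z') :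
    θ j F ξ (φ ≫ g) = θ j F ξ φ ≫ (EtShriek.restrAlong j).map
      ((Scheme.pointSmallEtale ξ).skyscraperSheafFunctor.map g) := by
  apply Sheaf.hom_ext
  ext W : 2
  apply Pi.hom_ext
  intro x
  refine (θ_π j F ξ (φ ≫ g) W.unop x).trans ?_
  have h1 : ((EtShriek.restrAlong j).map
      ((Scheme.pointSmallEtale ξ).skyscraperSheafFunctor.map g)).hom.app W ≫
      Pi.π (fun (_ : (Scheme.pointSmallEtale ξ).fiber.obj
        ((EtShriek.compEtale j).obj W.unop)) => Z') x =
      Pi.π (fun (_ : (Scheme.pointSmallEtale ξ).fiber.obj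
        ((EtShriek.compEtale j).obj W.unop)) => Z) x ≫ g := by
    dsimp
    exact Pi.map_π _ _
  change _ = ((θ j F ξ φ).hom.app W ≫ ((EtShriek.restrAlong j).map
      ((Scheme.pointSmallEtale ξ).skyscraperSheafFunctor.map g)).hom.app W) ≫ _
  refine Eq.trans ?_ (Category.assoc _ _ _).symm
  refine Eq.trans ?_ (congrArg (fun t => (θ j F ξ φ).hom.app W ≫ t) h1.symm)
  refine Eq.trans ?_ (Category.assoc _ _ _)
  refine Eq.trans ?_ (congrArg (fun t => t ≫ g) (θ_π j F ξ φ W.unop x).symm)
  exact (Category.assoc _ _ _).symm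

set_option backward.isDefEq.respectTransparency.types false in
theorem nonempty_iso : Nonempty ((EtCoh.stalk ξ).obj ((EtShriek.extZero j).obj F) ≅ T j F ξ) := by
  let q : ∀ {Z : AddCommGrpCat.{u + 1}}, (T j F ξ ⟶ Z) →
      ((EtCoh.stalk ξ).obj ((EtShriek.extZero j).obj F) ⟶ Z) := fun {Z} φ =>
    (((Scheme.pointSmallEtale ξ).skyscraperSheafAdjunction (A := AddCommGrpCat.{u + 1})).homEquiv
      ((EtShriek.extZero j).obj F) Z).symm
      (((EtShriek.extZeroAdj j).homEquiv F _).symm (θ j F ξ φ))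
  have hq : ∀ Z : AddCommGrpCat.{u + 1}, Function.Bijective (q (Z := Z)) := by
    intro Z
    exact (Equiv.bijective _).comp ((Equiv.bijective _).comp
      ⟨θ_injective j F ξ, θ_surjective j F ξ⟩)
  have hn : ∀ {Z Z' : AddCommGrpCat.{u + 1}} (f : T j F ξ ⟶ Z) (g : Z ⟶ Z'),
      q (f ≫ g) = q f ≫ g := by
    intro Z Z' f g
    simp only [q]
    rw [θ_naturality, Adjunction.homEquiv_naturality_right_symm,
      Adjunction.homEquiv_naturality_right_symm]
  exact ⟨Coyoneda.ext _ _ (fun {Z} f => (Equiv.ofBijective q (hq Z)).symm f) q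
    (fun {Z} f => (Equiv.ofBijective q (hq Z)).apply_symm_apply f)
    (fun {Z} f => (Equiv.ofBijective q (hq Z)).symm_apply_apply f) hn⟩

end Groth.Agent.Lib.Helper70.ExtZeroStalk
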