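import Mathlib
import Groth.Prelude.Def_BigSite
import Groth.Agent.Lib.Helper70.FinPushGeom

open AlgebraicGeometry CategoryTheory Limits IsLocalRing

universe u

namespace Groth.Agent.Lib.Helper70.FinPushGeomMulti

open Groth.Agent.Lib.Helper70.GeomPts Groth.Agent.Lib.Helper70.MultiPt
  Groth.Agent.Lib.Helper70.WeightingComp

variable {X Y : Scheme.{u}} {Ω : Type u} [Field Ω]

/-- a clopen piece of `X ×_Y V` dominating the étale neighbourhood `(U, u)` and containing exactly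
the geometric points over `v` lying over `u ≫ e` -/
def Piece (f : X ⟶ Y) {U : Scheme.{u}} (e : U ⟶ X) (u : Spec (.of Ω) ⟶ U) {V : Scheme.{u}}
    (g : V ⟶ Y) (v : Spec (.of Ω) ⟶ V) (W : (pullback f g).Opens) : Prop :=
  IsClosed (W : Set ↑(pullback f g)) ∧ ∃ h : W.toScheme ⟶ U, h ≫ e = W.ι ≫ pullback.fst f g ∧
    (∀ y : Spec (.of Ω) ⟶ pullback f g, y ≫ pullback.snd f g = v →
      y ≫ pullback.fst f g = u ≫ e → ∀ t, y t ∈ W) ∧
    (∀ yW : Spec (.of Ω) ⟶ W.toScheme, yW ≫ W.ι ≫ pullback.snd f g = v → yW ≫ h = u)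

set_option backward.isDefEq.respectTransparency.types false in
theorem Piece.transfer {f : X ⟶ Y} {U : Scheme.{u}} {e : U ⟶ X} {u : Spec (.of Ω) ⟶ U}
    {V V' : Scheme.{u}} {g : V ⟶ Y} {g' : V' ⟶ Y} (b : V' ⟶ V) (hb : b ≫ g = g')
    {v : Spec (.of Ω) ⟶ V} (v' : Spec (.of Ω) ⟶ V') (hv : v' ≫ b = v)
    (c : pullback f g' ⟶ pullback f g) (hc₁ : c ≫ pullback.fst f g = pullback.fst f g')
    (hc₂ : c ≫ pullback.snd f g = pullback.snd f g' ≫ b) {W : (pullback f g).Opens}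
    (h : Piece f e u g v W) : Piece f e u g' v' (c ⁻¹ᵁ W) := by
  obtain ⟨hcl, h, hh, ha, hb'⟩ := h
  refine ⟨hcl.preimage c.continuous, (c ∣_ W) ≫ h, ?_, ?_, ?_⟩
  · rw [Category.assoc, hh, ← Category.assoc, morphismRestrict_ι, Category.assoc, hc₁]
  · intro y hy₂ hy₁ t
    exact ha (y ≫ c) (by rw [Category.assoc, hc₂, ← Category.assoc, hy₂, hv])
      (by rw [Category.assoc, hc₁, hy₁]) t
  · intro yW hyW
    apply hb' (yW ≫ c ∣_ W)
    rw [Category.assoc, ← Category.assoc (c ∣_ W), morphismRestrict_ι, Category.assoc, hc₂,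
      ← Category.assoc, ← Category.assoc, Category.assoc yW, hyW, hv]

set_option backward.isDefEq.respectTransparency.types false in
/-- simultaneous pieces for finitely many étale neighbourhoods -/
theorem exists_pieces [IsAlgClosed Ω] (f : X ⟶ Y) [IsSeparated f] [LocallyOfFiniteType f]
    [LocallyQuasiFinite f] (η : Spec (.of Ω) ⟶ Y) {ι : Type*} (U : ι → Scheme.{u})
    (e : ∀ i, U i ⟶ X) [∀ i, Etale (e i)] (u : ∀ i, Spec (.of Ω) ⟶ U i)
    (hu : ∀ i, u i ≫ e i ≫ f = η) (T : Finset ι) :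
    ∃ (V : Scheme.{u}) (g : V ⟶ Y) (_ : Etale g) (v : Spec (.of Ω) ⟶ V), v ≫ g = η ∧
      ∃ W : ι → (pullback f g).Opens, ∀ i ∈ T, Piece f (e i) (u i) g v (W i) := by
  classical
  induction T using Finset.induction_on with
  | empty =>
    exact ⟨Y, 𝟙 Y, inferInstance, η, Category.comp_id _, fun _ => ⊥, fun i hi => by simp at hi⟩
  | insert i₀ T hi₀ ih =>
    obtain ⟨V, g, hg, v, hv, W, hW⟩ := ih
    obtain ⟨V', g', hg', v', hv', W', hW'cl, h', hh', ha', hb'⟩ :=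
      Groth.Agent.Lib.Helper70.FinPushGeom.exists_clopen f η (e i₀) (u i₀) (hu i₀)
    have hP' : Piece f (e i₀) (u i₀) g' v' W' := ⟨hW'cl, h', hh', ha', hb'⟩
    obtain ⟨T₁, aT, haT, b₁, b₂, tb₁, hb₁, hb₂, htb, htb₁, htb₂⟩ :=
      exists_common_etale (𝟙 Y) g g' η v v' (by rw [Category.comp_id, hv])
        (by rw [Category.comp_id, hv'])
    rw [Category.comp_id] at hb₁ hb₂
    obtain ⟨c₁, hc₁₁, hc₁₂⟩ : ∃ c₁ : pullback f aT ⟶ pullback f g,
        c₁ ≫ pullback.fst f g = pullback.fst f aT ∧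
        c₁ ≫ pullback.snd f g = pullback.snd f aT ≫ b₁ :=
      ⟨pullback.lift (pullback.fst f aT) (pullback.snd f aT ≫ b₁)
        (by rw [pullback.condition, Category.assoc, hb₁]),
        pullback.lift_fst _ _ _, pullback.lift_snd _ _ _⟩
    obtain ⟨c₂, hc₂₁, hc₂₂⟩ : ∃ c₂ : pullback f aT ⟶ pullback f g',
        c₂ ≫ pullback.fst f g' = pullback.fst f aT ∧
        c₂ ≫ pullback.snd f g' = pullback.snd f aT ≫ b₂ :=
      ⟨pullback.lift (pullback.fst f aT) (pullback.snd f aT ≫ b₂)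
        (by rw [pullback.condition, Category.assoc, hb₂]),
        pullback.lift_fst _ _ _, pullback.lift_snd _ _ _⟩
    refine ⟨T₁, aT, haT, tb₁, htb, fun i => if i = i₀ then c₂ ⁻¹ᵁ W' else c₁ ⁻¹ᵁ (W i), ?_⟩
    intro i hi
    beta_reduce
    by_cases h : i = i₀
    · subst h
      rw [if_pos rfl]
      exact hP'.transfer b₂ hb₂ tb₁ htb₂ c₂ hc₂₁ hc₂₂
    · rw [if_neg h]
      have hiT : i ∈ T := by
        rcases Finset.mem_insert.mp hi with h' | h'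
        · exact absurd h' h
        · exact h'
      exact (hW i hiT).transfer b₁ hb₁ tb₁ htb₁ c₁ hc₁₁ hc₁₂

set_option backward.isDefEq.respectTransparency.types false in
/-- for a finite morphism, the pieces attached to all geometric points of the geometric fibre can be
chosen to form a partition -/
theorem exists_partition [IsAlgClosed Ω] (f : X ⟶ Y) [IsFinite f] (η : Spec (.of Ω) ⟶ Y)
    (U : {ξ : Spec (.of Ω) ⟶ X // ξ ≫ f = η} → Scheme.{u})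
    (e : ∀ ξ, U ξ ⟶ X) [∀ ξ, Etale (e ξ)] (u : ∀ ξ, Spec (.of Ω) ⟶ U ξ)
    (hu : ∀ ξ, u ξ ≫ e ξ = ξ.1) :
    ∃ (V : Scheme.{u}) (g : V ⟶ Y) (_ : Etale g) (v : Spec (.of Ω) ⟶ V), v ≫ g = η ∧
      ∃ W : {ξ : Spec (.of Ω) ⟶ X // ξ ≫ f = η} → (pullback f g).Opens,
        (∀ ξ, Piece f (e ξ) (u ξ) g v (W ξ)) ∧ ∀ p : ↑(pullback f g), ∃! ξ, p ∈ W ξ := by
  classical
  haveI : Finite {ξ : Spec (.of Ω) ⟶ X // ξ ≫ f = η} :=
    finite_gpts Ω f η (f.finite_preimage_singleton _)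
  letI : Fintype {ξ : Spec (.of Ω) ⟶ X // ξ ≫ f = η} := Fintype.ofFinite _
  obtain ⟨V₀, g₀, hg₀, v₀, hv₀, W₀, hW₀⟩ := exists_pieces f η U e u
    (fun ξ => by rw [← Category.assoc, hu, ξ.2]) Finset.univ
  have hP : ∀ ξ, Piece f (e ξ) (u ξ) g₀ v₀ (W₀ ξ) := fun ξ => hW₀ ξ (Finset.mem_univ _)
  haveI : IsFinite (pullback.snd f g₀) :=
    MorphismProperty.pullback_snd (P := @IsFinite) f g₀ inferInstance
  -- the fibre over the geometric point
  have hfib : ∀ p : ↑(pullback f g₀), pullback.snd f g₀ p = v₀ (closedPoint Ω) →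
      ∃! ξ, p ∈ W₀ ξ := by
    intro p hp
    obtain ⟨t, ht⟩ := exists_gpts_of_mem_fibre Ω (pullback.snd f g₀) v₀ p hp
    obtain ⟨y, hy⟩ : ∃ y : Spec (.of Ω) ⟶ pullback f g₀, y = t.1 := ⟨_, rfl⟩
    have hy2 : y ≫ pullback.snd f g₀ = v₀ := by rw [hy]; exact t.2
    have hyp : y (closedPoint Ω) = p := by rw [hy]; exact ht
    have hξ : (y ≫ pullback.fst f g₀) ≫ f = η := by
      rw [Category.assoc, pullback.condition, ← Category.assoc, hy2, hv₀]
    refine ⟨⟨y ≫ pullback.fst f g₀, hξ⟩, ?_, ?_⟩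
    · obtain ⟨-, h, hh, ha, hb⟩ := hP ⟨y ≫ pullback.fst f g₀, hξ⟩
      have := ha y hy2 (by rw [hu]) (closedPoint Ω)
      rw [hyp] at this
      exact this
    · intro ξ₁ hξ₁
      obtain ⟨-, h, hh, ha, hb⟩ := hP ξ₁
      have hrange : Set.range y.base ⊆ Set.range (W₀ ξ₁).ι.base := by
        rintro _ ⟨a, rfl⟩
        rw [Subsingleton.elim a (closedPoint Ω), Scheme.Opens.range_ι]
        have : y (closedPoint Ω) ∈ W₀ ξ₁ := by rw [hyp]; exact hξ₁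
        exact this
      obtain ⟨yW, hyW⟩ : ∃ yW : Spec (.of Ω) ⟶ (W₀ ξ₁).toScheme, yW ≫ (W₀ ξ₁).ι = y :=
        ⟨IsOpenImmersion.lift (W₀ ξ₁).ι y hrange, IsOpenImmersion.lift_fac _ _ _⟩
      have h1 : yW ≫ h = u ξ₁ := hb yW (by rw [← Category.assoc, hyW, hy2])
      apply Subtype.ext
      change ξ₁.1 = y ≫ pullback.fst f g₀
      rw [← hu ξ₁, ← h1, Category.assoc, hh, ← Category.assoc, hyW]
  -- the good locus is open
  let G : Set ↑(pullback f g₀) := {p | ∃! ξ, p ∈ W₀ ξ}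
  have hGopen : IsOpen G := by
    have hG : G = ⋃ ξ, ((W₀ ξ : Set ↑(pullback f g₀)) ∩
        ⋂ ξ', {p | p ∈ W₀ ξ' → ξ' = ξ}) := by
      ext p
      simp only [G, Set.mem_ofPred_eq, Set.mem_iUnion, Set.mem_inter_iff, Set.mem_iInter,
        SetLike.mem_coe]
      rfl
    rw [hG]
    refine isOpen_iUnion (fun ξ => (W₀ ξ).2.inter (isOpen_iInter_of_finite (fun ξ' => ?_)))
    by_cases hξξ' : ξ' = ξ
    · have : {p : ↑(pullback f g₀) | p ∈ W₀ ξ' → ξ' = ξ} = Set.univ := by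
        ext p
        simp [hξξ']
      rw [this]
      exact isOpen_univ
    · have : {p : ↑(pullback f g₀) | p ∈ W₀ ξ' → ξ' = ξ} =
          (W₀ ξ' : Set ↑(pullback f g₀))ᶜ := by
        ext p
        simp [hξξ']
      rw [this]
      exact (hP ξ').1.isOpen_compl
  have hCcl : IsClosed ((pullback.snd f g₀).base '' Gᶜ) :=
    (pullback.snd f g₀).isClosedMap _ hGopen.isClosed_compl
  have hv₀C : v₀ (closedPoint Ω) ∉ (pullback.snd f g₀).base '' Gᶜ := by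
    rintro ⟨p, hpG, hp⟩
    exact hpG (hfib p hp)
  obtain ⟨V₁, hV₁⟩ : ∃ V₁ : V₀.Opens, (V₁ : Set V₀) = ((pullback.snd f g₀).base '' Gᶜ)ᶜ :=
    ⟨⟨_, hCcl.isOpen_compl⟩, rfl⟩
  have hrange : Set.range v₀.base ⊆ Set.range V₁.ι.base := by
    rintro _ ⟨a, rfl⟩
    rw [Subsingleton.elim a (closedPoint Ω), Scheme.Opens.range_ι, hV₁]
    exact hv₀C
  obtain ⟨v₁, hv₁⟩ : ∃ v₁ : Spec (.of Ω) ⟶ V₁.toScheme, v₁ ≫ V₁.ι = v₀ :=
    ⟨IsOpenImmersion.lift V₁.ι v₀ hrange, IsOpenImmersion.lift_fac _ _ _⟩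
  obtain ⟨c, hc₁, hc₂⟩ : ∃ c : pullback f (V₁.ι ≫ g₀) ⟶ pullback f g₀,
      c ≫ pullback.fst f g₀ = pullback.fst f (V₁.ι ≫ g₀) ∧
      c ≫ pullback.snd f g₀ = pullback.snd f (V₁.ι ≫ g₀) ≫ V₁.ι :=
    ⟨pullback.lift (pullback.fst f (V₁.ι ≫ g₀)) (pullback.snd f (V₁.ι ≫ g₀) ≫ V₁.ι)
      (by rw [pullback.condition, Category.assoc]),
      pullback.lift_fst _ _ _, pullback.lift_snd _ _ _⟩
  refine ⟨V₁.toScheme, V₁.ι ≫ g₀, inferInstance, v₁, by rw [← Category.assoc, hv₁, hv₀],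
    fun ξ => c ⁻¹ᵁ (W₀ ξ), fun ξ => (hP ξ).transfer V₁.ι rfl v₁ hv₁ c hc₁ hc₂, ?_⟩
  intro p'
  have hG' : c p' ∈ G := by
    by_contra hnot
    have h1 : pullback.snd f g₀ (c p') ∈ (V₁ : Set V₀)ᶜ := by
      rw [hV₁, compl_compl]
      exact ⟨c p', hnot, rfl⟩
    apply h1
    have h2 : pullback.snd f g₀ (c p') = V₁.ι (pullback.snd f (V₁.ι ≫ g₀) p') := by
      rw [← Scheme.Hom.comp_apply, hc₂]
      rfl
    rw [h2]
    exact (pullback.snd f (V₁.ι ≫ g₀) p').2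
  exact hG'

end Groth.Agent.Lib.Helper70.FinPushGeomMulti
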