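import Mathlib
import Groth.Prelude.Def_EtBase
import Groth.Prelude.Def_SGA4b
import Groth.Agent.Lib.Helper70.FinPushStalk
import Groth.Agent.Lib.Helper70.FinPushGeomMulti
import Groth.Agent.Lib.Helper70.StalkConsSet
import Groth.Agent.Lib.Helper70.PropBEpi

set_option autoImplicit false
open CategoryTheory CategoryTheory.Limits AlgebraicGeometry Opposite

universe u

namespace Groth.Agent.Lib.Helper70.FinPushStalkSet

open Groth.Agent.Lib.Helper70.FinPushStalk

section Basic

variable {X Y : Scheme.{u}} (f : X ⟶ Y) {Ω : Type u} [Field Ω] [IsSepClosed Ω]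
  (η : Spec (CommRingCat.of Ω) ⟶ Y) (ξ : Spec (CommRingCat.of Ω) ⟶ X) (hξ : ξ ≫ f = η)

set_option backward.isDefEq.respectTransparency.types false in
/-- the comparison map `(f_* F)_η ⟶ F_ξ` for sheaves of sets -/
noncomputable def ΨS (F : EtDesc.Sh X) :
    (Scheme.pointSmallEtale η).presheafFiber.obj ((EtDesc.pushSh f).obj F).obj ⟶
    (Scheme.pointSmallEtale ξ).presheafFiber.obj F.obj :=
  (Scheme.pointSmallEtale η).presheafFiberDesc (P := ((EtDesc.pushSh f).obj F).obj)
    (fun V x => ((Scheme.pointSmallEtale ξ).toPresheafFiber ((EtCoh.bc f).obj V)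
      (lift f η ξ hξ V x) F.obj : ((EtDesc.pushSh f).obj F).obj.obj (op V) ⟶ _))
    (by
      intro V V' g x
      change F.obj.map ((EtCoh.bc f).map g).op ≫ (Scheme.pointSmallEtale ξ).toPresheafFiber _
        (lift f η ξ hξ V x) F.obj = (Scheme.pointSmallEtale ξ).toPresheafFiber _
        (lift f η ξ hξ V' ((Scheme.pointSmallEtale η).fiber.map g x)) F.obj
      rw [lift_map, (Scheme.pointSmallEtale ξ).toPresheafFiber_w])

set_option backward.isDefEq.respectTransparency.types false in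
theorem ΨS_germ (F : EtDesc.Sh X) (V : Y.Etale) (x : (Scheme.pointSmallEtale η).fiber.obj V)
    (z : ((EtDesc.pushSh f).obj F).obj.obj (op V)) :
    ΨS f η ξ hξ F ((Scheme.pointSmallEtale η).toPresheafFiber (A := Type (u + 1)) V x
      ((EtDesc.pushSh f).obj F).obj z) =
      (Scheme.pointSmallEtale ξ).toPresheafFiber (A := Type (u + 1)) ((EtCoh.bc f).obj V)
        (lift f η ξ hξ V x) F.obj z := by
  have := (Scheme.pointSmallEtale η).toPresheafFiber_presheafFiberDesc
    (P := ((EtDesc.pushSh f).obj F).obj)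
    (fun V x => ((Scheme.pointSmallEtale ξ).toPresheafFiber ((EtCoh.bc f).obj V)
      (lift f η ξ hξ V x) F.obj : ((EtDesc.pushSh f).obj F).obj.obj (op V) ⟶ _)) (by
      intro V V' g x
      change F.obj.map ((EtCoh.bc f).map g).op ≫ (Scheme.pointSmallEtale ξ).toPresheafFiber _
        (lift f η ξ hξ V x) F.obj = (Scheme.pointSmallEtale ξ).toPresheafFiber _
        (lift f η ξ hξ V' ((Scheme.pointSmallEtale η).fiber.map g x)) F.obj
      rw [lift_map, (Scheme.pointSmallEtale ξ).toPresheafFiber_w]) V x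
  exact ConcreteCategory.congr_hom this z

set_option backward.isDefEq.respectTransparency.types false in
theorem ΨS_naturality {F G : EtDesc.Sh X} (a : F ⟶ G)
    (c : (Scheme.pointSmallEtale η).presheafFiber.obj ((EtDesc.pushSh f).obj F).obj) :
    ΨS f η ξ hξ G (((Scheme.pointSmallEtale η).sheafFiber (A := Type (u + 1))).map
      ((EtDesc.pushSh f).map a) c) =
      ((Scheme.pointSmallEtale ξ).sheafFiber (A := Type (u + 1))).map a (ΨS f η ξ hξ F c) := by
  obtain ⟨V, v, s, rfl⟩ := (Scheme.pointSmallEtale η).toPresheafFiber_jointly_surjective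
    (A := Type (u + 1)) c
  have h1 := ConcreteCategory.congr_hom ((Scheme.pointSmallEtale η).toPresheafFiber_naturality
    (A := Type (u + 1)) ((EtDesc.pushSh f).map a).hom V v) s
  rw [ConcreteCategory.comp_apply, ConcreteCategory.comp_apply] at h1
  have h1' : ((Scheme.pointSmallEtale η).sheafFiber (A := Type (u + 1))).map
      ((EtDesc.pushSh f).map a)
      ((Scheme.pointSmallEtale η).toPresheafFiber (A := Type (u + 1)) V v
        ((EtDesc.pushSh f).obj F).obj s) =
      (Scheme.pointSmallEtale η).toPresheafFiber (A := Type (u + 1)) V v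
        ((EtDesc.pushSh f).obj G).obj (((EtDesc.pushSh f).map a).hom.app (op V) s) := h1
  rw [h1', ΨS_germ, ΨS_germ]
  have h2 := ConcreteCategory.congr_hom ((Scheme.pointSmallEtale ξ).toPresheafFiber_naturality
    (A := Type (u + 1)) a.hom ((EtCoh.bc f).obj V) (lift f η ξ hξ V v)) s
  rw [ConcreteCategory.comp_apply, ConcreteCategory.comp_apply] at h2
  exact h2.symm

set_option backward.isDefEq.respectTransparency.types false in
/-- the comparison as a natural transformation of fibre functors -/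
noncomputable def ΨSnat :
    EtDesc.pushSh f ⋙ (Scheme.pointSmallEtale η).sheafFiber (A := Type (u + 1)) ⟶
      ((Scheme.pointSmallEtale ξ).sheafFiber (A := Type (u + 1)) : EtDesc.Sh X ⥤ Type (u + 1)) where
  app F := ΨS f η ξ hξ F
  naturality F G a := by
    refine ConcreteCategory.hom_ext _ _ (fun c => ?_)
    exact ΨS_naturality f η ξ hξ a c

end Basic

section Agree

variable {X : Scheme.{u}} (F : EtDesc.Sh X)

/-- the agreement locus of two sections -/
def agree (U : X.Etale) (s₁ s₂ : F.obj.obj (op U)) : Set U.left :=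
  ⋃ (Z : X.Etale) (k : Z ⟶ U) (_ : F.obj.map k.op s₁ = F.obj.map k.op s₂), Set.range k.left.base

theorem etale_left {U Z : X.Etale} (k : Z ⟶ U) : Etale k.left := by
  haveI : Etale U.hom := U.prop
  haveI : Etale (k.left ≫ U.hom) := by
    rw [MorphismProperty.Over.w k]; exact Z.prop
  exact MorphismProperty.of_postcomp (W := @Etale) (W' := @Etale) k.left U.hom inferInstance
    inferInstance

theorem isOpen_agree (U : X.Etale) (s₁ s₂ : F.obj.obj (op U)) : IsOpen (agree F U s₁ s₂) := by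
  refine isOpen_iUnion fun Z => isOpen_iUnion fun k => isOpen_iUnion fun _ => ?_
  haveI := etale_left k
  exact k.left.isOpenMap.isOpen_range

theorem eq_of_agree (U : X.Etale) (s₁ s₂ : F.obj.obj (op U))
    (h : ∀ p, p ∈ agree F U s₁ s₂) : s₁ = s₂ := by
  apply Groth.Agent.Lib.Helper70.PropBEpi.eq_of_locally_eq
  intro p
  have hp := h p
  simp only [agree, Set.mem_iUnion, Set.mem_range] at hp
  obtain ⟨Z, k, hk, z, hz⟩ := hp
  exact ⟨Z, k, z, hz, hk⟩

set_option backward.isDefEq.respectTransparency.types false in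
theorem mem_agree_of_germ_eq {Ω : Type u} [Field Ω] [IsSepClosed Ω]
    (ξ : Spec (CommRingCat.of Ω) ⟶ X) (U : X.Etale) (s₁ s₂ : F.obj.obj (op U))
    (xl : Spec (CommRingCat.of Ω) ⟶ U.left) (hxl : xl ≫ U.hom = ξ)
    (h : (Scheme.pointSmallEtale ξ).toPresheafFiber (A := Type (u + 1)) U (Over.homMk xl hxl)
      F.obj s₁ = (Scheme.pointSmallEtale ξ).toPresheafFiber (A := Type (u + 1)) U
        (Over.homMk xl hxl) F.obj s₂) (t) : xl.base t ∈ agree F U s₁ s₂ := by
  rw [GrothendieckTopology.Point.toPresheafFiber_eq_iff'] at h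
  obtain ⟨Z, k, z, hz, hk⟩ := h
  obtain ⟨zl, hzl⟩ : ∃ zl : Spec (CommRingCat.of Ω) ⟶ Z.left, zl = z.left := ⟨_, rfl⟩
  have h3 : zl ≫ k.left = xl := by
    rw [hzl]
    exact congrArg (fun q => q.left) hz
  simp only [agree, Set.mem_iUnion, Set.mem_range]
  refine ⟨Z, k, hk, zl.base t, ?_⟩
  rw [← Scheme.Hom.comp_apply, h3]

set_option backward.isDefEq.respectTransparency.types false in
theorem agree_map {U U' : X.Etale} (g : U' ⟶ U) (s₁ s₂ : F.obj.obj (op U)) (p' : U'.left)
    (h : g.left.base p' ∈ agree F U s₁ s₂) :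
    p' ∈ agree F U' (F.obj.map g.op s₁) (F.obj.map g.op s₂) := by
  simp only [agree, Set.mem_iUnion, Set.mem_range] at h ⊢
  obtain ⟨Z, k, hk, z, hz⟩ := h
  haveI := etale_left k
  haveI : Etale U'.hom := U'.prop
  obtain ⟨q, hq1, hq2⟩ := Scheme.Pullback.exists_preimage_pullback z p' hz
  let Z' : X.Etale := Scheme.Etale.mk (pullback.snd k.left g.left ≫ U'.hom)
  let k' : Z' ⟶ U' := MorphismProperty.Over.homMk (pullback.snd k.left g.left) rfl trivial
  let a : Z' ⟶ Z := MorphismProperty.Over.homMk (pullback.fst k.left g.left) (by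
    show pullback.fst k.left g.left ≫ Z.hom = pullback.snd k.left g.left ≫ U'.hom
    rw [← MorphismProperty.Over.w k, ← Category.assoc, pullback.condition, Category.assoc,
      MorphismProperty.Over.w g]) trivial
  have hcomm : k' ≫ g = a ≫ k := by
    apply MorphismProperty.Over.Hom.ext
    exact pullback.condition.symm
  refine ⟨Z', k', ?_, q, hq2⟩
  rw [← ConcreteCategory.comp_apply, ← ConcreteCategory.comp_apply, ← F.obj.map_comp, ← op_comp,
    hcomm, op_comp, F.obj.map_comp, ConcreteCategory.comp_apply, ConcreteCategory.comp_apply, hk]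

end Agree

section Fin

open Groth.Agent.Lib.Helper70.GeomPts

variable {X Y : Scheme.{u}} (f : X ⟶ Y) [IsFinite f] (F : EtDesc.Sh X) {Ω : Type u} [Field Ω]
  [IsAlgClosed Ω] (η : Spec (CommRingCat.of Ω) ⟶ Y)

set_option backward.isDefEq.respectTransparency.types false in
/-- joint injectivity of the comparison maps, for germs at a common neighbourhood -/
theorem eq_of_ΨS_eq_aux (W : Y.Etale) (w : (Scheme.pointSmallEtale η).fiber.obj W)
    (s₁ s₂ : ((EtDesc.pushSh f).obj F).obj.obj (op W))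
    (h : ∀ (ξ : Spec (CommRingCat.of Ω) ⟶ X) (hξ : ξ ≫ f = η),
      ΨS f η ξ hξ F ((Scheme.pointSmallEtale η).toPresheafFiber (A := Type (u + 1)) W w
        ((EtDesc.pushSh f).obj F).obj s₁) =
      ΨS f η ξ hξ F ((Scheme.pointSmallEtale η).toPresheafFiber (A := Type (u + 1)) W w
        ((EtDesc.pushSh f).obj F).obj s₂)) :
    (Scheme.pointSmallEtale η).toPresheafFiber (A := Type (u + 1)) W w
        ((EtDesc.pushSh f).obj F).obj s₁ =
    (Scheme.pointSmallEtale η).toPresheafFiber (A := Type (u + 1)) W w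
        ((EtDesc.pushSh f).obj F).obj s₂ := by
  let WL : Scheme.{u} := W.left
  let Wh : WL ⟶ Y := W.hom
  let wl : Spec (CommRingCat.of Ω) ⟶ WL := w.left
  have hwl : wl ≫ Wh = η := Over.w w
  let s₁' : F.obj.obj (op ((EtCoh.bc f).obj W)) := s₁
  let s₂' : F.obj.obj (op ((EtCoh.bc f).obj W)) := s₂
  let pW : ((EtCoh.bc f).obj W).left ⟶ WL := pullback.fst W.hom f
  let C : Set WL := pW.base '' (agree F ((EtCoh.bc f).obj W) s₁' s₂')ᶜ
  haveI : IsFinite pW := MorphismProperty.pullback_fst (P := @IsFinite) W.hom f inferInstance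
  have hC : IsClosed C := pW.isClosedMap _ (isOpen_agree F _ s₁' s₂').isClosed_compl
  have hw0 : wl.base default ∉ C := by
    rintro ⟨p, hp, hpw⟩
    have hpw' : pW p = wl (IsLocalRing.closedPoint Ω) := by
      refine hpw.trans ?_
      congr 1
      exact Subsingleton.elim _ _
    obtain ⟨t, ht⟩ := exists_gpts_of_mem_fibre Ω pW wl p hpw'
    obtain ⟨t1, ht1⟩ : ∃ t1 : Spec (CommRingCat.of Ω) ⟶ ((EtCoh.bc f).obj W).left, t1 = t.1 :=
      ⟨_, rfl⟩
    have ht2 : t1 ≫ pW = wl := by rw [ht1]; exact t.2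
    let ξ : Spec (CommRingCat.of Ω) ⟶ X := t1 ≫ pullback.snd W.hom f
    have hξ : ξ ≫ f = η := by
      change (t1 ≫ pullback.snd W.hom f) ≫ f = η
      have e0 : pullback.snd W.hom f ≫ f = pW ≫ Wh := pullback.condition.symm
      exact (Category.assoc _ _ _).trans ((congrArg (fun q => t1 ≫ q) e0).trans
        ((Category.assoc _ _ _).symm.trans ((congrArg (fun q => q ≫ Wh) ht2).trans hwl)))
    have h0 := h ξ hξ
    rw [ΨS_germ, ΨS_germ] at h0
    have hl : lift f η ξ hξ W w = Over.homMk t1 rfl := by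
      apply Over.OverMorphism.ext
      apply pullback.hom_ext
      · exact (pullback.lift_fst _ _ _).trans ht2.symm
      · exact (pullback.lift_snd _ _ _)
    rw [hl] at h0
    have h3 := mem_agree_of_germ_eq F ξ ((EtCoh.bc f).obj W) s₁' s₂' t1 rfl h0 default
    apply hp
    have h4 : t1.base default = p := by
      rw [ht1, ← ht]
      congr 1
      exact Subsingleton.elim _ _
    rw [← h4]
    exact h3
  let O : WL.Opens := ⟨Cᶜ, hC.isOpen_compl⟩
  haveI : Etale Wh := W.prop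
  haveI : IsOpenImmersion O.ι := Scheme.Opens.instIsOpenImmersionι O
  let W' : Y.Etale := Scheme.Etale.mk (O.ι ≫ Wh)
  let g : W' ⟶ W := MorphismProperty.Over.homMk O.ι rfl trivial
  have hrange : Set.range wl.base ⊆ Set.range O.ι.base := by
    rintro _ ⟨t, rfl⟩
    rw [Subsingleton.elim t default, Scheme.Opens.range_ι]
    exact hw0
  let wl' : Spec (CommRingCat.of Ω) ⟶ O.toScheme := IsOpenImmersion.lift O.ι wl hrange
  have hwl' : wl' ≫ O.ι = wl := IsOpenImmersion.lift_fac _ _ _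
  let w' : (Scheme.pointSmallEtale η).fiber.obj W' := Over.homMk wl' (by
    change wl' ≫ O.ι ≫ Wh = η
    rw [← Category.assoc, hwl', hwl])
  have hw' : (Scheme.pointSmallEtale η).fiber.map g w' = w := by
    apply Over.OverMorphism.ext
    exact hwl'
  have hs0 : ((EtDesc.pushSh f).obj F).obj.map g.op s₁ =
      ((EtDesc.pushSh f).obj F).obj.map g.op s₂ := by
    change F.obj.map ((EtCoh.bc f).map g).op s₁' = F.obj.map ((EtCoh.bc f).map g).op s₂'
    apply eq_of_agree
    intro p'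
    apply agree_map
    let bg : ((EtCoh.bc f).obj W').left ⟶ ((EtCoh.bc f).obj W).left := ((EtCoh.bc f).map g).left
    change bg.base p' ∈ _
    by_contra hnp
    have hmem : pW.base (bg.base p') ∈ C := ⟨_, hnp, rfl⟩
    let pW' : ((EtCoh.bc f).obj W').left ⟶ O.toScheme := pullback.fst W'.hom f
    have e5 : bg ≫ pW = pW' ≫ O.ι := Groth.Agent.S6632.bc_map_left_fst f g
    have h2 : pW.base (bg.base p') = O.ι.base (pW'.base p') :=
      congrArg (fun q : ((EtCoh.bc f).obj W').left ⟶ WL => q.base p') e5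
    rw [h2] at hmem
    exact (pW'.base p').2 hmem
  rw [← hw']
  have k1 := ConcreteCategory.congr_hom
    ((Scheme.pointSmallEtale η).toPresheafFiber_w (A := Type (u + 1)) g w'
      ((EtDesc.pushSh f).obj F).obj) s₁
  have k2 := ConcreteCategory.congr_hom
    ((Scheme.pointSmallEtale η).toPresheafFiber_w (A := Type (u + 1)) g w'
      ((EtDesc.pushSh f).obj F).obj) s₂
  rw [ConcreteCategory.comp_apply] at k1 k2
  refine k1.symm.trans (Eq.trans ?_ k2)
  rw [hs0]

set_option backward.isDefEq.respectTransparency.types false in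
/-- joint injectivity of the comparison maps -/
theorem eq_of_ΨS_eq
    (a₁ a₂ : (Scheme.pointSmallEtale η).presheafFiber.obj ((EtDesc.pushSh f).obj F).obj)
    (h : ∀ (ξ : Spec (CommRingCat.of Ω) ⟶ X) (hξ : ξ ≫ f = η),
      ΨS f η ξ hξ F a₁ = ΨS f η ξ hξ F a₂) : a₁ = a₂ := by
  let Φ := Scheme.pointSmallEtale η
  obtain ⟨W₁, w₁, s₁, rfl⟩ := Φ.toPresheafFiber_jointly_surjective (A := Type (u + 1)) a₁
  obtain ⟨W₂, w₂, s₂, rfl⟩ := Φ.toPresheafFiber_jointly_surjective (A := Type (u + 1)) a₂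
  let e1 : Φ.fiber.Elements := ⟨W₁, w₁⟩
  let e2 : Φ.fiber.Elements := ⟨W₂, w₂⟩
  let e := IsCofiltered.min e1 e2
  let f1 : e ⟶ e1 := IsCofiltered.minToLeft e1 e2
  let f2 : e ⟶ e2 := IsCofiltered.minToRight e1 e2
  have q1 : Φ.fiber.map f1.1 e.2 = w₁ := f1.2
  have q2 : Φ.fiber.map f2.1 e.2 = w₂ := f2.2
  have k1 := ConcreteCategory.congr_hom (Φ.toPresheafFiber_w (A := Type (u + 1)) f1.1 e.2
    ((EtDesc.pushSh f).obj F).obj) s₁
  have k2 := ConcreteCategory.congr_hom (Φ.toPresheafFiber_w (A := Type (u + 1)) f2.1 e.2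
    ((EtDesc.pushSh f).obj F).obj) s₂
  rw [ConcreteCategory.comp_apply] at k1 k2
  rw [q1] at k1
  rw [q2] at k2
  rw [← k1, ← k2] at h ⊢
  exact eq_of_ΨS_eq_aux f F η e.1 e.2 _ _ h

set_option backward.isDefEq.respectTransparency.types false in
/-- joint surjectivity of the comparison maps -/
theorem exists_preimage
    (b : ∀ ξ : {ξ : Spec (CommRingCat.of Ω) ⟶ X // ξ ≫ f = η},
      (Scheme.pointSmallEtale ξ.1).presheafFiber.obj F.obj) :
    ∃ a : (Scheme.pointSmallEtale η).presheafFiber.obj ((EtDesc.pushSh f).obj F).obj,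
      ∀ ξ : {ξ : Spec (CommRingCat.of Ω) ⟶ X // ξ ≫ f = η}, ΨS f η ξ.1 ξ.2 F a = b ξ := by
  choose U u σ hσ using fun ξ : {ξ : Spec (CommRingCat.of Ω) ⟶ X // ξ ≫ f = η} =>
    (Scheme.pointSmallEtale ξ.1).toPresheafFiber_jointly_surjective (A := Type (u + 1)) (b ξ)
  let UL : {ξ : Spec (CommRingCat.of Ω) ⟶ X // ξ ≫ f = η} → Scheme.{u} := fun ξ => (U ξ).left
  let Uh : ∀ ξ, UL ξ ⟶ X := fun ξ => (U ξ).hom
  haveI : ∀ ξ, Etale (Uh ξ) := fun ξ => (U ξ).prop
  let ul : ∀ ξ, Spec (CommRingCat.of Ω) ⟶ UL ξ := fun ξ => (u ξ).left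
  have hulh : ∀ ξ, ul ξ ≫ Uh ξ = ξ.1 := fun ξ => Over.w (u ξ)
  obtain ⟨V, g, hg, v, hv, W, hP, hpart⟩ :=
    Groth.Agent.Lib.Helper70.FinPushGeomMulti.exists_partition f η UL Uh ul hulh
  choose hWcl h hh hmem hout using hP
  let Z : {ξ : Spec (CommRingCat.of Ω) ⟶ X // ξ ≫ f = η} → X.Etale :=
    fun ξ => Scheme.Etale.mk ((W ξ).ι ≫ pullback.fst f g)
  let Vv : Y.Etale := Scheme.Etale.mk g
  let P : X.Etale := (EtCoh.bc f).obj Vv
  let c : ∀ ξ, Z ξ ⟶ P := fun ξ =>
    MorphismProperty.Over.homMk ((W ξ).ι ≫ (pullbackSymmetry f g).hom)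
    (by
      show ((W ξ).ι ≫ (pullbackSymmetry f g).hom) ≫ pullback.snd g f = (W ξ).ι ≫ pullback.fst f g
      rw [Category.assoc, pullbackSymmetry_hom_comp_snd]) trivial
  let k : ∀ ξ, Z ξ ⟶ U ξ := fun ξ => MorphismProperty.Over.homMk (h ξ) (hh ξ) trivial
  have hmono : ∀ ξ, Mono (c ξ).left := by
    intro ξ
    show Mono ((W ξ).ι ≫ (pullbackSymmetry f g).hom)
    infer_instance
  have hinj : Function.Injective (pullbackSymmetry f g).hom :=
    (pullbackSymmetry f g).hom.homeomorph.injective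
  have hcov : ∀ p : P.left, ∃ ξ, p ∈ Set.range (c ξ).left.base := by
    intro p
    obtain ⟨p', rfl⟩ : ∃ p' : ↥(pullback f g), (pullbackSymmetry f g).hom p' = p :=
      ⟨(pullbackSymmetry f g).inv p, by
        rw [← Scheme.Hom.comp_apply, Iso.inv_hom_id]; rfl⟩
    obtain ⟨ξ, hξ, -⟩ := hpart p'
    exact ⟨ξ, ⟨p', hξ⟩, rfl⟩
  have hdisj : ∀ ξ ξ' (z : (Z ξ).left) (z' : (Z ξ').left),
      (c ξ).left.base z = (c ξ').left.base z' → ξ = ξ' := by
    intro ξ ξ' z z' hzz'
    have h1 : (pullbackSymmetry f g).hom ((W ξ).ι z) = (pullbackSymmetry f g).hom ((W ξ').ι z') :=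
      hzz'
    have h2 : (W ξ).ι z = (W ξ').ι z' := hinj h1
    obtain ⟨ξ₀, -, huniq⟩ := hpart ((W ξ).ι z)
    have e1 : ξ = ξ₀ := huniq ξ z.2
    have e2 : ξ' = ξ₀ := huniq ξ' (by rw [h2]; exact z'.2)
    rw [e1, e2]
  obtain ⟨τ, hτ⟩ := Groth.Agent.Lib.Helper70.PropBEpi.exists_glue F P Z c hmono hcov hdisj
    (fun ξ => F.obj.map (k ξ).op (σ ξ))
  let vv : (Scheme.pointSmallEtale η).fiber.obj Vv := Over.homMk v hv
  refine ⟨(Scheme.pointSmallEtale η).toPresheafFiber (A := Type (u + 1)) Vv vv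
    ((EtDesc.pushSh f).obj F).obj τ, ?_⟩
  intro ξ
  rw [ΨS_germ, ← hσ ξ]
  let y' : Spec (CommRingCat.of Ω) ⟶ pullback f g := pullback.lift ξ.1 v (by rw [ξ.2, hv])
  have hy'W : ∀ t, y' t ∈ W ξ :=
    hmem ξ y' (pullback.lift_snd _ _ _) ((pullback.lift_fst _ _ _).trans (hulh ξ).symm)
  have hrange : Set.range y'.base ⊆ Set.range (W ξ).ι.base := by
    rintro _ ⟨t, rfl⟩
    rw [Scheme.Opens.range_ι]
    exact hy'W t
  let yW : Spec (CommRingCat.of Ω) ⟶ (W ξ).toScheme := IsOpenImmersion.lift (W ξ).ι y' hrange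
  have hyW : yW ≫ (W ξ).ι = y' := IsOpenImmersion.lift_fac _ _ _
  let x₁ : (Scheme.pointSmallEtale ξ.1).fiber.obj (Z ξ) := Over.homMk yW (by
    change yW ≫ (W ξ).ι ≫ pullback.fst f g = ξ.1
    rw [← Category.assoc, hyW]
    exact pullback.lift_fst _ _ _)
  have hx₁a : (Scheme.pointSmallEtale ξ.1).fiber.map (c ξ) x₁ = lift f η ξ.1 ξ.2 Vv vv := by
    apply Over.OverMorphism.ext
    change yW ≫ (W ξ).ι ≫ (pullbackSymmetry f g).hom = pullback.lift v ξ.1 _
    rw [← Category.assoc, hyW]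
    apply pullback.hom_ext
    · rw [Category.assoc, pullbackSymmetry_hom_comp_fst, pullback.lift_snd, pullback.lift_fst]
    · rw [Category.assoc, pullbackSymmetry_hom_comp_snd, pullback.lift_fst, pullback.lift_snd]
  have hx₁k : (Scheme.pointSmallEtale ξ.1).fiber.map (k ξ) x₁ = u ξ := by
    apply Over.OverMorphism.ext
    change yW ≫ h ξ = (u ξ).left
    apply hout ξ
    rw [← Category.assoc, hyW]
    exact pullback.lift_snd _ _ _
  rw [← hx₁a]
  have k1 := ConcreteCategory.congr_hom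
    ((Scheme.pointSmallEtale ξ.1).toPresheafFiber_w (A := Type (u + 1)) (c ξ) x₁ F.obj) τ
  rw [ConcreteCategory.comp_apply] at k1
  refine k1.symm.trans ?_
  rw [hτ ξ]
  have k2 := ConcreteCategory.congr_hom
    ((Scheme.pointSmallEtale ξ.1).toPresheafFiber_w (A := Type (u + 1)) (k ξ) x₁ F.obj) (σ ξ)
  rw [ConcreteCategory.comp_apply] at k2
  refine k2.trans ?_
  rw [hx₁k]

set_option backward.isDefEq.respectTransparency.types false in
/-- the stalk functor of a finite direct image is the product of the stalk functors at the points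
of the geometric fibre -/
theorem nonempty_iso :
    Nonempty (EtDesc.pushSh f ⋙ (Scheme.pointSmallEtale η).sheafFiber (A := Type (u + 1)) ≅
      ∏ᶜ fun ξ : {ξ : Spec (CommRingCat.of Ω) ⟶ X // ξ ≫ f = η} =>
        ((Scheme.pointSmallEtale ξ.1).sheafFiber (A := Type (u + 1)) :
          EtDesc.Sh X ⥤ Type (u + 1))) := by
  let G : {ξ : Spec (CommRingCat.of Ω) ⟶ X // ξ ≫ f = η} → (EtDesc.Sh X ⥤ Type (u + 1)) :=
    fun ξ => (Scheme.pointSmallEtale ξ.1).sheafFiber (A := Type (u + 1))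
  let Φ : EtDesc.pushSh f ⋙ (Scheme.pointSmallEtale η).sheafFiber (A := Type (u + 1)) ⟶ ∏ᶜ G :=
    Pi.lift (fun ξ => ΨSnat f η ξ.1 ξ.2)
  have hiso : IsIso Φ := by
    suffices hF : ∀ F, IsIso (Φ.app F) from NatIso.isIso_of_isIso_app Φ
    intro F
    let GF : {ξ : Spec (CommRingCat.of Ω) ⟶ X // ξ ≫ f = η} → Type (u + 1) :=
      fun ξ => (G ξ).obj F
    let ΦF : (Scheme.pointSmallEtale η).presheafFiber.obj ((EtDesc.pushSh f).obj F).obj ⟶ ∏ᶜ GF :=
      Pi.lift (fun ξ => ΨS f η ξ.1 ξ.2 F)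
    have hfac : Φ.app F ≫ (piObjIso G F).hom = ΦF := by
      apply Pi.hom_ext
      intro ξ
      have e1 : (Φ.app F ≫ (piObjIso G F).hom) ≫ Pi.π GF ξ = Φ.app F ≫ (Pi.π G ξ).app F := by
        rw [Category.assoc, piObjIso_hom_comp_π]
      have e2 : Φ.app F ≫ (Pi.π G ξ).app F = (ΨSnat f η ξ.1 ξ.2).app F := by
        have e0 : Φ ≫ Pi.π G ξ = ΨSnat f η ξ.1 ξ.2 := Pi.lift_π _ _
        rw [← NatTrans.comp_app, e0]
      have e3 : ΦF ≫ Pi.π GF ξ = ΨS f η ξ.1 ξ.2 F := Pi.lift_π _ _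
      exact e1.trans (e2.trans e3.symm)
    have hΦ : ∀ ξ a, Pi.π GF ξ (ΦF a) = ΨS f η ξ.1 ξ.2 F a := by
      intro ξ a
      have h1 : ΦF ≫ Pi.π GF ξ = ΨS f η ξ.1 ξ.2 F := Pi.lift_π _ _
      exact (ConcreteCategory.comp_apply ΦF (Pi.π GF ξ) a).symm.trans
        (ConcreteCategory.congr_hom h1 a)
    have hext : ∀ x y : ToType (∏ᶜ GF), (∀ ξ, Pi.π GF ξ x = Pi.π GF ξ y) → x = y := by
      intro x y hxy
      apply (Concrete.productEquiv GF).injective
      funext ξ
      rw [Concrete.productEquiv_apply_apply, Concrete.productEquiv_apply_apply]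
      exact hxy ξ
    have hbij : Function.Bijective ΦF := by
      constructor
      · intro a₁ a₂ h12
        apply eq_of_ΨS_eq f F η
        intro ξ hξ
        rw [← hΦ ⟨ξ, hξ⟩ a₁, ← hΦ ⟨ξ, hξ⟩ a₂, h12]
      · intro b
        obtain ⟨a, ha⟩ := exists_preimage f F η (fun ξ => Pi.π GF ξ b)
        refine ⟨a, ?_⟩
        apply hext
        intro ξ
        rw [hΦ]
        exact ha ξ
    have hisoF : IsIso ΦF := (ConcreteCategory.isIso_iff_bijective ΦF).mpr hbij
    have : IsIso (Φ.app F ≫ (piObjIso G F).hom) := by rw [hfac]; exact hisoF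
    exact IsIso.of_isIso_comp_right (Φ.app F) (piObjIso G F).hom
  exact ⟨@asIso _ _ _ _ Φ hiso⟩

end Fin

end Groth.Agent.Lib.Helper70.FinPushStalkSet
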