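import Mathlib
import Groth.Prelude.Def_EtBase
import Groth.Prelude.Def_EtShriek2
import Groth.Agent.Lib.Helper70.ShriekStalk
import Groth.Agent.Lib.Helper70.StalkConsAlg

set_option autoImplicit false
open CategoryTheory CategoryTheory.Limits AlgebraicGeometry Opposite

universe u

namespace Groth.Agent.Lib.Helper70.ShriekExact

open Groth.Agent.Lib.Helper70.FinPushStalk Groth.Agent.Lib.Helper70.ShriekStalk

section Additive

variable {X Y : Scheme.{u}} (f : X ⟶ Y)

instance : (EtShriek.lowerShriekPreFunctor f).Additive where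
  map_add {F G α β} := by
    ext V ⟨s, hs⟩
    rfl

instance : (EtShriek.lowerShriek f).Additive := inferInstance

end Additive

section Cons

variable {X : Scheme.{u}}

/-- an abelian étale sheaf all of whose stalks at algebraically closed geometric points vanish is
zero -/
theorem isZero_of_stalks_alg (H : EtCoh.Ab X)
    (h : ∀ (Ω : Type u) [Field Ω] [IsAlgClosed Ω] (ξ : Spec (CommRingCat.of Ω) ⟶ X),
      IsZero ((EtCoh.stalk ξ).obj H)) : IsZero H := by
  rw [IsZero.iff_id_eq_zero]
  ext U s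
  change s = 0
  apply Groth.Agent.Lib.Helper70.StalkConsAlg.eq_zero_of_germs H U.unop s
  intro Ω _ _ ξ x
  haveI : Subsingleton ((EtCoh.stalk ξ).obj H) :=
    AddCommGrpCat.subsingleton_of_isZero (h Ω ξ)
  exact Subsingleton.elim (α := ((EtCoh.stalk ξ).obj H)) _ _

/-- exactness of a short complex of abelian étale sheaves is detected on the stalks at
algebraically closed geometric points -/
theorem exact_of_stalk_exact_alg (S : ShortComplex (EtCoh.Ab X))
    (h : ∀ (Ω : Type u) [Field Ω] [IsAlgClosed Ω] (ξ : Spec (CommRingCat.of Ω) ⟶ X),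
      (S.map (EtCoh.stalk ξ)).Exact) : S.Exact := by
  rw [S.exact_iff_isZero_homology]
  apply isZero_of_stalks_alg
  intro Ω _ _ ξ
  exact ((S.map (EtCoh.stalk ξ)).exact_iff_isZero_homology.1 (h Ω ξ)).of_iso
    (S.mapHomologyIso (EtCoh.stalk ξ)).symm

theorem epi_of_stalk_surjective_alg {F G : EtCoh.Ab X} (a : F ⟶ G)
    (h : ∀ (Ω : Type u) [Field Ω] [IsAlgClosed Ω] (ξ : Spec (CommRingCat.of Ω) ⟶ X),
      Function.Surjective ((EtCoh.stalk ξ).map a)) : Epi a := by
  rw [← Sheaf.isLocallySurjective_iff_epi' _ a]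
  exact Groth.Agent.Lib.Helper70.StalkConsAlg.isLocallySurjective_of_stalk_surjective a h

end Cons

section Nat

variable {X Y : Scheme.{u}} (f : X ⟶ Y) {F G : EtCoh.Ab X} (α : F ⟶ G) {Ω : Type u} [Field Ω]
  [IsSepClosed Ω] (η : Spec (CommRingCat.of Ω) ⟶ Y) (ξ : Spec (CommRingCat.of Ω) ⟶ X)
  (hξ : ξ ≫ f = η)

set_option backward.isDefEq.respectTransparency.types false in
/-- naturality of the comparison maps -/
theorem ΨP_naturality
    (a : ToType ((Scheme.pointSmallEtale η).presheafFiber.obj (EtShriek.lowerShriekPre f F))) :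
    ΨP f G η ξ hξ ((Scheme.pointSmallEtale η).presheafFiber.map
      ((EtShriek.lowerShriekPreFunctor f).map α) a) =
      (EtCoh.stalk ξ).map α (ΨP f F η ξ hξ a) := by
  obtain ⟨V, v, z, rfl⟩ := (Scheme.pointSmallEtale η).toPresheafFiber_jointly_surjective a
  obtain ⟨z', hz'⟩ : ∃ z' : EtShriek.shriekSubgroup f F V, z' = z := ⟨_, rfl⟩
  subst hz'
  have h1 := ConcreteCategory.congr_hom ((Scheme.pointSmallEtale η).toPresheafFiber_naturality
    ((EtShriek.lowerShriekPreFunctor f).map α) V v) z'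
  rw [ConcreteCategory.comp_apply, ConcreteCategory.comp_apply] at h1
  let w' : EtShriek.shriekSubgroup f G V := ⟨α.hom.app (op ((EtCoh.bc f).obj V)) z'.1,
    EtShriek.shriekSubgroup_le_comap_app f α V z'.2⟩
  have h1' : (Scheme.pointSmallEtale η).presheafFiber.map
      ((EtShriek.lowerShriekPreFunctor f).map α)
      ((Scheme.pointSmallEtale η).toPresheafFiber V v (EtShriek.lowerShriekPre f F) z') =
      (Scheme.pointSmallEtale η).toPresheafFiber V v (EtShriek.lowerShriekPre f G) w' := h1
  rw [h1', ΨP_germ, ΨP_germ]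
  have h2 := ConcreteCategory.congr_hom ((Scheme.pointSmallEtale ξ).toPresheafFiber_naturality
    α.hom ((EtCoh.bc f).obj V) (lift f η ξ hξ V v)) z'.1
  rw [ConcreteCategory.comp_apply, ConcreteCategory.comp_apply] at h2
  exact h2.symm

end Nat

section Fam

variable {X Y : Scheme.{u}} (f : X ⟶ Y) [IsSeparated f] [LocallyOfFiniteType f]
  [LocallyQuasiFinite f] (F : EtCoh.Ab X) {Ω : Type u} [Field Ω] [IsAlgClosed Ω]
  (η : Spec (CommRingCat.of Ω) ⟶ Y)

/-- finitely supported families of germs come from the presheaf fibre -/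
theorem exists_of_family
    (b : ∀ ξ : J f η, ToType ((Scheme.pointSmallEtale ξ.1).presheafFiber.obj F.obj))
    (hb : {ξ : J f η | b ξ ≠ 0}.Finite) :
    ∃ a : ToType ((Scheme.pointSmallEtale η).presheafFiber.obj (EtShriek.lowerShriekPre f F)),
      ∀ ξ : J f η, ΨP f F η ξ.1 ξ.2 a = b ξ := by
  refine ⟨∑ᶠ ξ : J f η, ιJ f F η ξ (b ξ), ?_⟩
  intro ξ'
  have hfin : (Function.support fun ξ : J f η => ιJ f F η ξ (b ξ)).Finite := by
    refine hb.subset ?_
    intro ξ hξ h0
    apply hξ
    show ιJ f F η ξ (b ξ) = 0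
    rw [h0]
    exact map_zero (ιJ f F η ξ).hom
  rw [map_finsum (ΨP f F η ξ'.1 ξ'.2).hom hfin, finsum_eq_single _ ξ']
  · exact ΨP_inj_self f F η ξ' _
  · intro ξ hne
    exact ΨP_inj_ne f F η ξ ξ' hne.symm _

variable {F} {G : EtCoh.Ab X} (α : F ⟶ G)

/-- lifting elements of the presheaf fibre along a morphism, given lifts of all germs -/
theorem pfib_lift
    (y : ToType ((Scheme.pointSmallEtale η).presheafFiber.obj (EtShriek.lowerShriekPre f G)))
    (hy : ∀ ξ : J f η, ∃ b, (EtCoh.stalk ξ.1).map α b = ΨP f G η ξ.1 ξ.2 y) :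
    ∃ x : ToType ((Scheme.pointSmallEtale η).presheafFiber.obj (EtShriek.lowerShriekPre f F)),
      (Scheme.pointSmallEtale η).presheafFiber.map ((EtShriek.lowerShriekPreFunctor f).map α) x =
        y := by
  classical
  let b : ∀ ξ : J f η, ToType ((Scheme.pointSmallEtale ξ.1).presheafFiber.obj F.obj) :=
    fun ξ => if h : ΨP f G η ξ.1 ξ.2 y = 0 then 0 else Classical.choose (hy ξ)
  have hb1 : ∀ ξ : J f η, (EtCoh.stalk ξ.1).map α (b ξ) = ΨP f G η ξ.1 ξ.2 y := by
    intro ξ
    by_cases h : ΨP f G η ξ.1 ξ.2 y = 0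
    · simp only [b, dif_pos h]
      rw [h]
      exact map_zero ((EtCoh.stalk ξ.1).map α).hom
    · simp only [b, dif_neg h]
      exact Classical.choose_spec (hy ξ)
  have hb2 : {ξ : J f η | b ξ ≠ 0}.Finite := by
    refine (finite_support f G η y).subset ?_
    intro ξ hξ h0
    apply hξ
    simp only [b, dif_pos h0]
  obtain ⟨x, hx⟩ := exists_of_family f F η b hb2
  refine ⟨x, ?_⟩
  apply ext_ΨP f G η
  intro ξ hξ
  rw [ΨP_naturality, hx ⟨ξ, hξ⟩]
  exact hb1 ⟨ξ, hξ⟩

omit [IsSeparated f] [LocallyOfFiniteType f] in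
theorem pfib_injective
    (hα : ∀ ξ : J f η, Function.Injective ((EtCoh.stalk ξ.1).map α)) :
    Function.Injective ((Scheme.pointSmallEtale η).presheafFiber.map
      ((EtShriek.lowerShriekPreFunctor f).map α)) := by
  intro x x' hxx'
  apply ext_ΨP f F η
  intro ξ hξ
  apply hα ⟨ξ, hξ⟩
  exact (ΨP_naturality f α η ξ hξ x).symm.trans ((congrArg _ hxx').trans
    (ΨP_naturality f α η ξ hξ x'))

end Fam

section Exact

variable {X Y : Scheme.{u}} (f : X ⟶ Y) [IsSeparated f] [LocallyOfFiniteType f]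
  [LocallyQuasiFinite f]

omit [IsSeparated f] [LocallyOfFiniteType f] [LocallyQuasiFinite f] in
set_option backward.isDefEq.respectTransparency.types false in
/-- compatibility of the stalk of `f_!` with the presheaf fibre -/
theorem key {Ω : Type u} [Field Ω] [IsSepClosed Ω] (η : Spec (CommRingCat.of Ω) ⟶ Y)
    {F G : EtCoh.Ab X} (α : F ⟶ G)
    (x : ToType ((EtCoh.stalk η).obj ((EtShriek.lowerShriek f).obj F))) :
    (((Scheme.pointSmallEtale η).presheafToSheafCompSheafFiberIso AddCommGrpCat.{u + 1}).hom.app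
      (EtShriek.lowerShriekPre f G)) ((EtCoh.stalk η).map ((EtShriek.lowerShriek f).map α) x) =
    (Scheme.pointSmallEtale η).presheafFiber.map ((EtShriek.lowerShriekPreFunctor f).map α)
      ((((Scheme.pointSmallEtale η).presheafToSheafCompSheafFiberIso AddCommGrpCat.{u + 1}).hom.app
        (EtShriek.lowerShriekPre f F)) x) := by
  have h := ((Scheme.pointSmallEtale η).presheafToSheafCompSheafFiberIso
    AddCommGrpCat.{u + 1}).hom.naturality ((EtShriek.lowerShriekPreFunctor f).map α)
  have h2 := ConcreteCategory.congr_hom h x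
  rw [ConcreteCategory.comp_apply, ConcreteCategory.comp_apply] at h2
  exact h2

set_option backward.isDefEq.respectTransparency.types false in
/-- the direct image with proper support along a separated locally quasi-finite morphism
preserves short exact sequences -/
theorem shortExact_map (S : ShortComplex (EtCoh.Ab X)) (hS : S.ShortExact) :
    (S.map (EtShriek.lowerShriek f)).ShortExact := by
  have hmono := (Groth.Agent.Lib.Helper70.StalkCons.mono_iff_stalk_injective S.f).mp hS.mono_f
  have hepi := (Groth.Agent.Lib.Helper70.StalkCons.epi_iff_stalk_surjective S.g).mp hS.epi_g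
  have hex := (Groth.Agent.Lib.Helper70.StalkCons.exact_iff_stalk_exact S).mp hS.exact
  have hbij : ∀ (Ω : Type u) [Field Ω] [IsAlgClosed Ω] (η : Spec (CommRingCat.of Ω) ⟶ Y)
      (F : EtCoh.Ab X), Function.Bijective
      (((Scheme.pointSmallEtale η).presheafToSheafCompSheafFiberIso AddCommGrpCat.{u + 1}).hom.app
        (EtShriek.lowerShriekPre f F)) := by
    intro Ω _ _ η F
    exact ConcreteCategory.bijective_of_isIso _
  have hexη : ∀ (Ω : Type u) [Field Ω] [IsAlgClosed Ω] (η : Spec (CommRingCat.of Ω) ⟶ Y),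
      ((S.map (EtShriek.lowerShriek f)).map (EtCoh.stalk η)).Exact := by
    intro Ω _ _ η
    rw [ShortComplex.ab_exact_iff]
    intro x₂ hx₂
    have hx₂' : (EtCoh.stalk η).map ((EtShriek.lowerShriek f).map S.g) x₂ = 0 := hx₂
    have h1 := key f η S.g x₂
    rw [hx₂'] at h1
    have h1' : (Scheme.pointSmallEtale η).presheafFiber.map
        ((EtShriek.lowerShriekPreFunctor f).map S.g)
        ((((Scheme.pointSmallEtale η).presheafToSheafCompSheafFiberIso
          AddCommGrpCat.{u + 1}).hom.app (EtShriek.lowerShriekPre f S.X₂)) x₂) = 0 :=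
      h1.symm.trans (map_zero (((Scheme.pointSmallEtale η).presheafToSheafCompSheafFiberIso
          AddCommGrpCat.{u + 1}).hom.app (EtShriek.lowerShriekPre f S.X₃)).hom)
    obtain ⟨y₁, hy₁⟩ := pfib_lift f η S.f _ (by
      intro ξ
      have hexξ := hex Ω ξ.1
      rw [ShortComplex.ab_exact_iff] at hexξ
      refine hexξ _ ?_
      show (EtCoh.stalk ξ.1).map S.g _ = 0
      rw [← ΨP_naturality, h1']
      exact map_zero (ΨP f S.X₃ η ξ.1 ξ.2).hom)
    obtain ⟨x₁, hx₁⟩ := (hbij Ω η S.X₁).2 y₁
    refine ⟨x₁, ?_⟩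
    apply (hbij Ω η S.X₂).1
    show _ = _
    refine (key f η S.f x₁).trans ?_
    rw [hx₁]
    exact hy₁
  have hmonoη : Mono ((EtShriek.lowerShriek f).map S.f) := by
    rw [Groth.Agent.Lib.Helper70.StalkConsAlg.mono_iff_stalk_injective_alg]
    intro Ω _ _ η x x' hxx'
    apply (hbij Ω η S.X₁).1
    apply pfib_injective f η S.f (fun ξ => hmono Ω ξ.1)
    rw [← key, ← key, hxx']
  have hepiη : Epi ((EtShriek.lowerShriek f).map S.g) := by
    apply epi_of_stalk_surjective_alg
    intro Ω _ _ η x₃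
    obtain ⟨y₂, hy₂⟩ := pfib_lift f η S.g
      ((((Scheme.pointSmallEtale η).presheafToSheafCompSheafFiberIso
        AddCommGrpCat.{u + 1}).hom.app (EtShriek.lowerShriekPre f S.X₃)) x₃)
      (fun ξ => hepi Ω ξ.1 _)
    obtain ⟨x₂, hx₂⟩ := (hbij Ω η S.X₂).2 y₂
    refine ⟨x₂, ?_⟩
    apply (hbij Ω η S.X₃).1
    refine (key f η S.g x₂).trans ?_
    rw [hx₂]
    exact hy₂
  exact ShortComplex.ShortExact.mk' (exact_of_stalk_exact_alg _ hexη) hmonoη hepiη

/-- the direct image with proper support along a separated locally quasi-finite morphism is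
exact -/
theorem exact_lowerShriek : PreservesFiniteLimits (EtShriek.lowerShriek f) ∧
    PreservesFiniteColimits (EtShriek.lowerShriek f) :=
  ((EtShriek.lowerShriek f).exact_tfae.out 0 3).mp (shortExact_map f)

end Exact

end Groth.Agent.Lib.Helper70.ShriekExact
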