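import Mathlib
import Groth.Prelude.Def_EtBase
import Groth.Prelude.Def_EtShriek2
import Groth.Agent.Lib.Helper70.ShriekStalk
import Groth.Agent.Lib.Helper70.ShriekExact
import Groth.Agent.Lib.Helper70.ExtZeroStalk
import Groth.Agent.Lib.Helper70.FinPushStalkSet
import Groth.Agent.Lib.Helper70.WeightingLSC

set_option autoImplicit false
open CategoryTheory CategoryTheory.Limits AlgebraicGeometry Opposite

universe u

namespace Groth.Agent.Lib.Helper70.ExtZeroShriek

open Groth.Agent.Lib.Helper70.FinPushStalk Groth.Agent.Lib.Helper70.ShriekStalk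
  Groth.Agent.Lib.Helper70.PropAFaithful
open Groth.Agent.Lib.Helper70.FinPushStalkSet (etale_left)

section Glue

variable {X : Scheme.{u}}

/-- gluing a section on one part of a disjoint cover with zero on the other, uniquely -/
theorem existsUnique_extension (F : EtCoh.Ab X) (P Z Zc : X.Etale) (a : Z ⟶ P) (b : Zc ⟶ P)
    (ha : Mono a.left)
    (hcov : ∀ p : P.left, p ∈ Set.range a.left.base ∨ p ∈ Set.range b.left.base)
    (hdisj : ∀ (z : Z.left) (z' : Zc.left), a.left.base z ≠ b.left.base z')
    (s : F.obj.obj (op Z)) : ∃! s' : F.obj.obj (op P), F.obj.map a.op s' = s ∧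
      F.obj.map b.op s' = 0 := by
  let Xi : Bool → X.Etale := fun i => cond i Z Zc
  let π : ∀ i, Xi i ⟶ P := fun i => match i with
    | true => a
    | false => b
  let x : ∀ i, (toType F).obj.obj (op (Xi i)) := fun i => match i with
    | true => s
    | false => (0 : F.obj.obj (op Zc))
  have hcover : Sieve.generate (Presieve.ofArrows Xi π) ∈ X.smallEtaleTopology P := by
    rw [Groth.Agent.S6632.mem_smallEtaleTopology_iff]
    intro p
    rcases hcov p with ⟨z, hz⟩ | ⟨z, hz⟩
    · exact ⟨Z, a, z, Sieve.le_generate _ _ _ (Presieve.ofArrows.mk (ι := Bool) true), hz⟩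
    · exact ⟨Zc, b, z, Sieve.le_generate _ _ _ (Presieve.ofArrows.mk (ι := Bool) false), hz⟩
  have hsheaf : (Presieve.ofArrows Xi π).IsSheafFor (toType F).obj := by
    rw [Presieve.isSheafFor_iff_generate]
    exact (isSheaf_iff_isSheaf_of_type _ _).1 (toType F).2 _ hcover
  rw [Presieve.isSheafFor_arrows_iff] at hsheaf
  have hcompat : Presieve.Arrows.Compatible (toType F).obj π x := by
    intro i j T gi gj hij
    have hempty : ∀ (gi : T ⟶ Z) (gj : T ⟶ Zc), gi ≫ a = gj ≫ b → IsEmpty T.left := by
      intro gi gj h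
      refine ⟨fun t => hdisj (gi.left.base t) (gj.left.base t) ?_⟩
      have h1 : (gi ≫ a).left.base t = (gj ≫ b).left.base t := by rw [h]
      exact h1
    match i, j with
    | true, true =>
      have h1 : gi.left ≫ a.left = gj.left ≫ a.left := by
        have := congrArg (fun k => k.left) hij
        exact this
      have h2 : gi.left = gj.left := (cancel_mono a.left).mp h1
      have h3 : gi = gj := MorphismProperty.Over.Hom.ext h2
      rw [h3]
    | true, false => exact eq_of_isEmpty F T (hempty gi gj hij) _ _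
    | false, true => exact eq_of_isEmpty F T (hempty gj gi hij.symm) _ _
    | false, false =>
      show F.obj.map gi.op (0 : F.obj.obj (op Zc)) = F.obj.map gj.op (0 : F.obj.obj (op Zc))
      rw [map_zero, map_zero]
  obtain ⟨s', hs', huniq⟩ := hsheaf x hcompat
  refine ⟨s', ⟨hs' true, hs' false⟩, ?_⟩
  rintro y ⟨hy1, hy2⟩
  apply huniq
  intro i
  match i with
  | true => exact hy1
  | false => exact hy2

end Glue

section Graph

variable {U X : Scheme.{u}} (j : U ⟶ X) [Etale j]

/-- `W ×_X U` as an étale `U`-scheme -/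
noncomputable abbrev PW (W : U.Etale) : U.Etale :=
  (EtCoh.bc j).obj ((EtShriek.compEtale j).obj W)

set_option backward.isDefEq.respectTransparency.types false in
/-- the graph morphism of schemes `W ⟶ W ×_X U` -/
noncomputable def graph (W : U.Etale) : W.left ⟶ pullback (W.hom ≫ j) j :=
  pullback.lift (𝟙 W.left) W.hom (Category.id_comp _)

omit [Etale j] in
@[reassoc]
theorem graph_fst (W : U.Etale) : graph j W ≫ pullback.fst (W.hom ≫ j) j = 𝟙 W.left :=
  pullback.lift_fst _ _ _

omit [Etale j] in
@[reassoc]
theorem graph_snd (W : U.Etale) : graph j W ≫ pullback.snd (W.hom ≫ j) j = W.hom :=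
  pullback.lift_snd _ _ _

set_option backward.isDefEq.respectTransparency.types false in
/-- the graph `W ⟶ W ×_X U` in the small étale site of `U` -/
noncomputable def Γ (W : U.Etale) : W ⟶ PW j W :=
  MorphismProperty.Over.homMk (graph j W) (graph_snd j W) trivial

instance graph_mono (W : U.Etale) : Mono (graph j W) :=
  mono_of_mono_fac (graph_fst j W)

instance graph_isClosedImmersion [IsSeparated j] (W : U.Etale) :
    IsClosedImmersion (graph j W) := by
  haveI : IsClosedImmersion (graph j W ≫ pullback.fst (W.hom ≫ j) j) := by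
    rw [graph_fst]; infer_instance
  exact IsClosedImmersion.of_comp (graph j W) (pullback.fst (W.hom ≫ j) j)

theorem isOpen_range_graph (W : U.Etale) : IsOpen (Set.range (graph j W).base) := by
  haveI : Etale (Γ j W).left := etale_left (Γ j W)
  exact (Γ j W).left.isOpenMap.isOpen_range

omit [Etale j] in
theorem isClosed_range_graph [IsSeparated j] (W : U.Etale) :
    IsClosed (Set.range (graph j W).base) :=
  (graph j W).isClosedEmbedding.isClosed_range

end Graph

section Ext0

variable {U X : Scheme.{u}} (j : U ⟶ X) [Etale j] [IsSeparated j] (F : EtCoh.Ab U)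

/-- the complement of the graph -/
noncomputable def Gc (W : U.Etale) : (PW j W).left.Opens :=
  ⟨(Set.range (graph j W).base)ᶜ, (isClosed_range_graph j W).isOpen_compl⟩

set_option backward.isDefEq.respectTransparency.types false in
/-- the complement of the graph as an étale `U`-scheme -/
noncomputable def Zc (W : U.Etale) : U.Etale :=
  haveI : Etale (PW j W).hom := (PW j W).prop
  Scheme.Etale.mk ((Gc j W).ι ≫ (PW j W).hom)

set_option backward.isDefEq.respectTransparency.types false in
/-- the inclusion of the complement of the graph -/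
noncomputable def cι (W : U.Etale) : Zc j W ⟶ PW j W :=
  MorphismProperty.Over.homMk (Gc j W).ι rfl trivial

set_option backward.isDefEq.respectTransparency.types false in
theorem ext0_existsUnique (W : U.Etale) (s : F.obj.obj (op W)) :
    ∃! τ : F.obj.obj (op (PW j W)), F.obj.map (Γ j W).op τ = s ∧
      F.obj.map (cι j W).op τ = 0 := by
  refine existsUnique_extension F (PW j W) W (Zc j W) (Γ j W) (cι j W) ?_ ?_ ?_ s
  · show Mono (graph j W)
    infer_instance
  · intro p
    by_cases hp : p ∈ Set.range (graph j W).base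
    · exact Or.inl hp
    · refine Or.inr ⟨⟨p, hp⟩, rfl⟩
  · intro z z' h
    have hz' : (Gc j W).ι.base z' ∈ (Gc j W : Set _) := z'.2
    apply hz'
    refine ⟨z, ?_⟩
    exact h

/-- extension by zero along the graph -/
noncomputable def ext0 (W : U.Etale) (s : F.obj.obj (op W)) : F.obj.obj (op (PW j W)) :=
  Classical.choose (ext0_existsUnique j F W s).exists

theorem ext0_Γ (W : U.Etale) (s : F.obj.obj (op W)) :
    F.obj.map (Γ j W).op (ext0 j F W s) = s :=
  (Classical.choose_spec (ext0_existsUnique j F W s).exists).1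

theorem ext0_cι (W : U.Etale) (s : F.obj.obj (op W)) :
    F.obj.map (cι j W).op (ext0 j F W s) = 0 :=
  (Classical.choose_spec (ext0_existsUnique j F W s).exists).2

theorem ext0_unique (W : U.Etale) (s : F.obj.obj (op W)) (τ : F.obj.obj (op (PW j W)))
    (h1 : F.obj.map (Γ j W).op τ = s) (h2 : F.obj.map (cι j W).op τ = 0) :
    τ = ext0 j F W s :=
  (ext0_existsUnique j F W s).unique ⟨h1, h2⟩ ⟨ext0_Γ j F W s, ext0_cι j F W s⟩

theorem ext0_add (W : U.Etale) (s t : F.obj.obj (op W)) :
    ext0 j F W (s + t) = ext0 j F W s + ext0 j F W t := by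
  symm
  apply ext0_unique
  · rw [map_add, ext0_Γ, ext0_Γ]
  · rw [map_add, ext0_cι, ext0_cι, add_zero]

section NatW

variable {W W' : U.Etale} (g : W' ⟶ W)

/-- the map `W' ×_X U ⟶ W ×_X U` induced by `g : W' ⟶ W` -/
noncomputable abbrev Pg : PW j W' ⟶ PW j W :=
  (EtCoh.bc j).map ((EtShriek.compEtale j).map g)

omit [IsSeparated j] in
set_option backward.isDefEq.respectTransparency.types false in
theorem Pg_left_fst : (Pg j g).left ≫ pullback.fst (W.hom ≫ j) j =
    pullback.fst (W'.hom ≫ j) j ≫ g.left :=
  Groth.Agent.S6632.bc_map_left_fst j ((EtShriek.compEtale j).map g)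

omit [IsSeparated j] in
set_option backward.isDefEq.respectTransparency.types false in
theorem Pg_left_snd : (Pg j g).left ≫ pullback.snd (W.hom ≫ j) j =
    pullback.snd (W'.hom ≫ j) j :=
  Groth.Agent.S6632.bc_map_left_snd j ((EtShriek.compEtale j).map g)

omit [IsSeparated j] in
set_option backward.isDefEq.respectTransparency.types false in
theorem graph_Pg : graph j W' ≫ (Pg j g).left = g.left ≫ graph j W := by
  obtain ⟨pgl, hpgl⟩ : ∃ pgl : pullback (W'.hom ≫ j) j ⟶ pullback (W.hom ≫ j) j,
      pgl = (Pg j g).left := ⟨_, rfl⟩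
  obtain ⟨gl, hgl⟩ : ∃ gl : W'.left ⟶ W.left, gl = g.left := ⟨_, rfl⟩
  have e1 : pgl ≫ pullback.fst (W.hom ≫ j) j = pullback.fst (W'.hom ≫ j) j ≫ gl := by
    rw [hpgl, hgl]; exact Pg_left_fst j g
  have e2 : pgl ≫ pullback.snd (W.hom ≫ j) j = pullback.snd (W'.hom ≫ j) j := by
    rw [hpgl]; exact Pg_left_snd j g
  have e3 : gl ≫ W.hom = W'.hom := by rw [hgl]; exact MorphismProperty.Over.w g
  have key : graph j W' ≫ pgl = gl ≫ graph j W := by
    apply pullback.hom_ext
    · rw [Category.assoc, e1, graph_fst_assoc, Category.assoc, graph_fst, Category.comp_id]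
    · rw [Category.assoc, e2, graph_snd, Category.assoc, graph_snd, e3]
  rw [hpgl, hgl] at key
  exact key

omit [IsSeparated j] in
set_option backward.isDefEq.respectTransparency.types false in
theorem Γ_Pg : Γ j W' ≫ Pg j g = g ≫ Γ j W := by
  apply MorphismProperty.Over.Hom.ext
  exact graph_Pg j g

omit [IsSeparated j] in
set_option backward.isDefEq.respectTransparency.types false in
theorem isPullback_graph : IsPullback (graph j W') g.left (Pg j g).left (graph j W) := by
  have sq := EtCoh.isPullback_bc_map j ((EtShriek.compEtale j).map g)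
  have sq' : IsPullback (Pg j g).left (pullback.fst (W'.hom ≫ j) j)
      (pullback.fst (W.hom ≫ j) j) g.left := sq
  have outer : IsPullback (graph j W' ≫ pullback.fst (W'.hom ≫ j) j) g.left g.left
      (graph j W ≫ pullback.fst (W.hom ≫ j) j) := by
    have h1 := graph_fst j W'
    have h2 := graph_fst j W
    exact (congrArg₂ (fun a d => IsPullback a g.left g.left d) h1 h2).mpr
      (IsPullback.of_horiz_isIso ⟨by rw [Category.id_comp, Category.comp_id]⟩)
  exact IsPullback.of_right outer (graph_Pg j g) sq'.flip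

set_option backward.isDefEq.respectTransparency.types false in
theorem exists_cι_Pg : ∃ c : Zc j W' ⟶ Zc j W, cι j W' ≫ Pg j g = c ≫ cι j W := by
  have hrange : Set.range ((Gc j W').ι ≫ (Pg j g).left).base ⊆ Set.range (Gc j W).ι.base := by
    rintro _ ⟨p', rfl⟩
    rw [Scheme.Opens.range_ι]
    rintro ⟨w, hw⟩
    obtain ⟨q, hq1, hq2⟩ := Scheme.Pullback.exists_preimage_pullback
      (f := (Pg j g).left) (g := graph j W) ((Gc j W').ι.base p') w hw.symm
    have hp' : (Gc j W').ι.base p' ∈ (Gc j W' : Set _) := p'.2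
    apply hp'
    have h3 : (graph j W').base ((isPullback_graph j g).isoPullback.inv.base q) =
        (Gc j W').ι.base p' := by
      rw [← Scheme.Hom.comp_apply, IsPullback.isoPullback_inv_fst]
      exact hq1
    exact ⟨_, h3⟩
  let cl : (Gc j W').toScheme ⟶ (Gc j W).toScheme :=
    IsOpenImmersion.lift (Gc j W).ι ((Gc j W').ι ≫ (Pg j g).left) hrange
  have hcl : cl ≫ (Gc j W).ι = (Gc j W').ι ≫ (Pg j g).left := IsOpenImmersion.lift_fac _ _ _
  refine ⟨MorphismProperty.Over.homMk cl ?_ trivial, ?_⟩
  · show cl ≫ (Gc j W).ι ≫ (PW j W).hom = (Gc j W').ι ≫ (PW j W').hom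
    rw [← Category.assoc, hcl, Category.assoc]
    congr 1
    exact MorphismProperty.Over.w (Pg j g)
  · apply MorphismProperty.Over.Hom.ext
    exact hcl.symm

set_option backward.isDefEq.respectTransparency.types false in
/-- extension by zero along the graph is compatible with restriction -/
theorem ext0_map (s : F.obj.obj (op W)) :
    F.obj.map (Pg j g).op (ext0 j F W s) = ext0 j F W' (F.obj.map g.op s) := by
  apply ext0_unique
  · rw [← ConcreteCategory.comp_apply, ← F.obj.map_comp, ← op_comp, Γ_Pg, op_comp, F.obj.map_comp,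
      ConcreteCategory.comp_apply, ext0_Γ]
  · obtain ⟨c, hc⟩ := exists_cι_Pg j g
    rw [← ConcreteCategory.comp_apply, ← F.obj.map_comp, ← op_comp, hc, op_comp, F.obj.map_comp,
      ConcreteCategory.comp_apply, ext0_cι, map_zero]

end NatW

/-- extension by zero along the graph is natural in the sheaf -/
theorem ext0_app {G : EtCoh.Ab U} (α : F ⟶ G) (W : U.Etale) (s : F.obj.obj (op W)) :
    α.hom.app (op (PW j W)) (ext0 j F W s) = ext0 j G W (α.hom.app (op W) s) := by
  apply ext0_unique
  · have := ConcreteCategory.congr_hom (α.hom.naturality (Γ j W).op) (ext0 j F W s)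
    rw [ConcreteCategory.comp_apply, ConcreteCategory.comp_apply] at this
    rw [← this, ext0_Γ]
  · have := ConcreteCategory.congr_hom (α.hom.naturality (cι j W).op) (ext0 j F W s)
    rw [ConcreteCategory.comp_apply, ConcreteCategory.comp_apply] at this
    rw [← this, ext0_cι, map_zero]

set_option backward.isDefEq.respectTransparency.types false in
theorem sectSupp_ext0 (W : U.Etale) (s : F.obj.obj (op W)) :
    EtShriek.sectSupp F (PW j W) (ext0 j F W s) ⊆ Set.range (graph j W).base := by
  intro p hp
  by_contra hnp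
  have hpb : p = (cι j W).left.base ⟨p, hnp⟩ := rfl
  rw [hpb] at hp
  exact notMem_sectSupp_of_map_eq_zero F (cι j W) (ext0 j F W s) (ext0_cι j F W s) _ hp

set_option backward.isDefEq.respectTransparency.types false in
theorem isProperOver_range_graph (W : U.Etale) :
    ClSub.IsProperOver (EtShriek.prV j ((EtShriek.compEtale j).obj W))
      (Set.range (graph j W).base) := by
  haveI : LocallyOfFiniteType (EtShriek.prV j ((EtShriek.compEtale j).obj W)) := by
    show LocallyOfFiniteType (pullback.fst (W.hom ≫ j) j)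
    infer_instance
  have hP : IsProper (graph j W ≫ EtShriek.prV j ((EtShriek.compEtale j).obj W)) := by
    have h : graph j W ≫ EtShriek.prV j ((EtShriek.compEtale j).obj W) = 𝟙 W.left :=
      graph_fst j W
    have h2 : IsProper (𝟙 W.left) := inferInstance
    exact h ▸ h2
  have hC : IsClosedImmersion (graph j W) := graph_isClosedImmersion j W
  have hU : UniversallyClosed (graph j W) := inferInstance
  exact @Groth.Agent.Lib.Helper4.isProperOver_range_of_universallyClosed _ _ _
    (EtShriek.prV j ((EtShriek.compEtale j).obj W)) _ (graph j W) hU hP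

set_option backward.isDefEq.respectTransparency.types false in
theorem shriekPred_ext0 (W : U.Etale) (s : F.obj.obj (op W)) :
    EtShriek.ShriekPred j F ((EtShriek.compEtale j).obj W) (ext0 j F W s) := by
  intro V' φ
  obtain ⟨bφ, hbφ⟩ : ∃ bφ : ((EtCoh.bc j).obj V').left ⟶ pullback (W.hom ≫ j) j,
      bφ = ((EtCoh.bc j).map φ).left := ⟨_, rfl⟩
  obtain ⟨φl, hφl⟩ : ∃ φl : V'.left ⟶ W.left, φl = φ.left := ⟨_, rfl⟩
  have sq : IsPullback bφ (pullback.fst V'.hom j) (pullback.fst (W.hom ≫ j) j) φl := by
    rw [hbφ, hφl]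
    exact EtCoh.isPullback_bc_map j φ
  haveI : LocallyOfFiniteType (EtShriek.prV j ((EtShriek.compEtale j).obj W)) := by
    show LocallyOfFiniteType (pullback.fst (W.hom ≫ j) j)
    infer_instance
  refine ⟨bφ.base ⁻¹' Set.range (graph j W).base, ?_, ?_⟩
  · refine (sectSupp_map_subset F ((EtCoh.bc j).map φ) (ext0 j F W s)).trans ?_
    intro p' hp'
    have : ((EtCoh.bc j).map φ).left.base p' ∈ Set.range (graph j W).base :=
      sectSupp_ext0 j F W s hp'
    rw [← hbφ] at this
    exact this
  · exact Groth.Agent.S0793.result (EtShriek.prV j ((EtShriek.compEtale j).obj W)) φl bφ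
      (EtShriek.prV j V') sq _ (isProperOver_range_graph j W)

end Ext0

section GraphPts

variable {U X : Scheme.{u}} (j : U ⟶ X) [Etale j]

set_option backward.isDefEq.respectTransparency.types false in
/-- a geometric point of `W ×_X U` located on the graph has equal coordinates -/
theorem snd_eq_of_mem_range_graph (W : U.Etale) {K : Type u} [Field K]
    (z : Spec (CommRingCat.of K) ⟶ pullback (W.hom ≫ j) j)
    (hz : z.base default ∈ Set.range (graph j W).base) :
    z ≫ pullback.snd (W.hom ≫ j) j = z ≫ pullback.fst (W.hom ≫ j) j ≫ W.hom := by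
  obtain ⟨a, ha⟩ : ∃ a : pullback (W.hom ≫ j) j ⟶ U, a = pullback.snd (W.hom ≫ j) j := ⟨_, rfl⟩
  obtain ⟨b, hb⟩ : ∃ b : pullback (W.hom ≫ j) j ⟶ U, b = pullback.fst (W.hom ≫ j) j ≫ W.hom :=
    ⟨_, rfl⟩
  have hab : a ≫ j = b ≫ j := by
    rw [ha, hb, Category.assoc]
    exact pullback.condition.symm
  let ab : pullback (W.hom ≫ j) j ⟶ pullback j j := pullback.lift a b hab
  have hgab : graph j W ≫ ab = W.hom ≫ pullback.diagonal j := by
    apply pullback.hom_ext
    · rw [Category.assoc, pullback.lift_fst, Category.assoc, pullback.diagonal_fst,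
        Category.comp_id, ha, graph_snd]
    · rw [Category.assoc, pullback.lift_snd, Category.assoc, pullback.diagonal_snd,
        Category.comp_id, hb, graph_fst_assoc]
  have hrange : Set.range (z ≫ ab).base ⊆ Set.range (pullback.diagonal j).base := by
    rintro _ ⟨t, rfl⟩
    rw [Subsingleton.elim t default]
    obtain ⟨w, hw⟩ := hz
    refine ⟨W.hom.base w, ?_⟩
    rw [Scheme.Hom.comp_apply, ← hw, ← Scheme.Hom.comp_apply, ← Scheme.Hom.comp_apply, hgab]
  let c : Spec (CommRingCat.of K) ⟶ U := IsOpenImmersion.lift (pullback.diagonal j) (z ≫ ab) hrange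
  have hc : c ≫ pullback.diagonal j = z ≫ ab := IsOpenImmersion.lift_fac _ _ _
  have h1 : z ≫ a = c := by
    have := congrArg (fun t => t ≫ pullback.fst j j) hc
    simp only [Category.assoc, pullback.diagonal_fst, Category.comp_id, ab, pullback.lift_fst]
      at this
    exact this.symm
  have h2 : z ≫ b = c := by
    have := congrArg (fun t => t ≫ pullback.snd j j) hc
    simp only [Category.assoc, pullback.diagonal_snd, Category.comp_id, ab, pullback.lift_snd]
      at this
    exact this.symm
  rw [← ha, ← hb, h1, h2]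

end GraphPts

section Unit

variable {U X : Scheme.{u}} (j : U ⟶ X) [Etale j] [IsSeparated j]

/-- extension by zero along the graph, as a morphism to the group of sections with proper
support -/
noncomputable def ext0Hom (F : EtCoh.Ab U) (W : U.Etale) : F.obj.obj (op W) ⟶
    (EtShriek.lowerShriekPre j F).obj (op ((EtShriek.compEtale j).obj W)) :=
  AddCommGrpCat.ofHom (AddMonoidHom.mk'
    (fun s => (⟨ext0 j F W s, AddSubgroup.subset_closure (shriekPred_ext0 j F W s)⟩ :
      EtShriek.shriekSubgroup j F ((EtShriek.compEtale j).obj W)))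
    (by
      intro s t
      apply Subtype.ext
      exact ext0_add j F W s t))

theorem ext0Hom_val (F : EtCoh.Ab U) (W : U.Etale) (s : F.obj.obj (op W)) :
    (show EtShriek.shriekSubgroup j F ((EtShriek.compEtale j).obj W) from ext0Hom j F W s).1 =
      ext0 j F W s := rfl

/-- the presheaf-level unit -/
noncomputable def σpre (F : EtCoh.Ab U) :
    F.obj ⟶ (EtShriek.compEtale j).op ⋙ EtShriek.lowerShriekPre j F where
  app W := ext0Hom j F W.unop
  naturality W W' g := by
    ext s
    apply Subtype.ext
    exact (ext0_map j F g.unop s).symm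

variable [EtShriek.JCont j]

set_option backward.isDefEq.respectTransparency.types false in
/-- the unit `F ⟶ j^{-1} j_!^{prop} F` -/
noncomputable def σ (F : EtCoh.Ab U) :
    F ⟶ (EtShriek.restrAlong j).obj ((EtShriek.lowerShriek j).obj F) :=
  ⟨σpre j F ≫ Functor.whiskerLeft (EtShriek.compEtale j).op
    (toSheafify X.smallEtaleTopology (EtShriek.lowerShriekPre j F))⟩

set_option backward.isDefEq.respectTransparency.types false in
theorem σ_app (F : EtCoh.Ab U) (W : U.Etale) :
    (σ j F).hom.app (op W) = ext0Hom j F W ≫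
      (toSheafify X.smallEtaleTopology (EtShriek.lowerShriekPre j F)).app
        (op ((EtShriek.compEtale j).obj W)) := rfl

set_option backward.isDefEq.respectTransparency.types false in
theorem σ_apply (F : EtCoh.Ab U) (W : U.Etale) (s : F.obj.obj (op W)) :
    (σ j F).hom.app (op W) s =
      (toSheafify X.smallEtaleTopology (EtShriek.lowerShriekPre j F)).app
        (op ((EtShriek.compEtale j).obj W)) (ext0Hom j F W s) := rfl

set_option backward.isDefEq.respectTransparency.types false in
theorem σ_naturality {F G : EtCoh.Ab U} (α : F ⟶ G) :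
    α ≫ σ j G = σ j F ≫ (EtShriek.restrAlong j).map ((EtShriek.lowerShriek j).map α) := by
  apply Sheaf.hom_ext
  ext W s
  induction W using Opposite.rec with
  | op W =>
  show (σ j G).hom.app (op W) (α.hom.app (op W) s) =
    ((EtShriek.lowerShriek j).map α).hom.app (op ((EtShriek.compEtale j).obj W))
      ((σ j F).hom.app (op W) s)
  rw [σ_apply, σ_apply]
  have h1 := ConcreteCategory.congr_hom (congrArg
    (fun t => t.app (op ((EtShriek.compEtale j).obj W)))
    (toSheafify_naturality X.smallEtaleTopology ((EtShriek.lowerShriekPreFunctor j).map α)))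
    (ext0Hom j F W s)
  rw [NatTrans.comp_app, NatTrans.comp_app, ConcreteCategory.comp_apply,
    ConcreteCategory.comp_apply] at h1
  have e : ext0Hom j G W (α.hom.app (op W) s) =
      ((EtShriek.lowerShriekPreFunctor j).map α).app (op ((EtShriek.compEtale j).obj W))
        (ext0Hom j F W s) := by
    apply Subtype.ext
    exact (ext0_app j F α W s).symm
  rw [e]
  exact h1

/-- the comparison `j_! ⟶ j_!^{prop}` -/
noncomputable def τ : EtShriek.extZero j ⟶ EtShriek.lowerShriek j where
  app F := ((EtShriek.extZeroAdj j).homEquiv F ((EtShriek.lowerShriek j).obj F)).symm (σ j F)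
  naturality F G α := by
    rw [← Adjunction.homEquiv_naturality_left_symm, ← Adjunction.homEquiv_naturality_right_symm,
      σ_naturality]

end Unit

section Stalk

variable {U X : Scheme.{u}} (j : U ⟶ X) [Etale j] [IsSeparated j] (F : EtCoh.Ab U)
  {Ω : Type u} [Field Ω] [IsAlgClosed Ω] (η : Spec (CommRingCat.of Ω) ⟶ X)

/-- étale morphisms are locally quasi-finite -/
instance (priority := low) lqf_of_etale : LocallyQuasiFinite j :=
  Groth.Agent.Lib.Helper70.WeightingLSC.locallyQuasiFinite_of_etale j

set_option backward.isDefEq.respectTransparency.types false in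
/-- the germ of an extension by zero along the graph -/
theorem germ_ext0 (W : U.Etale)
    (x : (Scheme.pointSmallEtale η).fiber.obj ((EtShriek.compEtale j).obj W))
    (xl : Spec (CommRingCat.of Ω) ⟶ W.left) (hxl : xl = x.left) (hxη : (xl ≫ W.hom) ≫ j = η)
    (s : F.obj.obj (op W)) :
    (Scheme.pointSmallEtale η).toPresheafFiber ((EtShriek.compEtale j).obj W) x
        (EtShriek.lowerShriekPre j F) (ext0Hom j F W s) =
      inj j F η ⟨xl ≫ W.hom, hxη⟩
        ((Scheme.pointSmallEtale (xl ≫ W.hom)).toPresheafFiber W (Over.homMk xl rfl) F.obj s) := by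
  apply ext_ΨP j F η
  intro u' hu'
  have hx : x = Over.homMk xl ((Category.assoc _ _ _).symm.trans hxη) := by
    apply Over.OverMorphism.ext
    exact hxl.symm
  let z' : EtShriek.shriekSubgroup j F ((EtShriek.compEtale j).obj W) := ext0Hom j F W s
  have e0 : ΨP j F η u' hu' ((Scheme.pointSmallEtale η).toPresheafFiber
      ((EtShriek.compEtale j).obj W) x (EtShriek.lowerShriekPre j F) (ext0Hom j F W s)) =
      (Scheme.pointSmallEtale u').toPresheafFiber (PW j W)
        (lift j η u' hu' ((EtShriek.compEtale j).obj W) x) F.obj (ext0 j F W s) :=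
    ΨP_germ j F η u' hu' ((EtShriek.compEtale j).obj W) x z'
  rw [e0]
  by_cases h : u' = xl ≫ W.hom
  · subst h
    rw [ΨP_inj_self j F η ⟨xl ≫ W.hom, hxη⟩]
    let y : (Scheme.pointSmallEtale (xl ≫ W.hom)).fiber.obj W := Over.homMk xl rfl
    have hΓ : (Scheme.pointSmallEtale (xl ≫ W.hom)).fiber.map (Γ j W) y =
        lift j η (xl ≫ W.hom) hu' ((EtShriek.compEtale j).obj W) x := by
      apply Over.OverMorphism.ext
      change xl ≫ graph j W = pullback.lift (x.left : Spec (CommRingCat.of Ω) ⟶ W.left)
        (xl ≫ W.hom) _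
      apply pullback.hom_ext
      · exact ((Category.assoc _ _ _).trans ((congrArg (fun q => xl ≫ q) (graph_fst j W)).trans
          (Category.comp_id _))).trans (hxl.trans (pullback.lift_fst _ _ _).symm)
      · exact ((Category.assoc _ _ _).trans (congrArg (fun q => xl ≫ q) (graph_snd j W))).trans
          (pullback.lift_snd _ _ _).symm
    rw [← hΓ]
    have k1 := ConcreteCategory.congr_hom
      ((Scheme.pointSmallEtale (xl ≫ W.hom)).toPresheafFiber_w (Γ j W) y F.obj) (ext0 j F W s)
    rw [ConcreteCategory.comp_apply] at k1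
    refine k1.symm.trans ?_
    rw [ext0_Γ]
  · have hne : (⟨u', hu'⟩ : J j η) ≠ ⟨xl ≫ W.hom, hxη⟩ := fun h' => h (congrArg Subtype.val h')
    rw [ΨP_inj_ne j F η ⟨xl ≫ W.hom, hxη⟩ ⟨u', hu'⟩ hne]
    obtain ⟨z, hzdef⟩ : ∃ z : Spec (CommRingCat.of Ω) ⟶ pullback (W.hom ≫ j) j,
        z = (lift j η u' hu' ((EtShriek.compEtale j).obj W) x).left := ⟨_, rfl⟩
    have hz1 : z ≫ pullback.fst (W.hom ≫ j) j = xl := by
      rw [hzdef, hxl]; exact pullback.lift_fst _ _ _
    have hz2 : z ≫ pullback.snd (W.hom ≫ j) j = u' := by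
      rw [hzdef]; exact pullback.lift_snd _ _ _
    have hznot : z.base default ∉ Set.range (graph j W).base := by
      intro hz
      apply h
      have := snd_eq_of_mem_range_graph j W z hz
      rw [hz2, ← Category.assoc, hz1] at this
      exact this
    have hrange : Set.range z.base ⊆ Set.range (Gc j W).ι.base := by
      rintro _ ⟨t, rfl⟩
      have hmem : z.base t ∉ Set.range (graph j W).base := by
        rw [Subsingleton.elim t default]
        exact hznot
      exact ⟨⟨z.base t, hmem⟩, rfl⟩
    let zc : Spec (CommRingCat.of Ω) ⟶ (Gc j W).toScheme :=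
      IsOpenImmersion.lift (Gc j W).ι z hrange
    have hzc : zc ≫ (Gc j W).ι = z := IsOpenImmersion.lift_fac _ _ _
    let x₂ : (Scheme.pointSmallEtale u').fiber.obj (Zc j W) := Over.homMk zc (by
      change zc ≫ (Gc j W).ι ≫ pullback.snd (W.hom ≫ j) j = u'
      exact ((Category.assoc _ _ _).symm.trans
        (congrArg (fun q => q ≫ pullback.snd (W.hom ≫ j) j) hzc)).trans hz2)
    have hx₂ : (Scheme.pointSmallEtale u').fiber.map (cι j W) x₂ =
        lift j η u' hu' ((EtShriek.compEtale j).obj W) x := by
      apply Over.OverMorphism.ext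
      change zc ≫ (Gc j W).ι = _
      rw [hzc, hzdef]
    rw [← hx₂]
    have k1 := ConcreteCategory.congr_hom
      ((Scheme.pointSmallEtale u').toPresheafFiber_w (cι j W) x₂ F.obj) (ext0 j F W s)
    rw [ConcreteCategory.comp_apply] at k1
    refine k1.symm.trans ?_
    rw [ext0_cι]
    exact map_zero ((Scheme.pointSmallEtale u').toPresheafFiber (Zc j W) x₂ F.obj).hom

variable [EtShriek.JCont j]

open Groth.Agent.Lib.Helper70.ExtZeroStalk in
/-- the bijection between maps out of the coproduct of the stalks and maps out of the stalk of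
`j_!` -/
noncomputable def qq {Z : AddCommGrpCat.{u + 1}} (φ : T j F η ⟶ Z) :
    (EtCoh.stalk η).obj ((EtShriek.extZero j).obj F) ⟶ Z :=
  (((Scheme.pointSmallEtale η).skyscraperSheafAdjunction (A := AddCommGrpCat.{u + 1})).homEquiv
    ((EtShriek.extZero j).obj F) Z).symm
    (((EtShriek.extZeroAdj j).homEquiv F _).symm (θ j F η φ))

omit [IsSeparated j] in
open Groth.Agent.Lib.Helper70.ExtZeroStalk in
theorem qq_bijective (Z : AddCommGrpCat.{u + 1}) :
    Function.Bijective (qq j F η (Z := Z)) :=
  (Equiv.bijective _).comp ((Equiv.bijective _).comp ⟨θ_injective j F η, θ_surjective j F η⟩)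

/-- the identification of the stalk of `j_!^{prop} F` with the presheaf fibre -/
noncomputable def e1 : (EtCoh.stalk η).obj ((EtShriek.lowerShriek j).obj F) ≅
    (Scheme.pointSmallEtale η).presheafFiber.obj (EtShriek.lowerShriekPre j F) :=
  ((Scheme.pointSmallEtale η).presheafToSheafCompSheafFiberIso AddCommGrpCat.{u + 1}).app
    (EtShriek.lowerShriekPre j F)

omit [Etale j] [IsSeparated j] [EtShriek.JCont j] in
set_option backward.isDefEq.respectTransparency.types false in
theorem e1_germ (V : X.Etale) (x : (Scheme.pointSmallEtale η).fiber.obj V)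
    (t : ToType ((EtShriek.lowerShriekPre j F).obj (op V))) :
    (e1 j F η).hom ((Scheme.pointSmallEtale η).toPresheafFiber V x
      ((EtShriek.lowerShriek j).obj F).obj
      ((toSheafify X.smallEtaleTopology (EtShriek.lowerShriekPre j F)).app (op V) t)) =
    (Scheme.pointSmallEtale η).toPresheafFiber V x (EtShriek.lowerShriekPre j F) t := by
  have h1 := ConcreteCategory.congr_hom ((Scheme.pointSmallEtale η).toPresheafFiber_naturality
    (toSheafify X.smallEtaleTopology (EtShriek.lowerShriekPre j F)) V x) t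
  rw [ConcreteCategory.comp_apply, ConcreteCategory.comp_apply] at h1
  have h2 : (Scheme.pointSmallEtale η).presheafFiber.map
      (toSheafify X.smallEtaleTopology (EtShriek.lowerShriekPre j F)) ≫ (e1 j F η).hom = 𝟙 _ := by
    simp only [e1, GrothendieckTopology.Point.presheafToSheafCompSheafFiberIso, Iso.app_hom,
      Iso.symm_hom, NatIso.ofComponents_inv_app, asIso_inv]
    exact IsIso.hom_inv_id _
  have h3 := ConcreteCategory.congr_hom h2
    ((Scheme.pointSmallEtale η).toPresheafFiber V x (EtShriek.lowerShriekPre j F) t)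
  rw [ConcreteCategory.comp_apply] at h3
  exact (congrArg (fun q => (e1 j F η).hom q) h1.symm).trans h3

open Groth.Agent.Lib.Helper70.ExtZeroStalk in
/-- the map on maps out of the coproducts induced by the two coproduct structures -/
noncomputable def Ξ {Z : AddCommGrpCat.{u + 1}}
    (χ : (Scheme.pointSmallEtale η).presheafFiber.obj (EtShriek.lowerShriekPre j F) ⟶ Z) :
    T j F η ⟶ Z :=
  Sigma.desc (fun u : Lifts j η => ιJ j F η u ≫ χ)

open Groth.Agent.Lib.Helper70.ExtZeroStalk in
omit [EtShriek.JCont j] in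
theorem Ξ_bijective (Z : AddCommGrpCat.{u + 1}) : Function.Bijective (Ξ j F η (Z := Z)) := by
  constructor
  · intro χ₁ χ₂ h
    apply (isColimitCofan j F η).hom_ext
    rintro ⟨u⟩
    have h1 := congrArg (fun ψ => Sigma.ι (fun u : Lifts j η => (EtCoh.stalk u.1).obj F) u ≫ ψ) h
    simp only [Ξ, Sigma.ι_desc] at h1
    exact h1
  · intro ψ
    refine ⟨(isColimitCofan j F η).desc (Cofan.mk Z
      (fun u => Sigma.ι (fun u : Lifts j η => (EtCoh.stalk u.1).obj F) u ≫ ψ)), ?_⟩
    apply Sigma.hom_ext
    intro u
    simp only [Ξ, Sigma.ι_desc]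
    exact (isColimitCofan j F η).fac _ ⟨u⟩

open Groth.Agent.Lib.Helper70.ExtZeroStalk in
set_option backward.isDefEq.respectTransparency.types false in
/-- the two coproduct structures are compatible with the comparison map -/
theorem qq_Ξ {Z : AddCommGrpCat.{u + 1}}
    (χ : (Scheme.pointSmallEtale η).presheafFiber.obj (EtShriek.lowerShriekPre j F) ⟶ Z) :
    qq j F η (Ξ j F η χ) = (EtCoh.stalk η).map ((τ j).app F) ≫ (e1 j F η).hom ≫ χ := by
  let sk := (Scheme.pointSmallEtale η).skyscraperSheafAdjunction (A := AddCommGrpCat.{u + 1})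
  apply (sk.homEquiv ((EtShriek.extZero j).obj F) Z).injective
  rw [qq, Equiv.apply_symm_apply]
  have h1 : sk.homEquiv ((EtShriek.extZero j).obj F) Z
      ((EtCoh.stalk η).map ((τ j).app F) ≫ (e1 j F η).hom ≫ χ) =
      (τ j).app F ≫ sk.homEquiv ((EtShriek.lowerShriek j).obj F) Z ((e1 j F η).hom ≫ χ) :=
    sk.homEquiv_naturality_left _ _
  rw [h1]
  apply ((EtShriek.extZeroAdj j).homEquiv F _).injective
  rw [Equiv.apply_symm_apply, Adjunction.homEquiv_naturality_right]
  have h2 : (EtShriek.extZeroAdj j).homEquiv F _ ((τ j).app F) = σ j F :=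
    Equiv.apply_symm_apply _ _
  rw [h2]
  apply Sheaf.hom_ext
  ext W : 2
  induction W using Opposite.rec with
  | op W =>
  apply Pi.hom_ext
  intro x
  refine (θ_π j F η (Ξ j F η χ) W x).trans ?_
  refine ConcreteCategory.hom_ext _ _ (fun s => ?_)
  obtain ⟨xl, hxl⟩ : ∃ xl : Spec (CommRingCat.of Ω) ⟶ W.left, xl = x.left := ⟨_, rfl⟩
  have hxη : (xl ≫ W.hom) ≫ j = η := by rw [hxl]; exact hx j η W x
  -- left hand side
  have hL : (γ j F η W x.left (hx j η W x) ≫ Ξ j F η χ) s =
      χ (inj j F η ⟨xl ≫ W.hom, hxη⟩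
        ((Scheme.pointSmallEtale (xl ≫ W.hom)).toPresheafFiber W (Over.homMk xl rfl) F.obj s)) := by
    subst hxl
    have h3 : Sigma.ι (fun u : Lifts j η => (EtCoh.stalk u.1).obj F)
        ⟨x.left ≫ W.hom, hx j η W x⟩ ≫ Ξ j F η χ =
        ιJ j F η ⟨x.left ≫ W.hom, hx j η W x⟩ ≫ χ := Sigma.ι_desc _ _
    have h4 : γ j F η W x.left (hx j η W x) ≫ Ξ j F η χ =
        (Scheme.pointSmallEtale (x.left ≫ W.hom)).toPresheafFiber W (Over.homMk x.left rfl) F.obj ≫
          ιJ j F η ⟨x.left ≫ W.hom, hx j η W x⟩ ≫ χ :=
      (Category.assoc _ _ _).trans (congrArg (fun q =>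
        (Scheme.pointSmallEtale (x.left ≫ W.hom)).toPresheafFiber W
          (Over.homMk x.left rfl) F.obj ≫ q) h3)
    refine (ConcreteCategory.congr_hom h4 s).trans ?_
    rfl
  refine hL.trans ?_
  -- right hand side
  rw [← germ_ext0 j F η W x xl hxl hxη s]
  have hg : (sk.homEquiv ((EtShriek.lowerShriek j).obj F) Z ((e1 j F η).hom ≫ χ)).hom =
      (Scheme.pointSmallEtale η).skyscraperPresheafHomEquiv ((e1 j F η).hom ≫ χ) :=
    (Scheme.pointSmallEtale η).skyscraperSheafAdjunction_homEquiv_apply_hom _
  have hR : ((σ j F ≫ (EtShriek.restrAlong j).map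
      (sk.homEquiv ((EtShriek.lowerShriek j).obj F) Z ((e1 j F η).hom ≫ χ))).hom.app (op W) ≫
      Pi.π (fun (_ : (Scheme.pointSmallEtale η).fiber.obj
        ((EtShriek.compEtale j).obj W)) => Z) x) s =
      ((e1 j F η).hom ≫ χ) ((Scheme.pointSmallEtale η).toPresheafFiber
        ((EtShriek.compEtale j).obj W) x ((EtShriek.lowerShriek j).obj F).obj
        ((σ j F).hom.app (op W) s)) := by
    have h4 : (sk.homEquiv ((EtShriek.lowerShriek j).obj F) Z ((e1 j F η).hom ≫ χ)).hom.app
        (op ((EtShriek.compEtale j).obj W)) ≫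
        Pi.π (fun (_ : (Scheme.pointSmallEtale η).fiber.obj
          ((EtShriek.compEtale j).obj W)) => Z) x =
        (Scheme.pointSmallEtale η).toPresheafFiber ((EtShriek.compEtale j).obj W) x
          ((EtShriek.lowerShriek j).obj F).obj ≫ ((e1 j F η).hom ≫ χ) := by
      rw [hg]
      exact (Scheme.pointSmallEtale η).skyscraperPresheafHomEquiv_app_π _ _ _
    have h5 := ConcreteCategory.congr_hom h4 ((σ j F).hom.app (op W) s)
    rw [ConcreteCategory.comp_apply, ConcreteCategory.comp_apply] at h5
    exact h5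
  refine Eq.trans ?_ hR.symm
  rw [ConcreteCategory.comp_apply, σ_apply, e1_germ]

open Groth.Agent.Lib.Helper70.ExtZeroStalk in
/-- the comparison map is an isomorphism on the stalks at geometric points -/
theorem isIso_stalk_τ : IsIso ((EtCoh.stalk η).map ((τ j).app F)) := by
  apply isIso_of_coyoneda_map_bijective
  intro Z
  have hcomp : (fun χ' : (EtCoh.stalk η).obj ((EtShriek.lowerShriek j).obj F) ⟶ Z =>
      (EtCoh.stalk η).map ((τ j).app F) ≫ χ') ∘
      (fun χ : (Scheme.pointSmallEtale η).presheafFiber.obj (EtShriek.lowerShriekPre j F) ⟶ Z =>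
        (e1 j F η).hom ≫ χ) = qq j F η ∘ Ξ j F η := by
    funext χ
    exact (qq_Ξ j F η χ).symm
  have hbij : Function.Bijective (qq j F η (Z := Z) ∘ Ξ j F η) :=
    (qq_bijective j F η Z).comp (Ξ_bijective j F η Z)
  have he : Function.Bijective
      (fun χ : (Scheme.pointSmallEtale η).presheafFiber.obj (EtShriek.lowerShriekPre j F) ⟶ Z =>
        (e1 j F η).hom ≫ χ) :=
    ⟨fun a b h => (cancel_epi (e1 j F η).hom).mp h,
      fun b => ⟨(e1 j F η).inv ≫ b, Iso.hom_inv_id_assoc _ _⟩⟩
  rw [← hcomp] at hbij
  exact (Function.Bijective.of_comp_iff _ he).mp hbij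

end Stalk

section Main

variable {U X : Scheme.{u}} (j : U ⟶ X) [Etale j] [IsSeparated j] [EtShriek.JCont j]

/-- the comparison map `j_! F ⟶ j_!^{prop} F` is an isomorphism -/
theorem isIso_τ_app (F : EtCoh.Ab U) : IsIso ((τ j).app F) := by
  apply Groth.Agent.Lib.Helper70.StalkConsAlg.isIso_of_stalk_bijective
  intro Ω _ _ η
  haveI := isIso_stalk_τ j F η
  exact (ConcreteCategory.isIso_iff_bijective _).mp inferInstance

instance isIso_τ : IsIso (τ j) := by
  haveI : ∀ F, IsIso ((τ j).app F) := isIso_τ_app j
  exact NatIso.isIso_of_isIso_app _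

/-- extension by zero agrees with the direct image with proper supports for separated étale
morphisms -/
noncomputable def extZeroIso : EtShriek.extZero j ≅ EtShriek.lowerShriek j := asIso (τ j)

end Main

end Groth.Agent.Lib.Helper70.ExtZeroShriek
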