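import Mathlib
import Groth.Prelude.Def_EtBase
import Groth.Prelude.Def_EtShriek2
import Groth.Agent.Lib.Helper70.ShriekStalk
import Groth.Agent.Lib.Helper4.ProperOver2
import Groth.Agent.S0791
import Groth.Agent.S0793
import Groth.Agent.S0086

set_option autoImplicit false
open CategoryTheory CategoryTheory.Limits AlgebraicGeometry Opposite

universe u

namespace Groth.Agent.Lib.Helper70.ShriekSheaf

open Groth.Agent.Lib.Helper70.ShriekStalk

section ProperOver

variable {X S : Scheme.{u}} (f : X ⟶ S) [LocallyOfFiniteType f]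

theorem isProperOver_empty : ClSub.IsProperOver f (∅ : Set X) := by
  have := Groth.Agent.S0791.result f Empty (fun i => i.elim) (fun i => i.elim)
  rwa [Set.iUnion_of_empty] at this

theorem isProperOver_union {Z₁ Z₂ : Set X} (h₁ : ClSub.IsProperOver f Z₁)
    (h₂ : ClSub.IsProperOver f Z₂) : ClSub.IsProperOver f (Z₁ ∪ Z₂) := by
  have := Groth.Agent.S0791.result f Bool (fun b => cond b Z₁ Z₂)
    (fun b => by cases b <;> assumption)
  rwa [← Set.union_eq_iUnion] at this

omit [LocallyOfFiniteType f] in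
theorem isProperOver_of_subset {C Z : Set X} (hC : IsClosed C) (hCZ : C ⊆ Z)
    (hZ : ClSub.IsProperOver f Z) : ClSub.IsProperOver f C := by
  obtain ⟨hZcl, hp⟩ := hZ
  refine ⟨hC, ?_⟩
  have hle : Scheme.IdealSheafData.vanishingIdeal ⟨Z, hZcl⟩ ≤
      Scheme.IdealSheafData.vanishingIdeal ⟨C, hC⟩ :=
    Scheme.IdealSheafData.vanishingIdeal_antimono hCZ
  have hinc := Scheme.IdealSheafData.inclusion_subschemeι hle
  haveI : IsClosedImmersion (Scheme.IdealSheafData.inclusion hle) := by
    haveI : IsClosedImmersion (Scheme.IdealSheafData.inclusion hle ≫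
        (Scheme.IdealSheafData.vanishingIdeal ⟨Z, hZcl⟩).subschemeι) := by
      rw [hinc]; infer_instance
    exact IsClosedImmersion.of_comp _ (Scheme.IdealSheafData.vanishingIdeal ⟨Z, hZcl⟩).subschemeι
  rw [← hinc, Category.assoc]
  infer_instance

end ProperOver

section Descent

set_option backward.isDefEq.respectTransparency.types false in
/-- properness can be checked after base change along a jointly surjective family of étale
morphisms -/
theorem isProper_of_etale_cover {T V : Scheme.{u}} (h : T ⟶ V) {ι : Type*}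
    (Vi : ι → Scheme.{u}) (g : ∀ i, Vi i ⟶ V) [∀ i, Etale (g i)]
    (hsurj : ∀ x : V, ∃ i, x ∈ Set.range (g i).base)
    (A : ι → Scheme.{u}) (a : ∀ i, A i ⟶ T) (b : ∀ i, A i ⟶ Vi i)
    (sq : ∀ i, IsPullback (a i) (b i) h (g i)) (H : ∀ i, IsProper (b i)) : IsProper h := by
  haveI := Groth.Agent.S0086.result.{u}
  apply IsZariskiLocalAtTarget.of_forall_exists_morphismRestrict (P := @IsProper)
  intro x
  obtain ⟨i, v, rfl⟩ := hsurj x
  let U : V.Opens := ⟨Set.range (g i).base, (g i).isOpenMap.isOpen_range⟩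
  refine ⟨U, ⟨v, rfl⟩, ?_⟩
  have hr : Set.range (g i).base ⊆ Set.range U.ι.base := by
    rw [Scheme.Opens.range_ι]
    exact subset_rfl
  let g' : Vi i ⟶ U.toScheme := IsOpenImmersion.lift U.ι (g i) hr
  have hg' : g' ≫ U.ι = g i := IsOpenImmersion.lift_fac _ _ _
  haveI : Etale (g' ≫ U.ι) := by rw [hg']; infer_instance
  haveI : Etale g' := MorphismProperty.of_postcomp (W := @Etale) (W' := @Etale) g' U.ι
    inferInstance inferInstance
  haveI : Surjective g' := by
    constructor
    rintro ⟨_, ⟨w, rfl⟩⟩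
    refine ⟨w, ?_⟩
    apply U.ι.isOpenEmbedding.injective
    rw [← Scheme.Hom.comp_apply, hg']
    rfl
  have t : IsPullback (h ⁻¹ᵁ U).ι (h ∣_ U) h U.ι := (isPullback_morphismRestrict h U).flip
  let b' : A i ⟶ (h ⁻¹ᵁ U).toScheme := t.lift (a i) (b i ≫ g') (by
    rw [Category.assoc, hg']; exact (sq i).w)
  have hb1 : b' ≫ (h ⁻¹ᵁ U).ι = a i := t.lift_fst _ _ _
  have hb2 : b' ≫ (h ∣_ U) = b i ≫ g' := t.lift_snd _ _ _
  have sq' : IsPullback b' (b i) (h ∣_ U) g' := by
    refine IsPullback.of_right ?_ hb2 t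
    rw [hb1, hg']
    exact sq i
  exact MorphismProperty.of_isPullback_of_descendsAlong (P := @IsProper)
    (Q := @Surjective ⊓ @Flat ⊓ @LocallyOfFinitePresentation) sq'.flip
    ⟨⟨inferInstance, inferInstance⟩, inferInstance⟩ (H i)

end Descent

section Pred

variable {X Y : Scheme.{u}} (f : X ⟶ Y) [LocallyOfFiniteType f] (F : EtCoh.Ab X)

instance lft_prV (V : Y.Etale) : LocallyOfFiniteType (EtShriek.prV f V) := by
  show LocallyOfFiniteType (pullback.fst V.hom f)
  infer_instance

theorem shriekPred_of_mem (V : Y.Etale) (s : EtCoh.sect F ((EtCoh.bc f).obj V))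
    (hs : s ∈ EtShriek.shriekSubgroup f F V) : EtShriek.ShriekPred f F V s := by
  refine AddSubgroup.closure_induction (p := fun s _ => EtShriek.ShriekPred f F V s)
    ?_ ?_ ?_ ?_ hs
  · intro x hx
    exact hx
  · intro V' φ
    refine ⟨∅, ?_, isProperOver_empty _⟩
    rw [map_zero, sectSupp_zero]
  · intro x y _ _ hx hy V' φ
    obtain ⟨Z₁, h₁, p₁⟩ := hx V' φ
    obtain ⟨Z₂, h₂, p₂⟩ := hy V' φ
    refine ⟨Z₁ ∪ Z₂, ?_, isProperOver_union _ p₁ p₂⟩
    rw [map_add]
    exact (sectSupp_add F _ _ _).trans (Set.union_subset_union h₁ h₂)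
  · intro x _ hx V' φ
    obtain ⟨Z, h, p⟩ := hx V' φ
    refine ⟨Z, ?_, p⟩
    rw [map_neg]
    exact (sectSupp_neg F _ _).trans h

omit [LocallyOfFiniteType f] in
theorem preimage_sectSupp_subset {U U' : X.Etale} (g : U' ⟶ U) (σ : EtCoh.sect F U) :
    g.left.base ⁻¹' EtShriek.sectSupp F U σ ⊆ EtShriek.sectSupp F U' (F.obj.map g.op σ) := by
  intro p hp W k ⟨w, hw⟩ hzero
  refine hp W (k ≫ g) ⟨w, ?_⟩ ?_
  · show (k.left ≫ g.left).base w = g.left.base p
    rw [Scheme.Hom.comp_base, TopCat.comp_app, hw]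
  · rw [op_comp, F.obj.map_comp, ConcreteCategory.comp_apply, hzero]

set_option backward.isDefEq.respectTransparency.types false in
/-- a section which étale locally on the base has proper support has proper support -/
theorem hasProperSupport_of_cover (V : Y.Etale) (s : EtCoh.sect F ((EtCoh.bc f).obj V))
    (S : Sieve V) (hS : S ∈ Y.smallEtaleTopology V)
    (h : ∀ (W : Y.Etale) (g : W ⟶ V), S.arrows g →
      F.obj.map ((EtCoh.bc f).map g).op s ∈ EtShriek.shriekSubgroup f F W) :
    EtShriek.HasProperSupport F ((EtCoh.bc f).obj V) s (EtShriek.prV f V) := by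
  obtain ⟨𝒰, h𝒰, hP, hle⟩ := (Scheme.mem_smallGrothendieckTopology V _).1 hS
  have hZcl := Groth.Agent.Lib.Helper70.Supp.isClosed_sectSupp F _ s
  refine ⟨EtShriek.sectSupp F _ s, subset_rfl, ?_⟩
  obtain ⟨ι, hι⟩ : ∃ ι : (Scheme.IdealSheafData.vanishingIdeal ⟨_, hZcl⟩).subscheme ⟶
      ((EtCoh.bc f).obj V).left,
      ι = (Scheme.IdealSheafData.vanishingIdeal ⟨_, hZcl⟩).subschemeι := ⟨_, rfl⟩
  haveI : IsClosedImmersion ι := by rw [hι]; infer_instance
  have hrange : Set.range ι = EtShriek.sectSupp F _ s := by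
    rw [hι]; exact Groth.Agent.Lib.Helper4.range_vanishingIdeal_subschemeι _ hZcl
  rw [Groth.Agent.Lib.Helper4.isProperOver_iff_of_isClosedImmersion (EtShriek.prV f V) ι _ hrange]
  -- the covering family
  let Vi : 𝒰.I₀ → Y.Etale := fun i => (𝒰.X i).asOverProp Y (hP i)
  let g : ∀ i, Vi i ⟶ V := fun i => (𝒰.f i).asOverProp Y
  have hgS : ∀ i, S.arrows (g i) := fun i => hle _ (g i) ⟨i⟩
  haveI : ∀ i, Etale ((g i).left) := fun i => 𝒰.map_prop i
  refine isProper_of_etale_cover (ι ≫ EtShriek.prV f V) (fun i => (Vi i).left)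
    (fun i => (g i).left) ?_ (fun i => pullback ι ((EtCoh.bc f).map (g i)).left)
    (fun i => pullback.fst _ _) (fun i => pullback.snd _ _ ≫ EtShriek.prV f (Vi i)) ?_ ?_
  · intro x
    obtain ⟨i, y, hy⟩ := 𝒰.exists_eq x
    exact ⟨i, y, hy⟩
  · intro i
    exact (IsPullback.of_hasPullback ι ((EtCoh.bc f).map (g i)).left).paste_vert
      (EtCoh.isPullback_bc_map f (g i))
  · intro i
    haveI : LocallyOfFiniteType (EtShriek.prV f (Vi i)) := lft_prV f (Vi i)
    have hmem := shriekPred_of_mem f F (Vi i) _ (h (Vi i) (g i) (hgS i))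
    have h1 := hmem (Vi i) (𝟙 _)
    have e1 : F.obj.map ((EtCoh.bc f).map (𝟙 (Vi i))).op
        (F.obj.map ((EtCoh.bc f).map (g i)).op s) = F.obj.map ((EtCoh.bc f).map (g i)).op s := by
      rw [CategoryTheory.Functor.map_id, op_id, F.obj.map_id]
      rfl
    rw [e1] at h1
    obtain ⟨Zi, hsub, hprop⟩ := h1
    have hCcl : IsClosed (((EtCoh.bc f).map (g i)).left.base ⁻¹' EtShriek.sectSupp F _ s) :=
      hZcl.preimage ((EtCoh.bc f).map (g i)).left.continuous
    have hC := isProperOver_of_subset (EtShriek.prV f (Vi i)) hCcl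
      ((preimage_sectSupp_subset F ((EtCoh.bc f).map (g i)) s).trans hsub) hprop
    have hr : Set.range (pullback.snd ι ((EtCoh.bc f).map (g i)).left) =
        ((EtCoh.bc f).map (g i)).left.base ⁻¹' EtShriek.sectSupp F _ s := by
      rw [Scheme.Pullback.range_snd, hrange]
    exact (Groth.Agent.Lib.Helper4.isProperOver_iff_of_isClosedImmersion
      (EtShriek.prV f (Vi i)) (pullback.snd ι _) _ hr).mp hC

end Pred

section Sheaf

variable {X Y : Scheme.{u}} (f : X ⟶ Y) [LocallyOfFiniteType f] (F : EtCoh.Ab X)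

/-- the sections with proper support as a subfunctor of the direct image -/
def sub : Subfunctor (((EtCoh.push f).obj F).obj ⋙ forget AddCommGrpCat.{u + 1}) where
  obj V := {s | s ∈ EtShriek.shriekSubgroup f F V.unop}
  map {_ _} φ _ hs := EtShriek.shriekSubgroup_le_comap f F φ.unop hs

set_option backward.isDefEq.respectTransparency.types false in
theorem mem_of_sieve (V : Y.Etaleᵒᵖ)
    (s : (((EtCoh.push f).obj F).obj ⋙ forget AddCommGrpCat.{u + 1}).obj V)
    (hs : (sub f F).sieveOfSection s ∈ Y.smallEtaleTopology V.unop) : s ∈ (sub f F).obj V := by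
  induction V using Opposite.rec with
  | op V =>
  apply AddSubgroup.subset_closure
  intro V' φ
  have hS' := Y.smallEtaleTopology.pullback_stable φ hs
  refine hasProperSupport_of_cover f F V' _ _ hS' ?_
  intro W g hg
  have h1 : (((EtCoh.push f).obj F).obj ⋙ forget AddCommGrpCat.{u + 1}).map (g ≫ φ).op s ∈
      (sub f F).obj (op W) := hg
  have h2 : (((EtCoh.push f).obj F).obj ⋙ forget AddCommGrpCat.{u + 1}).map (g ≫ φ).op s =
      F.obj.map ((EtCoh.bc f).map g).op (F.obj.map ((EtCoh.bc f).map φ).op s) := by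
    show F.obj.map ((EtCoh.bc f).map (g ≫ φ)).op s = _
    rw [Functor.map_comp, op_comp, F.obj.map_comp, ConcreteCategory.comp_apply]
  rw [h2] at h1
  exact h1

theorem isSheaf_sub : Presieve.IsSheaf Y.smallEtaleTopology (sub f F).toFunctor := by
  have hG : Presieve.IsSheaf Y.smallEtaleTopology
      (((EtCoh.push f).obj F).obj ⋙ forget AddCommGrpCat.{u + 1}) := by
    rw [← isSheaf_iff_isSheaf_of_type]
    exact (Presheaf.isSheaf_iff_isSheaf_forget _ _ (forget AddCommGrpCat.{u + 1})).mp
      ((EtCoh.push f).obj F).property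
  rw [Subfunctor.isSheaf_iff _ hG]
  exact mem_of_sieve f F

/-- the underlying presheaf of sets of the presheaf of sections with proper support -/
noncomputable def isoSub : EtShriek.lowerShriekPre f F ⋙ forget AddCommGrpCat.{u + 1} ≅ (sub f F).toFunctor :=
  NatIso.ofComponents (fun V => Iso.refl _) (by
    intro V V' φ
    rfl)

/-- the presheaf of sections with proper support is a sheaf -/
theorem isSheaf : Presheaf.IsSheaf Y.smallEtaleTopology (EtShriek.lowerShriekPre f F) := by
  rw [Presheaf.isSheaf_iff_isSheaf_forget _ _ (forget AddCommGrpCat.{u + 1}),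
    isSheaf_iff_isSheaf_of_type]
  exact Presieve.isSheaf_iso _ (isoSub f F).symm (isSheaf_sub f F)

end Sheaf

end Groth.Agent.Lib.Helper70.ShriekSheaf
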