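import Mathlib
import Groth.Prelude.Def_EtBase
import Groth.Prelude.Def_EtShriek2
import Groth.Agent.Lib.Helper70.ShriekSheaf
import Groth.Agent.Lib.Helper70.ExtZeroShriek

set_option autoImplicit false
open CategoryTheory CategoryTheory.Limits AlgebraicGeometry Opposite

universe u

namespace Groth.Agent.Lib.Helper70.ShriekOpenProper

open Groth.Agent.Lib.Helper70.ShriekStalk Groth.Agent.Lib.Helper70.ShriekSheaf

section Mem

variable {X Y : Scheme.{u}} (g : X ⟶ Y) [LocallyOfFiniteType g] (F : EtCoh.Ab X)

/-- supports are compatible with restriction -/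
theorem sectSupp_map_eq {U U' : X.Etale} (k : U' ⟶ U) (σ : EtCoh.sect F U) :
    EtShriek.sectSupp F U' (F.obj.map k.op σ) = k.left.base ⁻¹' EtShriek.sectSupp F U σ :=
  Set.Subset.antisymm (sectSupp_map_subset F k σ) (preimage_sectSupp_subset F k σ)

set_option backward.isDefEq.respectTransparency.types false in
/-- membership in the group of sections with proper support -/
theorem mem_shriekSubgroup_iff (V : Y.Etale) (s : EtCoh.sect F ((EtCoh.bc g).obj V)) :
    s ∈ EtShriek.shriekSubgroup g F V ↔
      ClSub.IsProperOver (EtShriek.prV g V) (EtShriek.sectSupp F ((EtCoh.bc g).obj V) s) := by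
  constructor
  · intro hs
    have h1 := shriekPred_of_mem g F V s hs V (𝟙 V)
    have e1 : F.obj.map ((EtCoh.bc g).map (𝟙 V)).op s = s := by
      rw [CategoryTheory.Functor.map_id, op_id, F.obj.map_id]
      rfl
    rw [e1] at h1
    obtain ⟨Z, hsub, hprop⟩ := h1
    exact isProperOver_of_subset _ (Groth.Agent.Lib.Helper70.Supp.isClosed_sectSupp F _ s) hsub hprop
  · intro hs
    apply AddSubgroup.subset_closure
    intro V' φ
    refine ⟨((EtCoh.bc g).map φ).left.base ⁻¹' EtShriek.sectSupp F ((EtCoh.bc g).obj V) s,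
      sectSupp_map_subset F _ s, ?_⟩
    exact Groth.Agent.S0793.result (EtShriek.prV g V) φ.left ((EtCoh.bc g).map φ).left
      (EtShriek.prV g V') (EtCoh.isPullback_bc_map g φ) _ hs

end Mem

section Transfer

variable {A A' B C : Scheme.{u}}

/-- properness over the source of a proper morphism is the same as properness over its target -/
theorem isProperOver_comp_iff (g : A ⟶ B) (h : B ⟶ C) [IsProper h] (Z : Set A) :
    ClSub.IsProperOver (g ≫ h) Z ↔ ClSub.IsProperOver g Z := by
  constructor
  · rintro ⟨hcl, hp⟩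
    refine ⟨hcl, ?_⟩
    haveI : IsProper (((Scheme.IdealSheafData.vanishingIdeal ⟨Z, hcl⟩).subschemeι ≫ g) ≫ h) := by
      rw [Category.assoc]; exact hp
    exact IsProper.of_comp _ h
  · rintro ⟨hcl, hp⟩
    refine ⟨hcl, ?_⟩
    rw [← Category.assoc]
    infer_instance

/-- transport of properness along an isomorphism -/
theorem isProperOver_iso_iff (e : A ⟶ A') [IsIso e] (g' : A' ⟶ C) [LocallyOfFiniteType g']
    (Z' : Set A') :
    ClSub.IsProperOver (e ≫ g') (e.base ⁻¹' Z') ↔ ClSub.IsProperOver g' Z' := by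
  constructor
  · intro h
    have sq : IsPullback (inv e) g' (e ≫ g') (𝟙 C) :=
      IsPullback.of_horiz_isIso ⟨by rw [IsIso.inv_hom_id_assoc, Category.comp_id]⟩
    have := Groth.Agent.S0793.result (e ≫ g') (𝟙 C) (inv e) g' sq _ h
    have h2 : (inv e).base ⁻¹' (e.base ⁻¹' Z') = Z' := by
      rw [← Set.preimage_comp, ← TopCat.coe_comp, ← Scheme.Hom.comp_base, IsIso.inv_hom_id]
      rfl
    rwa [h2] at this
  · intro h
    have sq : IsPullback e (e ≫ g') g' (𝟙 C) :=
      IsPullback.of_horiz_isIso ⟨by rw [Category.comp_id]⟩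
    exact Groth.Agent.S0793.result g' (𝟙 C) e (e ≫ g') sq _ h

end Transfer

section Compare

variable {X Xb Y : Scheme.{u}} (j : X ⟶ Xb) (fb : Xb ⟶ Y) [LocallyOfFiniteType j] [IsProper fb]
  (F : EtCoh.Ab X)

/-- base change along a composite -/
noncomputable def θ : EtCoh.bc (j ≫ fb) ≅ EtCoh.bc fb ⋙ EtCoh.bc j :=
  MorphismProperty.Over.pullbackComp (P := EtCoh.etaleMP) (Q := ⊤) j fb

omit [LocallyOfFiniteType j] [IsProper fb] in
theorem θ_left (V : Y.Etale) :
    ((θ j fb).hom.app V).left ≫ EtShriek.prV j ((EtCoh.bc fb).obj V) ≫ EtShriek.prV fb V =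
      EtShriek.prV (j ≫ fb) V :=
  MorphismProperty.Over.pullbackComp_left_fst_fst (P := EtCoh.etaleMP) (Q := ⊤) j fb V

omit [LocallyOfFiniteType j] [IsProper fb] in
instance isIso_θ_left (V : Y.Etale) : IsIso ((θ j fb).hom.app V).left :=
  ⟨⟨((θ j fb).inv.app V).left,
    congrArg (fun q => q.left) (Iso.hom_inv_id_app (θ j fb) V),
    congrArg (fun q => q.left) (Iso.inv_hom_id_app (θ j fb) V)⟩⟩

instance isProper_prV (V : Y.Etale) : IsProper (EtShriek.prV fb V) := by
  show IsProper (pullback.fst V.hom fb)
  infer_instance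

set_option backward.isDefEq.respectTransparency.types false in
theorem mem_iff (V : Y.Etale) (s' : EtCoh.sect F ((EtCoh.bc j).obj ((EtCoh.bc fb).obj V))) :
    F.obj.map ((θ j fb).hom.app V).op s' ∈ EtShriek.shriekSubgroup (j ≫ fb) F V ↔
      s' ∈ EtShriek.shriekSubgroup j F ((EtCoh.bc fb).obj V) := by
  rw [mem_shriekSubgroup_iff, mem_shriekSubgroup_iff, sectSupp_map_eq, ← θ_left j fb V,
    isProperOver_iso_iff, isProperOver_comp_iff]
  exact Iff.rfl

/-- the comparison of the groups of sections with proper support -/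
noncomputable def ψapp (V : Y.Etale) :
    EtShriek.shriekSubgroup j F ((EtCoh.bc fb).obj V) →+ EtShriek.shriekSubgroup (j ≫ fb) F V :=
  ((F.obj.map ((θ j fb).hom.app V).op).hom.comp
    (EtShriek.shriekSubgroup j F ((EtCoh.bc fb).obj V)).subtype).codRestrict _
    (fun s => (mem_iff j fb F V s.1).mpr s.2)

theorem ψapp_bijective (V : Y.Etale) : Function.Bijective (ψapp j fb F V) := by
  constructor
  · intro a b hab
    apply Subtype.ext
    have h1 : F.obj.map ((θ j fb).hom.app V).op a.1 = F.obj.map ((θ j fb).hom.app V).op b.1 :=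
      congrArg Subtype.val hab
    have h2 := congrArg (fun t => F.obj.map ((θ j fb).inv.app V).op t) h1
    simp only [← ConcreteCategory.comp_apply, ← F.obj.map_comp, ← op_comp,
      Iso.inv_hom_id_app] at h2
    simpa using h2
  · intro b
    have hb : F.obj.map ((θ j fb).hom.app V).op (F.obj.map ((θ j fb).inv.app V).op b.1) = b.1 := by
      simp only [← ConcreteCategory.comp_apply, ← F.obj.map_comp, ← op_comp,
        Iso.hom_inv_id_app]
      simp
    refine ⟨⟨F.obj.map ((θ j fb).inv.app V).op b.1, ?_⟩, Subtype.ext hb⟩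
    rw [← mem_iff j fb F V, hb]
    exact b.2

set_option backward.isDefEq.respectTransparency.types false in
/-- the comparison of presheaves of sections with proper support -/
noncomputable def ψ : (EtCoh.bc fb).op ⋙ EtShriek.lowerShriekPre j F ⟶
    EtShriek.lowerShriekPre (j ≫ fb) F where
  app V := AddCommGrpCat.ofHom (ψapp j fb F V.unop)
  naturality V V' φ := by
    ext ⟨s, hs⟩
    apply Subtype.ext
    have hnat := (θ j fb).hom.naturality φ.unop
    show F.obj.map ((θ j fb).hom.app V'.unop).op
      (F.obj.map ((EtCoh.bc j).map ((EtCoh.bc fb).map φ.unop)).op s) =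
      F.obj.map ((EtCoh.bc (j ≫ fb)).map φ.unop).op (F.obj.map ((θ j fb).hom.app V.unop).op s)
    rw [← ConcreteCategory.comp_apply, ← ConcreteCategory.comp_apply, ← F.obj.map_comp,
      ← F.obj.map_comp, ← op_comp, ← op_comp]
    exact congrArg (fun q => F.obj.map q.op s) hnat.symm

end Compare

section Sh

variable {X Y : Scheme.{u}} (g : X ⟶ Y) [LocallyOfFiniteType g]

/-- the sheaf of sections with proper support, as a functor to sheaves -/
noncomputable def Sh : EtCoh.Ab X ⥤ EtCoh.Ab Y :=
  ObjectProperty.lift _ (EtShriek.lowerShriekPreFunctor g) (fun F => isSheaf g F)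

/-- sheafification does nothing to the presheaf of sections with proper support -/
noncomputable def shIso : EtShriek.lowerShriek g ≅ Sh g :=
  Functor.isoWhiskerRight (ObjectProperty.liftCompιIso _ (EtShriek.lowerShriekPreFunctor g)
      (fun F => isSheaf g F)).symm
    (presheafToSheaf Y.smallEtaleTopology AddCommGrpCat.{u + 1}) ≪≫
  Functor.associator _ _ _ ≪≫
    Functor.isoWhiskerLeft (Sh g)
      (sheafificationNatIso Y.smallEtaleTopology AddCommGrpCat.{u + 1}).symm ≪≫
    Functor.rightUnitor _

end Sh

section Main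

variable {X Xb Y : Scheme.{u}} (j : X ⟶ Xb) (fb : Xb ⟶ Y) [LocallyOfFiniteType j] [IsProper fb]

/-- the comparison of sheaves of sections with proper support -/
noncomputable def ψSh (F : EtCoh.Ab X) :
    (EtCoh.push fb).obj ((Sh j).obj F) ⟶ (Sh (j ≫ fb)).obj F :=
  ObjectProperty.homMk (ψ j fb F)

instance isIso_ψSh (F : EtCoh.Ab X) : IsIso (ψSh j fb F) := by
  haveI : IsIso ((sheafToPresheaf Y.smallEtaleTopology AddCommGrpCat.{u + 1}).map
      (ψSh j fb F)) := by
    show IsIso (ψ j fb F)
    haveI : ∀ V, IsIso ((ψ j fb F).app V) := fun V =>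
      (ConcreteCategory.isIso_iff_bijective _).mpr (ψapp_bijective j fb F V.unop)
    exact NatIso.isIso_of_isIso_app _
  exact isIso_of_fully_faithful (sheafToPresheaf Y.smallEtaleTopology AddCommGrpCat.{u + 1}) _

set_option backward.isDefEq.respectTransparency.types false in
/-- the comparison, as a natural transformation -/
noncomputable def ψNat : Sh j ⋙ EtCoh.push fb ⟶ Sh (j ≫ fb) where
  app F := ψSh j fb F
  naturality F G α := by
    apply Sheaf.hom_ext
    ext V ⟨s, hs⟩
    apply Subtype.ext
    have h := ConcreteCategory.congr_hom (α.hom.naturality ((θ j fb).hom.app V.unop).op) s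
    rw [ConcreteCategory.comp_apply, ConcreteCategory.comp_apply] at h
    exact h.symm

instance isIso_ψNat : IsIso (ψNat j fb) := by
  haveI : ∀ F, IsIso ((ψNat j fb).app F) := fun F => isIso_ψSh j fb F
  exact NatIso.isIso_of_isIso_app _

/-- for an open immersion followed by a proper morphism, the direct image with proper support is
the direct image of the direct image with proper support along the immersion -/
noncomputable def compIso : EtShriek.lowerShriek (j ≫ fb) ≅ EtShriek.lowerShriek j ⋙ EtCoh.push fb :=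
  shIso (j ≫ fb) ≪≫ (asIso (ψNat j fb)).symm ≪≫
    Functor.isoWhiskerRight (shIso j).symm (EtCoh.push fb)

end Main

end Groth.Agent.Lib.Helper70.ShriekOpenProper
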