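import Mathlib
import Groth.Prelude.Def_EtBase
import Groth.Prelude.Def_EtShriek2
import Groth.Agent.Lib.Helper70.ShriekOpenProper
import Groth.Agent.Lib.Helper70.Supp2
import Groth.Agent.S0788
import Groth.Agent.S0790

set_option autoImplicit false
open CategoryTheory CategoryTheory.Limits AlgebraicGeometry Opposite

universe u

namespace Groth.Agent.Lib.Helper70.ShriekComp

open Groth.Agent.Lib.Helper70.ShriekStalk Groth.Agent.Lib.Helper70.ShriekSheaf
  Groth.Agent.Lib.Helper70.ShriekOpenProper

section Supp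

variable {X Y : Scheme.{u}} (f : X ⟶ Y) [LocallyOfFiniteType f] (F : EtCoh.Ab X)
  (U : Y.Etale) (t : EtCoh.sect ((Sh f).obj F) U)

/-- the underlying section of a section with proper support -/
abbrev und : EtCoh.sect F ((EtCoh.bc f).obj U) := (t : EtShriek.shriekSubgroup f F U).1

set_option backward.isDefEq.respectTransparency.types false in
theorem und_map {U' : Y.Etale} (k : U' ⟶ U) :
    und f F U' (((Sh f).obj F).obj.map k.op t) = F.obj.map ((EtCoh.bc f).map k).op (und f F U t) :=
  rfl

set_option backward.isDefEq.respectTransparency.types false in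
/-- the image of the support lies in the support of the section of the direct image -/
theorem image_sectSupp_subset :
    (EtShriek.prV f U).base '' EtShriek.sectSupp F ((EtCoh.bc f).obj U) (und f F U t) ⊆
      EtShriek.sectSupp ((Sh f).obj F) U t := by
  rintro _ ⟨x, hx, rfl⟩ Y' k ⟨y', hy'⟩ hzero
  obtain ⟨w, hw1, hw2⟩ := Scheme.exists_preimage_of_isPullback (EtCoh.isPullback_bc_map f k) x y'
    hy'.symm
  refine hx ((EtCoh.bc f).obj Y') ((EtCoh.bc f).map k) ⟨w, hw1⟩ ?_
  rw [← und_map, hzero]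
  rfl

set_option backward.isDefEq.respectTransparency.types false in
/-- if the image of the support is closed, it contains the support of the section of the direct
image -/
theorem sectSupp_subset_image
    (hcl : IsClosed ((EtShriek.prV f U).base ''
      EtShriek.sectSupp F ((EtCoh.bc f).obj U) (und f F U t))) :
    EtShriek.sectSupp ((Sh f).obj F) U t ⊆
      (EtShriek.prV f U).base '' EtShriek.sectSupp F ((EtCoh.bc f).obj U) (und f F U t) := by
  intro y hy
  by_contra hny
  let O : U.left.Opens := ⟨_, hcl.isOpen_compl⟩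
  haveI : Etale U.hom := U.prop
  let Y' : Y.Etale := Scheme.Etale.mk (O.ι ≫ U.hom)
  let k : Y' ⟶ U := MorphismProperty.Over.homMk O.ι rfl trivial
  refine hy Y' k ⟨⟨y, hny⟩, rfl⟩ ?_
  apply Subtype.ext
  show und f F Y' (((Sh f).obj F).obj.map k.op t) = 0
  rw [und_map]
  apply Groth.Agent.Lib.Helper70.Supp.eq_zero_of_sectSupp_eq_empty
  rw [sectSupp_map_eq, Set.eq_empty_iff_forall_notMem]
  intro w hw
  have hsq := (EtCoh.isPullback_bc_map f k).w
  have h1 : (EtShriek.prV f U).base (((EtCoh.bc f).map k).left.base w) =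
      O.ι.base ((EtShriek.prV f Y').base w) := by
    exact congrArg (fun q => q.base w) hsq
  have h2 : O.ι.base ((EtShriek.prV f Y').base w) ∈ (O : Set U.left) :=
    ((EtShriek.prV f Y').base w).2
  rw [← h1] at h2
  exact h2 ⟨_, hw, rfl⟩

end Supp

section Key

variable {X Y Z : Scheme.{u}} (f : X ⟶ Y) (g : Y ⟶ Z) [LocallyOfFiniteType f] [IsSeparated g]
  [LocallyOfFiniteType g] (F : EtCoh.Ab X) (W : Z.Etale)
  (t : EtCoh.sect ((Sh f).obj F) ((EtCoh.bc g).obj W))

instance isSeparated_prV (W : Z.Etale) : IsSeparated (EtShriek.prV g W) := by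
  show IsSeparated (pullback.fst W.hom g)
  infer_instance

set_option backward.isDefEq.respectTransparency.types false in
theorem key : t ∈ EtShriek.shriekSubgroup g ((Sh f).obj F) W ↔
    F.obj.map ((θ f g).hom.app W).op (und f F _ t) ∈ EtShriek.shriekSubgroup (f ≫ g) F W := by
  have hR : F.obj.map ((θ f g).hom.app W).op (und f F _ t) ∈
      EtShriek.shriekSubgroup (f ≫ g) F W ↔
      ClSub.IsProperOver (EtShriek.prV f ((EtCoh.bc g).obj W) ≫ EtShriek.prV g W)
        (EtShriek.sectSupp F ((EtCoh.bc f).obj ((EtCoh.bc g).obj W)) (und f F _ t)) := by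
    rw [mem_shriekSubgroup_iff, sectSupp_map_eq, ← θ_left f g W, isProperOver_iso_iff]
    exact Iff.rfl
  rw [hR, mem_shriekSubgroup_iff]
  have hA : ClSub.IsProperOver (EtShriek.prV f ((EtCoh.bc g).obj W))
      (EtShriek.sectSupp F ((EtCoh.bc f).obj ((EtCoh.bc g).obj W)) (und f F _ t)) :=
    (mem_shriekSubgroup_iff f F _ _).mp t.2
  constructor
  · intro hB
    obtain ⟨hAcl, hAp⟩ := hA
    refine ⟨hAcl, ?_⟩
    obtain ⟨ιA, hιA⟩ : ∃ ιA : (Scheme.IdealSheafData.vanishingIdeal ⟨_, hAcl⟩).subscheme ⟶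
        ((EtCoh.bc f).obj ((EtCoh.bc g).obj W)).left,
        ιA = (Scheme.IdealSheafData.vanishingIdeal ⟨_, hAcl⟩).subschemeι := ⟨_, rfl⟩
    haveI : IsProper (ιA ≫ EtShriek.prV f ((EtCoh.bc g).obj W)) := by rw [hιA]; exact hAp
    have hrange : Set.range ιA = EtShriek.sectSupp F _ (und f F _ t) := by
      rw [hιA]; exact Groth.Agent.Lib.Helper4.range_vanishingIdeal_subschemeι _ hAcl
    have h1 := Groth.Agent.S0790.result
      ((ιA ≫ EtShriek.prV f ((EtCoh.bc g).obj W)) ≫ EtShriek.prV g W) (EtShriek.prV g W)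
      (ιA ≫ EtShriek.prV f ((EtCoh.bc g).obj W)) rfl _ hB
    have h2 : (ιA ≫ EtShriek.prV f ((EtCoh.bc g).obj W)).base ⁻¹'
        EtShriek.sectSupp ((Sh f).obj F) ((EtCoh.bc g).obj W) t = Set.univ := by
      rw [Set.eq_univ_iff_forall]
      intro a
      apply image_sectSupp_subset f F _ t
      refine ⟨ιA.base a, ?_, rfl⟩
      have ha : ιA.base a ∈ Set.range ιA := ⟨a, rfl⟩
      exact (Set.ext_iff.mp hrange (ιA.base a)).mp ha
    rw [h2] at h1
    have h3 := (Groth.Agent.Lib.Helper4.isProperOver_iff_of_isClosedImmersion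
      ((ιA ≫ EtShriek.prV f ((EtCoh.bc g).obj W)) ≫ EtShriek.prV g W) (𝟙 _) Set.univ
      (by simp)).mp h1
    rw [Category.id_comp, Category.assoc, hιA] at h3
    exact h3
  · intro hAB
    have h1 := Groth.Agent.S0788.result
      (EtShriek.prV f ((EtCoh.bc g).obj W) ≫ EtShriek.prV g W) (EtShriek.prV g W)
      (EtShriek.prV f ((EtCoh.bc g).obj W)) rfl _ hAB
    obtain ⟨hcl, _⟩ := id h1
    exact isProperOver_of_subset _
      (Groth.Agent.Lib.Helper70.Supp.isClosed_sectSupp ((Sh f).obj F) _ t)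
      (sectSupp_subset_image f F _ t hcl) h1

omit [IsSeparated g] in
set_option backward.isDefEq.respectTransparency.types false in
theorem mem_comp_iff (s' : EtCoh.sect F ((EtCoh.bc f).obj ((EtCoh.bc g).obj W))) :
    F.obj.map ((θ f g).hom.app W).op s' ∈ EtShriek.shriekSubgroup (f ≫ g) F W ↔
      ClSub.IsProperOver (EtShriek.prV f ((EtCoh.bc g).obj W) ≫ EtShriek.prV g W)
        (EtShriek.sectSupp F ((EtCoh.bc f).obj ((EtCoh.bc g).obj W)) s') := by
  rw [mem_shriekSubgroup_iff, sectSupp_map_eq, ← θ_left f g W, isProperOver_iso_iff]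
  exact Iff.rfl

theorem mem_first (s' : EtCoh.sect F ((EtCoh.bc f).obj ((EtCoh.bc g).obj W)))
    (h : F.obj.map ((θ f g).hom.app W).op s' ∈ EtShriek.shriekSubgroup (f ≫ g) F W) :
    s' ∈ EtShriek.shriekSubgroup f F ((EtCoh.bc g).obj W) := by
  rw [mem_comp_iff] at h
  rw [mem_shriekSubgroup_iff]
  obtain ⟨hcl, hp⟩ := h
  refine ⟨hcl, ?_⟩
  haveI : IsProper (((Scheme.IdealSheafData.vanishingIdeal ⟨_, hcl⟩).subschemeι ≫
      EtShriek.prV f ((EtCoh.bc g).obj W)) ≫ EtShriek.prV g W) := by
    rw [Category.assoc]; exact hp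
  exact IsProper.of_comp _ (EtShriek.prV g W)

/-- the comparison of the groups of sections with proper support -/
noncomputable def ψ2app :
    EtShriek.shriekSubgroup g ((Sh f).obj F) W →+ EtShriek.shriekSubgroup (f ≫ g) F W :=
  ((F.obj.map ((θ f g).hom.app W).op).hom.comp
    ((EtShriek.shriekSubgroup f F ((EtCoh.bc g).obj W)).subtype.comp
      (EtShriek.shriekSubgroup g ((Sh f).obj F) W).subtype)).codRestrict _
    (fun t => (key f g F W t.1).mp t.2)

theorem ψ2app_bijective : Function.Bijective (ψ2app f g F W) := by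
  constructor
  · intro a b hab
    apply Subtype.ext
    apply Subtype.ext
    have h1 : F.obj.map ((θ f g).hom.app W).op a.1.1 = F.obj.map ((θ f g).hom.app W).op b.1.1 :=
      congrArg Subtype.val hab
    have h2 := congrArg (fun t => F.obj.map ((θ f g).inv.app W).op t) h1
    simp only [← ConcreteCategory.comp_apply, ← F.obj.map_comp, ← op_comp,
      Iso.inv_hom_id_app] at h2
    simpa using h2
  · intro b
    have hb : F.obj.map ((θ f g).hom.app W).op (F.obj.map ((θ f g).inv.app W).op b.1) = b.1 := by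
      simp only [← ConcreteCategory.comp_apply, ← F.obj.map_comp, ← op_comp,
        Iso.hom_inv_id_app]
      simp
    have h1 : F.obj.map ((θ f g).inv.app W).op b.1 ∈
        EtShriek.shriekSubgroup f F ((EtCoh.bc g).obj W) := by
      apply mem_first f g F W
      rw [hb]
      exact b.2
    let t : EtCoh.sect ((Sh f).obj F) ((EtCoh.bc g).obj W) :=
      (⟨F.obj.map ((θ f g).inv.app W).op b.1, h1⟩ :
        EtShriek.shriekSubgroup f F ((EtCoh.bc g).obj W))
    have h2 : t ∈ EtShriek.shriekSubgroup g ((Sh f).obj F) W := by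
      rw [key f g F W t]
      show F.obj.map ((θ f g).hom.app W).op (F.obj.map ((θ f g).inv.app W).op b.1) ∈ _
      rw [hb]
      exact b.2
    exact ⟨⟨t, h2⟩, Subtype.ext hb⟩

end Key

section Main

variable {X Y Z : Scheme.{u}} (f : X ⟶ Y) (g : Y ⟶ Z) [LocallyOfFiniteType f] [IsSeparated g]
  [LocallyOfFiniteType g]

set_option backward.isDefEq.respectTransparency.types false in
/-- the comparison of presheaves of sections with proper support -/
noncomputable def ψ2 (F : EtCoh.Ab X) : EtShriek.lowerShriekPre g ((Sh f).obj F) ⟶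
    EtShriek.lowerShriekPre (f ≫ g) F where
  app W := AddCommGrpCat.ofHom (ψ2app f g F W.unop)
  naturality W W' φ := by
    ext ⟨⟨s, hs⟩, ht⟩
    apply Subtype.ext
    have hnat := (θ f g).hom.naturality φ.unop
    show F.obj.map ((θ f g).hom.app W'.unop).op
      (F.obj.map ((EtCoh.bc f).map ((EtCoh.bc g).map φ.unop)).op s) =
      F.obj.map ((EtCoh.bc (f ≫ g)).map φ.unop).op (F.obj.map ((θ f g).hom.app W.unop).op s)
    rw [← ConcreteCategory.comp_apply, ← ConcreteCategory.comp_apply, ← F.obj.map_comp,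
      ← F.obj.map_comp, ← op_comp, ← op_comp]
    exact congrArg (fun q => F.obj.map q.op s) hnat.symm

/-- the comparison of sheaves of sections with proper support -/
noncomputable def ψ2Sh (F : EtCoh.Ab X) :
    (Sh g).obj ((Sh f).obj F) ⟶ (Sh (f ≫ g)).obj F :=
  ObjectProperty.homMk (ψ2 f g F)

instance isIso_ψ2Sh (F : EtCoh.Ab X) : IsIso (ψ2Sh f g F) := by
  haveI : IsIso ((sheafToPresheaf Z.smallEtaleTopology AddCommGrpCat.{u + 1}).map
      (ψ2Sh f g F)) := by
    show IsIso (ψ2 f g F)
    haveI : ∀ W, IsIso ((ψ2 f g F).app W) := fun W =>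
      (ConcreteCategory.isIso_iff_bijective _).mpr (ψ2app_bijective f g F W.unop)
    exact NatIso.isIso_of_isIso_app _
  exact isIso_of_fully_faithful (sheafToPresheaf Z.smallEtaleTopology AddCommGrpCat.{u + 1}) _

set_option backward.isDefEq.respectTransparency.types false in
/-- the comparison, as a natural transformation -/
noncomputable def ψ2Nat : Sh f ⋙ Sh g ⟶ Sh (f ≫ g) where
  app F := ψ2Sh f g F
  naturality F G α := by
    apply Sheaf.hom_ext
    ext W ⟨⟨s, hs⟩, ht⟩
    apply Subtype.ext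
    have h := ConcreteCategory.congr_hom (α.hom.naturality ((θ f g).hom.app W.unop).op) s
    rw [ConcreteCategory.comp_apply, ConcreteCategory.comp_apply] at h
    exact h.symm

instance isIso_ψ2Nat : IsIso (ψ2Nat f g) := by
  haveI : ∀ F, IsIso ((ψ2Nat f g).app F) := fun F => isIso_ψ2Sh f g F
  exact NatIso.isIso_of_isIso_app _

/-- direct images with proper support compose -/
noncomputable def compIso2 :
    EtShriek.lowerShriek (f ≫ g) ≅ EtShriek.lowerShriek f ⋙ EtShriek.lowerShriek g :=
  shIso (f ≫ g) ≪≫ (asIso (ψ2Nat f g)).symm ≪≫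
    (Functor.isoWhiskerRight (shIso f) (Sh g)).symm ≪≫
    (Functor.isoWhiskerLeft (EtShriek.lowerShriek f) (shIso g)).symm

end Main

end Groth.Agent.Lib.Helper70.ShriekComp
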