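import Mathlib
import Groth.Prelude.Def_EtBase
import Groth.Prelude.Def_EtShriek2
import Groth.Agent.Lib.Helper70.ShriekComp

set_option autoImplicit false
open CategoryTheory CategoryTheory.Limits AlgebraicGeometry Opposite

universe u

namespace Groth.Agent.Lib.Helper70.ShriekCompUniq

open Groth.Agent.Lib.Helper70.ShriekStalk Groth.Agent.Lib.Helper70.ShriekSheaf
  Groth.Agent.Lib.Helper70.ShriekOpenProper Groth.Agent.Lib.Helper70.ShriekComp

section Incl

variable {X Y : Scheme.{u}} (f : X ⟶ Y) [LocallyOfFiniteType f]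

/-- the inclusion of the sheaf of sections with proper support into the direct image -/
noncomputable def ιSh (F : EtCoh.Ab X) : (Sh f).obj F ⟶ (EtCoh.push f).obj F :=
  ObjectProperty.homMk (EtShriek.lowerShriekPreι f F)

instance mono_ιSh (F : EtCoh.Ab X) : Mono (ιSh f F) := by
  haveI : Mono ((sheafToPresheaf Y.smallEtaleTopology AddCommGrpCat.{u + 1}).map (ιSh f F)) := by
    show Mono (EtShriek.lowerShriekPreι f F)
    haveI : ∀ V, Mono ((EtShriek.lowerShriekPreι f F).app V) := fun V =>
      (AddCommGrpCat.mono_iff_injective _).mpr Subtype.val_injective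
    exact NatTrans.mono_of_mono_app _
  exact (sheafToPresheaf Y.smallEtaleTopology AddCommGrpCat.{u + 1}).mono_of_mono_map
    inferInstance

set_option backward.isDefEq.respectTransparency.types false in
/-- the map to the direct image through the sheaf of sections with proper support -/
theorem lowerShriekToPush_eq (F : EtCoh.Ab X) :
    EtShriek.lowerShriekToPush f F = (shIso f).hom.app F ≫ ιSh f F := by
  apply ((sheafificationAdjunction Y.smallEtaleTopology AddCommGrpCat.{u + 1}).homEquiv
    (EtShriek.lowerShriekPre f F) ((EtCoh.push f).obj F)).injective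
  rw [Equiv.apply_symm_apply, Adjunction.homEquiv_unit, sheafificationAdjunction_unit_app]
  show _ = toSheafify _ _ ≫ ((shIso f).hom.app F).hom ≫ (ιSh f F).hom
  have h1 : toSheafify Y.smallEtaleTopology (EtShriek.lowerShriekPre f F) ≫
      ((shIso f).hom.app F).hom = 𝟙 _ := by
    simp [shIso, Sh]
    refine (toSheafify_sheafifyLift _ _ _).trans ?_
    rfl
  exact ((Category.id_comp _).symm.trans (congrArg (fun q => q ≫ (ιSh f F).hom) h1.symm)).trans
    (Category.assoc _ _ _)

end Incl

section Compat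

variable {X Y Z : Scheme.{u}} (h : X ⟶ Y) (g : Y ⟶ Z) [LocallyOfFiniteType h] [IsSeparated g]
  [LocallyOfFiniteType g]

set_option backward.isDefEq.respectTransparency.types false in
theorem compat_Sh (F : EtCoh.Ab X) :
    (Sh g).map (ιSh h F) ≫ ιSh g ((EtCoh.push h).obj F) =
      ψ2Sh h g F ≫ ιSh (h ≫ g) F ≫ (EtCoh.pushComp g h).inv.app F := by
  apply Sheaf.hom_ext
  ext W ⟨⟨s, hs⟩, ht⟩
  show s = F.obj.map ((θ h g).inv.app W.unop).op (F.obj.map ((θ h g).hom.app W.unop).op s)
  rw [← ConcreteCategory.comp_apply, ← F.obj.map_comp, ← op_comp, Iso.inv_hom_id_app]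
  simp

instance mono_Sh_map_ιSh (F : EtCoh.Ab X) : Mono ((Sh g).map (ιSh h F)) := by
  haveI : Mono ((sheafToPresheaf Z.smallEtaleTopology AddCommGrpCat.{u + 1}).map
      ((Sh g).map (ιSh h F))) := by
    haveI : ∀ V, Mono (((sheafToPresheaf Z.smallEtaleTopology AddCommGrpCat.{u + 1}).map
        ((Sh g).map (ιSh h F))).app V) := fun V => by
      rw [AddCommGrpCat.mono_iff_injective]
      rintro ⟨⟨a, ha⟩, ha'⟩ ⟨⟨b, hb⟩, hb'⟩ hab
      have h1 : a = b := congrArg Subtype.val hab
      subst h1
      rfl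
    exact NatTrans.mono_of_mono_app _
  exact (sheafToPresheaf Z.smallEtaleTopology AddCommGrpCat.{u + 1}).mono_of_mono_map
    inferInstance

/-- the inclusion `g_! h_! F ⟶ g_* h_* F` -/
noncomputable abbrev mm (F : EtCoh.Ab X) :
    (EtShriek.lowerShriek g).obj ((EtShriek.lowerShriek h).obj F) ⟶
      (EtCoh.push g).obj ((EtCoh.push h).obj F) :=
  (EtShriek.lowerShriek g).map (EtShriek.lowerShriekToPush h F) ≫
    EtShriek.lowerShriekToPush g ((EtCoh.push h).obj F)

omit [IsSeparated g] in
theorem mm_eq (F : EtCoh.Ab X) : mm h g F =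
    (shIso g).hom.app ((EtShriek.lowerShriek h).obj F) ≫ (Sh g).map ((shIso h).hom.app F) ≫
      (Sh g).map (ιSh h F) ≫ ιSh g ((EtCoh.push h).obj F) := by
  have hnat := (shIso g).hom.naturality (EtShriek.lowerShriekToPush h F)
  rw [mm, lowerShriekToPush_eq g, ← Category.assoc, hnat, Category.assoc,
    lowerShriekToPush_eq h F, Functor.map_comp, Category.assoc]

instance mono_mm (F : EtCoh.Ab X) : Mono (mm h g F) := by
  rw [mm_eq]
  infer_instance

theorem compIso2_hom_app (F : EtCoh.Ab X) : (compIso2 h g).hom.app F =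
    (shIso (h ≫ g)).hom.app F ≫ inv (ψ2Sh h g F) ≫ (Sh g).map ((shIso h).inv.app F) ≫
      (shIso g).inv.app ((EtShriek.lowerShriek h).obj F) := by
  simp [compIso2, ψ2Nat]

theorem compat (F : EtCoh.Ab X) :
    (compIso2 h g).hom.app F ≫ mm h g F =
      EtShriek.lowerShriekToPush (h ≫ g) F ≫ (EtCoh.pushComp g h).inv.app F := by
  rw [compIso2_hom_app, mm_eq, lowerShriekToPush_eq (h ≫ g) F]
  simp only [Category.assoc]
  rw [Iso.inv_hom_id_app_assoc, ← Functor.map_comp_assoc, Iso.inv_hom_id_app,
    CategoryTheory.Functor.map_id, Category.id_comp, compat_Sh, IsIso.inv_hom_id_assoc]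

theorem existsUnique :
    ∃! φ : EtShriek.lowerShriek (h ≫ g) ≅ EtShriek.lowerShriek h ⋙ EtShriek.lowerShriek g,
      ∀ F : EtCoh.Ab X,
        φ.hom.app F ≫ (EtShriek.lowerShriek g).map (EtShriek.lowerShriekToPush h F) ≫
            EtShriek.lowerShriekToPush g ((EtCoh.push h).obj F) =
          EtShriek.lowerShriekToPush (h ≫ g) F ≫ (EtCoh.pushComp g h).inv.app F := by
  refine ⟨compIso2 h g, fun F => compat h g F, ?_⟩
  intro φ' hφ'
  apply Iso.ext
  ext F : 2
  rw [← cancel_mono (mm h g F)]
  exact (hφ' F).trans (compat h g F).symm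

end Compat

end Groth.Agent.Lib.Helper70.ShriekCompUniq
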