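import Mathlib
import Groth.Agent.Lib.Helper70.FibreReduced

open AlgebraicGeometry CategoryTheory Limits

universe u

namespace Groth.Agent.Lib.Helper70.EtaleBirational

open AlgebraicGeometry.Scheme.Pullback

/-- If the residue field extension at `T.x` is trivial, the tensor product of residue fields
has a single prime. -/
lemma subsingleton_Spec_tensor {X Y S : Scheme.{u}} {f : X ⟶ S} {g : Y ⟶ S} (T : Triplet f g)
    (hb : Function.Bijective (f.residueFieldMap T.x).hom) : Subsingleton (Spec T.tensor) := by
  have h1 : IsIso (f.residueFieldMap T.x) :=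
    (ConcreteCategory.isIso_iff_bijective _).mpr hb
  have h2 : IsIso ((S.residueFieldCongr T.hx).inv ≫ f.residueFieldMap T.x) := inferInstance
  have h3 : IsIso T.tensorInr :=
    (IsPushout.of_hasPushout ((S.residueFieldCongr T.hx).inv ≫ f.residueFieldMap T.x)
      ((S.residueFieldCongr T.hy).inv ≫ g.residueFieldMap T.y)).isIso_inr_of_isIso
  have hfield : IsField T.tensor :=
    MulEquiv.isField (Field.toIsField (Y.residueField T.y))
      (asIso T.tensorInr).commRingCatIsoToRingEquiv.symm.toMulEquiv
  let _ := hfield.toField
  exact inferInstanceAs (Subsingleton (PrimeSpectrum T.tensor))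

/-- A point of a fibre product is determined by its two projections when one of the residue
field extensions is trivial. -/
lemma eq_of_fst_eq_of_snd_eq {X Y S : Scheme.{u}} {f : X ⟶ S} {g : Y ⟶ S}
    (z z' : ↑(pullback f g))
    (h1 : pullback.fst f g z = pullback.fst f g z') (h2 : pullback.snd f g z = pullback.snd f g z')
    (hb : Function.Bijective (f.residueFieldMap (pullback.fst f g z')).hom) : z = z' := by
  have hT : Triplet.ofPoint z = Triplet.ofPoint z' := Triplet.ext h1 h2
  have hsub : Subsingleton (Spec ((carrierEquiv (f := f) (g := g)) z').fst.tensor) :=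
    subsingleton_Spec_tensor (Triplet.ofPoint z') hb
  apply (carrierEquiv (f := f) (g := g)).injective
  rw [carrierEquiv_eq_iff]
  exact ⟨hT, Subsingleton.elim _ _⟩

open Groth.Agent.Lib.Helper70.FibreReduced in
/-- every point has a generization without proper generizations -/
lemma exists_maximal_generization (Z : Scheme.{u}) (z : Z) :
    ∃ ζ : Z, ζ ⤳ z ∧ ∀ y : Z, y ⤳ ζ → y = ζ := by
  have hC : irreducibleComponent z ∈ irreducibleComponents Z :=
    irreducibleComponent_mem_irreducibleComponents z
  obtain ⟨ζ, hζ⟩ := QuasiSober.sober (isIrreducible_irreducibleComponent (x := z))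
    isClosed_irreducibleComponent
  refine ⟨ζ, ?_, fun y hy => eq_of_specializes_genericPoint ζ _ hC hζ y hy⟩
  rw [specializes_iff_mem_closure, hζ.def]
  exact mem_irreducibleComponent

lemma map_eq_genericPoint {Z X : Scheme.{u}} [IrreducibleSpace X] (p : Z ⟶ X) [Flat p] (ζ : Z)
    (hζ : ∀ y : Z, y ⤳ ζ → y = ζ) : p ζ = genericPoint X := by
  have h1 : genericPoint X ⤳ p ζ := genericPoint_specializes _
  obtain ⟨ζ', h2, h3⟩ := (Flat.generalizingMap p) h1
  rw [← h3, hζ ζ' h2]

/-- An étale separated birational morphism of integral schemes is an open immersion. -/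
theorem isOpenImmersion_of_etale_of_birational {X Y : Scheme.{u}} [IsIntegral X] [IsIntegral Y]
    (f : X ⟶ Y) [Etale f] [IsSeparated f]
    (hbir : Function.Bijective (f.residueFieldMap (genericPoint X)).hom) : IsOpenImmersion f := by
  have hsurj : Function.Surjective (pullback.diagonal f) := by
    intro z
    obtain ⟨ζ, hζz, hζ⟩ := exists_maximal_generization _ z
    have h1 : pullback.fst f f ζ = genericPoint X := map_eq_genericPoint _ ζ hζ
    have h2 : pullback.snd f f ζ = genericPoint X := map_eq_genericPoint _ ζ hζ
    have h3 : pullback.fst f f (pullback.diagonal f (genericPoint X)) = genericPoint X := by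
      rw [← Scheme.Hom.comp_apply, pullback.diagonal_fst]
      rfl
    have h4 : pullback.snd f f (pullback.diagonal f (genericPoint X)) = genericPoint X := by
      rw [← Scheme.Hom.comp_apply, pullback.diagonal_snd]
      rfl
    have h5 : ζ = pullback.diagonal f (genericPoint X) :=
      eq_of_fst_eq_of_snd_eq _ _ (h1.trans h3.symm) (h2.trans h4.symm) (by rw [h3]; exact hbir)
    have hclosed : IsClosed (Set.range (pullback.diagonal f)) :=
      (pullback.diagonal f).isClosedEmbedding.isClosed_range
    have h6 : ζ ∈ Set.range (pullback.diagonal f) := ⟨_, h5.symm⟩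
    exact hζz.mem_closed hclosed h6
  have hiso : IsIso (pullback.diagonal f) :=
    (isIso_iff_isOpenImmersion_and_surjective _).mpr ⟨inferInstance, ⟨hsurj⟩⟩
  have hmono : Mono f := (pullback.isIso_diagonal_iff f).mp hiso
  exact IsOpenImmersion.of_flat_of_mono f

end Groth.Agent.Lib.Helper70.EtaleBirational
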