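import Mathlib
import Groth.Prelude.Def_MoreMor
import Groth.Agent.Lib.Helper7.GeomFibreCount
import Groth.Agent.Lib.Helper70.WeightingBC

open AlgebraicGeometry CategoryTheory Limits IsLocalRing

universe u

namespace Groth.Agent.Lib.Helper70.GeomCount

open Groth.Agent.Lib.Helper70.GeomPts Groth.Agent.Lib.Helper70.Weighting
  Groth.Agent.Lib.Helper70.WeightingLSC Groth.Agent.Lib.Helper70.WeightingBC

lemma isSepClosed_of_ringEquiv {k k' : Type*} [Field k] [Field k'] (e : k ≃+* k')
    [IsSepClosed k] : IsSepClosed k' := by
  refine ⟨fun p hp => ?_⟩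
  have h1 : (p.map e.symm.toRingHom).Separable := hp.map
  have h2 := IsSepClosed.splits_of_separable _ h1
  have h3 := h2.map e.toRingHom
  rw [Polynomial.map_map] at h3
  have : e.toRingHom.comp e.symm.toRingHom = RingHom.id k' := by
    ext x; simp
  rwa [this, Polynomial.map_id] at h3

/-- residue fields of the spectrum of a field -/
lemma isSepClosed_residueField_spec (K : Type u) [Field K] [IsSepClosed K]
    (s : Spec (.of K)) : IsSepClosed ((Spec (.of K)).residueField s) := by
  have : (PrimeSpectrum.asIdeal (R := K) s).IsPrime := PrimeSpectrum.isPrime (R := K) s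
  exact isSepClosed_of_ringEquiv
    ((Ideal.algEquivResidueFieldOfField (PrimeSpectrum.asIdeal (R := K) s)).toRingEquiv.trans
      (Scheme.Spec.residueFieldIso (.of K) s).symm.commRingCatIsoToRingEquiv)

/-- the fibre integral of `1` over a separably closed field counts points -/
theorem fibreIntegral_one_of_isSepClosed (K : Type u) [Field K] [IsSepClosed K] {G : Scheme.{u}}
    (π : G ⟶ Spec (.of K)) [LocallyQuasiFinite π] [Finite G] (s : Spec (.of K)) :
    MoreMor.fibreIntegral π (fun _ => 1) s = Nat.card G := by
  classical
  unfold MoreMor.fibreIntegral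
  have hsub : ∀ a b : Spec (.of K), a = b := fun a b =>
    Subsingleton.elim (α := PrimeSpectrum K) a b
  have h1 : ∀ u : {u : G // π u = s},
      ((1 : ℤ) * (letI := (π.residueFieldMap u.1).hom.toAlgebra
        (Field.finSepDegree ((Spec (.of K)).residueField (π u.1)) (G.residueField u.1) : ℤ))) = 1 := by
    intro u
    let _ := (π.residueFieldMap u.1).hom.toAlgebra
    have := finite_residueFieldMap π u.1
    have := isSepClosed_residueField_spec K (π u.1)
    have : Algebra.IsAlgebraic ((Spec (.of K)).residueField (π u.1)) (G.residueField u.1) :=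
      Algebra.IsAlgebraic.of_finite _ _
    rw [IsPurelyInseparable.finSepDegree_eq_one]
    simp
  rw [finsum_congr h1]
  have := Fintype.ofFinite {u : G // π u = s}
  rw [finsum_eq_sum_of_fintype]
  simp only [Finset.sum_const, Finset.card_univ, nsmul_eq_mul, mul_one]
  rw [← Nat.card_eq_fintype_card]
  congr 1
  exact Nat.card_congr (Equiv.subtypeUnivEquiv fun u => hsub _ _)

/-- dictionary: the geometric number of connected components of the fibres of a quasi-finite
morphism is the fibre integral of the constant function one -/
theorem nGeomConnComp_eq_fibreIntegral {X Y : Scheme.{u}} (f : X ⟶ Y) [LocallyQuasiFinite f]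
    [QuasiCompact f] (y : Y) :
    ∃ n : ℕ, MoreMor.nGeomConnComp f y = (n : ℕ∞) ∧
      MoreMor.fibreIntegral f (fun _ => 1) y = (n : ℤ) := by
  have h1 : LocallyQuasiFinite (f.fiberToSpecResidueField y) :=
    inferInstanceAs (LocallyQuasiFinite (pullback.snd f (Y.fromSpecResidueField y)))
  have h1' : QuasiCompact (f.fiberToSpecResidueField y) :=
    inferInstanceAs (QuasiCompact (pullback.snd f (Y.fromSpecResidueField y)))
  let Ks := SeparableClosure (Y.residueField y)
  let j : Spec (CommRingCat.of Ks) ⟶ Spec (Y.residueField y) :=
    Spec.map (CommRingCat.ofHom (algebraMap (Y.residueField y) Ks))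
  let π : MoreMor.geomFiber f y ⟶ Spec (CommRingCat.of Ks) :=
    pullback.snd (f.fiberToSpecResidueField y) j
  have h2 : LocallyQuasiFinite π := inferInstanceAs (LocallyQuasiFinite (pullback.snd _ _))
  have h2' : QuasiCompact π := inferInstanceAs (QuasiCompact (pullback.snd _ _))
  have hsub : ∀ a b : Spec (CommRingCat.of Ks), a = b := fun a b =>
    Subsingleton.elim (α := PrimeSpectrum Ks) a b
  let s : Spec (CommRingCat.of Ks) := IsLocalRing.closedPoint Ks
  have hfinG : Finite ↥(MoreMor.geomFiber f y) := by
    have h3 := π.finite_preimage_singleton s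
    have h4 : π ⁻¹' {s} = Set.univ := by
      ext z
      simp only [Set.mem_preimage, Set.mem_univ, iff_true]
      exact hsub _ _
    rw [h4] at h3
    exact Set.finite_univ_iff.mp h3
  have hdisc : DiscreteTopology ↥(MoreMor.geomFiber f y) := by
    have h3 := π.isDiscrete_preimage_singleton s
    have h4 : π ⁻¹' {s} = Set.univ := by
      ext z
      simp only [Set.mem_preimage, Set.mem_univ, iff_true]
      exact hsub _ _
    rw [h4] at h3
    exact isDiscrete_univ_iff.mp h3
  refine ⟨Nat.card ↥(MoreMor.geomFiber f y), ?_, ?_⟩
  · unfold MoreMor.nGeomConnComp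
    rw [Groth.Agent.Lib.Helper7.GeomFibreCount.card_connectedComponents_of_discrete]
    exact ENat.card_eq_coe_natCard _
  · have hZ := IsPullback.of_hasPullback (f.fiberToSpecResidueField y) j
    have hfib : IsPullback (f.fiberι y) (f.fiberToSpecResidueField y) f
        (Y.fromSpecResidueField y) := IsPullback.of_hasPullback _ _
    have hc := hZ.paste_horiz hfib
    have h5 := fibreIntegral_base_change f (fun v => f.finite_preimage_singleton v) π _ _ hc
      (fun _ => 1) s
    have h6 : (j ≫ Y.fromSpecResidueField y) s = y := by
      change (Y.fromSpecResidueField y) (j s) = y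
      exact Scheme.fromSpecResidueField_apply _ _
    rw [h6] at h5
    rw [← h5]
    exact fibreIntegral_one_of_isSepClosed Ks π s

end Groth.Agent.Lib.Helper70.GeomCount
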