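import Mathlib
import Groth.Prelude.Def_EGA43

open AlgebraicGeometry CategoryTheory Limits

universe u

namespace Groth.Agent.Lib.Helper70.UnivOpenAt

lemma isOpenAt_comp {α β γ : Type*} [TopologicalSpace α] [TopologicalSpace β] [TopologicalSpace γ]
    (f : α → β) (g : β → γ) (hf : IsOpenMap f) (x : α) (hg : EGA43.IsOpenAt g (f x)) :
    EGA43.IsOpenAt (g ∘ f) x := by
  intro U hU
  rw [Set.image_comp]
  exact hg _ (hf.image_mem_nhds hU)

lemma isOpenAt_of_isOpenMap {α β : Type*} [TopologicalSpace α] [TopologicalSpace β]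
    (f : α → β) (hf : IsOpenMap f) (x : α) : EGA43.IsOpenAt f x :=
  fun _ hU => hf.image_mem_nhds hU

lemma isUnivOpenAt_of_universallyOpen {X Y : Scheme.{u}} (f : X ⟶ Y) [UniversallyOpen f] (x : X) :
    EGA43.IsUnivOpenAt f x := by
  intro Y' g x' _
  exact isOpenAt_of_isOpenMap _ (pullback.snd f g).isOpenMap x'

/-- base change -/
lemma isUnivOpenAt_snd {X Y V : Scheme.{u}} (f : X ⟶ Y) (g : V ⟶ Y) (x' : ↥(pullback f g))
    (h : EGA43.IsUnivOpenAt f (pullback.fst f g x')) :
    EGA43.IsUnivOpenAt (pullback.snd f g) x' := by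
  intro V' g' x'' hx''
  let e := pullbackLeftPullbackSndIso f g g'
  have h1 : pullback.snd (pullback.snd f g) g' = e.hom ≫ pullback.snd f (g' ≫ g) :=
    (pullbackLeftPullbackSndIso_hom_snd f g g').symm
  have h2 : e.hom ≫ pullback.fst f (g' ≫ g) = pullback.fst (pullback.snd f g) g' ≫ pullback.fst f g :=
    pullbackLeftPullbackSndIso_hom_fst f g g'
  have h3 : pullback.fst f (g' ≫ g) (e.hom x'') = pullback.fst f g x' := by
    rw [← Scheme.Hom.comp_apply, h2, Scheme.Hom.comp_apply]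
    exact congrArg _ hx''
  have h4 := h V' (g' ≫ g) (e.hom x'') h3
  have h5 : ⇑(pullback.snd (pullback.snd f g) g').base = ⇑(pullback.snd f (g' ≫ g)).base ∘ ⇑e.hom := by
    rw [h1]; rfl
  rw [h5]
  exact isOpenAt_comp _ _ e.hom.isOpenMap x'' h4

/-- precomposition with an open immersion -/
lemma isUnivOpenAt_openImmersion_comp {B P T : Scheme.{u}} (π : P ⟶ T) (j : B ⟶ P)
    [IsOpenImmersion j] (b : ↥B)
    (h : EGA43.IsUnivOpenAt π (j b)) : EGA43.IsUnivOpenAt (j ≫ π) b := by
  intro T' g' x'' hx''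
  let c : pullback (j ≫ π) g' ⟶ pullback π g' :=
    pullback.lift (pullback.fst (j ≫ π) g' ≫ j) (pullback.snd (j ≫ π) g')
      (by rw [Category.assoc, pullback.condition])
  have hc1 : c ≫ pullback.fst π g' = pullback.fst (j ≫ π) g' ≫ j := pullback.lift_fst _ _ _
  have hc2 : c ≫ pullback.snd π g' = pullback.snd (j ≫ π) g' := pullback.lift_snd _ _ _
  have hpb : IsPullback (pullback.fst (j ≫ π) g') c j (pullback.fst π g') := by
    refine IsPullback.of_bot ?_ hc1.symm (IsPullback.of_hasPullback π g')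
    rw [hc2]
    exact IsPullback.of_hasPullback (j ≫ π) g'
  have : IsOpenImmersion c := MorphismProperty.of_isPullback (P := @IsOpenImmersion) hpb
    inferInstance
  have h3 : pullback.fst π g' (c x'') = j b := by
    rw [← Scheme.Hom.comp_apply, hc1, Scheme.Hom.comp_apply]
    exact congrArg _ hx''
  have h4 := h T' g' (c x'') h3
  have h5 : ⇑(pullback.snd (j ≫ π) g').base = ⇑(pullback.snd π g').base ∘ ⇑c := by
    rw [← hc2]; rfl
  rw [h5]
  exact isOpenAt_comp _ _ c.isOpenEmbedding.isOpenMap x'' h4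

/-- restriction to an open subscheme of the source -/
lemma isUnivOpenAt_open_comp {P T : Scheme.{u}} (π : P ⟶ T) (B : P.Opens) (b : ↥B)
    (h : EGA43.IsUnivOpenAt π (B.ι b)) : EGA43.IsUnivOpenAt (B.ι ≫ π) b :=
  isUnivOpenAt_openImmersion_comp π B.ι b h

end Groth.Agent.Lib.Helper70.UnivOpenAt
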