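import Mathlib
import Groth.Prelude.Def_MoreMor
import Groth.Prelude.Def_EGA43
import Groth.Agent.Lib.Helper70.WeightingFinite
import Groth.Agent.Lib.Helper70.UnivOpenAt
import Groth.Agent.Lib.Helper70.GeomCount

open AlgebraicGeometry CategoryTheory Limits IsLocalRing

universe u

namespace Groth.Agent.Lib.Helper70.CountLSC

open Groth.Agent.Lib.Helper70.GeomPts Groth.Agent.Lib.Helper70.Weighting
  Groth.Agent.Lib.Helper70.WeightingLSC Groth.Agent.Lib.Helper70.UniquePoint
  Groth.Agent.Lib.Helper70.WeightingBC Groth.Agent.Lib.Helper70.WeightingBC2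
  Groth.Agent.Lib.Helper70.WeightingFinite Groth.Agent.Lib.Helper70.UnivOpenAt

/-- an open piece of a separated morphism which is finite over the base is clopen -/
lemma exists_isCompl_of_isFinite {P T : Scheme.{u}} (π : P ⟶ T) [IsSeparated π] (O : P.Opens)
    (hfin : IsFinite (O.ι ≫ π)) : ∃ B : P.Opens, IsCompl O B := by
  have := hfin
  have : IsFinite O.ι := IsFinite.of_comp O.ι π
  have hcl : IsClosed (Set.range O.ι) := O.ι.isClosedMap.isClosed_range
  rw [Scheme.Opens.range_ι] at hcl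
  refine ⟨⟨(O : Set P)ᶜ, hcl.isOpen_compl⟩, ?_⟩
  rw [isCompl_iff, disjoint_iff, codisjoint_iff]
  constructor
  · ext x
    simp only [TopologicalSpace.Opens.coe_inf, TopologicalSpace.Opens.coe_mk, Set.mem_inter_iff,
      SetLike.mem_coe, Set.mem_compl_iff, TopologicalSpace.Opens.coe_bot, Set.mem_empty_iff_false,
      iff_false, not_and, not_not]
    exact fun h => h
  · ext x
    simp only [TopologicalSpace.Opens.coe_sup, TopologicalSpace.Opens.coe_mk, Set.mem_union,
      SetLike.mem_coe, Set.mem_compl_iff, TopologicalSpace.Opens.coe_top, Set.mem_univ, iff_true]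
    exact em _

/-- the count of a finite piece is at least one on the image -/
lemma one_le_fibreIntegral_of_mem_image {P T : Scheme.{u}} (π : P ⟶ T) [LocallyQuasiFinite π]
    (O : P.Opens) (hfin : IsFinite (O.ι ≫ π)) (v : T) (hv : v ∈ π '' (O : Set P)) :
    1 ≤ MoreMor.fibreIntegral (O.ι ≫ π) (fun _ => 1) v := by
  obtain ⟨u, hu, rfl⟩ := hv
  have := hfin
  exact le_fibreIntegral (O.ι ≫ π) (fun _ => 1) (fun _ => zero_le_one) ⟨u, hu⟩
    (Scheme.Hom.finite_preimage_singleton _ _)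

set_option backward.isDefEq.respectTransparency.types false in
/-- étale-local splitting off of a finite clopen piece with exactly one geometric point, whose
image is a neighbourhood -/
theorem exists_etale_split {X Y : Scheme.{u}} (f : X ⟶ Y) [LocallyQuasiFinite f]
    [LocallyOfFiniteType f] [IsSeparated f]
    (Ω : Type u) [Field Ω] [IsAlgClosed Ω] (yb : Spec (.of Ω) ⟶ Y)
    (hopen : ∀ x : X, f x = yb (closedPoint Ω) → EGA43.IsUnivOpenAt f x)
    (t : GPts Ω f yb) :
    ∃ (V : Scheme.{u}) (g : V ⟶ Y) (_ : Etale g) (A B : (pullback f g).Opens)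
      (vb : Spec (.of Ω) ⟶ V),
      IsCompl A B ∧ IsFinite (A.ι ≫ pullback.snd f g) ∧ vb ≫ g = yb ∧
      MoreMor.fibreIntegral (A.ι ≫ pullback.snd f g) (fun _ => 1) (vb (closedPoint Ω)) = 1 ∧
      (pullback.snd f g) '' (A : Set ↥(pullback f g)) ∈ nhds (vb (closedPoint Ω)) := by
  obtain ⟨t, ht⟩ := t
  obtain ⟨V, g, hg, A, t', hfinA, hts, huniq⟩ := exists_etale_unique_gpt_opens f t
  obtain ⟨B, hAB⟩ := exists_isCompl_of_isFinite (pullback.snd f g) A hfinA
  obtain ⟨vb, hvb⟩ : ∃ vb : Spec (.of Ω) ⟶ V, vb = t' ≫ A.ι ≫ pullback.snd f g := ⟨_, rfl⟩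
  have hvbg : vb ≫ g = yb := by
    rw [hvb, Category.assoc, Category.assoc, ← pullback.condition, ← Category.assoc A.ι,
      ← Category.assoc t', hts, ht]
  refine ⟨V, g, hg, A, B, vb, hAB, hfinA, hvbg, ?_, ?_⟩
  · haveI := hfinA
    rw [← card_gpts_eq_fibreIntegral_one Ω (A.ι ≫ pullback.snd f g) vb
      (Scheme.Hom.finite_preimage_singleton _ _)]
    have : Nat.card (GPts Ω (A.ι ≫ pullback.snd f g) vb) = 1 := by
      rw [Nat.card_eq_one_iff_unique]
      refine ⟨⟨fun a b => ?_⟩, ⟨⟨t', hvb.symm⟩⟩⟩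
      obtain ⟨a, ha⟩ := a
      obtain ⟨b, hb⟩ := b
      apply Subtype.ext
      change a = b
      rw [huniq a (by rw [ha, hvb]), huniq b (by rw [hb, hvb])]
    rw [this]
    rfl
  · obtain ⟨a, hadef⟩ : ∃ a : ↥A, a = t' (closedPoint Ω) := ⟨_, rfl⟩
    have h1 : pullback.fst f g (A.ι a) = t (closedPoint Ω) := by
      rw [hadef, ← hts]; rfl
    have h2 : f (t (closedPoint Ω)) = yb (closedPoint Ω) := by
      rw [← ht]; rfl
    have h3 := hopen _ h2 V g (A.ι a) h1
    have h4 : pullback.snd f g (A.ι a) = vb (closedPoint Ω) := by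
      rw [hadef, hvb]; rfl
    have h5 := h3 (A : Set ↥(pullback f g)) (A.isOpen.mem_nhds a.2)
    rw [← h4]
    exact h5

lemma isUnivOpenAt_piece {X Y V : Scheme.{u}} (f : X ⟶ Y) (g : V ⟶ Y) (B : (pullback f g).Opens)
    (y : Y) (hopen : ∀ x : X, f x = y → EGA43.IsUnivOpenAt f x) (v : V) (hv : g v = y)
    (b : ↥B) (hb : (B.ι ≫ pullback.snd f g) b = v) :
    EGA43.IsUnivOpenAt (B.ι ≫ pullback.snd f g) b := by
  apply isUnivOpenAt_open_comp
  apply isUnivOpenAt_snd
  apply hopen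
  rw [← hv, ← hb]
  change (pullback.fst f g ≫ f) (B.ι b) = (pullback.snd f g ≫ g) (B.ι b)
  rw [pullback.condition]

set_option backward.isDefEq.respectTransparency.types false in
theorem lsc1_aux (n : ℕ) : ∀ {X Y : Scheme.{u}} (f : X ⟶ Y) [LocallyQuasiFinite f]
    [LocallyOfFiniteType f] [IsSeparated f] (_ : ∀ y : Y, (f ⁻¹' {y}).Finite)
    (Ω : Type u) [Field Ω] [IsAlgClosed Ω] (yb : Spec (.of Ω) ⟶ Y)
    (_ : ∀ x : X, f x = yb (closedPoint Ω) → EGA43.IsUnivOpenAt f x),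
    MoreMor.fibreIntegral f (fun _ => 1) (yb (closedPoint Ω)) = n →
    LowerSemicontinuousAt (MoreMor.fibreIntegral f (fun _ => 1)) (yb (closedPoint Ω)) := by
  induction n with
  | zero =>
    intro X Y f _ _ _ hfin Ω _ _ yb hopen hn
    intro c hc
    rw [hn] at hc
    exact Filter.Eventually.of_forall fun y' =>
      lt_of_lt_of_le hc (fibreIntegral_nonneg f _ (fun _ => zero_le_one) y')
  | succ n ih =>
    intro X Y f _ _ _ hfin Ω _ _ yb hopen hn
    haveI : Finite (GPts Ω f yb) := finite_gpts Ω f yb (hfin _)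
    have hcard := card_gpts_eq_fibreIntegral_one Ω f yb (hfin _)
    rw [hn] at hcard
    obtain ⟨t⟩ : Nonempty (GPts Ω f yb) := by
      rw [← Finite.card_pos_iff]
      have : (0 : ℤ) < Nat.card (GPts Ω f yb) := by rw [hcard]; positivity
      exact_mod_cast this
    obtain ⟨V, g, hg, A, B, vb, hAB, hfinA, hvbg, hA1, hAnhds⟩ :=
      exists_etale_split f Ω yb hopen t
    haveI : LocallyQuasiFinite g := locallyQuasiFinite_of_etale g
    have hgv₀ : g (vb (closedPoint Ω)) = yb (closedPoint Ω) := by rw [← hvbg]; rfl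
    have hfinπ : ∀ v : V, ((pullback.snd f g) ⁻¹' {v}).Finite :=
      finite_fibre_of_isPullback f hfin (pullback.snd f g) (pullback.fst f g) g
        (IsPullback.of_hasPullback f g)
    have hbc : ∀ v : V, MoreMor.fibreIntegral (pullback.snd f g) (fun _ => 1) v =
        MoreMor.fibreIntegral f (fun _ => 1) (g v) := fun v =>
      fibreIntegral_base_change f hfin (pullback.snd f g) (pullback.fst f g) g
        (IsPullback.of_hasPullback f g) (fun _ => 1) v
    have hadd : ∀ v : V, MoreMor.fibreIntegral (pullback.snd f g) (fun _ => 1) v =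
        MoreMor.fibreIntegral (A.ι ≫ pullback.snd f g) (fun _ => 1) v +
        MoreMor.fibreIntegral (B.ι ≫ pullback.snd f g) (fun _ => 1) v :=
      fun v => fibreIntegral_add_of_isCompl (pullback.snd f g) A B hAB _ v (hfinπ v)
    have hfinB : ∀ v : V, ((B.ι ≫ pullback.snd f g) ⁻¹' {v}).Finite := fun v =>
      finite_fibre_open_comp (pullback.snd f g) B v (hfinπ v)
    have hB : MoreMor.fibreIntegral (B.ι ≫ pullback.snd f g) (fun _ => 1) (vb (closedPoint Ω)) =
        n := by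
      have h1 := hadd (vb (closedPoint Ω))
      rw [hbc, hgv₀, hn, hA1] at h1
      push_cast at h1
      omega
    have hlscB := ih (B.ι ≫ pullback.snd f g) hfinB Ω vb
      (fun b hb => isUnivOpenAt_piece f g B _ hopen _ hgv₀ b hb) hB
    have hlscA : LowerSemicontinuousAt
        (MoreMor.fibreIntegral (A.ι ≫ pullback.snd f g) (fun _ => 1)) (vb (closedPoint Ω)) := by
      intro c hc
      rw [hA1] at hc
      rw [Filter.eventually_iff_exists_mem]
      refine ⟨_, hAnhds, fun v hv => ?_⟩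
      exact lt_of_lt_of_le hc (one_le_fibreIntegral_of_mem_image _ A hfinA v hv)
    rw [← hgv₀]
    apply lowerSemicontinuousAt_of_comp_openMap g g.isOpenMap
    have hcomp : (MoreMor.fibreIntegral f (fun _ => 1)) ∘ g =
        fun v => MoreMor.fibreIntegral (A.ι ≫ pullback.snd f g) (fun _ => 1) v +
        MoreMor.fibreIntegral (B.ι ≫ pullback.snd f g) (fun _ => 1) v := by
      funext v
      rw [Function.comp_apply, ← hbc, hadd]
    rw [hcomp]
    exact hlscA.add hlscB

set_option backward.isDefEq.respectTransparency.types false in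
theorem fin1_aux (n : ℕ) : ∀ {X Y : Scheme.{u}} (f : X ⟶ Y) [LocallyQuasiFinite f]
    [LocallyOfFiniteType f] [IsSeparated f] (_ : ∀ y : Y, (f ⁻¹' {y}).Finite)
    (_ : ∀ y : Y, MoreMor.fibreIntegral f (fun _ => 1) y ≤ n)
    (Ω : Type u) [Field Ω] [IsAlgClosed Ω] (yb : Spec (.of Ω) ⟶ Y)
    (_ : ∀ x : X, f x = yb (closedPoint Ω) → EGA43.IsUnivOpenAt f x),
    MoreMor.fibreIntegral f (fun _ => 1) (yb (closedPoint Ω)) = n →
    ∃ (V : Scheme.{u}) (g : V ⟶ Y) (_ : Etale g) (v : V), g v = yb (closedPoint Ω) ∧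
      IsFinite (pullback.snd f g) := by
  induction n with
  | zero =>
    intro X Y f _ _ _ hfin hmax Ω _ _ yb hopen hn
    have hX : IsEmpty X := by
      constructor
      intro x
      have h2 := le_fibreIntegral f (fun _ => 1) (fun u => zero_le_one) x (hfin _)
      have h3 := hmax (f x)
      simp only [Nat.cast_zero] at h3
      omega
    haveI : IsEmpty ↥(pullback f (𝟙 Y)) := ⟨fun z => hX.false (pullback.fst f (𝟙 Y) z)⟩
    exact ⟨Y, 𝟙 Y, inferInstance, yb (closedPoint Ω), rfl, isFinite_of_isEmpty _⟩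
  | succ n ih =>
    intro X Y f _ _ _ hfin hmax Ω _ _ yb hopen hn
    haveI : Finite (GPts Ω f yb) := finite_gpts Ω f yb (hfin _)
    have hcard := card_gpts_eq_fibreIntegral_one Ω f yb (hfin _)
    rw [hn] at hcard
    obtain ⟨t⟩ : Nonempty (GPts Ω f yb) := by
      rw [← Finite.card_pos_iff]
      have : (0 : ℤ) < Nat.card (GPts Ω f yb) := by rw [hcard]; positivity
      exact_mod_cast this
    obtain ⟨V₁, g₁, hg₁, A, B, vb₁, hAB, hfinA, hvb₁g, hA1, hAnhds⟩ :=
      exists_etale_split f Ω yb hopen t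
    haveI : LocallyQuasiFinite g₁ := locallyQuasiFinite_of_etale g₁
    obtain ⟨v₀, hvb₁⟩ : ∃ v₀ : V₁, vb₁ (closedPoint Ω) = v₀ := ⟨_, rfl⟩
    rw [hvb₁] at hA1 hAnhds
    have hgv₀ : g₁ v₀ = yb (closedPoint Ω) := by rw [← hvb₁g, ← hvb₁]; rfl
    obtain ⟨Nset, hNsub, hNopen, hv₀N⟩ := mem_nhds_iff.mp hAnhds
    obtain ⟨N, hNdef⟩ : ∃ N : V₁.Opens, (N : Set V₁) = Nset := ⟨⟨Nset, hNopen⟩, rfl⟩
    have hv₀N : v₀ ∈ N := by
      change v₀ ∈ (N : Set V₁)
      rw [hNdef]; exact hv₀N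
    have hNA : ∀ v' : ↥N.toScheme, 1 ≤ MoreMor.fibreIntegral (A.ι ≫ pullback.snd f g₁)
        (fun _ => 1) (N.ι v') := by
      intro v'
      apply one_le_fibreIntegral_of_mem_image _ A hfinA
      apply hNsub
      rw [← hNdef]
      exact v'.2
    have hc1 := IsPullback.of_hasPullback f g₁
    have hc1' := IsPullback.of_hasPullback f (N.ι ≫ g₁)
    obtain ⟨c, hc₁, hc₂⟩ : ∃ c : pullback f (N.ι ≫ g₁) ⟶ pullback f g₁,
        c ≫ pullback.fst f g₁ = pullback.fst f (N.ι ≫ g₁) ∧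
        c ≫ pullback.snd f g₁ = pullback.snd f (N.ι ≫ g₁) ≫ N.ι :=
      ⟨pullback.lift (pullback.fst f (N.ι ≫ g₁)) (pullback.snd f (N.ι ≫ g₁) ≫ N.ι)
        (by rw [pullback.condition, Category.assoc]),
        pullback.lift_fst _ _ _, pullback.lift_snd _ _ _⟩
    obtain ⟨A', hA'⟩ : ∃ A' : (pullback f (N.ι ≫ g₁)).Opens, A' = c ⁻¹ᵁ A := ⟨_, rfl⟩
    obtain ⟨B', hB'⟩ : ∃ B' : (pullback f (N.ι ≫ g₁)).Opens, B' = c ⁻¹ᵁ B := ⟨_, rfl⟩
    have hAB' : IsCompl A' B' := by rw [hA', hB']; exact isCompl_preimage c A B hAB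
    have hfinA' : IsFinite (A'.ι ≫ pullback.snd f (N.ι ≫ g₁)) := by
      rw [hA']
      exact MorphismProperty.of_isPullback
        (isPullback_restrict hc1 hc1' N.ι rfl c hc₁ hc₂ A) hfinA
    have I_A' : ∀ (v' : ↥N.toScheme),
        MoreMor.fibreIntegral (A'.ι ≫ pullback.snd f (N.ι ≫ g₁)) (fun _ => 1) v' =
        MoreMor.fibreIntegral (A.ι ≫ pullback.snd f g₁) (fun _ => 1) (N.ι v') := by
      intro v'
      rw [hA']
      exact fibreIntegral_restrict_base_change hc1 hc1' N.ι rfl c hc₁ hc₂ A hfinA (fun _ => 1) v'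
    haveI : LocallyQuasiFinite (pullback.snd f (N.ι ≫ g₁)) :=
      MorphismProperty.of_isPullback hc1' ‹_›
    have hfinπ' : ∀ v', ((pullback.snd f (N.ι ≫ g₁)) ⁻¹' {v'}).Finite :=
      finite_fibre_of_isPullback f hfin _ _ _ hc1'
    have hbc' : ∀ (v' : ↥N.toScheme),
        MoreMor.fibreIntegral (pullback.snd f (N.ι ≫ g₁)) (fun _ => 1) v' =
        MoreMor.fibreIntegral f (fun _ => 1) ((N.ι ≫ g₁) v') := fun v' =>
      fibreIntegral_base_change f hfin _ _ _ hc1' (fun _ => 1) v'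
    have hadd' : ∀ (v' : ↥N.toScheme),
        MoreMor.fibreIntegral (pullback.snd f (N.ι ≫ g₁)) (fun _ => 1) v' =
        MoreMor.fibreIntegral (A'.ι ≫ pullback.snd f (N.ι ≫ g₁)) (fun _ => 1) v' +
        MoreMor.fibreIntegral (B'.ι ≫ pullback.snd f (N.ι ≫ g₁)) (fun _ => 1) v' :=
      fun v' => fibreIntegral_add_of_isCompl _ A' B' hAB' (fun _ => 1) v' (hfinπ' v')
    -- the restricted complement
    obtain ⟨fB, hfB⟩ : ∃ fB : B'.toScheme ⟶ N.toScheme,
        fB = B'.ι ≫ pullback.snd f (N.ι ≫ g₁) := ⟨_, rfl⟩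
    haveI : LocallyQuasiFinite fB := by rw [hfB]; infer_instance
    haveI : LocallyOfFiniteType fB := by rw [hfB]; infer_instance
    haveI : IsSeparated fB := by rw [hfB]; infer_instance
    have hfinB : ∀ v', (fB ⁻¹' {v'}).Finite := by
      intro v'
      rw [hfB]
      exact finite_fibre_open_comp _ B' v' (hfinπ' v')
    have hsplit : ∀ v' : ↥N.toScheme, MoreMor.fibreIntegral f (fun _ => 1) ((N.ι ≫ g₁) v') =
        MoreMor.fibreIntegral (A.ι ≫ pullback.snd f g₁) (fun _ => 1) (N.ι v') +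
          MoreMor.fibreIntegral fB (fun _ => 1) v' := by
      intro v'
      rw [← hbc' v', hadd' v', hfB, I_A' v']
    have hmaxB : ∀ v' : ↥N.toScheme, MoreMor.fibreIntegral fB (fun _ => 1) v' ≤ n := by
      intro v'
      have h1 := hsplit v'
      have h2 := hmax ((N.ι ≫ g₁) v')
      have h3 := hNA v'
      push_cast at h2
      omega
    -- the geometric point of `N`
    obtain ⟨vb₁', hvb₁'⟩ : ∃ vb₁' : Spec (.of Ω) ⟶ N.toScheme, vb₁' ≫ N.ι = vb₁ := by
      refine ⟨IsOpenImmersion.lift N.ι vb₁ ?_, IsOpenImmersion.lift_fac _ _ _⟩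
      rintro _ ⟨z, rfl⟩
      have hz : z = closedPoint Ω := Subsingleton.elim _ _
      rw [hz, Scheme.Opens.range_ι, hvb₁]
      exact hv₀N
    have hp1 : N.ι (vb₁' (closedPoint Ω)) = v₀ := by rw [← hvb₁, ← hvb₁']; rfl
    have hp2 : (N.ι ≫ g₁) (vb₁' (closedPoint Ω)) = yb (closedPoint Ω) := by
      change g₁ (N.ι (vb₁' (closedPoint Ω))) = _
      rw [hp1, hgv₀]
    have hdB : MoreMor.fibreIntegral fB (fun _ => 1) (vb₁' (closedPoint Ω)) = n := by
      have h1 := hsplit (vb₁' (closedPoint Ω))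
      rw [hp2, hn, hp1, hA1] at h1
      push_cast at h1
      omega
    have hopenB : ∀ b : ↥B'.toScheme, fB b = vb₁' (closedPoint Ω) → EGA43.IsUnivOpenAt fB b := by
      intro b hb
      rw [hfB] at hb ⊢
      exact isUnivOpenAt_piece f (N.ι ≫ g₁) B' _ hopen _ hp2 b hb
    obtain ⟨V₂, g₂, hg₂, v₂, hv₂, hfin₂⟩ := ih fB hfinB hmaxB Ω vb₁' hopenB hdB
    refine ⟨V₂, g₂ ≫ N.ι ≫ g₁, inferInstance, v₂, ?_, ?_⟩
    · change (N.ι ≫ g₁) (g₂ v₂) = _
      rw [hv₂, hp2]
    · rw [← MorphismProperty.cancel_left_of_respectsIso @IsFinite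
        (pullbackLeftPullbackSndIso f (N.ι ≫ g₁) g₂).hom, pullbackLeftPullbackSndIso_hom_snd]
      have hcQ := IsPullback.of_hasPullback (pullback.snd f (N.ι ≫ g₁)) g₂
      have hpbA := isPullback_restrict (IsPullback.id_horiz (pullback.snd f (N.ι ≫ g₁))) hcQ g₂
        (Category.comp_id g₂) (pullback.fst (pullback.snd f (N.ι ≫ g₁)) g₂)
        (Category.comp_id _) pullback.condition A'
      have hpbB := isPullback_restrict (IsPullback.id_horiz (pullback.snd f (N.ι ≫ g₁))) hcQ g₂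
        (Category.comp_id g₂) (pullback.fst (pullback.snd f (N.ι ≫ g₁)) g₂)
        (Category.comp_id _) pullback.condition B'
      refine isFinite_of_isCompl _ _ _
        (isCompl_preimage (pullback.fst (pullback.snd f (N.ι ≫ g₁)) g₂) A' B' hAB') ?_ ?_
      · exact MorphismProperty.of_isPullback hpbA hfinA'
      · rw [← hfB] at hpbB
        rw [← hpbB.isoPullback_hom_snd]
        infer_instance

/-- lower semicontinuity of the count at a point over which `f` is universally open -/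
theorem lowerSemicontinuousAt_count {X Y : Scheme.{u}} (f : X ⟶ Y) [LocallyQuasiFinite f]
    [LocallyOfFiniteType f] [IsSeparated f] [QuasiCompact f] (y : Y)
    (hopen : ∀ x : X, f x = y → EGA43.IsUnivOpenAt f x) :
    LowerSemicontinuousAt (MoreMor.fibreIntegral f (fun _ => 1)) y := by
  obtain ⟨Ω, _, _, yb, rfl⟩ := exists_geometric_point y
  have h0 := fibreIntegral_nonneg f (fun _ => 1) (fun _ => zero_le_one) (yb (closedPoint Ω))
  obtain ⟨n, hn⟩ := Int.eq_ofNat_of_zero_le h0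
  exact lsc1_aux n f (fun v => f.finite_preimage_singleton v) Ω yb hopen hn

set_option backward.isDefEq.respectTransparency.types false in
/-- if moreover the count is constant near `y`, then `f` is finite over a neighbourhood -/
theorem exists_isFinite_restrict {X Y : Scheme.{u}} (f : X ⟶ Y) [LocallyQuasiFinite f]
    [LocallyOfFiniteType f] [IsSeparated f] [QuasiCompact f] (y : Y)
    (hopen : ∀ x : X, f x = y → EGA43.IsUnivOpenAt f x)
    (hc : ∃ W ∈ nhds y, ∀ z ∈ W, MoreMor.fibreIntegral f (fun _ => 1) z =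
      MoreMor.fibreIntegral f (fun _ => 1) y) :
    ∃ U : Y.Opens, y ∈ U ∧ IsFinite (f ∣_ U) := by
  obtain ⟨Wset, hW, hWc⟩ := hc
  obtain ⟨W₀, hW₀sub, hW₀open, hyW₀⟩ := mem_nhds_iff.mp hW
  obtain ⟨W, hWdef⟩ : ∃ W : Y.Opens, (W : Set Y) = W₀ := ⟨⟨W₀, hW₀open⟩, rfl⟩
  have hyW : y ∈ W := by
    change y ∈ (W : Set Y); rw [hWdef]; exact hyW₀
  have hWc' : ∀ z : ↥W.toScheme, MoreMor.fibreIntegral f (fun _ => 1) (W.ι z) =
      MoreMor.fibreIntegral f (fun _ => 1) y := by
    intro z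
    apply hWc
    apply hW₀sub
    rw [← hWdef]
    exact z.2
  have hfin : ∀ v : Y, (f ⁻¹' {v}).Finite := fun v => f.finite_preimage_singleton v
  have hbc : ∀ z : ↥W.toScheme, MoreMor.fibreIntegral (pullback.snd f W.ι) (fun _ => 1) z =
      MoreMor.fibreIntegral f (fun _ => 1) (W.ι z) := fun z =>
    fibreIntegral_base_change f hfin _ _ _ (IsPullback.of_hasPullback f W.ι) (fun _ => 1) z
  have h0 := fibreIntegral_nonneg f (fun _ => 1) (fun _ => zero_le_one) y
  obtain ⟨n, hn⟩ := Int.eq_ofNat_of_zero_le h0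
  obtain ⟨yW, hyWdef⟩ : ∃ yW : ↥W.toScheme, W.ι yW = y := ⟨⟨y, hyW⟩, rfl⟩
  obtain ⟨Ω, _, _, yb, hyb⟩ := exists_geometric_point (V := W.toScheme) yW
  have hWy : W.ι (yb (closedPoint Ω)) = y := by rw [hyb]; exact hyWdef
  have hfinW : ∀ v, ((pullback.snd f W.ι) ⁻¹' {v}).Finite :=
    fun v => (pullback.snd f W.ι).finite_preimage_singleton v
  obtain ⟨V, g, hg, v, hv, hfinV⟩ := fin1_aux n (pullback.snd f W.ι) hfinW
    (fun z => by rw [hbc, hWc', hn]) Ω yb
    (fun x hx => isUnivOpenAt_snd f W.ι x (hopen _ (by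
      change (pullback.fst f W.ι ≫ f) x = y
      rw [pullback.condition]
      change W.ι (pullback.snd f W.ι x) = y
      rw [hx, hWy])))
    (by rw [hbc, hWy, hn])
  have hfin' : IsFinite (pullback.snd f (g ≫ W.ι)) := by
    rw [← MorphismProperty.cancel_left_of_respectsIso @IsFinite
      (pullbackLeftPullbackSndIso f W.ι g).hom, pullbackLeftPullbackSndIso_hom_snd]
    exact hfinV
  refine ⟨⟨Set.range (g ≫ W.ι), (g ≫ W.ι).isOpenMap.isOpen_range⟩, ?_,
    isFinite_restrict_range f (g ≫ W.ι) hfin'⟩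
  refine ⟨v, ?_⟩
  change W.ι (g v) = y
  rw [hv, hWy]

/-- statement-level form: lower semicontinuity of the geometric number of points -/
theorem nGeomConnComp_le_nhds {X Y : Scheme.{u}} (f : X ⟶ Y) [LocallyQuasiFinite f]
    [LocallyOfFiniteType f] [IsSeparated f] [QuasiCompact f] (y : Y)
    (hopen : ∀ x : X, f x = y → EGA43.IsUnivOpenAt f x) :
    ∃ V ∈ nhds y, ∀ z ∈ V, MoreMor.nGeomConnComp f y ≤ MoreMor.nGeomConnComp f z := by
  have hlsc := lowerSemicontinuousAt_count f y hopen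
  have h1 := hlsc (MoreMor.fibreIntegral f (fun _ => 1) y - 1) (by omega)
  refine ⟨_, h1, fun z hz => ?_⟩
  obtain ⟨n, hn1, hn2⟩ := GeomCount.nGeomConnComp_eq_fibreIntegral f y
  obtain ⟨m, hm1, hm2⟩ := GeomCount.nGeomConnComp_eq_fibreIntegral f z
  rw [hn1, hm1]
  have hz' : MoreMor.fibreIntegral f (fun _ => 1) y - 1 < MoreMor.fibreIntegral f (fun _ => 1) z :=
    hz
  rw [hn2, hm2] at hz'
  have : n ≤ m := by omega
  exact_mod_cast this

/-- statement-level form: properness over a neighbourhood -/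
theorem exists_isProper_restrict {X Y : Scheme.{u}} (f : X ⟶ Y) [LocallyQuasiFinite f]
    [LocallyOfFiniteType f] [IsSeparated f] [QuasiCompact f] (y : Y)
    (hopen : ∀ x : X, f x = y → EGA43.IsUnivOpenAt f x)
    (hc : ∃ V ∈ nhds y, ∀ z ∈ V, MoreMor.nGeomConnComp f z = MoreMor.nGeomConnComp f y) :
    ∃ U : Y.Opens, y ∈ U ∧ IsProper (f ∣_ U) := by
  obtain ⟨V, hV, hVc⟩ := hc
  obtain ⟨U, hyU, hU⟩ := exists_isFinite_restrict f y hopen ⟨V, hV, fun z hz => by
    obtain ⟨n, hn1, hn2⟩ := GeomCount.nGeomConnComp_eq_fibreIntegral f y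
    obtain ⟨m, hm1, hm2⟩ := GeomCount.nGeomConnComp_eq_fibreIntegral f z
    have h1 := hVc z hz
    rw [hn1, hm1] at h1
    have : m = n := by exact_mod_cast h1
    rw [hn2, hm2, this]⟩
  exact ⟨U, hyU, inferInstance⟩

end Groth.Agent.Lib.Helper70.CountLSC
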