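import Mathlib
import Groth.Prelude.Def_MoreMor
import Groth.Agent.Lib.Helper70.GeomCount
import Groth.Agent.Lib.Helper70.CountLSC

open AlgebraicGeometry CategoryTheory Limits IsLocalRing

universe u

namespace Groth.Agent.Lib.Helper70.GeomCount2

open Groth.Agent.Lib.Helper70.GeomPts Groth.Agent.Lib.Helper70.Weighting
  Groth.Agent.Lib.Helper70.WeightingLSC Groth.Agent.Lib.Helper70.WeightingBC
  Groth.Agent.Lib.Helper70.GeomCount

/-- the geometric fibre of a quasi-finite morphism is finite and discrete -/
theorem finite_discrete_geomFiber {X Y : Scheme.{u}} (f : X ⟶ Y) [LocallyQuasiFinite f]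
    [QuasiCompact f] (y : Y) :
    Finite ↥(MoreMor.geomFiber f y) ∧ DiscreteTopology ↥(MoreMor.geomFiber f y) := by
  have h1 : LocallyQuasiFinite (f.fiberToSpecResidueField y) :=
    inferInstanceAs (LocallyQuasiFinite (pullback.snd f (Y.fromSpecResidueField y)))
  have h1' : QuasiCompact (f.fiberToSpecResidueField y) :=
    inferInstanceAs (QuasiCompact (pullback.snd f (Y.fromSpecResidueField y)))
  let Ks := SeparableClosure (Y.residueField y)
  let j : Spec (CommRingCat.of Ks) ⟶ Spec (Y.residueField y) :=
    Spec.map (CommRingCat.ofHom (algebraMap (Y.residueField y) Ks))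
  let π : MoreMor.geomFiber f y ⟶ Spec (CommRingCat.of Ks) :=
    pullback.snd (f.fiberToSpecResidueField y) j
  have h2 : LocallyQuasiFinite π := inferInstanceAs (LocallyQuasiFinite (pullback.snd _ _))
  have h2' : QuasiCompact π := inferInstanceAs (QuasiCompact (pullback.snd _ _))
  have hsub : ∀ a b : Spec (CommRingCat.of Ks), a = b := fun a b =>
    Subsingleton.elim (α := PrimeSpectrum Ks) a b
  let s : Spec (CommRingCat.of Ks) := IsLocalRing.closedPoint Ks
  have h4 : π ⁻¹' {s} = Set.univ := by
    ext z
    simp only [Set.mem_preimage, Set.mem_univ, iff_true]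
    exact hsub _ _
  constructor
  · have h3 := π.finite_preimage_singleton s
    rw [h4] at h3
    exact Set.finite_univ_iff.mp h3
  · have h3 := π.isDiscrete_preimage_singleton s
    rw [h4] at h3
    exact isDiscrete_univ_iff.mp h3

/-- the number of points of the geometric fibre is the geometric number of connected components -/
theorem card_geomFiber_eq_nGeomConnComp {X Y : Scheme.{u}} (f : X ⟶ Y) [LocallyQuasiFinite f]
    [QuasiCompact f] (y : Y) :
    ENat.card ↥(MoreMor.geomFiber f y) = MoreMor.nGeomConnComp f y := by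
  obtain ⟨-, hdisc⟩ := finite_discrete_geomFiber f y
  unfold MoreMor.nGeomConnComp
  rw [Groth.Agent.Lib.Helper7.GeomFibreCount.card_connectedComponents_of_discrete]

/-- dictionary: the number of points of the geometric fibre is the fibre integral of one -/
theorem card_geomFiber_eq_fibreIntegral {X Y : Scheme.{u}} (f : X ⟶ Y) [LocallyQuasiFinite f]
    [QuasiCompact f] (y : Y) :
    ∃ n : ℕ, ENat.card ↥(MoreMor.geomFiber f y) = (n : ℕ∞) ∧
      MoreMor.fibreIntegral f (fun _ => 1) y = (n : ℤ) := by
  rw [card_geomFiber_eq_nGeomConnComp]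
  exact nGeomConnComp_eq_fibreIntegral f y

/-- lower semicontinuity of the number of points of the geometric fibres -/
theorem lowerSemicontinuous_card_geomFiber {X Y : Scheme.{u}} (f : X ⟶ Y) [LocallyQuasiFinite f]
    [LocallyOfFiniteType f] [IsSeparated f] [QuasiCompact f] [UniversallyOpen f] :
    LowerSemicontinuous (fun y : Y => ENat.card ↥(MoreMor.geomFiber f y)) := by
  intro y a ha
  obtain ⟨V, hV, hle⟩ := CountLSC.nGeomConnComp_le_nhds f y
    (fun x _ => UnivOpenAt.isUnivOpenAt_of_universallyOpen f x)
  filter_upwards [hV] with z hz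
  have := hle z hz
  rw [← card_geomFiber_eq_nGeomConnComp, ← card_geomFiber_eq_nGeomConnComp] at this
  exact lt_of_lt_of_le ha this

end Groth.Agent.Lib.Helper70.GeomCount2
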