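import Groth.Agent.Lib.Helper70.ConstrMod
import Groth.Prelude.Def_ARSys
import Groth.Agent.S4333
import Mathlib.CategoryTheory.Linear.FunctorCategory

/-!
# AR-adic systems under linear exact left adjoints (helper70)
-/

set_option autoImplicit false
universe w v v' u u'
open CategoryTheory CategoryTheory.Limits Opposite

namespace Groth.Agent.Lib.Helper70.ARPull

section General

variable {A : Type w} [CommRing A]
  {C : Type u} [Category.{v} C] [Abelian C] [Linear A C]
  {D : Type u'} [Category.{v'} D] [Abelian D] [Linear A D]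
  (L : C ⥤ D) (R : D ⥤ C) (adj : L ⊣ R)
  (hR : ∀ (a : A) {X Y : D} (φ : X ⟶ Y), R.map (a • φ) = a • R.map φ)

include adj hR in
theorem map_smul_left (a : A) {X Y : C} (φ : X ⟶ Y) : L.map (a • φ) = a • L.map φ := by
  apply (adj.homEquiv X (L.obj Y)).injective
  rw [adj.homEquiv_unit, adj.homEquiv_unit, hR, Linear.comp_smul]
  have h1 : adj.unit.app X ≫ R.map (L.map (a • φ)) = (a • φ) ≫ adj.unit.app Y :=
    (adj.unit.naturality (a • φ)).symm
  have h2 : adj.unit.app X ≫ R.map (L.map φ) = φ ≫ adj.unit.app Y :=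
    (adj.unit.naturality φ).symm
  rw [h1, h2, Linear.smul_comp]

include adj hR in
theorem killedBy_obj [L.PreservesZeroMorphisms] (J : Ideal A) {X : C} (h : ARSys.KilledBy J X) :
    ARSys.KilledBy J (L.obj X) := by
  intro a ha
  have := h a ha
  rw [← L.map_id, ← map_smul_left L R adj hR, this, L.map_zero]

include adj hR in
theorem isQuot_map [L.PreservesZeroMorphisms] (J : Ideal A) {X Q : C} (p : X ⟶ Q)
    (h : ARSys.IsQuot J p) : ARSys.IsQuot J (L.map p) := by
  refine ⟨killedBy_obj L R adj hR J h.1, fun Z φ hφ => ?_⟩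
  have hφ' : ARSys.HomKilledBy J (adj.homEquiv X Z φ) := by
    intro a ha
    have hR0 : R.map (0 : L.obj X ⟶ Z) = 0 := by
      have := hR 0 (0 : L.obj X ⟶ Z)
      rwa [zero_smul, zero_smul] at this
    rw [adj.homEquiv_unit, ← Linear.comp_smul, ← hR, hφ a ha, hR0, comp_zero]
  obtain ⟨ψ', hψ', huniq⟩ := h.2 (R.obj Z) _ hφ'
  refine ⟨(adj.homEquiv Q Z).symm ψ', ?_, fun ψ hψ => ?_⟩
  · apply (adj.homEquiv X Z).injective
    rw [adj.homEquiv_naturality_left, Equiv.apply_symm_apply]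
    exact hψ'
  · apply (adj.homEquiv Q Z).injective
    rw [Equiv.apply_symm_apply]
    apply huniq
    change p ≫ adj.homEquiv Q Z ψ = adj.homEquiv X Z φ
    rw [← adj.homEquiv_naturality_left, hψ]

include adj hR in
theorem termKilled_comp [L.PreservesZeroMorphisms] (J : Ideal A) (X : ARSys.PS C)
    (h : ARSys.TermKilled J X) : ARSys.TermKilled J (X ⋙ L) :=
  fun n => killedBy_obj L R adj hR _ (h n)

include adj hR in
theorem isAdic_comp [L.PreservesZeroMorphisms] (J : Ideal A) (X : ARSys.PS C)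
    (h : ARSys.IsAdic J X) : ARSys.IsAdic J (X ⋙ L) :=
  ⟨termKilled_comp L R adj hR J X h.1, fun n m hnm => isQuot_map L R adj hR _ _ (h.2 n m hnm)⟩

omit [Linear A C] [Linear A D] in
theorem isARNull_comp [L.PreservesZeroMorphisms] (X : ARSys.PS C) (h : ARSys.IsARNull X) :
    ARSys.IsARNull (X ⋙ L) := by
  obtain ⟨r, hr⟩ := h
  refine ⟨r, fun n => ?_⟩
  change L.map (ARSys.shiftMap X r n) = 0
  rw [hr, L.map_zero]

omit [Linear A C] [Linear A D] [Abelian C] in
theorem isARNull_of_iso {X Y : ARSys.PS D} (e : X ≅ Y) (h : ARSys.IsARNull X) :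
    ARSys.IsARNull Y := by
  obtain ⟨r, hr⟩ := h
  refine ⟨r, fun n => ?_⟩
  have h0 : ARSys.shiftMap X r n = 0 := hr n
  change Y.map _ = 0
  change X.map _ = 0 at h0
  rw [← cancel_epi (e.hom.app _), ← e.hom.naturality, h0, zero_comp, comp_zero]

omit [Linear A C] [Linear A D] in
theorem isARIso_whiskerRight [PreservesFiniteLimits L] [PreservesFiniteColimits L]
    [L.PreservesZeroMorphisms] {X Y : ARSys.PS C} (u : X ⟶ Y) (h : ARSys.IsARIso u) :
    ARSys.IsARIso (Functor.whiskerRight u L) := by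
  constructor
  · have e : kernel u ⋙ L ≅ kernel (Functor.whiskerRight u L) :=
      PreservesKernel.iso ((Functor.whiskeringRight ℕᵒᵖ C D).obj L) u
    exact isARNull_of_iso e (isARNull_comp L _ h.1)
  · have e : cokernel u ⋙ L ≅ cokernel (Functor.whiskerRight u L) :=
      PreservesCokernel.iso ((Functor.whiskeringRight ℕᵒᵖ C D).obj L) u
    exact isARNull_of_iso e (isARNull_comp L _ h.2)

end General

section Spec

open AlgebraicGeometry

universe u₀

variable (Λ : Type (u₀ + 1)) [CommRing Λ] {X X' : Scheme.{u₀}} (f : X' ⟶ X)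

theorem push_map_smul (a : Λ) {F G : EtModW.Mod Λ X'} (φ : F ⟶ G) :
    (EtModW.push Λ f).map (a • φ) = a • (EtModW.push Λ f).map φ := rfl

open Groth.Agent.Lib.Helper70.ConstrMod in
theorem isARAdic_pull (I : Ideal Λ) (F : ARSys.PS (EtModW.Mod Λ X))
    (hF : (ARSys.TermKilled I F ∧ ∃ (Y : ARSys.PS (EtModW.Mod Λ X)) (v : Y ⟶ F),
      ARSys.IsAdic I Y ∧ (∀ n : ℕ, EtModW.IsConstructible Λ (Y.obj (op n))) ∧ ARSys.IsARIso v)) :
    (ARSys.TermKilled I (F ⋙ EtModW.pull Λ f) ∧ ∃ (Y : ARSys.PS (EtModW.Mod Λ X'))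
      (v : Y ⟶ (F ⋙ EtModW.pull Λ f)), ARSys.IsAdic I Y ∧
      (∀ n : ℕ, EtModW.IsConstructible Λ (Y.obj (op n))) ∧ ARSys.IsARIso v) := by
  obtain ⟨hk, Y, v, hY, hYc, hv⟩ := hF
  let adj := pullPushAdjMod Λ f
  haveI : PreservesFiniteLimits (EtModW.pull Λ f) := Groth.Agent.S4333.pull_exact Λ f
  haveI : PreservesColimitsOfSize.{0, 0} (EtModW.pull Λ f) := adj.leftAdjoint_preservesColimits
  haveI : PreservesFiniteColimits (EtModW.pull Λ f) :=
    PreservesColimitsOfSize.preservesFiniteColimits _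
  haveI : (EtModW.pull Λ f).Additive := adj.left_adjoint_additive
  have hR := fun (a : Λ) {A B : EtModW.Mod Λ X'} (φ : A ⟶ B) => push_map_smul Λ f a φ
  refine ⟨termKilled_comp _ _ adj hR I F hk, Y ⋙ EtModW.pull Λ f,
    Functor.whiskerRight v (EtModW.pull Λ f), isAdic_comp _ _ adj hR I Y hY,
    fun n => isConstructible_pull Λ f _ (hYc n), isARIso_whiskerRight _ v hv⟩

end Spec

end Groth.Agent.Lib.Helper70.ARPull
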