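import Mathlib.RingTheory.PowerSeries.Substitution
import Mathlib.RingTheory.PowerSeries.Inverse
import Mathlib.Algebra.CharP.Defs
import Mathlib.Algebra.Ring.GeomSum
import Mathlib.Algebra.CharP.Basic
import Mathlib.Algebra.CharP.Algebra
import Mathlib.Algebra.CharP.Lemmas
import Mathlib.FieldTheory.IsAlgClosed.Basic

/-!
# Power series computations for Artin–Schreier covers

`u ∈ k[[t]]` with `u(0) = 1` and `u^n (1 + t^n) = 1`, `n` prime to the characteristic `p`:
`u = 1 + t^n q` with `q(0) = -1/n`, integer powers of `u`, and the substitution `t ↦ t u`. (helper70)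
-/

set_option autoImplicit false
universe u

namespace Groth.Agent.Lib.Helper70.ASCover

open PowerSeries

variable {k : Type u} [Field k]

/-- a power series over a field with nonzero constant coefficient is a unit -/
theorem isUnit_of_constantCoeff_ne_zero (f : PowerSeries k) (h : constantCoeff f ≠ 0) :
    IsUnit f :=
  (PowerSeries.isUnit_iff_constantCoeff).2 (isUnit_iff_ne_zero.2 h)

section base

variable (p : ℕ) [CharP k p] (n : ℕ) (hn : 0 < n) (hpn : ¬ p ∣ n)
  (u : PowerSeries k) (hu1 : constantCoeff u = 1) (hun : u ^ n * (1 + X ^ n) = 1)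

include hpn in
theorem natCast_ne_zero : (n : k) ≠ 0 := by
  intro h
  exact hpn ((CharP.cast_eq_zero_iff k p n).1 h)

include hpn hu1 hun in
/-- `u = 1 + X^n q` with `q(0) = -1/n` -/
theorem exists_eq_one_add : ∃ q : PowerSeries k, u = 1 + X ^ n * q ∧
    constantCoeff q = -(n : k)⁻¹ := by
  have hnk : (n : k) ≠ 0 := natCast_ne_zero p n hpn
  set G : PowerSeries k := ∑ i ∈ Finset.range n, u ^ i with hG
  have hGc : constantCoeff G = (n : k) := by
    rw [hG, map_sum]
    simp [hu1]
  have hGu : IsUnit G := isUnit_of_constantCoeff_ne_zero G (by rw [hGc]; exact hnk)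
  obtain ⟨Gi, hGi⟩ := hGu.exists_right_inv
  have hGic : constantCoeff Gi = (n : k)⁻¹ := by
    have := congrArg constantCoeff hGi
    rw [map_mul, hGc, map_one] at this
    exact eq_inv_of_mul_eq_one_right this
  have h1 : (u - 1) * G = u ^ n - 1 := mul_geom_sum u n
  have h2 : u ^ n - 1 = -(X ^ n * u ^ n) := by
    have : u ^ n + u ^ n * X ^ n = 1 := by rw [← hun]; ring
    rw [← this]; ring
  refine ⟨-(u ^ n * Gi), ?_, ?_⟩
  · have h3 : u - 1 = (u - 1) * (G * Gi) := by rw [hGi, mul_one]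
    have h4 : u - 1 = -(X ^ n * u ^ n) * Gi := by rw [h3, ← mul_assoc, h1, h2]
    calc u = 1 + (u - 1) := by ring
      _ = 1 + -(X ^ n * u ^ n) * Gi := by rw [← h4]
      _ = 1 + X ^ n * -(u ^ n * Gi) := by ring
  · rw [map_neg, map_mul, map_pow, hu1, one_pow, one_mul, hGic]

end base

section zpow

variable (n : ℕ) (hn : 0 < n) (u q : PowerSeries k) (hq : u = 1 + X ^ n * q)
  (U : (PowerSeries k)ˣ) (hU : (U : PowerSeries k) = u)

include hn in
theorem constantCoeff_X_pow_mul (f : PowerSeries k) : constantCoeff (X ^ n * f) = 0 := by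
  rw [map_mul, map_pow, constantCoeff_X, zero_pow hn.ne', zero_mul]

include hn hq hU in
theorem exists_inv_eq_one_add : ∃ q' : PowerSeries k,
    ((U⁻¹ : (PowerSeries k)ˣ) : PowerSeries k) = 1 + X ^ n * q' ∧
      constantCoeff q' = -constantCoeff q := by
  have h1 : (U : PowerSeries k) * ((U⁻¹ : (PowerSeries k)ˣ) : PowerSeries k) = 1 := by
    rw [← Units.val_mul, mul_inv_cancel, Units.val_one]
  have hc : constantCoeff ((U⁻¹ : (PowerSeries k)ˣ) : PowerSeries k) = 1 := by
    have := congrArg constantCoeff h1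
    rw [map_mul, hU, hq, map_add, map_one, constantCoeff_X_pow_mul n hn, add_zero, one_mul] at this
    exact this
  refine ⟨-(q * ((U⁻¹ : (PowerSeries k)ˣ) : PowerSeries k)), ?_, ?_⟩
  · rw [hU, hq] at h1
    calc ((U⁻¹ : (PowerSeries k)ˣ) : PowerSeries k)
        = (1 + X ^ n * q) * ((U⁻¹ : (PowerSeries k)ˣ) : PowerSeries k)
          - X ^ n * q * ((U⁻¹ : (PowerSeries k)ˣ) : PowerSeries k) := by ring
      _ = 1 + X ^ n * -(q * ((U⁻¹ : (PowerSeries k)ˣ) : PowerSeries k)) := by rw [h1]; ring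
  · rw [map_neg, map_mul, hc, mul_one]

include hn hq hU in
/-- integer powers of `u`: `u^s = 1 + X^n q_s` with `q_s(0) = s q(0)` -/
theorem exists_zpow_eq_one_add (s : ℤ) : ∃ qs : PowerSeries k,
    ((U ^ s : (PowerSeries k)ˣ) : PowerSeries k) = 1 + X ^ n * qs ∧
      constantCoeff qs = (s : k) * constantCoeff q := by
  induction s using Int.induction_on with
  | zero => exact ⟨0, by simp, by simp⟩
  | succ i ih =>
    obtain ⟨qs, h1, h2⟩ := ih
    refine ⟨qs + q + X ^ n * (qs * q), ?_, ?_⟩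
    · rw [zpow_add_one, Units.val_mul, h1, hU, hq]; ring
    · rw [map_add, map_add, constantCoeff_X_pow_mul n hn, h2]
      push_cast; ring
  | pred i ih =>
    obtain ⟨qs, h1, h2⟩ := ih
    obtain ⟨q', h3, h4⟩ := exists_inv_eq_one_add n hn u q hq U hU
    refine ⟨qs + q' + X ^ n * (qs * q'), ?_, ?_⟩
    · rw [zpow_sub_one, Units.val_mul, h1, h3]; ring
    · rw [map_add, map_add, constantCoeff_X_pow_mul n hn, h2, h4]
      push_cast; ring

end zpow

section subst

variable (n : ℕ) (hn : 0 < n) (u q : PowerSeries k) (hq : u = 1 + X ^ n * q)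

theorem hasSubst_X_mul (u : PowerSeries k) : HasSubst (X * u : PowerSeries k) :=
  HasSubst.of_constantCoeff_zero' (by rw [map_mul, constantCoeff_X, zero_mul])

include hn hq in
/-- natural powers of `u`: `u^d = 1 + X^n q_d` with `q_d(0) = d q(0)` -/
theorem exists_pow_eq_one_add (d : ℕ) : ∃ qd : PowerSeries k,
    u ^ d = 1 + X ^ n * qd ∧ constantCoeff qd = (d : k) * constantCoeff q := by
  induction d with
  | zero => exact ⟨0, by simp, by simp⟩
  | succ i ih =>
    obtain ⟨qs, h1, h2⟩ := ih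
    refine ⟨qs + q + X ^ n * (qs * q), ?_, ?_⟩
    · rw [pow_succ, h1]
      calc (1 + X ^ n * qs) * u = (1 + X ^ n * qs) * (1 + X ^ n * q) := by rw [← hq]
        _ = 1 + X ^ n * (qs + q + X ^ n * (qs * q)) := by ring
    · rw [map_add, map_add, constantCoeff_X_pow_mul n hn, h2]
      push_cast; ring

include hn hq in
/-- low coefficients of powers of `u` -/
theorem coeff_pow_of_le (d i : ℕ) (hi : i ≤ n) :
    coeff i (u ^ d) = if i = 0 then 1 else if i = n then (d : k) * constantCoeff q else 0 := by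
  obtain ⟨qd, h1, h2⟩ := exists_pow_eq_one_add n hn u q hq d
  rw [h1, map_add, coeff_one, coeff_X_pow_mul']
  by_cases h0 : i = 0
  · subst h0
    have : ¬ n ≤ 0 := by omega
    simp [this]
  · by_cases hin : i = n
    · subst hin
      simp [h0, h2]
    · have : ¬ n ≤ i := by omega
      simp [h0, hin, this]

include hn hq in
/-- the substitution `X ↦ X u` does not change the coefficients of index `≤ n` -/
theorem coeff_subst_of_le (f : PowerSeries k) (j : ℕ) (hj : j ≤ n) :
    coeff j (f.subst (X * u)) = coeff j f := by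
  rw [coeff_subst' (hasSubst_X_mul u)]
  rw [finsum_eq_single _ j]
  · rw [mul_pow, coeff_X_pow_mul', if_pos le_rfl, Nat.sub_self,
      coeff_pow_of_le n hn u q hq j 0 (Nat.zero_le _), if_pos rfl, smul_eq_mul, mul_one]
  · intro d hd
    rw [mul_pow, coeff_X_pow_mul']
    by_cases hdj : d ≤ j
    · rw [if_pos hdj, coeff_pow_of_le n hn u q hq d (j - d) (by omega)]
      have h0 : j - d ≠ 0 := by omega
      rw [if_neg h0]
      by_cases hjn : j - d = n
      · have : d = 0 := by omega
        subst this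
        simp
      · rw [if_neg hjn, smul_zero]
    · rw [if_neg hdj, smul_zero]

end subst

section key

variable (p : ℕ) [CharP k p] (n : ℕ) (hn : 0 < n) (hpn : ¬ p ∣ n)
  (u q : PowerSeries k) (hq : u = 1 + X ^ n * q) (hq0 : constantCoeff q = -(n : k)⁻¹)
  (U : (PowerSeries k)ˣ) (hU : (U : PowerSeries k) = u)

include hn hpn hq hq0 hU in
/-- a nonzero series of order `0` fixed by `ε ↦ u^s ε(X u)` forces `p ∣ s` -/
theorem dvd_of_zpow_mul_subst_eq (s : ℤ) (ε : PowerSeries k) (hε : constantCoeff ε ≠ 0)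
    (heq : ((U ^ s : (PowerSeries k)ˣ) : PowerSeries k) * ε.subst (X * u) = ε) :
    (p : ℤ) ∣ s := by
  obtain ⟨qs, h1, h2⟩ := exists_zpow_eq_one_add n hn u q hq U hU s
  have hc := congrArg (coeff n) heq
  rw [h1, add_mul, one_mul, map_add, coeff_subst_of_le n hn u q hq ε n le_rfl, mul_assoc,
    coeff_X_pow_mul', if_pos le_rfl, Nat.sub_self, coeff_zero_eq_constantCoeff_apply, map_mul,
    ← coeff_zero_eq_constantCoeff_apply (ε.subst (X * u)),
    coeff_subst_of_le n hn u q hq ε 0 (Nat.zero_le _), coeff_zero_eq_constantCoeff_apply, h2,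
    hq0] at hc
  have hnk : (n : k) ≠ 0 := natCast_ne_zero p n hpn
  have h3 : (s : k) * -(n : k)⁻¹ * constantCoeff ε = 0 := by
    have := add_eq_left.1 hc
    exact this
  have h4 : (s : k) = 0 := by
    rcases mul_eq_zero.1 h3 with h | h
    · rcases mul_eq_zero.1 h with h | h
      · exact h
      · exact absurd (neg_eq_zero.1 h) (inv_ne_zero hnk)
    · exact absurd h hε
  exact (CharP.intCast_eq_zero_iff k p s).1 h4

end key

section invariant

theorem eq_of_pow_eq_of_constantCoeff_eq_one (n : ℕ) (hnk : (n : k) ≠ 0) (A B : PowerSeries k)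
    (hA : constantCoeff A = 1) (hB : constantCoeff B = 1) (h : A ^ n = B ^ n) : A = B := by
  have h1 := geom_sum₂_mul A B n
  rw [h, sub_self] at h1
  rcases mul_eq_zero.1 h1 with h2 | h2
  · exfalso
    have h3 := congrArg constantCoeff h2
    rw [map_sum] at h3
    simp only [map_mul, map_pow, hA, hB, one_pow, mul_one, Finset.sum_const, Finset.card_range,
      map_zero, nsmul_eq_mul] at h3
    exact hnk h3
  · exact sub_eq_zero.1 h2

/-- the frobenius-type identity behind the invariance of the norm of `t` -/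
theorem pow_mul_one_sub_eq (p : ℕ) [Fact p.Prime] [CharP k p] (v T : PowerSeries k)
    (hv : v * (1 + T) = 1) :
    v ^ p * (1 - T ^ (p - 1)) = 1 - T ^ (p - 1) * v ^ (p - 1) := by
  have : CharP (PowerSeries k) p := charP_of_injective_ringHom (PowerSeries.C_injective) p
  obtain ⟨r, hr⟩ : ∃ r, p = r + 1 := ⟨p - 1, (Nat.sub_add_cancel (Fact.out : p.Prime).one_le).symm⟩
  have hsp : (1 + T) ^ p = 1 + T ^ p := by rw [add_pow_char, one_pow]
  have hs0 : (1 + T) ^ p ≠ 0 := by
    intro h0
    have : (v * (1 + T)) ^ p = 0 := by rw [mul_pow, h0, mul_zero]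
    rw [hv, one_pow] at this
    exact one_ne_zero this
  apply mul_right_cancel₀ hs0
  have hr' : p - 1 = r := by omega
  rw [hr']
  subst hr
  generalize hs : 1 + T = s at *
  have e1 : v ^ (r + 1) * s ^ (r + 1) = 1 := by rw [← mul_pow, hv, one_pow]
  have e2 : v ^ r * s ^ r = 1 := by rw [← mul_pow, hv, one_pow]
  have hT : T = s - 1 := by rw [← hs]; ring
  calc v ^ (r + 1) * (1 - T ^ r) * s ^ (r + 1)
      = (v ^ (r + 1) * s ^ (r + 1)) * (1 - T ^ r) := by ring
    _ = 1 - T ^ r := by rw [e1, one_mul]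
    _ = s ^ (r + 1) - T ^ r * s := by rw [hsp, ← hs]; ring
    _ = s ^ (r + 1) - T ^ r * (v ^ r * s ^ r) * s := by rw [e2, mul_one]
    _ = (1 - T ^ r * v ^ r) * s ^ (r + 1) := by ring

/-- a one-unit `W ≡ 1 mod X^(n(p-1))` with `u^p W(X u) = W`: `X^p W` is the norm of `X` -/
theorem exists_invariant_unit [IsAlgClosed k] (p : ℕ) [Fact p.Prime] [CharP k p] (n : ℕ)
    (hn : 0 < n) (hpn : ¬ p ∣ n) (u : PowerSeries k) (hu1 : constantCoeff u = 1)
    (hun : u ^ n * (1 + X ^ n) = 1) :
    ∃ W w : PowerSeries k, W = 1 + X ^ (n * (p - 1)) * w ∧ u ^ p * W.subst (X * u) = W := by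
  have hp1 : 0 < p - 1 := by have := (Fact.out : p.Prime).two_le; omega
  have he : 0 < n * (p - 1) := Nat.mul_pos hn hp1
  have hnk : (n : k) ≠ 0 := natCast_ne_zero p n hpn
  obtain ⟨q, hq, hq0⟩ := exists_eq_one_add p n hpn u hu1 hun
  obtain ⟨ε, hε⟩ := IsAlgClosed.exists_pow_nat_eq (-1 : k) hn
  set b : PowerSeries k := C ε * X ^ (p - 1) with hb
  have hbsub : HasSubst b := HasSubst.of_constantCoeff_zero' (by
    rw [hb, map_mul, map_pow, constantCoeff_X, zero_pow hp1.ne', mul_zero])
  have hbn : b ^ n = -X ^ (n * (p - 1)) := by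
    rw [hb, mul_pow, ← map_pow, hε, ← pow_mul, map_neg, map_one, mul_comm (p - 1) n]; ring
  set W : PowerSeries k := u.subst b with hW
  have hsub := hasSubst_X_mul u
  -- W^n (1 - X^e) = 1
  have hWn : W ^ n * (1 - X ^ (n * (p - 1))) = 1 := by
    have := congrArg (fun f => f.subst b) hun
    beta_reduce at this
    rw [subst_mul hbsub, subst_pow hbsub, subst_add hbsub, subst_pow hbsub, subst_X hbsub,
      ← coe_substAlgHom hbsub, map_one, coe_substAlgHom hbsub, hbn] at this
    rw [hW, sub_eq_add_neg]; exact this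
  -- shape of W
  have hWshape : W = 1 + X ^ (n * (p - 1)) * -(q.subst b) := by
    rw [hW]
    nth_rewrite 1 [hq]
    rw [subst_add hbsub, subst_mul hbsub, subst_pow hbsub, subst_X hbsub,
      ← coe_substAlgHom hbsub, map_one, coe_substAlgHom hbsub, hbn]; ring
  have hWc : constantCoeff W = 1 := by
    rw [hWshape, map_add, map_one, constantCoeff_X_pow_mul _ he, add_zero]
  refine ⟨W, -(q.subst b), hWshape, ?_⟩
  -- apply σ
  have hσWn : (W.subst (X * u)) ^ n * (1 - (X * u) ^ (n * (p - 1))) = 1 := by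
    have := congrArg (fun f => f.subst (X * u)) hWn
    beta_reduce at this
    rw [subst_mul hsub, subst_pow hsub, subst_sub hsub, subst_pow hsub, subst_X hsub,
      ← coe_substAlgHom hsub, map_one, coe_substAlgHom hsub] at this
    exact this
  have hclaim : (u ^ p) ^ n * (1 - X ^ (n * (p - 1))) = 1 - (X * u) ^ (n * (p - 1)) := by
    have := pow_mul_one_sub_eq p (u ^ n) (X ^ n) hun
    rw [← pow_mul, ← pow_mul, ← pow_mul, mul_comm n p] at this
    rw [← pow_mul, this, mul_pow]
  have h1 : (u ^ p * W.subst (X * u)) ^ n * (1 - X ^ (n * (p - 1))) =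
      W ^ n * (1 - X ^ (n * (p - 1))) := by
    rw [hWn, mul_pow, mul_right_comm, hclaim, mul_comm, hσWn]
  have hne : (1 - X ^ (n * (p - 1)) : PowerSeries k) ≠ 0 := by
    intro h0
    have := congrArg constantCoeff h0
    rw [map_sub, map_one, map_pow, constantCoeff_X, zero_pow he.ne', sub_zero, map_zero] at this
    exact one_ne_zero this
  have h2 := mul_right_cancel₀ hne h1
  apply eq_of_pow_eq_of_constantCoeff_eq_one n hnk _ _ _ hWc h2
  rw [map_mul, map_pow, hu1, one_pow, one_mul, ← coeff_zero_eq_constantCoeff_apply,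
    coeff_subst_of_le n hn u q hq W 0 (Nat.zero_le _), coeff_zero_eq_constantCoeff_apply, hWc]

/-- for `p ∣ s` there is a one-unit `V ≡ 1 mod X^(n(p-1))` with `u^s V(X u) = V` -/
theorem exists_fixed_one_unit [IsAlgClosed k] (p : ℕ) [Fact p.Prime] [CharP k p] (n : ℕ)
    (hn : 0 < n) (hpn : ¬ p ∣ n) (u : PowerSeries k) (hu1 : constantCoeff u = 1)
    (hun : u ^ n * (1 + X ^ n) = 1) (U : (PowerSeries k)ˣ) (hU : (U : PowerSeries k) = u)
    (s j : ℤ) (hj : s = (p : ℤ) * j) :
    ∃ V Q : PowerSeries k, V = 1 + X ^ (n * (p - 1)) * Q ∧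
      ((U ^ s : (PowerSeries k)ˣ) : PowerSeries k) * V.subst (X * u) = V := by
  have hp1 : 0 < p - 1 := by have := (Fact.out : p.Prime).two_le; omega
  have hepos : 0 < n * (p - 1) := Nat.mul_pos hn hp1
  have hsub := hasSubst_X_mul u
  obtain ⟨W, w, hWshape, hE⟩ := exists_invariant_unit p n hn hpn u hu1 hun
  have hWc : constantCoeff W = 1 := by
    rw [hWshape, map_add, map_one, constantCoeff_X_pow_mul _ hepos, add_zero]
  have hWunit : IsUnit W := isUnit_of_constantCoeff_ne_zero W (by rw [hWc]; exact one_ne_zero)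
  obtain ⟨Wu, hWu⟩ := hWunit
  obtain ⟨Q, hVQ, -⟩ := exists_zpow_eq_one_add (n * (p - 1)) hepos W w hWshape Wu hWu j
  refine ⟨((Wu ^ j : (PowerSeries k)ˣ) : PowerSeries k), Q, hVQ, ?_⟩
  let σ : PowerSeries k →* PowerSeries k := (substAlgHom hsub : PowerSeries k →ₐ[k] PowerSeries k)
  have hσ : ∀ f : PowerSeries k, σ f = f.subst (X * u) := fun f => by
    show (substAlgHom hsub) f = _
    rw [coe_substAlgHom hsub]
  have hσWu : Units.map σ Wu = U ^ (-(p : ℤ)) * Wu := by
    apply Units.ext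
    rw [Units.val_mul, Units.coe_map]
    show σ (Wu : PowerSeries k) = _
    rw [hσ, hWu]
    have h1 : ((U ^ (p : ℤ) : (PowerSeries k)ˣ) : PowerSeries k) = u ^ p := by
      rw [zpow_natCast, Units.val_pow_eq_pow_val, hU]
    have h2 : ((U ^ (-(p : ℤ)) : (PowerSeries k)ˣ) : PowerSeries k) * u ^ p = 1 := by
      rw [← h1, ← Units.val_mul, ← zpow_add, neg_add_cancel, zpow_zero, Units.val_one]
    calc W.subst (X * u) = (((U ^ (-(p : ℤ)) : (PowerSeries k)ˣ) : PowerSeries k) * u ^ p) *
          W.subst (X * u) := by rw [h2, one_mul]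
      _ = ((U ^ (-(p : ℤ)) : (PowerSeries k)ˣ) : PowerSeries k) * (u ^ p * W.subst (X * u)) := by
          ring
      _ = ((U ^ (-(p : ℤ)) : (PowerSeries k)ˣ) : PowerSeries k) * W := by rw [hE]
  have h1 : (((Wu ^ j : (PowerSeries k)ˣ) : PowerSeries k)).subst (X * u) =
      ((Units.map σ (Wu ^ j) : (PowerSeries k)ˣ) : PowerSeries k) := by
    rw [Units.coe_map]
    show _ = σ _
    rw [hσ]
  rw [h1, map_zpow, hσWu, mul_zpow, ← zpow_mul, ← Units.val_mul, ← mul_assoc, ← zpow_add, hj]
  have : (p : ℤ) * j + -(p : ℤ) * j = 0 := by ring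
  rw [this, zpow_zero, one_mul]

end invariant

end Groth.Agent.Lib.Helper70.ASCover
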