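import Mathlib
import Groth.Prelude.Def_BigSite

set_option autoImplicit false
open CategoryTheory CategoryTheory.Limits Opposite
universe u

namespace Groth.Agent.Lib.Helper70.AlmostCocont

variable {C D : Type (u + 1)} [Category.{u} C] [Category.{u} D]
    (J : GrothendieckTopology C) (K : GrothendieckTopology D) (F : C ⥤ D) [F.IsContinuous J K]

/-- sheafification commutes with `u^p` for almost cocontinuous `u` (large sites) -/
theorem isIso_comparison
    (hu : BigSite.IsAlmostCocontinuous F J K) (G : Dᵒᵖ ⥤ Type (u + 1))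
    (hG : ∀ V : D, (⊥ : Sieve V) ∈ K V → Nonempty (Unique (G.obj (op V)))) :
    IsIso (((sheafificationAdjunction J (Type (u + 1))).homEquiv (F.op ⋙ G)
      ((F.sheafPushforwardContinuous (Type (u + 1)) J K).obj
        ((presheafToSheaf K (Type (u + 1))).obj G))).symm
        (Functor.whiskerLeft F.op (toSheafify K G))) := by
  let φ : F.op ⋙ G ⟶ F.op ⋙ sheafify K G := Functor.whiskerLeft F.op (toSheafify K G)
  have locInj : Presheaf.IsLocallyInjective J φ := ⟨fun {X} x y h => by
    have hR : Presheaf.equalizerSieve (F := G) (X := F.op.obj X) x y ∈ K (F.obj X.unop) :=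
      Presheaf.equalizerSieve_mem K (toSheafify K G) (X := F.op.obj X) x y h
    obtain ⟨R', hR', hR''⟩ := hu X.unop _ hR
    refine J.superset_covering ?_ hR'
    intro V g hg
    rcases hR'' g hg with hempty | hRg
    · obtain ⟨hU⟩ := hG (F.obj V) hempty
      exact hU.instSubsingleton.elim _ _
    · exact hRg⟩
  have locSurj : Presheaf.IsLocallySurjective J φ := ⟨fun {U} s => by
    have hR : Presheaf.imageSieve (toSheafify K G) (U := F.obj U) s ∈ K (F.obj U) :=
      Presheaf.imageSieve_mem K (toSheafify K G) (U := op (F.obj U)) s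
    obtain ⟨R', hR', hR''⟩ := hu U _ hR
    refine J.superset_covering ?_ hR'
    intro V g hg
    rcases hR'' g hg with hempty | hRg
    · obtain ⟨hU⟩ := hG (F.obj V) hempty
      refine ⟨hU.default, ?_⟩
      exact (((isSheaf_iff_isSheaf_of_type _ _).1
        ((presheafToSheaf K (Type (u + 1))).obj G).2).isSeparated _ hempty).ext
          (fun Y f hf => hf.elim)
    · exact hRg⟩
  have hiso : IsIso ((presheafToSheaf J (Type (u + 1))).map φ) := by
    rw [← GrothendieckTopology.W_iff, GrothendieckTopology.W_iff_isLocallyBijective]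
    exact ⟨locInj, locSurj⟩
  let F' : Sheaf J (Type (u + 1)) :=
    (F.sheafPushforwardContinuous (Type (u + 1)) J K).obj
      ((presheafToSheaf K (Type (u + 1))).obj G)
  let φ' : F.op ⋙ G ⟶ (sheafToPresheaf J (Type (u + 1))).obj F' := φ
  have hiso' : IsIso ((presheafToSheaf J (Type (u + 1))).map φ') := hiso
  change IsIso (((sheafificationAdjunction J (Type (u + 1))).homEquiv (F.op ⋙ G) F').symm φ')
  rw [Adjunction.homEquiv_counit]
  exact IsIso.comp_isIso

/-- A connected colimit of singletons is a singleton. -/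
lemma unique_colimit_of_unique {I : Type} [SmallCategory I] [IsConnected I] (T : I ⥤ Type (u + 1))
    (hT : ∀ i, Nonempty (Unique (T.obj i))) : Nonempty (Unique (colimit T)) := by
  have hU : ∀ i, Unique (T.obj i) := fun i => (hT i).some
  obtain ⟨x₀, hx₀⟩ := constant_of_preserves_morphisms'
    (fun i => colimit.ι T i (hU i).default) (by
      intro i i' g
      have e1 : colimit.ι T i' (T.map g (hU i).default) = colimit.ι T i (hU i).default :=
        ConcreteCategory.congr_hom (colimit.w T g) (hU i).default
      rw [← e1, (hU i').uniq (T.map g (hU i).default)])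
  refine ⟨⟨⟨x₀⟩, fun x => ?_⟩⟩
  obtain ⟨i, a, rfl⟩ := Types.jointly_surjective' x
  change colimit.ι T i a = x₀
  rw [← hx₀ i, (hU i).uniq a]

/-- For a continuous and almost cocontinuous functor `u` between (large) sites, the functor `u^s` on
sheaves of sets preserves finite connected colimits. -/
theorem preservesColimitsOfShape_of_isConnected
    (hu : BigSite.IsAlmostCocontinuous F J K) (I : Type) [SmallCategory I] [FinCategory I]
    [IsConnected I] :
    PreservesColimitsOfShape I (F.sheafPushforwardContinuous (Type (u + 1)) J K) := by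
  refine ⟨fun {Fd} => ?_⟩
  let E : Cocone (Fd ⋙ sheafToPresheaf K (Type (u + 1))) := colimit.cocone _
  have hE : IsColimit E := colimit.isColimit _
  let c : Cocone Fd := Sheaf.sheafifyCocone E
  have hc : IsColimit c := Sheaf.isColimitSheafifyCocone E hE
  apply preservesColimit_of_preserves_colimit_cocone hc
  let P := (Functor.whiskeringLeft Cᵒᵖ Dᵒᵖ (Type (u + 1))).obj F.op
  let E' : Cocone ((Fd ⋙ F.sheafPushforwardContinuous (Type (u + 1)) J K) ⋙
      sheafToPresheaf J (Type (u + 1))) := P.mapCocone E
  have hE' : IsColimit E' := isColimitOfPreserves P hE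
  let c' : Cocone (Fd ⋙ F.sheafPushforwardContinuous (Type (u + 1)) J K) :=
    Sheaf.sheafifyCocone E'
  have hc' : IsColimit c' := Sheaf.isColimitSheafifyCocone E' hE'
  have hQ : ∀ V : D, (⊥ : Sieve V) ∈ K V → Nonempty (Unique (E.pt.obj (op V))) := by
    intro V hV
    have h1 : Nonempty (Unique (colimit ((Fd ⋙ sheafToPresheaf K (Type (u + 1))) ⋙
        (evaluation Dᵒᵖ (Type (u + 1))).obj (op V)))) :=
      unique_colimit_of_unique _ (fun i =>
        ⟨Types.isTerminalEquivUnique _ (Sheaf.isTerminalOfBotCover (Fd.obj i) V hV)⟩)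
    obtain ⟨h1⟩ := h1
    exact ⟨(colimitObjIsoColimitCompEvaluation (Fd ⋙ sheafToPresheaf K (Type (u + 1)))
      (op V)).toEquiv.unique⟩
  have hθ := isIso_comparison J K F hu E.pt hQ
  let θ : c'.pt ⟶ ((F.sheafPushforwardContinuous (Type (u + 1)) J K).mapCocone c).pt :=
    ((sheafificationAdjunction J (Type (u + 1))).homEquiv (F.op ⋙ E.pt)
      ((F.sheafPushforwardContinuous (Type (u + 1)) J K).obj
        ((presheafToSheaf K (Type (u + 1))).obj E.pt))).symm
      (Functor.whiskerLeft F.op (toSheafify K E.pt))
  have hθ' : IsIso θ := hθ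
  refine IsColimit.ofIsoColimit hc' (Cocone.ext (asIso θ) (fun i => ?_))
  apply Sheaf.hom_ext
  have e1 : (c'.ι.app i).hom = E'.ι.app i ≫ toSheafify J E'.pt :=
    Sheaf.sheafifyCocone_ι_app_val E' i
  have e2 : (c.ι.app i).hom = E.ι.app i ≫ toSheafify K E.pt :=
    Sheaf.sheafifyCocone_ι_app_val E i
  let θh : sheafify J (F.op ⋙ E.pt) ⟶ F.op ⋙ sheafify K E.pt := θ.hom
  have e3 : toSheafify J (F.op ⋙ E.pt) ≫ θh =
      Functor.whiskerLeft F.op (toSheafify K E.pt) := by
    have h1 : ((sheafificationAdjunction J (Type (u + 1))).homEquiv (F.op ⋙ E.pt)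
      ((F.sheafPushforwardContinuous (Type (u + 1)) J K).obj
        ((presheafToSheaf K (Type (u + 1))).obj E.pt))) θ =
        Functor.whiskerLeft F.op (toSheafify K E.pt) := Equiv.apply_symm_apply _ _
    rw [Adjunction.homEquiv_unit] at h1
    exact h1
  have main : (Functor.whiskerLeft F.op (E.ι.app i) ≫ toSheafify J (F.op ⋙ E.pt)) ≫ θh =
      Functor.whiskerLeft F.op (E.ι.app i ≫ toSheafify K E.pt) := by
    rw [Category.assoc, e3]
    rfl
  change (c'.ι.app i).hom ≫ θ.hom = Functor.whiskerLeft F.op (c.ι.app i).hom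
  rw [e1, e2]
  exact main

/-- For a continuous and almost cocontinuous functor between (large) sites the direct image of
abelian sheaves preserves epimorphisms. -/
theorem preservesEpimorphisms_ab (hu : BigSite.IsAlmostCocontinuous F J K) :
    (F.sheafPushforwardContinuous AddCommGrpCat.{u + 1} J K).PreservesEpimorphisms := by
  constructor
  intro G H φ hφ
  rw [← Sheaf.isLocallySurjective_iff_epi'] at hφ ⊢
  refine ⟨fun {U} s => ?_⟩
  have hR : Presheaf.imageSieve φ.hom (U := F.obj U) s ∈ K (F.obj U) :=
    Presheaf.imageSieve_mem K φ.hom (U := op (F.obj U)) s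
  obtain ⟨R', hR', hR''⟩ := hu U _ hR
  refine J.superset_covering ?_ hR'
  intro V g hg
  rcases hR'' g hg with hempty | hRg
  · refine ⟨0, ?_⟩
    have hsep := ((isSheaf_iff_isSheaf_of_type _ _).1
      ((sheafCompose K (forget AddCommGrpCat.{u + 1})).obj H).2).isSeparated _ hempty
    exact hsep.ext (fun Y f hf => hf.elim)
  · exact hRg

/-- exactness of the direct image of abelian sheaves along a continuous, almost cocontinuous
functor which is a right adjoint -/
theorem preservesFiniteColimits_ab (hu : BigSite.IsAlmostCocontinuous F J K)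
    [(F.sheafPushforwardContinuous AddCommGrpCat.{u + 1} J K).Additive]
    [(F.sheafPushforwardContinuous AddCommGrpCat.{u + 1} J K).IsRightAdjoint] :
    PreservesFiniteColimits (F.sheafPushforwardContinuous AddCommGrpCat.{u + 1} J K) := by
  have hE := preservesEpimorphisms_ab J K F hu
  have hL : PreservesFiniteLimits (F.sheafPushforwardContinuous AddCommGrpCat.{u + 1} J K) :=
    inferInstance
  have h := (Functor.preservesFiniteColimits_tfae
    (F.sheafPushforwardContinuous AddCommGrpCat.{u + 1} J K)).out 0 3
  have h' := (Functor.preservesFiniteLimits_tfae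
    (F.sheafPushforwardContinuous AddCommGrpCat.{u + 1} J K)).out 3 0
  apply h.1
  intro S hS
  refine ⟨(h'.1 hL S hS).1, ?_⟩
  have := hS.epi_g
  infer_instance

end Groth.Agent.Lib.Helper70.AlmostCocont
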