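import Mathlib
import Groth.Prelude.Def_BigSite
import Groth.Agent.Lib.Helper70.EtaleLift2
import Groth.Agent.S0412

set_option autoImplicit false
open CategoryTheory CategoryTheory.Limits AlgebraicGeometry Opposite

universe u

namespace Groth.Agent.Lib.Helper70.BigClosedImm

section generic

variable (P : MorphismProperty Scheme.{u}) [P.IsStableUnderBaseChange] [P.IsMultiplicative]

theorem exists_of_mem_J {X : Scheme.{u}} (T : Over X) (R : Sieve T)
    (hR : R ∈ QuotSh.J (Scheme.precoverage P) X T) (x : T.left) :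
    ∃ (W : Scheme.{u}) (g : W ⟶ T.left) (w : W), P g ∧ g.base w = x ∧
      R (Over.homMk g : Over.mk (g ≫ T.hom) ⟶ T) := by
  rw [GrothendieckTopology.mem_over_iff] at hR
  obtain ⟨𝒰, hle⟩ := Scheme.mem_grothendieckTopology_iff.mp hR
  obtain ⟨i, y, hy⟩ := 𝒰.exists_eq x
  exact ⟨𝒰.X i, 𝒰.f i, y, 𝒰.map_prop i, hy, (Sieve.overEquiv_iff R _).mp (hle _ _ (Presieve.ofArrows.mk i))⟩

theorem mem_J_of_pointwise {Y : Scheme.{u}} (V : Over Y) (R' : Sieve V)
    (h : ∀ y : V.left, ∃ (W : Scheme.{u}) (g : W ⟶ V.left) (w : W), P g ∧ g.base w = y ∧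
      R' (Over.homMk g : Over.mk (g ≫ V.hom) ⟶ V)) :
    R' ∈ QuotSh.J (Scheme.precoverage P) Y V := by
  choose W g w hP hw hR using h
  rw [GrothendieckTopology.mem_over_iff, Scheme.mem_grothendieckTopology_iff]
  refine ⟨Scheme.Cover.mkOfCovers V.left W g (fun y => ⟨y, w y, hw y⟩) hP, ?_⟩
  rintro _ _ ⟨y⟩
  rw [Sieve.overEquiv_iff]
  exact hR y

end generic

instance smooth_isMultiplicative : MorphismProperty.IsMultiplicative @Smooth where
  id_mem X := inferInstanceAs (Smooth (𝟙 X))

/-- covering sieves for the étale and the smooth topology contain étale neighbourhoods of every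
point -/
theorem exists_etale_of_mem_J {X : Scheme.{u}} (K : Precoverage Scheme.{u})
    (hK : K = Scheme.etalePrecoverage ∨ K = Scheme.precoverage @Smooth) (T : Over X) (R : Sieve T)
    (hR : R ∈ QuotSh.J K X T) (x : T.left) :
    ∃ (W : Scheme.{u}) (g : W ⟶ T.left) (w : W), Etale g ∧ g.base w = x ∧
      R (Over.homMk g : Over.mk (g ≫ T.hom) ⟶ T) := by
  rcases hK with rfl | rfl
  · exact exists_of_mem_J @Etale T R hR x
  · obtain ⟨W, g, w, hg, hw, hRg⟩ := exists_of_mem_J @Smooth T R hR x
    haveI : Smooth g := hg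
    obtain ⟨S', g', s', hg', hs', h, hh⟩ := Groth.Agent.S0412.result g x ⟨w, hw⟩
    refine ⟨S', g', s', hg', hs', ?_⟩
    have : (Over.homMk g' : Over.mk (g' ≫ T.hom) ⟶ T) =
        (Over.homMk h (by simp [reassoc_of% hh]) : Over.mk (g' ≫ T.hom) ⟶ Over.mk (g ≫ T.hom)) ≫
          (Over.homMk g : Over.mk (g ≫ T.hom) ⟶ T) := by
      ext
      simp [hh]
    rw [this]
    exact R.downward_closed hRg _

theorem mem_J_of_pointwise_etale {Y : Scheme.{u}} (K : Precoverage Scheme.{u})
    (hK : K = Scheme.etalePrecoverage ∨ K = Scheme.precoverage @Smooth) (V : Over Y)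
    (R' : Sieve V)
    (h : ∀ y : V.left, ∃ (W : Scheme.{u}) (g : W ⟶ V.left) (w : W), Etale g ∧ g.base w = y ∧
      R' (Over.homMk g : Over.mk (g ≫ V.hom) ⟶ V)) :
    R' ∈ QuotSh.J K Y V := by
  rcases hK with rfl | rfl
  · exact mem_J_of_pointwise @Etale V R' h
  · refine mem_J_of_pointwise @Smooth V R' (fun y => ?_)
    obtain ⟨W, g, w, hg, hw, hR⟩ := h y
    haveI : Etale g := hg
    exact ⟨W, g, w, inferInstance, hw, hR⟩

theorem bot_mem_J_of_isEmpty {X : Scheme.{u}} (K : Precoverage Scheme.{u})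
    (hK : K = Scheme.etalePrecoverage ∨ K = Scheme.precoverage @Smooth) (T : Over X)
    (hT : IsEmpty T.left) : (⊥ : Sieve T) ∈ QuotSh.J K X T := by
  rcases hK with rfl | rfl
  · exact mem_J_of_pointwise @Etale T ⊥ (fun y => (hT.false y).elim)
  · exact mem_J_of_pointwise @Smooth T ⊥ (fun y => (hT.false y).elim)

set_option backward.isDefEq.respectTransparency.types false in
/-- base change along a closed immersion is almost cocontinuous on the big étale / smooth sites -/
theorem isAlmostCocontinuous {X Y : Scheme.{u}} (f : X ⟶ Y) [IsClosedImmersion f]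
    (K : Precoverage Scheme.{u})
    (hK : K = Scheme.etalePrecoverage ∨ K = Scheme.precoverage @Smooth) :
    BigSite.IsAlmostCocontinuous (Over.pullback f) (QuotSh.J K Y) (QuotSh.J K X) := by
  intro V R hR
  let R' : Sieve V :=
    { arrows := fun V' g' => (⊥ : Sieve ((Over.pullback f).obj V')) ∈
          QuotSh.J K X ((Over.pullback f).obj V') ∨ R ((Over.pullback f).map g')
      downward_closed := by
        rintro V' V'' g' (h | h) k
        · left
          have := (QuotSh.J K X).pullback_stable ((Over.pullback f).map k) h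
          rwa [Sieve.pullback_bot] at this
        · right
          rw [Functor.map_comp]
          exact R.downward_closed h _ }
  refine ⟨R', ?_, fun V' g hg => hg⟩
  apply mem_J_of_pointwise_etale K hK
  intro y
  -- the closed immersion `X ×_Y V ⟶ V`
  let f' : pullback V.hom f ⟶ V.left := pullback.fst V.hom f
  by_cases hy : y ∈ Set.range f'.base
  · obtain ⟨x, rfl⟩ := hy
    obtain ⟨W, g, w, hg, hw, hRg⟩ := exists_etale_of_mem_J K hK ((Over.pullback f).obj V) R hR x
    haveI : Etale g := hg
    obtain ⟨V₁, v, hv, h, h1, -, ⟨p, hp⟩⟩ :=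
      Groth.Agent.Lib.Helper70.EtaleLift2.exists_etale_lift' f' g w
    refine ⟨V₁, v, (pullback.fst v f').base p, hv, ?_, Or.inr ?_⟩
    · rw [← Scheme.Hom.comp_apply, pullback.condition, ← h1, Scheme.Hom.comp_apply,
        Scheme.Hom.comp_apply, hp, hw]
    · -- factor the base change of `v` through `g`
      let V₁' : Over Y := Over.mk (v ≫ V.hom)
      let kv : V₁' ⟶ V := Over.homMk v
      have hk1 : ((Over.pullback f).map kv).left ≫ f' = pullback.fst (v ≫ V.hom) f ≫ v :=
        pullback.lift_fst _ _ _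
      let l : pullback (v ≫ V.hom) f ⟶ pullback v f' :=
        pullback.lift (pullback.fst (v ≫ V.hom) f) ((Over.pullback f).map kv).left hk1.symm
      have hl : l ≫ pullback.snd v f' = ((Over.pullback f).map kv).left := pullback.lift_snd _ _ _
      have hm : (l ≫ h) ≫ g = ((Over.pullback f).map kv).left := by
        rw [Category.assoc, h1, hl]
      have hw' : (l ≫ h) ≫ (g ≫ ((Over.pullback f).obj V).hom) =
          ((Over.pullback f).obj V₁').hom := by
        rw [← Category.assoc, hm]
        exact Over.w ((Over.pullback f).map kv)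
      have : (Over.pullback f).map kv =
          (Over.homMk (l ≫ h) hw' : (Over.pullback f).obj V₁' ⟶
            Over.mk (g ≫ ((Over.pullback f).obj V).hom)) ≫
          (Over.homMk g : Over.mk (g ≫ ((Over.pullback f).obj V).hom) ⟶
            (Over.pullback f).obj V) := by
        ext
        exact hm.symm
      rw [this]
      exact R.downward_closed hRg _
  · let Wc : V.left.Opens := ⟨(Set.range f'.base)ᶜ, f'.isClosedEmbedding.isClosed_range.isOpen_compl⟩
    refine ⟨Wc, Wc.ι, ⟨y, hy⟩, inferInstance, rfl, Or.inl ?_⟩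
    apply bot_mem_J_of_isEmpty K hK
    constructor
    intro p
    let kv : Over.mk (Wc.ι ≫ V.hom) ⟶ V := Over.homMk Wc.ι
    have hk1 : ((Over.pullback f).map kv).left ≫ f' = pullback.fst (Wc.ι ≫ V.hom) f ≫ Wc.ι :=
      pullback.lift_fst _ _ _
    have h2 : f'.base (((Over.pullback f).map kv).left.base p) =
        Wc.ι.base ((pullback.fst (Wc.ι ≫ V.hom) f).base p) := by
      rw [← Scheme.Hom.comp_apply, ← Scheme.Hom.comp_apply, hk1]
    exact ((pullback.fst (Wc.ι ≫ V.hom) f).base p).2 ⟨_, h2⟩

end Groth.Agent.Lib.Helper70.BigClosedImm
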