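import Mathlib
import Groth.Prelude.Def_SGA4b
import Groth.Prelude.Def_EtShriek2
import Groth.Agent.Lib.Helper70.ClosedImmSubsite

set_option autoImplicit false
open CategoryTheory CategoryTheory.Limits AlgebraicGeometry Opposite

universe u w

namespace Groth.Agent.Lib.Helper70.ClosedImmSet

section terminal

variable {C : Type*} [Category C] (J : GrothendieckTopology C)

/-- a sheaf of sets with singleton sections is terminal -/
noncomputable def isTerminal_of_unique (T : Sheaf J (Type w))
    (h : ∀ W : C, Nonempty (Unique (T.obj.obj (op W)))) : IsTerminal T := by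
  have h' : ∀ W : Cᵒᵖ, Nonempty (Unique (T.obj.obj W)) := fun W => h W.unop
  refine IsTerminal.ofUniqueHom (fun Y => ⟨{ app := fun W => TypeCat.ofHom (fun _ => (h' W).some.default), naturality := ?_ }⟩) ?_
  · intro W W' f
    ext x
    haveI := (h' W').some
    exact Subsingleton.elim _ _
  · intro Y m
    apply Sheaf.hom_ext
    ext W x
    haveI := (h' W).some
    exact Subsingleton.elim _ _

theorem isIso_terminal_from_iff [HasTerminal (Sheaf J (Type w))] (T : Sheaf J (Type w)) :
    IsIso (terminal.from T) ↔ ∀ W : C, Nonempty (Unique (T.obj.obj (op W))) := by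
  constructor
  · intro hiso W
    have hT : IsTerminal T := IsTerminal.ofIso terminalIsTerminal (asIso (terminal.from T)).symm
    let e : T ≅ Sheaf.terminal J Types.isTerminalPUnit :=
      hT.uniqueUpToIso (Sheaf.isTerminalTerminal J _)
    let e' : T.obj.obj (op W) ≅ PUnit := ((sheafToPresheaf _ _).mapIso e).app (op W)
    exact ⟨Equiv.unique e'.toEquiv⟩
  · intro h
    exact isIso_of_isTerminal (isTerminal_of_unique J T h) terminalIsTerminal _

end terminal

section restr

variable {U X : Scheme.{u}} (j : U ⟶ X) [IsOpenImmersion j]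

/-- restriction of sheaves of sets to an open subscheme -/
noncomputable def restrSh : EtDesc.Sh X ⥤ EtDesc.Sh U :=
  (EtShriek.compEtale j).sheafPushforwardContinuous (Type (u + 1)) U.smallEtaleTopology
    X.smallEtaleTopology

/-- restriction is left adjoint to direct image -/
noncomputable def compBcAdj : EtShriek.compEtale j ⊣ EtCoh.bc j :=
  MorphismProperty.Over.mapPullbackAdj EtCoh.etaleMP ⊤ j inferInstance trivial

/-- restriction is left adjoint to direct image -/
noncomputable def restrPushAdj : restrSh j ⊣ EtDesc.pushSh j :=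
  (compBcAdj j).sheafPushforwardContinuous (E := Type (u + 1)) U.smallEtaleTopology
    X.smallEtaleTopology

/-- inverse image along an open immersion is restriction -/
noncomputable def pullIsoRestr : EtDesc.pullSh j ≅ restrSh j :=
  Adjunction.leftAdjointUniq (EtDesc.adjSh j) (restrPushAdj j)

/-- sections of the inverse image along an open immersion -/
noncomputable def pullSectIso (F : EtDesc.Sh X) (W : U.Etale) :
    ((EtDesc.pullSh j).obj F).obj.obj (op W) ≅ F.obj.obj (op ((EtShriek.compEtale j).obj W)) :=
  ((sheafToPresheaf _ _).mapIso ((pullIsoRestr j).app F)).app (op W)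

end restr

set_option backward.isDefEq.respectTransparency.types false in
/-- the essential image of the direct image of sheaves of sets along a closed immersion -/
theorem essImage_iff {Y X U : Scheme.{u}} (i : Y ⟶ X) [IsClosedImmersion i] (j : U ⟶ X)
    [IsOpenImmersion j] (hU : Set.range j.base = (Set.range i.base)ᶜ) (F : EtDesc.Sh X) :
    (EtDesc.pushSh i).essImage F ↔ IsIso (terminal.from ((EtDesc.pullSh j).obj F)) := by
  rw [isIso_terminal_from_iff]
  constructor
  · rintro ⟨G, ⟨e⟩⟩ W
    have hdisj : Disjoint (Set.range ((EtShriek.compEtale j).obj W).hom.base)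
        (Set.range i.base) := by
      rw [Set.disjoint_left]
      rintro _ ⟨x, rfl⟩ hx
      have h1 : ((EtShriek.compEtale j).obj W).hom.base x ∈ Set.range j.base := by
        exact ⟨W.hom.base x, rfl⟩
      rw [hU] at h1
      exact h1 hx
    have hT := Groth.Agent.Lib.Helper70.ClosedImmSubsite.isTerminal_push_of_disjoint i G
      ((EtShriek.compEtale j).obj W) hdisj
    have e1 := pullSectIso j F W
    have e2 : F.obj.obj (op ((EtShriek.compEtale j).obj W)) ≅
        G.obj.obj (op ((EtCoh.bc i).obj ((EtShriek.compEtale j).obj W))) :=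
      ((sheafToPresheaf _ _).mapIso e.symm).app _
    haveI : Unique (G.obj.obj (op ((EtCoh.bc i).obj ((EtShriek.compEtale j).obj W)))) :=
      Types.isTerminalEquivUnique _ hT
    exact ⟨Equiv.unique (e1 ≪≫ e2).toEquiv⟩
  · intro h
    apply Groth.Agent.Lib.Helper70.ClosedImmSubsite.essImage_of_isTerminal i F
    intro W hW
    have hsub : Set.range W.hom.base ⊆ Set.range j.base := by
      rw [hU]
      exact fun x hx hx' => Set.disjoint_left.mp hW hx hx'
    haveI : Etale W.hom := W.prop
    have hfac : IsOpenImmersion.lift j W.hom hsub ≫ j = W.hom := IsOpenImmersion.lift_fac _ _ _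
    haveI : Etale (IsOpenImmersion.lift j W.hom hsub) := by
      have : Etale (IsOpenImmersion.lift j W.hom hsub ≫ j) := by rw [hfac]; infer_instance
      exact MorphismProperty.of_postcomp (W := @Etale) (W' := @Etale) _ j inferInstance this
    let W' : U.Etale := Scheme.Etale.mk (IsOpenImmersion.lift j W.hom hsub)
    have e0 : (EtShriek.compEtale j).obj W' ≅ W :=
      MorphismProperty.Over.isoMk (Iso.refl _) ((Category.id_comp _).trans hfac.symm)
    obtain ⟨uW⟩ := h W'
    have e1 := pullSectIso j F W'
    have e2 : F.obj.obj (op W) ≅ F.obj.obj (op ((EtShriek.compEtale j).obj W')) :=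
      F.obj.mapIso e0.op
    exact ⟨(Types.isTerminalEquivUnique _).symm (Equiv.unique (e2 ≪≫ e1.symm).toEquiv)⟩

end Groth.Agent.Lib.Helper70.ClosedImmSet
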