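import Groth.Agent.Lib.Cohomology.Helper3_ExtFunct

set_option autoImplicit false
universe w w' w'' v v' v'' u u' u''

open CategoryTheory CategoryTheory.Limits CategoryTheory.Abelian

namespace Groth.Agent.Lib.Helper70.ConjBij

open Groth.Agent.Lib.Cohomology.ExtFunct

variable {C : Type u} [Category.{v} C] [Abelian C] [HasExt.{w} C] [EnoughInjectives C]
variable {D : Type u'} [Category.{v'} D] [Abelian D] [HasExt.{w'} D] [EnoughInjectives D]
variable {E : Type u''} [Category.{v''} E] [Abelian E] [HasExt.{w''} E]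

/-- the map on Ext induced by an exact functor, as a plain function -/
noncomputable abbrev mapE (L : C ⥤ D) [L.Additive] [PreservesFiniteLimits L] [PreservesFiniteColimits L]
    (A B : C) (q : ℕ) : Ext.{w} A B q → Ext.{w'} (L.obj A) (L.obj B) q :=
  fun x => x.mapExactFunctor L

omit [EnoughInjectives C] [EnoughInjectives D] in
theorem conjMap_eq (L : C ⥤ D) [L.Additive] [PreservesFiniteLimits L] [PreservesFiniteColimits L]
    {A B : C} {A' B' : D} (α : A' ≅ L.obj A) (β : L.obj B ≅ B') (q : ℕ) :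
    ⇑(conjMap L α.hom β.hom q) = ⇑(conjEquiv α β q) ∘ mapE L A B q := rfl

omit [EnoughInjectives D] in
theorem mapE_natIso (L L' : C ⥤ D) [L.Additive] [PreservesFiniteLimits L]
    [PreservesFiniteColimits L] [L'.Additive] [PreservesFiniteLimits L']
    [PreservesFiniteColimits L'] (e : L ≅ L') (A B : C) (q : ℕ) :
    ⇑(conjEquiv (Iso.refl (L.obj A)) (e.app B) q) ∘ mapE L A B q =
      ⇑(conjEquiv (e.app A) (Iso.refl (L'.obj B)) q) ∘ mapE L' A B q := by
  funext x
  show (Ext.mk₀ (𝟙 _)).comp ((x.mapExactFunctor L).comp (Ext.mk₀ (e.hom.app B)) (add_zero q))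
    (zero_add q) = (Ext.mk₀ (e.hom.app A)).comp ((x.mapExactFunctor L').comp (Ext.mk₀ (𝟙 _))
      (add_zero q)) (zero_add q)
  rw [Ext.mk₀_id_comp, Ext.comp_mk₀_id]
  exact mapExactFunctor_natIso L L' e q B x

omit [EnoughInjectives D] in
theorem bijective_mapE_natIso (L L' : C ⥤ D) [L.Additive] [PreservesFiniteLimits L]
    [PreservesFiniteColimits L] [L'.Additive] [PreservesFiniteLimits L']
    [PreservesFiniteColimits L'] (e : L ≅ L') (A B : C) (q : ℕ) :
    Function.Bijective (mapE L A B q) ↔ Function.Bijective (mapE L' A B q) := by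
  rw [← (conjEquiv (Iso.refl (L.obj A)) (e.app B) q).bijective.of_comp_iff' (mapE L A B q),
    mapE_natIso L L' e A B q,
    (conjEquiv (e.app A) (Iso.refl (L'.obj B)) q).bijective.of_comp_iff' (mapE L' A B q)]

omit [EnoughInjectives D] in
theorem injective_mapE_natIso (L L' : C ⥤ D) [L.Additive] [PreservesFiniteLimits L]
    [PreservesFiniteColimits L] [L'.Additive] [PreservesFiniteLimits L']
    [PreservesFiniteColimits L'] (e : L ≅ L') (A B : C) (q : ℕ) :
    Function.Injective (mapE L A B q) ↔ Function.Injective (mapE L' A B q) := by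
  rw [← (conjEquiv (Iso.refl (L.obj A)) (e.app B) q).injective.of_comp_iff (mapE L A B q),
    mapE_natIso L L' e A B q,
    (conjEquiv (e.app A) (Iso.refl (L'.obj B)) q).injective.of_comp_iff (mapE L' A B q)]

omit [EnoughInjectives D] in
theorem mapE_comp (L : C ⥤ D) (L' : D ⥤ E) [L.Additive]
    [PreservesFiniteLimits L] [PreservesFiniteColimits L] [L'.Additive]
    [PreservesFiniteLimits L'] [PreservesFiniteColimits L']
    [PreservesFiniteLimits (L ⋙ L')] [PreservesFiniteColimits (L ⋙ L')] (A B : C) (q : ℕ) :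
    mapE (L ⋙ L') A B q = mapE L' (L.obj A) (L.obj B) q ∘ mapE L A B q := by
  funext x
  exact (mapExactFunctor_compFunctor L L' q B x).symm

omit [EnoughInjectives D] in
theorem mapE_id (A B : C) (q : ℕ) : mapE (𝟭 C) A B q = id := by
  funext x
  exact mapExactFunctor_idFunctor q B x

omit [EnoughInjectives C] [EnoughInjectives D] in
theorem mapE_isoA (L : C ⥤ D) [L.Additive] [PreservesFiniteLimits L] [PreservesFiniteColimits L]
    {A A₂ : C} (φ : A ≅ A₂) (B : C) (q : ℕ) :
    mapE L A B q ∘ ⇑(conjEquiv φ (Iso.refl B) q) =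
      ⇑(conjEquiv (L.mapIso φ) (Iso.refl (L.obj B)) q) ∘ mapE L A₂ B q := by
  funext x
  show ((Ext.mk₀ φ.hom).comp (x.comp (Ext.mk₀ (𝟙 _)) (add_zero q)) (zero_add q)).mapExactFunctor L =
    (Ext.mk₀ (L.map φ.hom)).comp ((x.mapExactFunctor L).comp (Ext.mk₀ (𝟙 _)) (add_zero q))
      (zero_add q)
  rw [Ext.comp_mk₀_id, Ext.comp_mk₀_id, Ext.mapExactFunctor_comp, Ext.mapExactFunctor_mk₀]

omit [EnoughInjectives C] [EnoughInjectives D] in
theorem bijective_mapE_isoA (L : C ⥤ D) [L.Additive] [PreservesFiniteLimits L]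
    [PreservesFiniteColimits L] {A A₂ : C} (φ : A ≅ A₂) (B : C) (q : ℕ) :
    Function.Bijective (mapE L A B q) ↔ Function.Bijective (mapE L A₂ B q) := by
  rw [← (conjEquiv (L.mapIso φ) (Iso.refl (L.obj B)) q).bijective.of_comp_iff' (mapE L A₂ B q),
    ← mapE_isoA L φ B q]
  exact ((conjEquiv φ (Iso.refl B) q).bijective.of_comp_iff (mapE L A B q)).symm

omit [EnoughInjectives C] [EnoughInjectives D] in
theorem injective_mapE_isoA (L : C ⥤ D) [L.Additive] [PreservesFiniteLimits L]
    [PreservesFiniteColimits L] {A A₂ : C} (φ : A ≅ A₂) (B : C) (q : ℕ) :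
    Function.Injective (mapE L A B q) ↔ Function.Injective (mapE L A₂ B q) := by
  rw [← (conjEquiv (L.mapIso φ) (Iso.refl (L.obj B)) q).injective.of_comp_iff (mapE L A₂ B q),
    ← mapE_isoA L φ B q]
  exact (Function.Injective.of_comp_iff' (mapE L A B q)
    (conjEquiv φ (Iso.refl B) q).bijective).symm

/-- an exact equivalence induces bijections on Ext -/
theorem bijective_mapE_of_equiv (L : C ⥤ D) (L' : D ⥤ C) [L.Additive] [PreservesFiniteLimits L]
    [PreservesFiniteColimits L] [L'.Additive] [PreservesFiniteLimits L']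
    [PreservesFiniteColimits L'] (η : L ⋙ L' ≅ 𝟭 C) (ε : L' ⋙ L ≅ 𝟭 D) (A B : C) (q : ℕ) :
    Function.Bijective (mapE L A B q) := by
  haveI : PreservesFiniteLimits (L ⋙ L') := comp_preservesFiniteLimits _ _
  haveI : PreservesFiniteColimits (L ⋙ L') := comp_preservesFiniteColimits _ _
  haveI : PreservesFiniteLimits (L' ⋙ L) := comp_preservesFiniteLimits _ _
  haveI : PreservesFiniteColimits (L' ⋙ L) := comp_preservesFiniteColimits _ _
  have h1 : ∀ A B : C, Function.Bijective (mapE L' (L.obj A) (L.obj B) q ∘ mapE L A B q) := by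
    intro A B
    rw [← mapE_comp, bijective_mapE_natIso (L ⋙ L') (𝟭 C) η A B q, mapE_id]
    exact Function.bijective_id
  have h2 : ∀ A B : D, Function.Bijective (mapE L (L'.obj A) (L'.obj B) q ∘ mapE L' A B q) := by
    intro A B
    rw [← mapE_comp, bijective_mapE_natIso (L' ⋙ L) (𝟭 D) ε A B q, mapE_id]
    exact Function.bijective_id
  have h3 : Function.Bijective (mapE L' (L.obj A) (L.obj B) q) :=
    ⟨(h2 _ _).injective.of_comp, (h1 A B).surjective.of_comp⟩
  exact (h3.of_comp_iff' (mapE L A B q)).mp (h1 A B)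

end Groth.Agent.Lib.Helper70.ConjBij
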