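import Mathlib
import Groth.Prelude.Def_EtAcyc
import Groth.Agent.Lib.Helper70.StalkCons

set_option autoImplicit false
open CategoryTheory CategoryTheory.Limits AlgebraicGeometry Opposite

universe u

namespace Groth.Agent.Lib.Helper70.LTors

open Groth.Agent.Lib.Helper70.StalkCons

variable {X : Scheme.{u}}

set_option backward.isDefEq.respectTransparency.types false in
theorem isLTorsion_iff (L : Set ℕ) (F : EtCoh.Ab X) :
    EtAcyc.IsLTorsion L F ↔
      ∀ (Ω : Type u) [Field Ω] [IsSepClosed Ω] (ξ : Spec (CommRingCat.of Ω) ⟶ X)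
        (t : (EtCoh.stalk ξ).obj F), ∃ m : ℕ, EtAcyc.PrimesIn L m ∧ m • t = 0 := by
  constructor
  · intro h Ω _ _ ξ t
    obtain ⟨U, u, s, rfl⟩ := (Scheme.pointSmallEtale ξ).toPresheafFiber_jointly_surjective
      (P := F.obj) t
    let ul : Spec (CommRingCat.of Ω) ⟶ U.left := u.left
    have hul : ul ≫ U.hom = ξ := Over.w u
    obtain ⟨V, g, m, ⟨v, hv⟩, hm, h0⟩ := h U s (ul.base default)
    haveI : Etale g.left := by
      haveI : Etale U.hom := U.prop
      haveI : Etale (g.left ≫ U.hom) := by
        rw [MorphismProperty.Over.w g]; exact V.prop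
      exact MorphismProperty.of_postcomp (W := @Etale) (W' := @Etale) g.left U.hom inferInstance
        inferInstance
    obtain ⟨l, hl1, hl2⟩ := Scheme.exists_fac_of_etale_of_isSepClosed g.left ul v hv
    have hlV : l ≫ V.hom = ξ := by
      rw [← MorphismProperty.Over.w g, ← Category.assoc, hl1, hul]
    let u' : (Scheme.pointSmallEtale ξ).fiber.obj V := Over.homMk l hlV
    have hu' : (Scheme.pointSmallEtale ξ).fiber.map g u' = u := by
      apply Over.OverMorphism.ext
      exact hl1
    refine ⟨m, hm, ?_⟩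
    have k := ConcreteCategory.congr_hom
      ((Scheme.pointSmallEtale ξ).toPresheafFiber_w g u' F.obj) s
    rw [ConcreteCategory.comp_apply, hu'] at k
    have k2 : m • ((Scheme.pointSmallEtale ξ).toPresheafFiber U u F.obj) s =
        ((Scheme.pointSmallEtale ξ).toPresheafFiber V u' F.obj) (m • F.obj.map g.op s) := by
      rw [map_nsmul, k]
    refine k2.trans ?_
    rw [h0]
    exact map_zero ((Scheme.pointSmallEtale ξ).toPresheafFiber V u' F.obj).hom
  · intro h U s x
    obtain ⟨m, hm, h0⟩ := h _ (geomPt U x ≫ U.hom)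
      ((Scheme.pointSmallEtale (geomPt U x ≫ U.hom)).toPresheafFiber U (geomPtFiber U x) F.obj s)
    have h1 : (Scheme.pointSmallEtale (geomPt U x ≫ U.hom)).toPresheafFiber U (geomPtFiber U x)
        F.obj (m • s) = (Scheme.pointSmallEtale (geomPt U x ≫ U.hom)).toPresheafFiber U
          (geomPtFiber U x) F.obj 0 := by
      rw [map_nsmul, map_zero]
      exact h0
    rw [GrothendieckTopology.Point.toPresheafFiber_eq_iff'] at h1
    obtain ⟨Y, f, y, hy, hz⟩ := h1
    rw [map_zero, map_nsmul] at hz
    let yl : Spec (CommRingCat.of (SeparableClosure (U.left.residueField x))) ⟶ Y.left := y.left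
    refine ⟨Y, f, m, ⟨yl.base default, ?_⟩, hm, hz⟩
    have h3 : yl ≫ f.left = geomPt U x := congrArg (fun k => k.left) hy
    rw [← Scheme.Hom.comp_apply, h3, geomPt_apply]

end Groth.Agent.Lib.Helper70.LTors
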