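import Mathlib
import Groth.Prelude.Def_EtAcyc
import Groth.Agent.Lib.Helper70.ConjBij
import Groth.Agent.Lib.Helper70.LTors
import Groth.Agent.Lib.Helper70.StalkPullGerm
import Groth.Agent.Lib.Cohomology.Helper3_EtSplit

set_option autoImplicit false
open CategoryTheory CategoryTheory.Limits AlgebraicGeometry Opposite CategoryTheory.Abelian

universe u

namespace Groth.Agent.Lib.Helper70.CompNComp

open Groth.Agent.Lib.Cohomology.ExtFunct Groth.Agent.Lib.Helper70.ConjBij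
  Groth.Agent.Lib.Cohomology.EtSplit Groth.Agent.Lib.Helper70.StalkPullGerm

variable {X Y Z : Scheme.{u}}

set_option backward.isDefEq.respectTransparency.types false in
/-- inverse images of `L`-torsion sheaves are `L`-torsion -/
theorem isLTorsion_pull (L : Set ℕ) (b : X ⟶ Y) (F : EtCoh.Ab Y) (hF : EtAcyc.IsLTorsion L F) :
    EtAcyc.IsLTorsion L ((EtCoh.pull b).obj F) := by
  rw [Groth.Agent.Lib.Helper70.LTors.isLTorsion_iff] at hF ⊢
  intro Ω _ _ ξ t
  let e := (stalkPullIso b ξ AddCommGrpCat.{u + 1}).app F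
  obtain ⟨m, hm, h0⟩ := hF Ω (ξ ≫ b) (e.hom t)
  refine ⟨m, hm, ?_⟩
  have h1 : e.hom (m • t) = 0 := by
    rw [map_nsmul]
    exact h0
  have h2 := congrArg e.inv h1
  rw [map_zero] at h2
  have h3 : e.inv (e.hom (m • t)) = m • t := ConcreteCategory.congr_hom e.hom_inv_id (m • t)
  exact h3.symm.trans h2

theorem Hpull_eq (f : X ⟶ Y) (G : EtCoh.Ab Y) (n : ℕ) :
    ⇑(EtCore.Hpull f G n) = ⇑(conjEquiv (EtCore.pullConst f ℤ).symm (Iso.refl _) n) ∘
      mapE (EtCoh.pull f) (EtCoh.const Y ℤ) G n := by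
  funext x
  show (Ext.mk₀ (EtCore.pullConst f ℤ).inv).comp (x.mapExactFunctor (EtCoh.pull f)) (zero_add n) =
    (Ext.mk₀ (EtCore.pullConst f ℤ).inv).comp ((x.mapExactFunctor (EtCoh.pull f)).comp
      (Ext.mk₀ (𝟙 _)) (add_zero n)) (zero_add n)
  rw [Ext.comp_mk₀_id]

/-- reformulation of `CompN` in terms of the maps on Ext induced by the inverse image functor -/
theorem compN_iff (p : X ⟶ Y) (L : Set ℕ) (n : ℕ) :
    EtAcyc.CompN p L n ↔ ∀ F : EtCoh.Ab Y, EtAcyc.IsLTorsion L F →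
      (∀ q : ℕ, q ≤ n → Function.Bijective (mapE (EtCoh.pull p) (EtCoh.const Y ℤ) F q)) ∧
        Function.Injective (mapE (EtCoh.pull p) (EtCoh.const Y ℤ) F (n + 1)) := by
  constructor
  · intro h F hF
    obtain ⟨h1, h2⟩ := h F hF
    constructor
    · intro q hq
      have := h1 q hq
      rw [Hpull_eq] at this
      exact ((conjEquiv (EtCore.pullConst p ℤ).symm (Iso.refl _) q).bijective.of_comp_iff' _).mp this
    · rw [Hpull_eq] at h2
      exact ((conjEquiv (EtCore.pullConst p ℤ).symm (Iso.refl _) (n + 1)).injective.of_comp_iff _).mp h2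
  · intro h F hF inst
    obtain ⟨h1, h2⟩ := h F hF
    have e : inst = pull_pfl p := Subsingleton.elim _ _
    subst e
    constructor
    · intro q hq
      rw [Hpull_eq]
      exact ((conjEquiv (EtCore.pullConst p ℤ).symm (Iso.refl _) q).bijective.of_comp_iff' _).mpr (h1 q hq)
    · rw [Hpull_eq]
      exact ((conjEquiv (EtCore.pullConst p ℤ).symm (Iso.refl _) (n + 1)).injective.of_comp_iff _).mpr h2

theorem bij_comp_iff (p : X ⟶ Y) (r : Y ⟶ Z) (F : EtCoh.Ab Z) (q : ℕ) :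
    Function.Bijective (mapE (EtCoh.pull (p ≫ r)) (EtCoh.const Z ℤ) F q) ↔
      Function.Bijective (mapE (EtCoh.pull p) ((EtCoh.pull r).obj (EtCoh.const Z ℤ))
        ((EtCoh.pull r).obj F) q ∘ mapE (EtCoh.pull r) (EtCoh.const Z ℤ) F q) := by
  rw [bijective_mapE_natIso _ _ (EtCore.pullComp p r), mapE_comp]

theorem inj_comp_iff (p : X ⟶ Y) (r : Y ⟶ Z) (F : EtCoh.Ab Z) (q : ℕ) :
    Function.Injective (mapE (EtCoh.pull (p ≫ r)) (EtCoh.const Z ℤ) F q) ↔
      Function.Injective (mapE (EtCoh.pull p) ((EtCoh.pull r).obj (EtCoh.const Z ℤ))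
        ((EtCoh.pull r).obj F) q ∘ mapE (EtCoh.pull r) (EtCoh.const Z ℤ) F q) := by
  rw [injective_mapE_natIso _ _ (EtCore.pullComp p r), mapE_comp]

/-- two-out-of-three for `CompN` under composition -/
theorem compN_comp_iff (p : X ⟶ Y) (r : Y ⟶ Z) (L : Set ℕ) (n : ℕ) (hp : EtAcyc.CompN p L n) :
    EtAcyc.CompN r L n ↔ EtAcyc.CompN (p ≫ r) L n := by
  rw [compN_iff] at hp
  rw [compN_iff, compN_iff]
  refine forall_congr' fun F => forall_congr' fun hF => ?_
  obtain ⟨hp1, hp2⟩ := hp ((EtCoh.pull r).obj F) (isLTorsion_pull L r F hF)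
  have hb : ∀ q, q ≤ n → Function.Bijective (mapE (EtCoh.pull p)
      ((EtCoh.pull r).obj (EtCoh.const Z ℤ)) ((EtCoh.pull r).obj F) q) := fun q hq =>
    (bijective_mapE_isoA (EtCoh.pull p) (EtCore.pullConst r ℤ) _ q).mpr (hp1 q hq)
  have hi : Function.Injective (mapE (EtCoh.pull p)
      ((EtCoh.pull r).obj (EtCoh.const Z ℤ)) ((EtCoh.pull r).obj F) (n + 1)) :=
    (injective_mapE_isoA (EtCoh.pull p) (EtCore.pullConst r ℤ) _ (n + 1)).mpr hp2
  refine and_congr (forall_congr' fun q => forall_congr' fun hq => ?_) ?_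
  · rw [bij_comp_iff]
    exact ((hb q hq).of_comp_iff' _).symm
  · rw [inj_comp_iff]
    exact (hi.of_comp_iff _).symm

theorem compN_of_iso (e : X ≅ Y) (L : Set ℕ) (n : ℕ) : EtAcyc.CompN e.hom L n := by
  rw [compN_iff]
  intro F _
  have h := fun q => bijective_mapE_of_equiv (EtCoh.pull e.hom) (EtCoh.pull e.inv)
    (pullRetract e.hom e.inv e.inv_hom_id) (pullRetract e.inv e.hom e.hom_inv_id)
    (EtCoh.const Y ℤ) F q
  exact ⟨fun q _ => h q, (h (n + 1)).injective⟩

set_option backward.isDefEq.respectTransparency.types false in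
/-- the abelian half of `S3513` -/
theorem isAcyclicN_comp_iff (g : X ⟶ Y) (h : Y ⟶ Z) (L : Set ℕ) (n : ℕ)
    (hg : EtAcyc.IsAcyclicN g L n) :
    EtAcyc.IsAcyclicN h L n ↔ EtAcyc.IsAcyclicN (g ≫ h) L n := by
  refine forall_congr' fun V => ?_
  let W : Y.Etale := (EtCoh.bc h).obj V
  let e : pullback W.hom g ≅ pullback V.hom (g ≫ h) := pullbackLeftPullbackSndIso V.hom h g
  have hfac : EtAcyc.prj (g ≫ h) V = e.inv ≫ (EtAcyc.prj g W ≫ EtAcyc.prj h V) := by
    rw [Iso.eq_inv_comp]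
    exact pullbackLeftPullbackSndIso_hom_fst V.hom h g
  rw [hfac, ← compN_comp_iff e.inv _ L n (compN_of_iso e.symm L n)]
  exact compN_comp_iff (EtAcyc.prj g W) (EtAcyc.prj h V) L n (hg W)

end Groth.Agent.Lib.Helper70.CompNComp
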