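import Mathlib
import Groth.Prelude.Def_EtBase
import Groth.Prelude.Def_EtCore

set_option autoImplicit false
open CategoryTheory CategoryTheory.Limits AlgebraicGeometry Opposite CategoryTheory.Abelian

universe u

namespace Groth.Agent.Lib.Helper70.ConstQ

section General

universe w v' u'

variable {C : Type u'} [Category.{v'} C] [Abelian C] [HasExt.{w} C]

/-- the boundary map is bijective when the neighbouring groups of the middle term vanish -/
theorem nonempty_addEquiv_of_shortExact {S : ShortComplex C} (hS : S.ShortExact) (A : C) (n : ℕ)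
    (h0 : Subsingleton (Ext.{w} A S.X₂ n)) (h1 : Subsingleton (Ext.{w} A S.X₂ (n + 1))) :
    Nonempty (Ext.{w} A S.X₁ (n + 1) ≃+ Ext.{w} A S.X₃ n) := by
  refine ⟨(AddEquiv.ofBijective (hS.extClass.postcomp A (rfl : n + 1 = n + 1)) ⟨?_, ?_⟩).symm⟩
  · rw [injective_iff_map_eq_zero]
    intro y hy
    obtain ⟨x₂, hx₂⟩ := Ext.covariant_sequence_exact₃ A hS y rfl hy
    rw [← hx₂, Subsingleton.elim x₂ 0, Ext.zero_comp]
  · intro x₁
    obtain ⟨x₃, hx₃⟩ := Ext.covariant_sequence_exact₁ A hS x₁ (Subsingleton.elim _ _) rfl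
    exact ⟨x₃, hx₃⟩

end General

section Const

variable (X : Scheme.{u})

noncomputable instance preservesFiniteLimits_const :
    PreservesFiniteLimits (constantSheaf X.smallEtaleTopology AddCommGrpCat.{u+1}) := by
  unfold constantSheaf
  infer_instance

noncomputable instance preservesFiniteColimits_const :
    PreservesFiniteColimits (constantSheaf X.smallEtaleTopology AddCommGrpCat.{u+1}) :=
  have : PreservesColimitsOfSize.{0, 0} (constantSheaf X.smallEtaleTopology AddCommGrpCat.{u+1}) :=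
    (EtCore.constAdj X).leftAdjoint_preservesColimits
  PreservesColimitsOfSize.preservesFiniteColimits _

attribute [local instance] preservesBinaryBiproducts_of_preservesBinaryCoproducts in
noncomputable instance additive_const :
    (constantSheaf X.smallEtaleTopology AddCommGrpCat.{u+1}).Additive :=
  Functor.additive_of_preservesBinaryBiproducts _

/-- the sequence `0 → ℤ → ℚ → ℚ/ℤ → 0` of abelian groups -/
noncomputable def SQ : ShortComplex AddCommGrpCat.{u + 1} :=
  ShortComplex.mk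
    (AddCommGrpCat.ofHom ((AddEquiv.ulift.symm.toAddMonoidHom.comp (Int.castAddHom ℚ)).comp
      AddEquiv.ulift.toAddMonoidHom) :
      AddCommGrpCat.of (ULift.{u + 1} ℤ) ⟶ AddCommGrpCat.of (ULift.{u + 1} ℚ))
    (AddCommGrpCat.ofHom ((AddEquiv.ulift.symm.toAddMonoidHom.comp
      (QuotientAddGroup.mk' (AddSubgroup.zmultiples (1 : ℚ)))).comp AddEquiv.ulift.toAddMonoidHom) :
      AddCommGrpCat.of (ULift.{u + 1} ℚ) ⟶
        AddCommGrpCat.of (ULift.{u + 1} (ℚ ⧸ AddSubgroup.zmultiples (1 : ℚ))))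
    (by
      ext ⟨n⟩
      show (QuotientAddGroup.mk' (AddSubgroup.zmultiples (1 : ℚ))) ((n : ℤ) : ℚ) = 0
      rw [QuotientAddGroup.mk'_apply, QuotientAddGroup.eq_zero_iff]
      exact ⟨n, by simp⟩)

theorem SQ_shortExact : (SQ.{u}).ShortExact := by
  refine ShortComplex.ShortExact.mk' ?_ ?_ ?_
  · rw [ShortComplex.ab_exact_iff]
    rintro ⟨q⟩ hq
    have h1 : (QuotientAddGroup.mk' (AddSubgroup.zmultiples (1 : ℚ))) q = 0 :=
      congrArg ULift.down hq
    rw [QuotientAddGroup.mk'_apply, QuotientAddGroup.eq_zero_iff] at h1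
    obtain ⟨n, hn⟩ := h1
    refine ⟨⟨n⟩, ?_⟩
    apply ULift.ext
    show ((n : ℤ) : ℚ) = q
    rw [← hn]; simp
  · rw [AddCommGrpCat.mono_iff_injective]
    rintro ⟨a⟩ ⟨b⟩ hab
    have h1 : ((a : ℤ) : ℚ) = ((b : ℤ) : ℚ) := congrArg ULift.down hab
    exact congrArg ULift.up (Int.cast_injective h1)
  · rw [AddCommGrpCat.epi_iff_surjective]
    rintro ⟨y⟩
    obtain ⟨q, rfl⟩ := QuotientAddGroup.mk'_surjective _ y
    exact ⟨⟨q⟩, rfl⟩

theorem isIso_nsmul_const_rat (n : ℕ) (hn : 0 < n) : IsIso (n • 𝟙 (EtCoh.const X ℚ)) := by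
  have h1 : (n • 𝟙 (EtCoh.const X ℚ)) =
      (constantSheaf X.smallEtaleTopology AddCommGrpCat.{u+1}).map
        (n • 𝟙 (AddCommGrpCat.of (ULift.{u+1} ℚ))) := by
    rw [Functor.map_nsmul, CategoryTheory.Functor.map_id]
  rw [h1]
  haveI : IsIso (n • 𝟙 (AddCommGrpCat.of (ULift.{u+1} ℚ))) := by
    rw [ConcreteCategory.isIso_iff_bijective]
    have hn' : (n : ℚ) ≠ 0 := by exact_mod_cast hn.ne'
    constructor
    · rintro ⟨a⟩ ⟨b⟩ hab
      have h2 : n • a = n • b := congrArg ULift.down hab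
      rw [nsmul_eq_mul, nsmul_eq_mul] at h2
      exact congrArg ULift.up (mul_left_cancel₀ hn' h2)
    · rintro ⟨b⟩
      refine ⟨⟨b / n⟩, ?_⟩
      apply ULift.ext
      show n • (b / n) = b
      rw [nsmul_eq_mul]
      field_simp
  infer_instance

/-- `H^i(X, ℤ) ≃ H^{i-1}(X, ℚ/ℤ)` for `i ≥ 2` when the cohomology of `ℚ` vanishes -/
theorem nonempty_addEquiv (hQ : ∀ j : ℕ, 0 < j → Subsingleton (EtCoh.H X (EtCoh.const X ℚ) j))
    (i : ℕ) (hi : 2 ≤ i) :
    Nonempty (EtCoh.H X (EtCoh.const X ℤ) i ≃+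
      EtCoh.H X (EtCoh.const X (ℚ ⧸ AddSubgroup.zmultiples (1 : ℚ))) (i - 1)) := by
  obtain ⟨m, rfl⟩ : ∃ m, i = m + 2 := ⟨i - 2, by omega⟩
  have hS := (SQ_shortExact.{u}).map_of_exact
    (constantSheaf X.smallEtaleTopology AddCommGrpCat.{u+1})
  exact nonempty_addEquiv_of_shortExact hS (EtCoh.const X ℤ) (m + 1) (hQ (m + 1) (by omega))
    (hQ (m + 2) (by omega))

end Const

end Groth.Agent.Lib.Helper70.ConstQ
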