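import Groth.Agent.Lib.Cohomology.Helper3_Constr2
import Groth.Prelude.Def_EtMod2

/-!
# Constructible sheaves of `Λ`-modules: pull-back (helper70; port of helper3's abelian case)
-/

set_option autoImplicit false
universe u
open CategoryTheory CategoryTheory.Limits Opposite AlgebraicGeometry Topology

namespace Groth.Agent.Lib.Helper70.ConstrMod

open Groth.Agent.Lib.Cohomology.Constr Groth.Agent.Lib.Cohomology.OverPull

variable (Λ : Type (u + 1)) [CommRing Λ]

section PullComp

variable {X Y Z : Scheme.{u}}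

set_option backward.isDefEq.respectTransparency.types false in
/-- direct images of sheaves of modules compose -/
noncomputable def pushCompMod (f : X ⟶ Y) (g : Z ⟶ X) :
    EtModW.push Λ g ⋙ EtModW.push Λ f ≅ EtModW.push Λ (g ≫ f) :=
  Functor.sheafPushforwardContinuousComp' (F := EtCoh.bc f) (G := EtCoh.bc g)
    (FG := EtCoh.bc (g ≫ f))
    ((MorphismProperty.Over.pullbackComp (P := EtCoh.etaleMP) (Q := ⊤) g f).symm :
      EtCoh.bc f ⋙ EtCoh.bc g ≅ EtCoh.bc (g ≫ f))
    (ModuleCat.{u + 1} Λ) Y.smallEtaleTopology X.smallEtaleTopology Z.smallEtaleTopology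

/-- the adjunction `f^{-1} ⊣ f_*` for sheaves of modules -/
noncomputable abbrev pullPushAdjMod (f : X ⟶ Y) : EtModW.pull Λ f ⊣ EtModW.push Λ f :=
  (EtCoh.bc f).sheafAdjunctionContinuous (ModuleCat.{u + 1} Λ) Y.smallEtaleTopology
    X.smallEtaleTopology

/-- inverse images of sheaves of modules compose -/
noncomputable def pullCompMod (f : X ⟶ Y) (g : Y ⟶ Z) :
    EtModW.pull Λ (f ≫ g) ≅ EtModW.pull Λ g ⋙ EtModW.pull Λ f :=
  Adjunction.leftAdjointUniq (pullPushAdjMod Λ (f ≫ g))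
    (((pullPushAdjMod Λ g).comp (pullPushAdjMod Λ f)).ofNatIsoRight (pushCompMod Λ g f))

end PullComp

section FTLC

variable {X Y : Scheme.{u}}

lemma isFTLC_of_iso {F F' : EtModW.Mod Λ X} (e : F ≅ F') (hF : EtModW.IsFTLocConst Λ F) :
    EtModW.IsFTLocConst Λ F' := by
  obtain ⟨ι, U, hU, hα⟩ := hF
  refine ⟨ι, U, hU, fun i => ?_⟩
  obtain ⟨M, iM, mM, fM, ⟨α⟩⟩ := hα i
  exact ⟨M, iM, mM, fM,
    ⟨(X.smallEtaleTopology.overPullback (ModuleCat.{u + 1} Λ) (U i)).mapIso e.symm ≪≫ α⟩⟩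

lemma isFTLC_pull (f : X ⟶ Y) (G : EtModW.Mod Λ Y) (hG : EtModW.IsFTLocConst Λ G) :
    EtModW.IsFTLocConst Λ ((EtModW.pull Λ f).obj G) := by
  obtain ⟨ι, U, hU, hα⟩ := hG
  refine ⟨ι, fun i => (EtCoh.bc f).obj (U i), covers_bc f U hU, fun i => ?_⟩
  obtain ⟨M, iM, mM, fM, ⟨α⟩⟩ := hα i
  exact ⟨M, iM, mM, fM, nonempty_pullMod_const f Λ G (U i) _ α⟩

lemma isFTLC_pull_comp {T T' : Scheme.{u}} (h : T' ⟶ T) (g : T ⟶ X) (F : EtModW.Mod Λ X)
    (hF : EtModW.IsFTLocConst Λ ((EtModW.pull Λ g).obj F)) :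
    EtModW.IsFTLocConst Λ ((EtModW.pull Λ (h ≫ g)).obj F) :=
  isFTLC_of_iso Λ ((pullCompMod Λ h g).app F).symm (isFTLC_pull Λ h _ hF)

end FTLC

variable {X : Scheme.{u}}

/-- adapted strata indexed by an arbitrary finite type. -/
theorem adaptedStrata_of_finite {F : EtModW.Mod Λ X} {S : Set X} {ι : Type*} [Finite ι]
    (T : ι → Scheme.{u}) (g : ∀ i, T i ⟶ X) (himm : ∀ i, IsImmersion (g i))
    (hcons : ∀ i, IsConstructible ((Subtype.val : S → X) ⁻¹' Set.range (g i)))
    (hdisj : Pairwise (fun i j => Disjoint (Set.range (g i)) (Set.range (g j))))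
    (hun : (⋃ i, Set.range (g i)) = S)
    (hflc : ∀ i, EtModW.IsFTLocConst Λ ((EtModW.pull Λ (g i)).obj F)) :
    EtModW.AdaptedStrata Λ F S := by
  let e := Finite.equivFin ι
  refine ⟨Nat.card ι, fun p => T (e.symm p), fun p => g (e.symm p), fun p => himm _,
    fun p => hcons _, fun p q hpq => hdisj (e.symm.injective.ne hpq), ?_, fun p => hflc _⟩
  rw [← hun]
  exact e.symm.surjective.iUnion_comp (fun i => Set.range (g i))

/-- gluing adapted stratifications along a finite cover by compact opens. -/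
theorem adaptedStrata_glue (F : EtModW.Mod Λ X) (S : Set X) [QuasiSeparatedSpace S] {m : ℕ}
    (W : Fin m → X.Opens) (hWc : ∀ k, IsCompact (W k : Set X))
    (hS : (⋃ k, (W k : Set X)) = S) (h : ∀ k, EtModW.AdaptedStrata Λ F (W k : Set X)) :
    EtModW.AdaptedStrata Λ F S := by
  choose n T g himm hcons hdisj hun hflc using h
  haveI := himm
  have hWS : ∀ k, (W k : Set X) ⊆ S := fun k => by
    rw [← hS]; exact Set.subset_iUnion (fun k => (W k : Set X)) k
  have hret : ∀ k, IsRetrocompact ((↑) ⁻¹' (W k : Set X) : Set S) := fun k =>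
    (isCompact_preimage_val (hWS k) (hWc k)).isRetrocompact
      ((W k).2.preimage continuous_subtype_val)
  have hWcons : ∀ k, IsConstructible ((↑) ⁻¹' (W k : Set X) : Set S) := fun k =>
    (hret k).isConstructible ((W k).2.preimage continuous_subtype_val)
  let B : Fin m → TopologicalSpace.Closeds X := fun k =>
    ⟨(⋃ l : {l : Fin m // l < k}, (W l.1 : Set X))ᶜ,
      (isOpen_iUnion fun l : {l : Fin m // l < k} => (W l.1).2).isClosed_compl⟩
  have hB : ∀ k, ((B k : TopologicalSpace.Closeds X) : Set X) =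
      (⋃ l : {l : Fin m // l < k}, (W l.1 : Set X))ᶜ := fun k => rfl
  let TT : (Σ k, Fin (n k)) → Scheme.{u} := fun a =>
    pullback (g a.1 a.2) (lcι (W a.1) (B a.1))
  let gg : ∀ a, TT a ⟶ X := fun a =>
    pullback.fst (g a.1 a.2) (lcι (W a.1) (B a.1)) ≫ g a.1 a.2
  have hrange : ∀ a, Set.range (gg a) =
      Set.range (g a.1 a.2) ∩ ((W a.1 : Set X) ∩ (B a.1 : Set X)) := fun a => by
    rw [← range_lcι]
    exact Scheme.Pullback.range_fst_comp _ _
  have hsub : ∀ k i, Set.range (g k i) ⊆ (W k : Set X) := fun k i => by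
    rw [← hun k]; exact Set.subset_iUnion (fun i => Set.range (g k i)) i
  refine adaptedStrata_of_finite Λ TT gg (fun a => inferInstance) (fun a => ?_) ?_ ?_
    (fun a => isFTLC_pull_comp Λ _ _ F (hflc _ _))
  · rw [hrange, Set.preimage_inter, Set.preimage_inter]
    refine (constr_of_open (W a.1).2 (hWS _) (hret _) (hsub _ _) (hcons _ _)).inter
      ((hWcons _).inter ?_)
    rw [hB, Set.preimage_compl, Set.preimage_iUnion]
    exact (IsConstructible.iUnion fun l => hWcons _).compl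
  · intro a b hab
    change Disjoint (Set.range (gg a)) (Set.range (gg b))
    rw [hrange, hrange, Set.disjoint_left]
    rintro x ⟨hxa, hxWa, hxBa⟩ ⟨hxb, hxWb, hxBb⟩
    obtain ⟨k, i⟩ := a
    obtain ⟨l, j⟩ := b
    dsimp only at hxa hxWa hxBa hxb hxWb hxBb
    have hkl : k = l := by
      rcases lt_trichotomy k l with h | h | h
      · exfalso
        rw [hB] at hxBb
        exact hxBb (Set.mem_iUnion.2 ⟨⟨k, h⟩, hxWa⟩)
      · exact h
      · exfalso
        rw [hB] at hxBa
        exact hxBa (Set.mem_iUnion.2 ⟨⟨l, h⟩, hxWb⟩)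
    subst hkl
    have hij : i ≠ j := fun hij => hab (by rw [hij])
    exact Set.disjoint_left.1 (hdisj k hij) hxa hxb
  · ext x
    simp only [Set.mem_iUnion, hrange]
    constructor
    · rintro ⟨a, -, hxW, -⟩
      exact hWS _ hxW
    · intro hx
      rw [← hS] at hx
      obtain ⟨k, hk, hmin⟩ := (wellFounded_lt (α := Fin m)).has_min
        {k | x ∈ (W k : Set X)} (Set.mem_iUnion.1 hx)
      have hk' : x ∈ (W k : Set X) := hk
      have hxg : x ∈ ⋃ i, Set.range (g k i) := by rw [hun k]; exact hk'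
      obtain ⟨i, hi⟩ := Set.mem_iUnion.1 hxg
      refine ⟨⟨k, i⟩, hi, hk', ?_⟩
      rw [hB]
      intro hmem
      obtain ⟨⟨l, hl⟩, hxl⟩ := Set.mem_iUnion.1 hmem
      exact hmin l hxl hl

/-- gluing over an arbitrary finite index type. -/
theorem adaptedStrata_glue' (F : EtModW.Mod Λ X) (S : Set X) [QuasiSeparatedSpace S] {κ : Type*}
    [Finite κ] (W : κ → X.Opens) (hWc : ∀ k, IsCompact (W k : Set X))
    (hS : (⋃ k, (W k : Set X)) = S) (h : ∀ k, EtModW.AdaptedStrata Λ F (W k : Set X)) :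
    EtModW.AdaptedStrata Λ F S := by
  let e := Finite.equivFin κ
  refine adaptedStrata_glue Λ F S (fun p => W (e.symm p)) (fun p => hWc _) ?_ (fun p => h _)
  rw [← hS]
  exact e.symm.surjective.iUnion_comp (fun k => (W k : Set X))

/-- pulling back an adapted stratification along a morphism, affine-locally. -/
theorem adaptedStrata_pull {Y : Scheme.{u}} (f : X ⟶ Y) (F : EtModW.Mod Λ Y) (V : Y.Opens)
    (hV : IsAffineOpen V) (W : X.Opens) (hW : IsAffineOpen W) (hWV : W ≤ f ⁻¹ᵁ V)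
    (h : EtModW.AdaptedStrata Λ F (V : Set Y)) :
    EtModW.AdaptedStrata Λ ((EtModW.pull Λ f).obj F) (W : Set X) := by
  obtain ⟨n, T, g, himm, hcons, hdisj, hun, hflc⟩ := h
  haveI := himm
  have hrange : ∀ i, Set.range (pullback.fst (W.ι ≫ f) (g i) ≫ W.ι) =
      (W : Set X) ∩ f ⁻¹' Set.range (g i) := fun i => by
    rw [Scheme.Hom.comp_base, TopCat.coe_comp, Set.range_comp, Scheme.Pullback.range_fst,
      Scheme.Hom.comp_base, TopCat.coe_comp, Set.preimage_comp,
      Set.image_preimage_eq_inter_range, Scheme.Opens.range_ι, Set.inter_comm]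
  haveI : IsAffine W.toScheme := hW
  haveI : IsAffine V.toScheme := hV
  have hφ : IsSpectralMap (f.resLE V W hWV) := (f.resLE V W hWV).isSpectralMap
  haveI : QuasiSeparatedSpace (W : Set X) := quasiSeparatedSpace_of_isAffineOpen hW
  haveI : CompactSpace (V : Set Y) := isCompact_iff_compactSpace.1 hV.isCompact
  have hval : ∀ x : W.toScheme, V.ι ((f.resLE V W hWV) x) = f (W.ι x) := fun x => by
    rw [← Scheme.Hom.comp_apply, ← Scheme.Hom.comp_apply, f.resLE_comp_ι hWV]
  refine ⟨n, fun i => pullback (W.ι ≫ f) (g i), fun i => pullback.fst (W.ι ≫ f) (g i) ≫ W.ι,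
    fun i => inferInstance, fun i => ?_, ?_, ?_, fun i => ?_⟩
  · rw [hrange]
    have hpre : ((↑) ⁻¹' ((W : Set X) ∩ f ⁻¹' Set.range (g i)) : Set (W : Set X)) =
        (f.resLE V W hWV : W → V) ⁻¹' ((↑) ⁻¹' Set.range (g i) : Set (V : Set Y)) := by
      ext x
      have h3 : (Subtype.val ((f.resLE V W hWV : W → V) x) : Y) = f x.1 := hval x
      constructor
      · rintro ⟨-, h⟩
        change Subtype.val ((f.resLE V W hWV : W → V) x) ∈ Set.range (g i)
        rw [h3]; exact h
      · intro h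
        change Subtype.val ((f.resLE V W hWV : W → V) x) ∈ Set.range (g i) at h
        rw [h3] at h
        exact ⟨x.2, h⟩
    rw [hpre]
    exact (hcons i).preimage hφ.toContinuous (fun s hs hsr =>
      (hφ.isCompact_preimage_of_isOpen hs hsr.isCompact).isRetrocompact
        (hs.preimage hφ.toContinuous))
  · intro i j hij
    change Disjoint (Set.range (pullback.fst (W.ι ≫ f) (g i) ≫ W.ι))
      (Set.range (pullback.fst (W.ι ≫ f) (g j) ≫ W.ι))
    rw [hrange, hrange]
    exact ((hdisj hij).preimage f).mono Set.inter_subset_right Set.inter_subset_right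
  · simp only [hrange]
    rw [← Set.inter_iUnion, ← Set.preimage_iUnion, hun]
    exact Set.inter_eq_left.2 hWV
  · have h1 := isFTLC_pull_comp Λ (pullback.snd (W.ι ≫ f) (g i)) (g i) F (hflc i)
    have h2 : pullback.snd (W.ι ≫ f) (g i) ≫ g i =
        (pullback.fst (W.ι ≫ f) (g i) ≫ W.ι) ≫ f := by
      rw [Category.assoc]; exact pullback.condition.symm
    rw [h2] at h1
    exact isFTLC_of_iso Λ ((pullCompMod Λ (pullback.fst (W.ι ≫ f) (g i) ≫ W.ι) f).app F) h1

/-- the inverse image of a constructible sheaf of modules is constructible -/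
theorem isConstructible_pull {Y : Scheme.{u}} (f : X ⟶ Y) (F : EtModW.Mod Λ Y)
    (hF : EtModW.IsConstructible Λ F) : EtModW.IsConstructible Λ ((EtModW.pull Λ f).obj F) := by
  intro A hA
  haveI := quasiSeparatedSpace_of_isAffineOpen hA
  obtain ⟨κ, hκ, W, hWaff, hWP, hWcov⟩ :=
    exists_finite_affine_cover A hA.isCompact
      (fun W => ∃ V : Y.Opens, IsAffineOpen V ∧ W ≤ f ⁻¹ᵁ V) (by
        intro x hx
        obtain ⟨_, ⟨V, hVaff, rfl⟩, hxV, -⟩ := Y.isBasis_affineOpens.exists_subset_of_mem_open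
          (Set.mem_univ (f x)) isOpen_univ
        obtain ⟨_, ⟨W, hWaff, rfl⟩, hxW, hWsub⟩ := X.isBasis_affineOpens.exists_subset_of_mem_open
          (show x ∈ ((A ⊓ f ⁻¹ᵁ V : X.Opens) : Set X) from ⟨hx, hxV⟩) (A ⊓ f ⁻¹ᵁ V).2
        exact ⟨W, hWaff, hxW, fun y hy => (hWsub hy).1, V, hVaff, fun y hy => (hWsub hy).2⟩)
  refine adaptedStrata_glue' Λ _ (A : Set X) W
    (fun k => (hWaff k).isCompact) hWcov (fun k => ?_)
  obtain ⟨V, hV, hWV⟩ := hWP k
  exact adaptedStrata_pull Λ f F V hV (W k) (hWaff k) hWV (hF V hV)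

/-- constructibility is invariant under isomorphism -/
theorem isConstructible_of_iso {F F' : EtModW.Mod Λ X} (e : F ≅ F')
    (hF : EtModW.IsConstructible Λ F) : EtModW.IsConstructible Λ F' := by
  intro A hA
  obtain ⟨n, T, g, himm, hcons, hdisj, hun, hflc⟩ := hF A hA
  exact ⟨n, T, g, himm, hcons, hdisj, hun, fun i =>
    isFTLC_of_iso Λ ((EtModW.pull Λ (g i)).mapIso e) (hflc i)⟩

end Groth.Agent.Lib.Helper70.ConstrMod
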