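import Mathlib.RingTheory.Ideal.Operations
import Mathlib.Algebra.Algebra.Operations
import Mathlib.LinearAlgebra.Span.Basic
import Mathlib.LinearAlgebra.Basis.Basic
import Mathlib.LinearAlgebra.Isomorphisms
import Mathlib.LinearAlgebra.Determinant
import Mathlib.RingTheory.PowerSeries.Inverse

/-!
Helper lemmas about submodules of the form `R·1 + R·g + r S'` of a commutative `R`-algebra `S'`.
-/

namespace Groth.Agent.Lib.Helper70

variable {R : Type*} [CommRing R] {S' : Type*} [CommRing S'] [Algebra R S']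

theorem mem_span_smul_top_iff (r : R) (x : S') :
    x ∈ Ideal.span {r} • (⊤ : Submodule R S') ↔ ∃ s : S', r • s = x := by
  rw [Submodule.ideal_span_singleton_smul, Submodule.mem_smul_pointwise_iff_exists]
  simp

theorem mul_mem_span_smul_top (r : R) (z : S') {y : S'}
    (hy : y ∈ Ideal.span {r} • (⊤ : Submodule R S')) :
    z * y ∈ Ideal.span {r} • (⊤ : Submodule R S') := by
  rw [mem_span_smul_top_iff] at hy ⊢
  obtain ⟨s, rfl⟩ := hy
  exact ⟨z * s, by rw [mul_smul_comm]⟩

theorem mul_closed_iff (g : S') (r : R) (S : Submodule R S')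
    (hS : S = Submodule.span R {(1 : S'), g} ⊔ Ideal.span {r} • (⊤ : Submodule R S')) :
    (∀ x ∈ S, ∀ y ∈ S, x * y ∈ S) ↔ g * g ∈ S := by
  have h1 : (1 : S') ∈ S := by
    rw [hS]
    exact Submodule.mem_sup_left (Submodule.subset_span (by simp))
  have hg : g ∈ S := by
    rw [hS]
    exact Submodule.mem_sup_left (Submodule.subset_span (by simp))
  have hN : Ideal.span {r} • (⊤ : Submodule R S') ≤ S := by
    rw [hS]
    exact le_sup_right
  constructor
  · intro h
    exact h g hg g hg
  · intro hgg x hx y hy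
    rw [hS] at hx hy
    obtain ⟨p, hp, a, ha, rfl⟩ := Submodule.mem_sup.1 hx
    obtain ⟨q, hq, b, hb, rfl⟩ := Submodule.mem_sup.1 hy
    obtain ⟨α, β, rfl⟩ := Submodule.mem_span_pair.1 hp
    obtain ⟨γ, δ, rfl⟩ := Submodule.mem_span_pair.1 hq
    have e : (α • (1 : S') + β • g + a) * (γ • (1 : S') + δ • g + b) =
        ((α * γ) • (1 : S') + (α * δ + β * γ) • g + (β * δ) • (g * g)) +
          ((α • (1 : S') + β • g) * b + (γ • (1 : S') + δ • g + b) * a) := by
      simp only [Algebra.smul_def, mul_one, map_mul, map_add]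
      ring
    rw [e]
    refine S.add_mem (S.add_mem (S.add_mem ?_ ?_) ?_) (S.add_mem ?_ ?_)
    · exact S.smul_mem _ h1
    · exact S.smul_mem _ hg
    · exact S.smul_mem _ hgg
    · exact hN (mul_mem_span_smul_top r _ hb)
    · exact hN (mul_mem_span_smul_top r _ ha)

/-- The quotient of a free module with basis `B 0, B 1, B 2` by
`R·B 0 + R·(a B 1) + c F`, where `a ∣ c`, is `R/(a) × R/(c)`. -/
theorem quotient_equiv_of_basis {F : Type*} [AddCommGroup F] [Module R F]
    (B : Module.Basis (Fin 3) R F) (a c : R) (hac : a ∣ c) (S : Submodule R F)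
    (hS : S = Submodule.span R {B 0, a • B 1} ⊔ Ideal.span {c} • (⊤ : Submodule R F)) :
    Nonempty ((F ⧸ S) ≃ₗ[R] (R ⧸ Ideal.span {a}) × (R ⧸ Ideal.span {c})) := by
  let ψ : F →ₗ[R] (R ⧸ Ideal.span {a}) × (R ⧸ Ideal.span {c}) :=
    LinearMap.prod ((Submodule.mkQ (Ideal.span {a})).comp (B.coord 1))
      ((Submodule.mkQ (Ideal.span {c})).comp (B.coord 2))
  have hψ : ∀ x, ψ x = (Submodule.Quotient.mk (B.coord 1 x), Submodule.Quotient.mk (B.coord 2 x)) :=
    fun x => rfl
  have hmem : ∀ x, x ∈ LinearMap.ker ψ ↔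
      B.coord 1 x ∈ Ideal.span {a} ∧ B.coord 2 x ∈ Ideal.span {c} := by
    intro x
    rw [LinearMap.mem_ker, hψ, Prod.mk_eq_zero, Submodule.Quotient.mk_eq_zero,
      Submodule.Quotient.mk_eq_zero]
  have hca : Ideal.span {c} ≤ Ideal.span {a} := Ideal.span_singleton_le_span_singleton.2 hac
  have hsurj : Function.Surjective ψ := by
    rintro ⟨β', γ'⟩
    obtain ⟨β, rfl⟩ := Submodule.Quotient.mk_surjective _ β'
    obtain ⟨γ, rfl⟩ := Submodule.Quotient.mk_surjective _ γ'
    refine ⟨β • B 1 + γ • B 2, ?_⟩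
    rw [hψ]
    simp [Module.Basis.coord_apply]
  have hker : LinearMap.ker ψ = S := by
    apply le_antisymm
    · intro x hx
      rw [hmem] at hx
      obtain ⟨h1, h2⟩ := hx
      obtain ⟨x1, hx1⟩ := Ideal.mem_span_singleton.1 h1
      obtain ⟨x2, hx2⟩ := Ideal.mem_span_singleton.1 h2
      have hx : x = (B.coord 0 x • B 0 + x1 • (a • B 1)) + (c * x2) • B 2 := by
        conv_lhs => rw [← B.sum_repr x, Fin.sum_univ_three]
        rw [← hx2, smul_smul, mul_comm x1 a, ← hx1]
        rfl
      rw [hx, hS]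
      refine Submodule.add_mem_sup ?_ ?_
      · exact Submodule.mem_span_pair.2 ⟨_, _, rfl⟩
      · exact Submodule.smul_mem_smul (Ideal.mul_mem_right _ _ (Ideal.mem_span_singleton_self c))
          Submodule.mem_top
    · rw [hS]
      refine sup_le (Submodule.span_le.2 ?_) (Submodule.smul_le.2 ?_)
      · rintro x (rfl | rfl)
        · rw [SetLike.mem_coe, hmem]
          simp [Module.Basis.coord_apply]
        · rw [SetLike.mem_coe, hmem]
          simp [Module.Basis.coord_apply]
      · intro r hr y _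
        rw [hmem, map_smul, map_smul, smul_eq_mul, smul_eq_mul]
        exact ⟨Ideal.mul_mem_right _ _ (hca hr), Ideal.mul_mem_right _ _ hr⟩
  exact ⟨(Submodule.quotEquivOfEq _ _ hker.symm).trans (ψ.quotKerEquivOfSurjective hsurj)⟩

/-- In `k⟦t⟧³`, an element `f` not in `R·1 + t R³` together with `1` extends to a basis. -/
theorem exists_basis_of_not_mem {k : Type*} [Field k] (f : Fin 3 → PowerSeries k)
    (hf : f ∉ Submodule.span (PowerSeries k) {(1 : Fin 3 → PowerSeries k)} ⊔
      Ideal.span {(PowerSeries.X : PowerSeries k)} •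
        (⊤ : Submodule (PowerSeries k) (Fin 3 → PowerSeries k))) :
    ∃ B : Module.Basis (Fin 3) (PowerSeries k) (Fin 3 → PowerSeries k), B 0 = 1 ∧ B 1 = f := by
  have hnu : ∀ p : PowerSeries k, ¬ IsUnit p → ∃ q, p = PowerSeries.X * q := by
    intro p hp
    have h0 : PowerSeries.constantCoeff p = 0 := by
      by_contra h
      exact hp (PowerSeries.isUnit_iff_constantCoeff.2 (isUnit_iff_ne_zero.2 h))
    exact PowerSeries.X_dvd_iff.2 h0
  have hcase : IsUnit (f 1 - f 0) ∨ IsUnit (f 2 - f 0) := by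
    by_contra hcon
    rw [not_or] at hcon
    obtain ⟨p, hp⟩ := hnu _ hcon.1
    obtain ⟨q, hq⟩ := hnu _ hcon.2
    apply hf
    have e : f = f 0 • (1 : Fin 3 → PowerSeries k) +
        (PowerSeries.X : PowerSeries k) • (![0, p, q] : Fin 3 → PowerSeries k) := by
      funext i
      fin_cases i
      · simp
      · simp only [Fin.mk_one, Fin.isValue, Pi.add_apply, Pi.smul_apply, Pi.one_apply, smul_eq_mul,
          mul_one, Matrix.cons_val_one, Matrix.cons_val_zero]
        rw [← hp]
        ring
      · simp only [Fin.reduceFinMk, Fin.isValue, Pi.add_apply, Pi.smul_apply, Pi.one_apply,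
          smul_eq_mul, mul_one, Matrix.cons_val_two, Matrix.tail_cons, Matrix.head_cons]
        rw [← hq]
        ring
    rw [e]
    refine Submodule.add_mem_sup (Submodule.smul_mem _ _ (Submodule.mem_span_singleton_self _)) ?_
    exact Submodule.smul_mem_smul (Ideal.mem_span_singleton_self _) Submodule.mem_top
  rcases hcase with h | h
  · have hdet : IsUnit ((Pi.basisFun (PowerSeries k) (Fin 3)).det
        (![1, f, Pi.single 2 1] : Fin 3 → Fin 3 → PowerSeries k)) := by
      rw [Pi.basisFun_det_apply, Matrix.det_fin_three]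
      simp only [Matrix.of_apply, Matrix.cons_val_zero, Matrix.cons_val_one, Matrix.cons_val_two,
        Matrix.tail_cons, Matrix.head_cons, Pi.one_apply, Pi.single_apply]
      convert h using 1
      simp
    obtain ⟨hli, hsp⟩ := (Pi.basisFun (PowerSeries k) (Fin 3)).is_basis_iff_det.2 hdet
    exact ⟨Module.Basis.mk hli hsp.ge, by simp, by simp⟩
  · have hdet : IsUnit ((Pi.basisFun (PowerSeries k) (Fin 3)).det
        (![1, f, Pi.single 1 1] : Fin 3 → Fin 3 → PowerSeries k)) := by
      rw [Pi.basisFun_det_apply, Matrix.det_fin_three]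
      simp only [Matrix.of_apply, Matrix.cons_val_zero, Matrix.cons_val_one, Matrix.cons_val_two,
        Matrix.tail_cons, Matrix.head_cons, Pi.one_apply, Pi.single_apply]
      have h' : IsUnit (-(f 2 - f 0)) := h.neg
      convert h' using 1
      simp
      ring
    obtain ⟨hli, hsp⟩ := (Pi.basisFun (PowerSeries k) (Fin 3)).is_basis_iff_det.2 hdet
    exact ⟨Module.Basis.mk hli hsp.ge, by simp, by simp⟩

end Groth.Agent.Lib.Helper70
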