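import Mathlib.RingTheory.DiscreteValuationRing.TFAE
import Mathlib.RingTheory.Filtration

/-!
# A criterion for discrete valuation rings

A Noetherian local ring whose maximal ideal is generated by a non-zero-divisor is a domain and a
discrete valuation ring. (helper70)
-/

set_option autoImplicit false
universe u

namespace Groth.Agent.Lib.Helper70

open IsLocalRing

variable {R : Type u} [CommRing R] [IsLocalRing R] [IsNoetherianRing R]

/-- every nonzero element is a unit times a power of the generator -/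
theorem exists_unit_mul_pow_of_maximalIdeal_eq_span (t : R)
    (ht : maximalIdeal R = Ideal.span {t}) (x : R) (hx : x ≠ 0) :
    ∃ (n : ℕ) (u : R), IsUnit u ∧ x = u * t ^ n := by
  classical
  have hinf : ⨅ n : ℕ, maximalIdeal R ^ n = ⊥ :=
    Ideal.iInf_pow_eq_bot_of_isLocalRing _ (Ideal.IsMaximal.ne_top inferInstance)
  have hex : ∃ n : ℕ, x ∉ maximalIdeal R ^ n := by
    by_contra hcon
    push Not at hcon
    have : x ∈ ⨅ n : ℕ, maximalIdeal R ^ n := (Ideal.mem_iInf).2 hcon
    rw [hinf, Ideal.mem_bot] at this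
    exact hx this
  have h0 : Nat.find hex ≠ 0 := by
    intro h
    have := Nat.find_spec hex
    rw [h, pow_zero, Ideal.one_eq_top] at this
    exact this trivial
  obtain ⟨n, hn⟩ := Nat.exists_eq_succ_of_ne_zero h0
  have hmem : x ∈ maximalIdeal R ^ n := by
    by_contra hcon
    have := Nat.find_min' hex hcon
    omega
  have hnot : x ∉ maximalIdeal R ^ (n + 1) := by
    have := Nat.find_spec hex
    rwa [hn] at this
  rw [ht, Ideal.span_singleton_pow, Ideal.mem_span_singleton'] at hmem
  obtain ⟨u, hu⟩ := hmem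
  refine ⟨n, u, ?_, hu.symm⟩
  by_contra hunit
  have hum : u ∈ maximalIdeal R := (mem_maximalIdeal u).2 hunit
  rw [ht, Ideal.mem_span_singleton'] at hum
  obtain ⟨v, hv⟩ := hum
  apply hnot
  rw [ht, Ideal.span_singleton_pow, Ideal.mem_span_singleton']
  exact ⟨v, by rw [← hu, ← hv, pow_succ]; ring⟩

theorem isDomain_of_maximalIdeal_eq_span (t : R) (ht : maximalIdeal R = Ideal.span {t})
    (hreg : t ∈ nonZeroDivisors R) : IsDomain R := by
  have : NoZeroDivisors R := by
    refine ⟨fun {x y} hxy => ?_⟩
    by_contra hcon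
    push Not at hcon
    obtain ⟨n, u, hu, rfl⟩ := exists_unit_mul_pow_of_maximalIdeal_eq_span t ht x hcon.1
    obtain ⟨m, v, hv, rfl⟩ := exists_unit_mul_pow_of_maximalIdeal_eq_span t ht y hcon.2
    have h1 : (u * v) * t ^ (n + m) = 0 := by rw [← hxy, pow_add]; ring
    have h2 : t ^ (n + m) = 0 := by
      have := (hu.mul hv).mul_right_eq_zero.1 h1
      exact this
    have h3 : t ^ (n + m) ∈ nonZeroDivisors R := pow_mem hreg _
    have h4 : (1 : R) * t ^ (n + m) = 0 := by rw [one_mul, h2]
    have h5 : (1 : R) = 0 := (mem_nonZeroDivisors_iff_right.1 h3) 1 h4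
    exact one_ne_zero h5
  exact NoZeroDivisors.to_isDomain R

theorem isDiscreteValuationRing_of_maximalIdeal_eq_span (t : R)
    (ht : maximalIdeal R = Ideal.span {t}) (hreg : t ∈ nonZeroDivisors R) :
    ∃ _ : IsDomain R, IsDiscreteValuationRing R := by
  have hdom : IsDomain R := isDomain_of_maximalIdeal_eq_span t ht hreg
  refine ⟨hdom, ?_⟩
  have hprin : (maximalIdeal R).IsPrincipal := ⟨⟨t, ht⟩⟩
  have hpid : IsPrincipalIdealRing R :=
    ((tfae_of_isNoetherianRing_of_isLocalRing_of_isDomain R).out 4 0).1 hprin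
  have hne : maximalIdeal R ≠ ⊥ := by
    rw [ht]
    intro h
    have ht0 : t = 0 := Ideal.span_singleton_eq_bot.1 h
    have : (1 : R) * t = 0 := by rw [ht0, mul_zero]
    exact one_ne_zero ((mem_nonZeroDivisors_iff_right.1 hreg) 1 this)
  exact { hpid with not_a_field' := hne }

end Groth.Agent.Lib.Helper70
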