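import Mathlib
import Groth.Prelude.Def_EtShriek2
import Groth.Agent.Lib.Helper47.EtRestr
import Groth.Agent.S6632

set_option autoImplicit false
open CategoryTheory CategoryTheory.Limits AlgebraicGeometry Opposite

universe u

namespace Groth.Agent.Lib.Helper70.EtaleBC

open Groth.Agent.Lib.Helper47

variable {V' V Y X : Scheme.{u}} (j : V ⟶ X) [Etale j] (f : Y ⟶ X) (j' : V' ⟶ Y) [Etale j']
  (f' : V' ⟶ V) (h : IsPullback j' f' f j)

omit [Etale j] [Etale j'] in
include h in
theorem isPullback_big (W : V.Etale) :
    IsPullback (pullback.fst W.hom f') (pullback.snd W.hom f' ≫ j') (W.hom ≫ j) f :=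
  ((IsPullback.of_hasPullback W.hom f').flip.paste_horiz h).flip

set_option backward.isDefEq.respectTransparency.types false in
/-- the comparison isomorphism `(W ×_V V' → V' → Y) ≅ ((W → V → X) ×_X Y → Y)` -/
noncomputable def objIso (W : V.Etale) :
    (EtShriek.compEtale j').obj ((EtCoh.bc f').obj W) ≅
      (EtCoh.bc f).obj ((EtShriek.compEtale j).obj W) :=
  MorphismProperty.Over.isoMk (isPullback_big j f j' f' h W).isoPullback
    (IsPullback.isoPullback_hom_snd _)


set_option backward.isDefEq.respectTransparency.types false in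
theorem objIso_hom_left_fst (W : V.Etale) :
    (objIso j f j' f' h W).hom.left ≫ pullback.fst (W.hom ≫ j) f = pullback.fst W.hom f' :=
  IsPullback.isoPullback_hom_fst _

set_option backward.isDefEq.respectTransparency.types false in
theorem objIso_hom_left_snd (W : V.Etale) :
    (objIso j f j' f' h W).hom.left ≫ pullback.snd (W.hom ≫ j) f = pullback.snd W.hom f' ≫ j' :=
  IsPullback.isoPullback_hom_snd _

set_option backward.isDefEq.respectTransparency.types false in
/-- base change of site functors along an étale morphism -/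
noncomputable def siteIso :
    EtCoh.bc f' ⋙ EtShriek.compEtale j' ≅ EtShriek.compEtale j ⋙ EtCoh.bc f :=
  NatIso.ofComponents (fun W => objIso j f j' f' h W) (by
    intro W₁ W₂ g
    apply MorphismProperty.Over.Hom.ext
    apply pullback.hom_ext
    · have e1 := objIso_hom_left_fst j f j' f' h W₂
      have e2 := objIso_hom_left_fst j f j' f' h W₁
      have e3 := Groth.Agent.S6632.bc_map_left_fst f' g
      have e4 := Groth.Agent.S6632.bc_map_left_fst f ((EtShriek.compEtale j).map g)
      change (((EtCoh.bc f').map g).left ≫ (objIso j f j' f' h W₂).hom.left) ≫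
        pullback.fst (W₂.hom ≫ j) f = ((objIso j f j' f' h W₁).hom.left ≫
          ((EtCoh.bc f).map ((EtShriek.compEtale j).map g)).left) ≫ pullback.fst (W₂.hom ≫ j) f
      have l1 := ((Category.assoc _ _ _).trans
        ((congrArg (fun q => ((EtCoh.bc f').map g).left ≫ q) e1).trans e3))
      have r1 := (Category.assoc (objIso j f j' f' h W₁).hom.left
        ((EtCoh.bc f).map ((EtShriek.compEtale j).map g)).left
        (pullback.fst (W₂.hom ≫ j) f)).trans
        ((congrArg (fun q => (objIso j f j' f' h W₁).hom.left ≫ q) e4).trans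
          ((Category.assoc _ _ _).symm.trans (congrArg (fun q => q ≫ g.left) e2)))
      exact l1.trans r1.symm
    · have e1 := objIso_hom_left_snd j f j' f' h W₂
      have e2 := objIso_hom_left_snd j f j' f' h W₁
      have e3 := Groth.Agent.S6632.bc_map_left_snd f' g
      have e4 := Groth.Agent.S6632.bc_map_left_snd f ((EtShriek.compEtale j).map g)
      change (((EtCoh.bc f').map g).left ≫ (objIso j f j' f' h W₂).hom.left) ≫
        pullback.snd (W₂.hom ≫ j) f = ((objIso j f j' f' h W₁).hom.left ≫
          ((EtCoh.bc f).map ((EtShriek.compEtale j).map g)).left) ≫ pullback.snd (W₂.hom ≫ j) f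
      have l1 := ((Category.assoc _ _ _).trans
        ((congrArg (fun q => ((EtCoh.bc f').map g).left ≫ q) e1).trans
          ((Category.assoc _ _ _).symm.trans (congrArg (fun q => q ≫ j') e3))))
      have r1 := (Category.assoc (objIso j f j' f' h W₁).hom.left
        ((EtCoh.bc f).map ((EtShriek.compEtale j).map g)).left
        (pullback.snd (W₂.hom ≫ j) f)).trans
        ((congrArg (fun q => (objIso j f j' f' h W₁).hom.left ≫ q) e4).trans e2)
      exact l1.trans r1.symm)


variable [EtShriek.JCont j] [EtShriek.JCont j']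

instance isContinuous_comp_bc : (EtShriek.compEtale j ⋙ EtCoh.bc f).IsContinuous
    V.smallEtaleTopology Y.smallEtaleTopology :=
  Functor.isContinuous_comp _ _ _ X.smallEtaleTopology _

/-- étale base change: `j^{-1} f_* ≅ f'_* j'^{-1}` -/
noncomputable def pushRestrIso :
    EtCoh.push f ⋙ EtShriek.restrAlong j ≅ EtShriek.restrAlong j' ⋙ EtCoh.push f' :=
  (Functor.sheafPushforwardContinuousComp' (F := EtShriek.compEtale j) (G := EtCoh.bc f)
    (FG := EtShriek.compEtale j ⋙ EtCoh.bc f) (Iso.refl _) AddCommGrpCat.{u + 1}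
    V.smallEtaleTopology X.smallEtaleTopology Y.smallEtaleTopology) ≪≫
  (Functor.sheafPushforwardContinuousComp' (F := EtCoh.bc f') (G := EtShriek.compEtale j')
    (FG := EtShriek.compEtale j ⋙ EtCoh.bc f) (siteIso j f j' f' h) AddCommGrpCat.{u + 1}
    V.smallEtaleTopology V'.smallEtaleTopology Y.smallEtaleTopology).symm

/-- extension by zero commutes with pullback -/
noncomputable def pullExtZeroIso :
    EtCoh.pull f' ⋙ EtShriek.extZero j' ≅ EtShriek.extZero j ⋙ EtCoh.pull f :=
  Adjunction.leftAdjointUniq ((EtCoh.pullPushAdj f').comp (EtShriek.extZeroAdj j'))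
    (((EtShriek.extZeroAdj j).comp (EtCoh.pullPushAdj f)).ofNatIsoRight
      (pushRestrIso j f j' f' h))

end Groth.Agent.Lib.Helper70.EtaleBC
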