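import Mathlib
import Groth.Prelude.Def_EtBase
import Groth.Prelude.Def_EtShriek2
import Groth.Agent.Lib.Helper70.ExtZeroShriek

set_option autoImplicit false
open CategoryTheory CategoryTheory.Limits AlgebraicGeometry Opposite

universe u

namespace Groth.Agent.Lib.Helper70.ExtZeroPush

variable {U X : Scheme.{u}} (j : U ⟶ X)

/-- the inclusion of the sections with proper support, as a natural transformation -/
noncomputable def preι : EtShriek.lowerShriekPreFunctor j ⟶
    EtCoh.push j ⋙ sheafToPresheaf X.smallEtaleTopology AddCommGrpCat.{u + 1} where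
  app F := EtShriek.lowerShriekPreι j F
  naturality F G α := by
    ext V ⟨s, hs⟩
    rfl

instance (F : EtCoh.Ab U) : Mono ((preι j).app F) := by
  haveI : ∀ V, Mono (((preι j).app F).app V) := by
    intro V
    exact (AddCommGrpCat.mono_iff_injective _).mpr Subtype.val_injective
  exact NatTrans.mono_of_mono_app _

/-- the natural map `j_!^{prop} ⟶ j_*` -/
noncomputable def toPush : EtShriek.lowerShriek j ⟶ EtCoh.push j :=
  Functor.whiskerRight (preι j) (presheafToSheaf X.smallEtaleTopology AddCommGrpCat.{u + 1}) ≫
    (Functor.associator _ _ _).hom ≫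
    Functor.whiskerLeft (EtCoh.push j)
      (sheafificationAdjunction X.smallEtaleTopology AddCommGrpCat.{u + 1}).counit ≫
    (Functor.rightUnitor _).hom

instance (F : EtCoh.Ab U) : Mono ((toPush j).app F) := by
  have h : (toPush j).app F =
      (presheafToSheaf X.smallEtaleTopology AddCommGrpCat.{u + 1}).map ((preι j).app F) ≫
      (sheafificationAdjunction X.smallEtaleTopology AddCommGrpCat.{u + 1}).counit.app
        ((EtCoh.push j).obj F) := by
    simp [toPush]
  rw [h]
  infer_instance

end Groth.Agent.Lib.Helper70.ExtZeroPush
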