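import Mathlib
import Groth.Prelude.Def_EtBase
import Groth.Agent.Lib.Helper70.FinPushStalk
import Groth.Agent.Lib.Helper70.StalkConsAlg
import Groth.Agent.Lib.Helper70.PullSection

set_option autoImplicit false
open CategoryTheory CategoryTheory.Limits AlgebraicGeometry Opposite

universe u

namespace Groth.Agent.Lib.Helper70.FinBC

open Groth.Agent.Lib.Helper70.ClosedImmStalk2 Groth.Agent.Lib.Helper70.FinPushStalk
  Groth.Agent.Lib.Helper70.StalkPullGerm Groth.Agent.Lib.Helper70.PullSection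

variable {X Y X' Y' : Scheme.{u}} (f : X ⟶ Y) (g : Y' ⟶ Y) (f' : X' ⟶ Y') (g' : X' ⟶ X)
  (w : g' ≫ f = f' ≫ g) (F : EtCoh.Ab X)

/-- the transpose of the base change map -/
noncomputable def φ : (EtCoh.push f).obj F ⟶
    (EtCoh.push g).obj ((EtCoh.push f').obj ((EtCoh.pull g').obj F)) :=
  (EtCoh.push f).map ((EtCoh.pullPushAdj g').unit.app F) ≫ (EtCoh.pushComp f g').hom.app _ ≫
    (EtCoh.pushCongr w).hom.app _ ≫ (EtCoh.pushComp g f').inv.app _

theorem unit_comp :
    (EtCoh.pullPushAdj g).unit.app ((EtCoh.push f).obj F) ≫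
      (EtCoh.push g).map (EtCoh.baseChange0 f g f' g' w F) = φ f g f' g' w F := by
  refine ((EtCoh.pullPushAdj g).homEquiv_unit _ _ _).symm.trans ?_
  exact Equiv.apply_symm_apply _ _

/-- the comparison of the two iterated base changes -/
noncomputable def θ (V : Y.Etale) :
    (EtCoh.bc f').obj ((EtCoh.bc g).obj V) ⟶ (EtCoh.bc g').obj ((EtCoh.bc f).obj V) :=
  (MorphismProperty.Over.pullbackComp (P := EtCoh.etaleMP) (Q := ⊤) f' g).inv.app V ≫
    (MorphismProperty.Over.pullbackCongr (P := EtCoh.etaleMP) (Q := ⊤) w).inv.app V ≫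
    (MorphismProperty.Over.pullbackComp (P := EtCoh.etaleMP) (Q := ⊤) g' f).hom.app V

set_option backward.isDefEq.respectTransparency.types false in
theorem φ_app (V : Y.Etale) (s : ToType (((EtCoh.push f).obj F).obj.obj (op V))) :
    (φ f g f' g' w F).hom.app (op V) s =
      ((EtCoh.pull g').obj F).obj.map (θ f g f' g' w V).op
        (((EtCoh.pullPushAdj g').unit.app F).hom.app (op ((EtCoh.bc f).obj V)) s) := by
  have h1 : ((EtCoh.pushComp f g').hom.app ((EtCoh.pull g').obj F)).hom.app (op V) =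
      ((EtCoh.pull g').obj F).obj.map
        ((MorphismProperty.Over.pullbackComp (P := EtCoh.etaleMP) (Q := ⊤) g' f).hom.app V).op :=
    Functor.sheafPushforwardContinuousComp'_hom_app_hom_app _ _ _ _ _ _ _
  have h2 : ((EtCoh.pushComp g f').inv.app ((EtCoh.pull g').obj F)).hom.app (op V) =
      ((EtCoh.pull g').obj F).obj.map
        ((MorphismProperty.Over.pullbackComp (P := EtCoh.etaleMP) (Q := ⊤) f' g).inv.app V).op :=
    Functor.sheafPushforwardContinuousComp'_inv_app_hom_app _ _ _ _ _ _ _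
  have h3 : ((EtCoh.pushCongr w).hom.app ((EtCoh.pull g').obj F)).hom.app (op V) =
      ((EtCoh.pull g').obj F).obj.map
        ((MorphismProperty.Over.pullbackCongr (P := EtCoh.etaleMP) (Q := ⊤) w).inv.app V).op := rfl
  have h0 : (φ f g f' g' w F).hom.app (op V) s =
      ((EtCoh.pushComp g f').inv.app ((EtCoh.pull g').obj F)).hom.app (op V)
        (((EtCoh.pushCongr w).hom.app ((EtCoh.pull g').obj F)).hom.app (op V)
          (((EtCoh.pushComp f g').hom.app ((EtCoh.pull g').obj F)).hom.app (op V)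
            (((EtCoh.pullPushAdj g').unit.app F).hom.app (op ((EtCoh.bc f).obj V)) s))) := rfl
  rw [h0, h1, h2, h3]
  simp only [θ, op_comp, Functor.map_comp, ConcreteCategory.comp_apply]
  rfl

set_option backward.isDefEq.respectTransparency.types false in
theorem θ_left_fst_fst (V : Y.Etale) :
    (θ f g f' g' w V).left ≫ pullback.fst (pullback.snd V.hom f) g' ≫ pullback.fst V.hom f =
      pullback.fst (pullback.snd V.hom g) f' ≫ pullback.fst V.hom g := by
  have h3 := MorphismProperty.Over.pullbackComp_left_fst_fst (P := EtCoh.etaleMP) (Q := ⊤) g' f V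
  have h1 := MorphismProperty.Over.pullbackComp_left_fst_fst (P := EtCoh.etaleMP) (Q := ⊤) f' g V
  have h2 := MorphismProperty.Over.pullbackCongr_hom_app_left_fst (P := EtCoh.etaleMP) (Q := ⊤) w V
  have e1 : ((MorphismProperty.Over.pullbackComp (P := EtCoh.etaleMP) (Q := ⊤) f' g).inv.app V).left ≫
      ((MorphismProperty.Over.pullbackComp (P := EtCoh.etaleMP) (Q := ⊤) f' g).hom.app V).left =
      𝟙 _ := by
    rw [← MorphismProperty.Comma.comp_left, Iso.inv_hom_id_app]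
    rfl
  have e2 : ((MorphismProperty.Over.pullbackCongr (P := EtCoh.etaleMP) (Q := ⊤) w).inv.app V).left ≫
      ((MorphismProperty.Over.pullbackCongr (P := EtCoh.etaleMP) (Q := ⊤) w).hom.app V).left =
      𝟙 _ := by
    rw [← MorphismProperty.Comma.comp_left, Iso.inv_hom_id_app]
    rfl
  have k2 : ((MorphismProperty.Over.pullbackCongr (P := EtCoh.etaleMP) (Q := ⊤) w).inv.app V).left ≫
      pullback.fst V.hom (g' ≫ f) = pullback.fst V.hom (f' ≫ g) := by
    rw [← h2, ← Category.assoc, e2, Category.id_comp]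
  have k1 : ((MorphismProperty.Over.pullbackComp (P := EtCoh.etaleMP) (Q := ⊤) f' g).inv.app V).left ≫
      pullback.fst V.hom (f' ≫ g) =
      pullback.fst (pullback.snd V.hom g) f' ≫ pullback.fst V.hom g := by
    rw [← h1, ← Category.assoc, e1, Category.id_comp]
    rfl
  have hθ : (θ f g f' g' w V).left =
      ((MorphismProperty.Over.pullbackComp (P := EtCoh.etaleMP) (Q := ⊤) f' g).inv.app V).left ≫
      ((MorphismProperty.Over.pullbackCongr (P := EtCoh.etaleMP) (Q := ⊤) w).inv.app V).left ≫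
      ((MorphismProperty.Over.pullbackComp (P := EtCoh.etaleMP) (Q := ⊤) g' f).hom.app V).left := rfl
  obtain ⟨a, ha⟩ : ∃ a : pullback (pullback.snd V.hom g) f' ⟶ pullback V.hom (f' ≫ g), a =
      ((MorphismProperty.Over.pullbackComp (P := EtCoh.etaleMP) (Q := ⊤) f' g).inv.app V).left :=
    ⟨_, rfl⟩
  obtain ⟨b, hb⟩ : ∃ b : pullback V.hom (f' ≫ g) ⟶ pullback V.hom (g' ≫ f), b =
      ((MorphismProperty.Over.pullbackCongr (P := EtCoh.etaleMP) (Q := ⊤) w).inv.app V).left :=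
    ⟨_, rfl⟩
  obtain ⟨c, hc⟩ : ∃ c : pullback V.hom (g' ≫ f) ⟶ pullback (pullback.snd V.hom f) g', c =
      ((MorphismProperty.Over.pullbackComp (P := EtCoh.etaleMP) (Q := ⊤) g' f).hom.app V).left :=
    ⟨_, rfl⟩
  have h3' : c ≫ pullback.fst (pullback.snd V.hom f) g' ≫ pullback.fst V.hom f =
      pullback.fst V.hom (g' ≫ f) := by rw [hc]; exact h3
  have k2' : b ≫ pullback.fst V.hom (g' ≫ f) = pullback.fst V.hom (f' ≫ g) := by rw [hb]; exact k2
  have k1' : a ≫ pullback.fst V.hom (f' ≫ g) =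
      pullback.fst (pullback.snd V.hom g) f' ≫ pullback.fst V.hom g := by rw [ha]; exact k1
  have hθ' : (θ f g f' g' w V).left = a ≫ b ≫ c := by rw [ha, hb, hc]; exact hθ
  have key : (a ≫ b ≫ c) ≫ pullback.fst (pullback.snd V.hom f) g' ≫ pullback.fst V.hom f =
      pullback.fst (pullback.snd V.hom g) f' ≫ pullback.fst V.hom g := by
    rw [Category.assoc, Category.assoc, h3', k2', k1']
  exact (congrArg (fun q => q ≫ pullback.fst (pullback.snd V.hom f) g' ≫ pullback.fst V.hom f)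
    hθ').trans key

set_option backward.isDefEq.respectTransparency.types false in
theorem θ_left_snd (V : Y.Etale) :
    (θ f g f' g' w V).left ≫ pullback.snd (pullback.snd V.hom f) g' =
      pullback.snd (pullback.snd V.hom g) f' :=
  MorphismProperty.Over.w (θ f g f' g' w V)

section Pt

variable {Ω : Type u} [Field Ω] [IsSepClosed Ω] (η' : Spec (CommRingCat.of Ω) ⟶ Y')
  (ξ' : Spec (CommRingCat.of Ω) ⟶ X') (hξ' : ξ' ≫ f' = η') (hξ : (ξ' ≫ g') ≫ f = η' ≫ g)

set_option backward.isDefEq.respectTransparency.types false in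
theorem fiber_map_θ (V : Y.Etale) (v : (Scheme.pointSmallEtale (η' ≫ g)).fiber.obj V) :
    (Scheme.pointSmallEtale ξ').fiber.map (θ f g f' g' w V)
      (lift f' η' ξ' hξ' ((EtCoh.bc g).obj V) (tilde g η' V v)) =
      tilde g' ξ' ((EtCoh.bc f).obj V) (lift f (η' ≫ g) (ξ' ≫ g') hξ V v) := by
  apply Over.OverMorphism.ext
  obtain ⟨vl, hvl⟩ : ∃ vl : Spec (CommRingCat.of Ω) ⟶ V.left, vl = v.left := ⟨_, rfl⟩
  have hvw : vl ≫ V.hom = η' ≫ g := by rw [hvl]; exact Over.w v
  -- the two geometric points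
  obtain ⟨p, hp⟩ : ∃ p : Spec (CommRingCat.of Ω) ⟶ pullback (pullback.snd V.hom g) f',
      p = (lift f' η' ξ' hξ' ((EtCoh.bc g).obj V) (tilde g η' V v)).left := ⟨_, rfl⟩
  have hp1 : p ≫ pullback.fst (pullback.snd V.hom g) f' ≫ pullback.fst V.hom g = vl := by
    rw [hp, hvl]
    refine (Category.assoc _ _ _).symm.trans ?_
    refine (congrArg (fun q => q ≫ pullback.fst V.hom g) (pullback.lift_fst _ _ _)).trans ?_
    exact pullback.lift_fst _ _ _
  have hp2 : p ≫ pullback.snd (pullback.snd V.hom g) f' = ξ' := by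
    rw [hp]
    exact pullback.lift_snd _ _ _
  obtain ⟨q, hq⟩ : ∃ q : Spec (CommRingCat.of Ω) ⟶ pullback (pullback.snd V.hom f) g',
      q = (tilde g' ξ' ((EtCoh.bc f).obj V) (lift f (η' ≫ g) (ξ' ≫ g') hξ V v)).left := ⟨_, rfl⟩
  have hq1 : q ≫ pullback.fst (pullback.snd V.hom f) g' ≫ pullback.fst V.hom f = vl := by
    rw [hq, hvl]
    refine (Category.assoc _ _ _).symm.trans ?_
    refine (congrArg (fun q => q ≫ pullback.fst V.hom f) (pullback.lift_fst _ _ _)).trans ?_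
    exact pullback.lift_fst _ _ _
  have hq2 : q ≫ pullback.snd (pullback.snd V.hom f) g' = ξ' := by
    rw [hq]
    exact pullback.lift_snd _ _ _
  obtain ⟨t, ht⟩ : ∃ t : pullback (pullback.snd V.hom g) f' ⟶ pullback (pullback.snd V.hom f) g',
      t = (θ f g f' g' w V).left := ⟨_, rfl⟩
  have ht1 : t ≫ pullback.fst (pullback.snd V.hom f) g' ≫ pullback.fst V.hom f =
      pullback.fst (pullback.snd V.hom g) f' ≫ pullback.fst V.hom g := by
    rw [ht]; exact θ_left_fst_fst f g f' g' w V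
  have ht2 : t ≫ pullback.snd (pullback.snd V.hom f) g' =
      pullback.snd (pullback.snd V.hom g) f' := by
    rw [ht]; exact θ_left_snd f g f' g' w V
  have hgoal : p ≫ t = q := by
    apply pullback.hom_ext
    · apply pullback.hom_ext
      · rw [Category.assoc, Category.assoc, ht1, hp1, Category.assoc, hq1]
      · rw [Category.assoc, Category.assoc, pullback.condition, ← Category.assoc t,
          ht2, ← Category.assoc, hp2, Category.assoc q, pullback.condition, ← Category.assoc, hq2]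
    · rw [Category.assoc, ht2, hp2, hq2]
  rw [hp, hq, ht] at hgoal
  exact hgoal

end Pt

section Key

variable {Ω : Type u} [Field Ω] [IsSepClosed Ω] (η' : Spec (CommRingCat.of Ω) ⟶ Y')
  (ξ' : Spec (CommRingCat.of Ω) ⟶ X') (hξ' : ξ' ≫ f' = η') (hξ : (ξ' ≫ g') ≫ f = η' ≫ g)

set_option backward.isDefEq.respectTransparency.types false in
theorem key (a : ToType ((Scheme.pointSmallEtale (η' ≫ g)).presheafFiber.obj
      ((EtCoh.push f).obj F).obj)) :
    (stalkPullIso g' ξ' AddCommGrpCat.{u + 1}).inv.app F (Ψ f F (η' ≫ g) (ξ' ≫ g') hξ a) =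
    Ψ f' ((EtCoh.pull g').obj F) η' ξ' hξ'
      ((EtCoh.stalk η').map (EtCoh.baseChange0 f g f' g' w F)
        ((stalkPullIso g η' AddCommGrpCat.{u + 1}).inv.app ((EtCoh.push f).obj F) a)) := by
  obtain ⟨V, v, s, rfl⟩ := (Scheme.pointSmallEtale (η' ≫ g)).toPresheafFiber_jointly_surjective a
  rw [Ψ_germ]
  have hL := germ_pull F g' ξ' ((EtCoh.bc f).obj V) (lift f (η' ≫ g) (ξ' ≫ g') hξ V v) s
  refine hL.trans ?_
  have hR1 := germ_pull ((EtCoh.push f).obj F) g η' V v s
  rw [hR1]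
  -- the stalk map on germs
  have hR2 := ConcreteCategory.congr_hom ((Scheme.pointSmallEtale η').toPresheafFiber_naturality
    (EtCoh.baseChange0 f g f' g' w F).hom ((EtCoh.bc g).obj V) (tilde g η' V v))
    (((EtCoh.pullPushAdj g).unit.app ((EtCoh.push f).obj F)).hom.app (op V) s)
  rw [ConcreteCategory.comp_apply, ConcreteCategory.comp_apply] at hR2
  have hR2' : (EtCoh.stalk η').map (EtCoh.baseChange0 f g f' g' w F)
      ((Scheme.pointSmallEtale η').toPresheafFiber ((EtCoh.bc g).obj V) (tilde g η' V v)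
        ((EtCoh.pull g).obj ((EtCoh.push f).obj F)).obj
        (((EtCoh.pullPushAdj g).unit.app ((EtCoh.push f).obj F)).hom.app (op V) s)) =
      (Scheme.pointSmallEtale η').toPresheafFiber ((EtCoh.bc g).obj V) (tilde g η' V v)
        ((EtCoh.push f').obj ((EtCoh.pull g').obj F)).obj
        ((EtCoh.baseChange0 f g f' g' w F).hom.app (op ((EtCoh.bc g).obj V))
          (((EtCoh.pullPushAdj g).unit.app ((EtCoh.push f).obj F)).hom.app (op V) s)) := hR2
  rw [hR2']
  have hR3 : (EtCoh.baseChange0 f g f' g' w F).hom.app (op ((EtCoh.bc g).obj V))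
      (((EtCoh.pullPushAdj g).unit.app ((EtCoh.push f).obj F)).hom.app (op V) s) =
      (φ f g f' g' w F).hom.app (op V) s :=
    congrArg (fun m : (EtCoh.push f).obj F ⟶
      (EtCoh.push g).obj ((EtCoh.push f').obj ((EtCoh.pull g').obj F)) => m.hom.app (op V) s)
      (unit_comp f g f' g' w F)
  rw [hR3, φ_app, Ψ_germ]
  have hR4 := ConcreteCategory.congr_hom ((Scheme.pointSmallEtale ξ').toPresheafFiber_w
    (θ f g f' g' w V) (lift f' η' ξ' hξ' ((EtCoh.bc g).obj V) (tilde g η' V v))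
    ((EtCoh.pull g').obj F).obj)
    (((EtCoh.pullPushAdj g').unit.app F).hom.app (op ((EtCoh.bc f).obj V)) s)
  rw [ConcreteCategory.comp_apply] at hR4
  refine Eq.trans ?_ hR4.symm
  rw [fiber_map_θ f g f' g' w η' ξ' hξ' hξ V v]

end Key

section Main

open Groth.Agent.Lib.Helper70.GeomPts

set_option backward.isDefEq.respectTransparency.types false in
/-- finite base change in degree zero -/
theorem isIso_baseChange0 [IsFinite f] (h : IsPullback g' f' f g) :
    IsIso (EtCoh.baseChange0 f g f' g' h.w F) := by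
  haveI : IsFinite f' := MorphismProperty.of_isPullback h inferInstance
  apply Groth.Agent.Lib.Helper70.StalkConsAlg.isIso_of_stalk_bijective
  intro Ω _ _ η'
  have hξ : ∀ (ξ' : Spec (CommRingCat.of Ω) ⟶ X'), ξ' ≫ f' = η' → (ξ' ≫ g') ≫ f = η' ≫ g := by
    intro ξ' hξ'
    rw [Category.assoc, h.w, ← Category.assoc, hξ']
  obtain ⟨A, hA⟩ : ∃ A : (Scheme.pointSmallEtale η').presheafFiber.obj
      ((EtCoh.pull g).obj ((EtCoh.push f).obj F)).obj ≅
      (Scheme.pointSmallEtale (η' ≫ g)).presheafFiber.obj ((EtCoh.push f).obj F).obj,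
      A = (stalkPullIso g η' AddCommGrpCat.{u + 1}).app ((EtCoh.push f).obj F) := ⟨_, rfl⟩
  have hAinv : ∀ a, A.inv a =
      (stalkPullIso g η' AddCommGrpCat.{u + 1}).inv.app ((EtCoh.push f).obj F) a := by
    intro a; rw [hA]; rfl
  have hkey : ∀ (ξ' : Spec (CommRingCat.of Ω) ⟶ X') (hξ' : ξ' ≫ f' = η') a,
      (stalkPullIso g' ξ' AddCommGrpCat.{u + 1}).inv.app F
        (Ψ f F (η' ≫ g) (ξ' ≫ g') (hξ ξ' hξ') a) =
      Ψ f' ((EtCoh.pull g').obj F) η' ξ' hξ'
        ((EtCoh.stalk η').map (EtCoh.baseChange0 f g f' g' h.w F) (A.inv a)) := by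
    intro ξ' hξ' a
    rw [hAinv]
    exact key f g f' g' h.w F η' ξ' hξ' (hξ ξ' hξ') a
  have hCinj : ∀ (ξ' : Spec (CommRingCat.of Ω) ⟶ X')
      (b : ToType ((Scheme.pointSmallEtale (ξ' ≫ g')).presheafFiber.obj F.obj)),
      (stalkPullIso g' ξ' AddCommGrpCat.{u + 1}).inv.app F b = 0 → b = 0 := by
    intro ξ' b hb
    have e := ConcreteCategory.congr_hom
      ((stalkPullIso g' ξ' AddCommGrpCat.{u + 1}).app F).inv_hom_id b
    have e2 := congrArg ((stalkPullIso g' ξ' AddCommGrpCat.{u + 1}).hom.app F) hb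
    exact e.symm.trans (e2.trans (map_zero
      ((stalkPullIso g' ξ' AddCommGrpCat.{u + 1}).hom.app F).hom))
  constructor
  · rw [injective_iff_map_eq_zero]
    intro x hx
    have hxa : A.inv (A.hom x) = x := ConcreteCategory.congr_hom A.hom_inv_id x
    have ha0 : A.hom x = 0 := by
      apply eq_zero_of_Ψ_eq_zero f F (η' ≫ g)
      intro ξ hξ0
      obtain ⟨ξ', e1, e2⟩ : ∃ ξ' : Spec (CommRingCat.of Ω) ⟶ X', ξ' ≫ g' = ξ ∧ ξ' ≫ f' = η' :=
        ⟨h.lift ξ η' hξ0, h.lift_fst _ _ _, h.lift_snd _ _ _⟩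
      subst e1
      apply hCinj ξ'
      rw [hkey ξ' e2, hxa, hx]
      exact map_zero (Ψ f' ((EtCoh.pull g').obj F) η' ξ' e2).hom
    rw [← hxa, ha0]
    exact map_zero A.inv.hom
  · intro y
    classical
    haveI : Finite {ξ' : Spec (CommRingCat.of Ω) ⟶ X' // ξ' ≫ f' = η'} :=
      finite_gpts Ω f' η' (f'.finite_preimage_singleton _)
    letI : Fintype {ξ' : Spec (CommRingCat.of Ω) ⟶ X' // ξ' ≫ f' = η'} := Fintype.ofFinite _
    have hx : ∀ ξ'₀ : {ξ' : Spec (CommRingCat.of Ω) ⟶ X' // ξ' ≫ f' = η'},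
        ∃ x : ToType ((Scheme.pointSmallEtale η').presheafFiber.obj
          ((EtCoh.pull g).obj ((EtCoh.push f).obj F)).obj),
        Ψ f' ((EtCoh.pull g').obj F) η' ξ'₀.1 ξ'₀.2
          ((EtCoh.stalk η').map (EtCoh.baseChange0 f g f' g' h.w F) x) =
          Ψ f' ((EtCoh.pull g').obj F) η' ξ'₀.1 ξ'₀.2 y ∧
        ∀ ξ' : {ξ' : Spec (CommRingCat.of Ω) ⟶ X' // ξ' ≫ f' = η'}, ξ' ≠ ξ'₀ →
          Ψ f' ((EtCoh.pull g').obj F) η' ξ'.1 ξ'.2
            ((EtCoh.stalk η').map (EtCoh.baseChange0 f g f' g' h.w F) x) = 0 := by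
      intro ξ'₀
      obtain ⟨a, ha1, ha2⟩ := exists_preimage f F (η' ≫ g) (ξ'₀.1 ≫ g') (hξ ξ'₀.1 ξ'₀.2)
        ((stalkPullIso g' ξ'₀.1 AddCommGrpCat.{u + 1}).hom.app F
          (Ψ f' ((EtCoh.pull g').obj F) η' ξ'₀.1 ξ'₀.2 y))
      refine ⟨A.inv a, ?_, ?_⟩
      · rw [← hkey ξ'₀.1 ξ'₀.2, ha1]
        exact ConcreteCategory.congr_hom
          ((stalkPullIso g' ξ'₀.1 AddCommGrpCat.{u + 1}).app F).hom_inv_id _
      · intro ξ' hne
        rw [← hkey ξ'.1 ξ'.2, ha2 (ξ'.1 ≫ g') (hξ ξ'.1 ξ'.2)]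
        · exact map_zero ((stalkPullIso g' ξ'.1 AddCommGrpCat.{u + 1}).inv.app F).hom
        · intro heq
          apply hne
          apply Subtype.ext
          apply h.hom_ext
          · exact heq
          · rw [ξ'.2, ξ'₀.2]
    choose x hx1 hx2 using hx
    refine ⟨∑ ξ'₀, x ξ'₀, ?_⟩
    have hsub : (EtCoh.stalk η').map (EtCoh.baseChange0 f g f' g' h.w F) (∑ ξ'₀, x ξ'₀) - y = 0 := by
      apply eq_zero_of_Ψ_eq_zero f' ((EtCoh.pull g').obj F) η'
      intro ξ' hξ'
      have e1 : Ψ f' ((EtCoh.pull g').obj F) η' ξ' hξ'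
          ((EtCoh.stalk η').map (EtCoh.baseChange0 f g f' g' h.w F) (∑ ξ'₀, x ξ'₀) - y) =
          Ψ f' ((EtCoh.pull g').obj F) η' ξ' hξ'
            ((EtCoh.stalk η').map (EtCoh.baseChange0 f g f' g' h.w F) (∑ ξ'₀, x ξ'₀)) -
          Ψ f' ((EtCoh.pull g').obj F) η' ξ' hξ' y :=
        map_sub (Ψ f' ((EtCoh.pull g').obj F) η' ξ' hξ').hom _ _
      have e2 : (EtCoh.stalk η').map (EtCoh.baseChange0 f g f' g' h.w F) (∑ ξ'₀, x ξ'₀) =
          ∑ ξ'₀, (EtCoh.stalk η').map (EtCoh.baseChange0 f g f' g' h.w F) (x ξ'₀) :=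
        map_sum ((EtCoh.stalk η').map (EtCoh.baseChange0 f g f' g' h.w F)).hom _ _
      have e3 : Ψ f' ((EtCoh.pull g').obj F) η' ξ' hξ'
          (∑ ξ'₀, (EtCoh.stalk η').map (EtCoh.baseChange0 f g f' g' h.w F) (x ξ'₀)) =
          ∑ ξ'₀, Ψ f' ((EtCoh.pull g').obj F) η' ξ' hξ'
            ((EtCoh.stalk η').map (EtCoh.baseChange0 f g f' g' h.w F) (x ξ'₀)) :=
        map_sum (Ψ f' ((EtCoh.pull g').obj F) η' ξ' hξ').hom _ _
      have e4 : ∑ ξ'₀, Ψ f' ((EtCoh.pull g').obj F) η' ξ' hξ'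
            ((EtCoh.stalk η').map (EtCoh.baseChange0 f g f' g' h.w F) (x ξ'₀)) =
          Ψ f' ((EtCoh.pull g').obj F) η' ξ' hξ' y := by
        rw [Finset.sum_eq_single
          (⟨ξ', hξ'⟩ : {ξ' : Spec (CommRingCat.of Ω) ⟶ X' // ξ' ≫ f' = η'})]
        · exact hx1 ⟨ξ', hξ'⟩
        · intro ξ'₀ _ hne
          exact hx2 ξ'₀ ⟨ξ', hξ'⟩ (fun e => hne e.symm)
        · intro hn
          exact absurd (Finset.mem_univ _) hn
      have e5 := ((congrArg (Ψ f' ((EtCoh.pull g').obj F) η' ξ' hξ') e2).trans e3).trans e4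
      refine e1.trans ?_
      exact sub_eq_zero.mpr e5
    exact sub_eq_zero.mp hsub

end Main

end Groth.Agent.Lib.Helper70.FinBC
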