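import Mathlib

universe u
open IntermediateField

namespace Groth.Agent.Lib.Helper70.GalClosure

variable (K L : Type u) [Field K] [Field L] [Algebra K L] [FiniteDimensional K L]
    [Algebra.IsSeparable K L]

/-- the Galois closure of a finite separable extension, inside an algebraic closure -/
noncomputable abbrev NN : IntermediateField K (AlgebraicClosure L) :=
  normalClosure K L (AlgebraicClosure L)

instance : FiniteDimensional K (NN K L) := inferInstance
instance : Normal K (NN K L) := inferInstance
noncomputable instance : Algebra L (NN K L) := inferInstance
instance : IsScalarTower K L (NN K L) := inferInstance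

instance isSeparable_NN : Algebra.IsSeparable K (NN K L) := by
  show Algebra.IsSeparable K (⨆ f : L →ₐ[K] (AlgebraicClosure L), f.fieldRange :
    IntermediateField K (AlgebraicClosure L))
  haveI : ∀ f : L →ₐ[K] (AlgebraicClosure L), Algebra.IsSeparable K f.fieldRange := fun f =>
    AlgEquiv.Algebra.isSeparable (AlgEquiv.ofInjectiveField f)
  exact IntermediateField.isSeparable_iSup K (AlgebraicClosure L)

instance isGalois_NN : IsGalois K (NN K L) := ⟨⟩

end Groth.Agent.Lib.Helper70.GalClosure
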