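import Mathlib
import Groth.Prelude.Def_EtBase
import Groth.Prelude.Def_EtCore
import Groth.Agent.Lib.Cohomology.Helper3_ExtFunct

set_option autoImplicit false
open CategoryTheory CategoryTheory.Limits AlgebraicGeometry Opposite CategoryTheory.Abelian

universe u

namespace Groth.Agent.Lib.Helper70.HpullComp

open Groth.Agent.Lib.Cohomology.ExtFunct

section General

universe w v' u'

variable {C : Type u'} [Category.{v'} C] [Abelian C] [HasExt.{w} C]

theorem mk₀_iso_comp_eq_zero_iff {A A' B : C} (φ : A' ≅ A) {n : ℕ} (x : Ext.{w} A B n) :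
    (Ext.mk₀ φ.hom).comp x (zero_add n) = 0 ↔ x = 0 := by
  constructor
  · intro h
    have := congrArg (fun z => (Ext.mk₀ φ.inv).comp z (zero_add n)) h
    simp only [Ext.comp_zero] at this
    rw [← Ext.comp_assoc_of_second_deg_zero, Ext.mk₀_comp_mk₀, Iso.inv_hom_id,
      Ext.mk₀_id_comp] at this
    exact this
  · intro h
    rw [h, Ext.comp_zero]

theorem comp_mk₀_iso_eq_zero_iff {A B B' : C} (φ : B ≅ B') {n : ℕ} (x : Ext.{w} A B n) :
    x.comp (Ext.mk₀ φ.hom) (add_zero n) = 0 ↔ x = 0 := by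
  constructor
  · intro h
    have := congrArg (fun z => z.comp (Ext.mk₀ φ.inv) (add_zero n)) h
    simp only [Ext.zero_comp] at this
    rw [Ext.comp_assoc_of_third_deg_zero, Ext.mk₀_comp_mk₀, Iso.hom_inv_id,
      Ext.comp_mk₀_id] at this
    exact this
  · intro h
    rw [h, Ext.zero_comp]

end General

variable {X Y Z : Scheme.{u}}

theorem Hpull_eq_zero_iff (f : X ⟶ Y) [PreservesFiniteLimits (EtCoh.pull f)] (G : EtCoh.Ab Y)
    (n : ℕ) (α : EtCoh.H Y G n) :
    EtCore.Hpull f G n α = 0 ↔ α.mapExactFunctor (EtCoh.pull f) = 0 :=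
  mk₀_iso_comp_eq_zero_iff (EtCore.pullConst f ℤ).symm _

theorem Hpull_congr {f f' : X ⟶ Y} (h : f = f') [PreservesFiniteLimits (EtCoh.pull f)]
    [PreservesFiniteLimits (EtCoh.pull f')] (G : EtCoh.Ab Y) (n : ℕ) (α : EtCoh.H Y G n) :
    EtCore.Hpull f G n α = 0 ↔ EtCore.Hpull f' G n α = 0 := by
  subst h
  rfl

theorem Hpull_comp_eq_zero_iff (f : X ⟶ Y) (g : Y ⟶ Z) [PreservesFiniteLimits (EtCoh.pull f)]
    [PreservesFiniteLimits (EtCoh.pull g)] [PreservesFiniteLimits (EtCoh.pull (f ≫ g))]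
    (G : EtCoh.Ab Z) (n : ℕ) (α : EtCoh.H Z G n) :
    EtCore.Hpull (f ≫ g) G n α = 0 ↔
      EtCore.Hpull f ((EtCoh.pull g).obj G) n (EtCore.Hpull g G n α) = 0 := by
  rw [Hpull_eq_zero_iff, Hpull_eq_zero_iff]
  have h1 := mapExactFunctor_natIso (EtCoh.pull (f ≫ g)) (EtCoh.pull g ⋙ EtCoh.pull f)
    (EtCore.pullComp f g) n G α
  rw [← mapExactFunctor_compFunctor] at h1
  have h2 : (EtCore.Hpull g G n α).mapExactFunctor (EtCoh.pull f) =
      (Ext.mk₀ ((EtCoh.pull f).map (EtCore.pullConst g ℤ).inv)).comp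
        ((α.mapExactFunctor (EtCoh.pull g)).mapExactFunctor (EtCoh.pull f)) (zero_add n) := by
    show ((Ext.mk₀ (EtCore.pullConst g ℤ).inv).comp (α.mapExactFunctor (EtCoh.pull g))
      (zero_add n)).mapExactFunctor (EtCoh.pull f) = _
    rw [Ext.mapExactFunctor_comp, Ext.mapExactFunctor_mk₀]
  rw [h2]
  have h3 := mk₀_iso_comp_eq_zero_iff ((EtCoh.pull f).mapIso (EtCore.pullConst g ℤ).symm)
    ((α.mapExactFunctor (EtCoh.pull g)).mapExactFunctor (EtCoh.pull f))
  rw [Functor.mapIso_hom, Iso.symm_hom] at h3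
  rw [h3]
  rw [← comp_mk₀_iso_eq_zero_iff ((EtCore.pullComp f g).app G), Iso.app_hom, h1]
  exact mk₀_iso_comp_eq_zero_iff ((EtCore.pullComp f g).app _) _

end Groth.Agent.Lib.Helper70.HpullComp
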