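import Mathlib
import Groth.Prelude.Def_EtShriek2
import Groth.Agent.Lib.Helper47.EtRestr
import Groth.Agent.Lib.Helper70.StalkCons
import Groth.Agent.Lib.Helper70.StalkPull

set_option autoImplicit false
open CategoryTheory CategoryTheory.Limits AlgebraicGeometry Opposite

universe u

namespace Groth.Agent.Lib.Helper70.OpenRecoll

open Groth.Agent.Lib.Helper47

variable {U X : Scheme.{u}} (j : U ⟶ X) [Etale j] [Mono j]

instance isIso_unit_compBcAdj : IsIso (EtRestr.compBcAdj j).unit := inferInstance

/-- for a monomorphic étale `j`, the counit `j^{-1} j_* F ⟶ F` is an isomorphism -/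
instance isIso_counit_restrPushAdj (F : EtCoh.Ab U) :
    IsIso ((EtRestr.restrPushAdj j).counit.app F) := by
  apply +allowSynthFailures Functor.ReflectsIsomorphisms.reflects (sheafToPresheaf _ _)
  rw [NatTrans.isIso_iff_isIso_app]
  intro V
  dsimp [EtRestr.restrPushAdj]
  rw [Adjunction.sheafPushforwardContinuous_counit_app_hom_app]
  haveI : IsIso ((EtRestr.compBcAdj j).unit.app (unop V)) := inferInstance
  haveI : IsIso ((EtRestr.compBcAdj j).unit.app (unop V)).op := inferInstance
  exact Functor.map_isIso F.obj _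


instance isIso_counit_restrPushAdj' : IsIso (EtRestr.restrPushAdj j).counit :=
  NatIso.isIso_of_isIso_app _

/-- for a monomorphic étale `j`, the unit `F ⟶ j^{-1} j_! F` is an isomorphism -/
instance isIso_unit_extZeroAdj [EtShriek.JCont j] : IsIso (EtShriek.extZeroAdj j).unit := by
  let t : Adjunction.Triple (EtShriek.extZero j) (EtShriek.restrAlong j) (EtCoh.push j) :=
    ⟨EtShriek.extZeroAdj j, EtRestr.restrPushAdj j⟩
  exact t.isIso_unit_iff_isIso_counit.2 (isIso_counit_restrPushAdj' j)

/-- for a monomorphic étale `j`, the counit `j^{-1} j_* F ⟶ F` (for `EtCoh.pull`) is an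
isomorphism -/
instance isIso_counit_pullPushAdj (F : EtCoh.Ab U) :
    IsIso ((EtCoh.pullPushAdj j).counit.app F) := by
  have h := Adjunction.leftAdjointUniq_hom_app_counit (EtCoh.pullPushAdj j)
    (EtRestr.restrPushAdj j) F
  have h' : (EtCoh.pullPushAdj j).counit.app F =
      (EtRestr.pullIsoRestr j).hom.app ((EtCoh.push j).obj F) ≫
        (EtRestr.restrPushAdj j).counit.app F := h.symm
  rw [h']
  infer_instance

end Groth.Agent.Lib.Helper70.OpenRecoll
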