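import Mathlib
import Groth.Prelude.Def_SGA4b
import Groth.Agent.Lib.Helper70.ClosedImmSet
import Groth.Agent.Lib.Helper70.ClosedImmDense
import Groth.Agent.Lib.Helper70.OpenRecoll

set_option autoImplicit false
universe u
open CategoryTheory CategoryTheory.Limits AlgebraicGeometry Opposite

namespace Groth.Agent.Lib.Helper70.ImmSet

open Groth.Agent.Lib.Helper70.ClosedImmSet

/-- for an open immersion `j`, the counit `j^{-1} j_* F ⟶ F` on sheaves of sets is an iso -/
instance isIso_counit_restrPushAdj {U X : Scheme.{u}} (j : U ⟶ X) [IsOpenImmersion j]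
    (F : EtDesc.Sh U) : IsIso ((restrPushAdj j).counit.app F) := by
  apply +allowSynthFailures Functor.ReflectsIsomorphisms.reflects (sheafToPresheaf _ _)
  rw [NatTrans.isIso_iff_isIso_app]
  intro V
  dsimp [restrPushAdj]
  rw [Adjunction.sheafPushforwardContinuous_counit_app_hom_app]
  haveI : IsIso (compBcAdj j).unit :=
    Groth.Agent.Lib.Helper70.OpenRecoll.isIso_unit_compBcAdj j
  haveI : IsIso ((compBcAdj j).unit.app (unop V)) := inferInstance
  haveI : IsIso ((compBcAdj j).unit.app (unop V)).op := inferInstance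
  exact Functor.map_isIso F.obj _

theorem fullyFaithful_pushSh_open {U X : Scheme.{u}} (j : U ⟶ X) [IsOpenImmersion j] :
    (EtDesc.pushSh j).Full ∧ (EtDesc.pushSh j).Faithful := by
  haveI : IsIso (restrPushAdj j).counit := NatIso.isIso_of_isIso_app _
  exact ⟨(restrPushAdj j).fullyFaithfulROfIsIsoCounit.full,
    (restrPushAdj j).fullyFaithfulROfIsIsoCounit.faithful⟩

theorem fullyFaithful_pushSh_closed {Z X : Scheme.{u}} (i : Z ⟶ X) [IsClosedImmersion i] :
    (EtDesc.pushSh i).Full ∧ (EtDesc.pushSh i).Faithful := by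
  haveI := Groth.Agent.Lib.Helper70.ClosedImmDense.isCoverDense_bc i
  haveI := Groth.Agent.Lib.Helper70.ClosedImmDense.isLocallyFull_bc i
  exact ⟨Functor.IsCoverDense.full_sheafPushforwardContinuous _ _ _,
    Functor.IsCoverDense.faithful_sheafPushforwardContinuous _ _ _⟩

theorem fullyFaithful_pushSh_comp {Z X Y : Scheme.{u}} (i : Z ⟶ X) (j : X ⟶ Y)
    (hi : (EtDesc.pushSh i).Full ∧ (EtDesc.pushSh i).Faithful)
    (hj : (EtDesc.pushSh j).Full ∧ (EtDesc.pushSh j).Faithful) (f : Z ⟶ Y) (hf : i ≫ j = f) :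
    (EtDesc.pushSh f).Full ∧ (EtDesc.pushSh f).Faithful := by
  subst hf
  haveI := hi.1
  haveI := hi.2
  haveI := hj.1
  haveI := hj.2
  exact ⟨Functor.Full.of_iso (EtDesc.pushCompSh j i), Functor.Faithful.of_iso (EtDesc.pushCompSh j i)⟩

theorem isIso_counit_of_isImmersion {X Y : Scheme.{u}} (f : X ⟶ Y) [IsImmersion f]
    (F : EtDesc.Sh X) : IsIso ((EtDesc.adjSh f).counit.app F) := by
  have h := fullyFaithful_pushSh_comp f.liftCoborder f.coborderRange.ι
    (fullyFaithful_pushSh_closed _) (fullyFaithful_pushSh_open _) f f.liftCoborder_ι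
  haveI := h.1
  haveI := h.2
  infer_instance

end Groth.Agent.Lib.Helper70.ImmSet

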