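import Mathlib

/-!
Helper lemmas (helper70): finiteness of the set of irreducible components.

* `finite_irreducibleComponents_of_finite_cover`: a space covered by finitely many subspaces each
  with finitely many irreducible components has finitely many irreducible components.
* `finite_minimalPrimes_of_flat_of_finiteType`: a flat algebra of finite type over a ring with
  finitely many minimal primes has finitely many minimal primes.
-/

set_option autoImplicit false

namespace Groth.Agent.Lib.Helper70.IrrComp

open Set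

/-- A space covered by finitely many subspaces with finitely many irreducible components has
finitely many irreducible components. -/
theorem finite_irreducibleComponents_of_finite_cover {X : Type*} [TopologicalSpace X]
    {ι : Type*} [Finite ι] (W : ι → Set X) (hcov : ∀ x, ∃ i, x ∈ W i)
    (h : ∀ i, (irreducibleComponents (W i)).Finite) : (irreducibleComponents X).Finite := by
  let S : Set (Set X) :=
    ⋃ i, (fun T : Set (W i) => closure (Subtype.val '' T)) '' irreducibleComponents (W i)
  have hSfin : S.Finite := Set.finite_iUnion fun i => (h i).image _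
  have hSclosed : ∀ s ∈ S, IsClosed s := by
    intro s hs
    simp only [S, mem_iUnion, mem_image] at hs
    obtain ⟨i, T, -, rfl⟩ := hs
    exact isClosed_closure
  have hSirr : ∀ s ∈ S, IsIrreducible s := by
    intro s hs
    simp only [S, mem_iUnion, mem_image] at hs
    obtain ⟨i, T, hT, rfl⟩ := hs
    exact (hT.1.image _ continuous_subtype_val.continuousOn).closure
  have hScov : ∀ x : X, ∃ s ∈ S, x ∈ s := by
    intro x
    obtain ⟨i, hx⟩ := hcov x
    refine ⟨closure (Subtype.val '' irreducibleComponent (⟨x, hx⟩ : W i)), ?_, ?_⟩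
    · simp only [S, mem_iUnion, mem_image]
      exact ⟨i, _, irreducibleComponent_mem_irreducibleComponents _, rfl⟩
    · exact subset_closure ⟨⟨x, hx⟩, mem_irreducibleComponent, rfl⟩
  refine hSfin.subset ?_
  intro Z hZ
  have hZirr : IsIrreducible Z := hZ.1
  obtain ⟨s, hs, hZs⟩ := (isIrreducible_iff_sUnion_isClosed.mp hZirr) hSfin.toFinset
    (fun z hz => hSclosed z (hSfin.mem_toFinset.mp hz))
    (fun x _ => by
      obtain ⟨s, hs, hxs⟩ := hScov x
      exact ⟨s, by simpa using hs, hxs⟩)
  have hs' : s ∈ S := hSfin.mem_toFinset.mp hs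
  have : s ≤ Z := hZ.2 (hSirr s hs') hZs
  have : Z = s := le_antisymm hZs this
  rw [this]; exact hs'

open TensorProduct in
/-- A flat algebra of finite type over a ring with finitely many minimal primes has finitely many
minimal primes. -/
theorem finite_minimalPrimes_of_flat_of_finiteType {A B : Type*} [CommRing A] [CommRing B]
    [Algebra A B] [Module.Flat A B] [Algebra.FiniteType A B]
    (hfin : (minimalPrimes A).Finite) : (minimalPrimes B).Finite := by
  classical
  -- going down: minimal primes lie over minimal primes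
  have hunder : ∀ q ∈ minimalPrimes B, q.under A ∈ minimalPrimes A := by
    intro q hq
    have hq' : q.IsPrime := hq.1.1
    obtain ⟨p', hp', hle⟩ := Ideal.exists_minimalPrimes_le (I := ⊥) (J := q.under A) bot_le
    have hp'prime : p'.IsPrime := hp'.1.1
    by_cases hpe : p' = q.under A
    · rw [← hpe]; exact hp'
    · exfalso
      have hlt : p' < q.under A := lt_of_le_of_ne hle hpe
      obtain ⟨Q, hQlt, hQprime, hQover⟩ :=
        Ideal.exists_ideal_lt_liesOver_of_lt (p := p') (q := q.under A) q hlt
      exact absurd (hq.2 ⟨hQprime, bot_le⟩ hQlt.le) (not_le_of_gt hQlt)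
  have hsub : minimalPrimes B ⊆ ⋃ p ∈ minimalPrimes A, {q | q ∈ minimalPrimes B ∧ q.under A = p} := by
    intro q hq
    simp only [mem_iUnion, exists_prop, Set.mem_ofPred_eq]
    exact ⟨q.under A, hunder q hq, hq, rfl⟩
  refine (Set.Finite.biUnion hfin ?_).subset hsub
  intro p hp
  have hpp : p.IsPrime := hp.1.1
  -- the fibre ring is Noetherian
  have hft : Algebra.FiniteType p.ResidueField (p.Fiber B) := inferInstance
  have hnoeth : IsNoetherianRing (p.Fiber B) := Algebra.FiniteType.isNoetherianRing p.ResidueField _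
  have hfinF : (minimalPrimes (p.Fiber B)).Finite := minimalPrimes.finite_of_isNoetherianRing _
  let e := PrimeSpectrum.primesOverOrderIsoFiber A B p
  -- map a minimal prime over `p` to the corresponding prime of the fibre
  let φ : Ideal B → Ideal (p.Fiber B) := fun q =>
    if hq : q ∈ p.primesOver B then (e ⟨q, hq⟩).asIdeal else ⊥
  have hmem : ∀ q, q ∈ minimalPrimes B ∧ q.under A = p → q ∈ p.primesOver B := by
    rintro q ⟨hq, rfl⟩
    exact ⟨hq.1.1, ⟨rfl⟩⟩
  refine Set.Finite.of_finite_image (f := φ) (hfinF.subset ?_) ?_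
  · rintro _ ⟨q, hq, rfl⟩
    have hqo := hmem q hq
    simp only [φ, dif_pos hqo]
    refine ⟨⟨(e ⟨q, hqo⟩).isPrime, bot_le⟩, ?_⟩
    rintro I ⟨hIprime, -⟩ hIle
    have h1 : (⟨I, hIprime⟩ : PrimeSpectrum (p.Fiber B)) ≤ e ⟨q, hqo⟩ := hIle
    have h2 : e.symm ⟨I, hIprime⟩ ≤ ⟨q, hqo⟩ := by
      rw [← e.le_iff_le]; simpa using h1
    have h3 : (e.symm ⟨I, hIprime⟩ : Ideal B) ≤ q := h2
    have h4 : q ≤ (e.symm ⟨I, hIprime⟩ : Ideal B) :=
      hq.1.2 ⟨(e.symm ⟨I, hIprime⟩).2.1, bot_le⟩ h3
    have h5 : e.symm ⟨I, hIprime⟩ = ⟨q, hqo⟩ := Subtype.ext (le_antisymm h3 h4)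
    have h6 : (⟨I, hIprime⟩ : PrimeSpectrum (p.Fiber B)) = e ⟨q, hqo⟩ := by
      rw [← h5]; simp
    exact (congrArg PrimeSpectrum.asIdeal h6).ge
  · intro q hq q' hq' hqq'
    have hqo := hmem q hq
    have hqo' := hmem q' hq'
    simp only [φ, dif_pos hqo, dif_pos hqo'] at hqq'
    have := e.injective (PrimeSpectrum.ext hqq')
    exact congrArg Subtype.val this

end Groth.Agent.Lib.Helper70.IrrComp
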