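import Mathlib.LinearAlgebra.FiniteDimensional.Lemmas
import Mathlib.LinearAlgebra.Dimension.RankNullity
import Mathlib.LinearAlgebra.Quotient.Basic

/-!
Small linear algebra helpers.
-/

namespace Groth.Agent.Lib.Helper70

open Module

/-- Between two nested subspaces there is a subspace of any intermediate dimension. -/
theorem exists_submodule_between {K V : Type*} [DivisionRing K] [AddCommGroup V] [Module K V]
    [FiniteDimensional K V] (r : ℕ) :
    ∀ (A B : Submodule K V), A ≤ B → finrank K A ≤ r → r ≤ finrank K B →
      ∃ W : Submodule K V, A ≤ W ∧ W ≤ B ∧ finrank K W = r := by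
  intro A B hAB h1 h2
  obtain ⟨n, hn⟩ : ∃ n, r = finrank K A + n := ⟨r - finrank K A, by omega⟩
  induction n generalizing A with
  | zero => exact ⟨A, le_rfl, hAB, by omega⟩
  | succ n ih =>
    have hlt : A < B := by
      refine lt_of_le_of_ne hAB ?_
      rintro rfl
      omega
    obtain ⟨x, hxB, hxA⟩ := SetLike.exists_of_lt hlt
    have hfin : finrank K (A ⊔ Submodule.span K {x} : Submodule K V) = finrank K A + 1 :=
      Submodule.finrank_sup_span_singleton hxA
    have hle : A ⊔ Submodule.span K {x} ≤ B :=
      sup_le hAB ((Submodule.span_singleton_le_iff_mem x B).2 hxB)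
    obtain ⟨W, hW1, hW2, hW3⟩ := ih (A ⊔ Submodule.span K {x}) hle (by omega) (by omega)
    exact ⟨W, le_sup_left.trans hW1, hW2, hW3⟩

end Groth.Agent.Lib.Helper70
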