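import Mathlib
import Groth.Agent.Lib.Helper70.EtaleBirational

open AlgebraicGeometry CategoryTheory Limits

universe u

namespace Groth.Agent.Lib.Helper70.LocalOpenImm

open Groth.Agent.Lib.Helper70.EtaleBirational

lemma closure_mem_irreducibleComponents_of_maximal {Z : Scheme.{u}} (ξ : Z)
    (h : ∀ y : Z, y ⤳ ξ → y = ξ) : closure {ξ} ∈ irreducibleComponents Z := by
  obtain ⟨c, hc⟩ := QuasiSober.sober (isIrreducible_irreducibleComponent (x := ξ))
    isClosed_irreducibleComponent
  have h1 : c ⤳ ξ := by
    rw [specializes_iff_mem_closure, hc.def]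
    exact mem_irreducibleComponent
  have h2 : c = ξ := h c h1
  subst h2
  rw [hc.def]
  exact irreducibleComponent_mem_irreducibleComponents _

lemma maximal_map_of_flat {Z X : Scheme.{u}} (p : Z ⟶ X) [Flat p] (ζ : Z)
    (hζ : ∀ y : Z, y ⤳ ζ → y = ζ) (y : X) (hy : y ⤳ p ζ) : y = p ζ := by
  obtain ⟨ζ', h2, h3⟩ := (Flat.generalizingMap p) hy
  rw [← h3, hζ ζ' h2]

set_option backward.isDefEq.respectTransparency.types false in
theorem isOpenImmersion_of_locally {X Y : Scheme.{u}} (f : X ⟶ Y) [IsSeparated f]
    (hloc : ∀ x : X, ∃ U : X.Opens, x ∈ U ∧ IsOpenImmersion (U.ι ≫ f))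
    (hinj : ∀ ξ ξ' : X, closure ({ξ} : Set X) ∈ irreducibleComponents X →
      closure ({ξ'} : Set X) ∈ irreducibleComponents X → f ξ = f ξ' → ξ = ξ') :
    IsOpenImmersion f := by
  choose U hxU hU using hloc
  have hcov : iSup U = ⊤ := by
    rw [eq_top_iff]
    intro x _
    exact TopologicalSpace.Opens.mem_iSup.mpr ⟨x, hxU x⟩
  have hEt : Etale f := IsZariskiLocalAtSource.of_iSup_eq_top (P := @Etale) U hcov
    (fun x => have := hU x; inferInstance)
  have hres : ∀ x, Function.Bijective (f.residueFieldMap x).hom := by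
    intro x
    have h1 := hU x
    have h2 : IsIso (((U x).ι ≫ f).residueFieldMap ⟨x, hxU x⟩) := inferInstance
    rw [Scheme.residueFieldMap_comp] at h2
    have h3 : IsIso (f.residueFieldMap ((U x).ι ⟨x, hxU x⟩)) :=
      @IsIso.of_isIso_comp_right _ _ _ _ _ _ ((U x).ι.residueFieldMap ⟨x, hxU x⟩) inferInstance h2
    exact (ConcreteCategory.isIso_iff_bijective _).mp h3
  have hsurj : Function.Surjective (pullback.diagonal f) := by
    intro z
    obtain ⟨ζ, hζz, hζ⟩ := exists_maximal_generization _ z
    have hξ := closure_mem_irreducibleComponents_of_maximal _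
      (maximal_map_of_flat (pullback.fst f f) ζ hζ)
    have hξ' := closure_mem_irreducibleComponents_of_maximal _
      (maximal_map_of_flat (pullback.snd f f) ζ hζ)
    have hcond : f (pullback.fst f f ζ) = f (pullback.snd f f ζ) := by
      rw [← Scheme.Hom.comp_apply, ← Scheme.Hom.comp_apply, pullback.condition]
    have heq := hinj _ _ hξ hξ' hcond
    have h3 : pullback.fst f f (pullback.diagonal f (pullback.fst f f ζ)) = pullback.fst f f ζ := by
      rw [← Scheme.Hom.comp_apply, pullback.diagonal_fst]
      rfl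
    have h4 : pullback.snd f f (pullback.diagonal f (pullback.fst f f ζ)) = pullback.fst f f ζ := by
      rw [← Scheme.Hom.comp_apply, pullback.diagonal_snd]
      rfl
    have h5 : ζ = pullback.diagonal f (pullback.fst f f ζ) :=
      eq_of_fst_eq_of_snd_eq _ _ h3.symm (heq.symm.trans h4.symm) (hres _)
    have hclosed : IsClosed (Set.range (pullback.diagonal f)) :=
      (pullback.diagonal f).isClosedEmbedding.isClosed_range
    have h6 : ζ ∈ Set.range (pullback.diagonal f) := ⟨_, h5.symm⟩
    exact hζz.mem_closed hclosed h6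
  have hiso : IsIso (pullback.diagonal f) :=
    (isIso_iff_isOpenImmersion_and_surjective _).mpr ⟨inferInstance, ⟨hsurj⟩⟩
  have hmono : Mono f := (pullback.isIso_diagonal_iff f).mp hiso
  exact IsOpenImmersion.of_flat_of_mono f

end Groth.Agent.Lib.Helper70.LocalOpenImm
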