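import Mathlib
import Groth.Prelude.Def_BigSite

open AlgebraicGeometry CategoryTheory Limits IsLocalRing TensorProduct

universe u

namespace Groth.Agent.Lib.Helper70.PropADescent

set_option backward.isDefEq.respectTransparency.types false in
/-- condition (A) at a point can be checked after descending an étale neighbourhood along a
morphism `X₀ ⟶ X₁` over an open part `Y₀` of the base -/
theorem propA_of_descent {X Y U : Scheme.{u}} (f : X ⟶ Y) (g : U ⟶ X) (u : U)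
    {Y₀ X₀ U₀ X₁ U₁ : Scheme.{u}} (jY : Y₀ ⟶ Y) [IsOpenImmersion jY] (jX : X₀ ⟶ X)
    [IsOpenImmersion jX] (jU : U₀ ⟶ U) (f₀ : X₀ ⟶ Y₀) (g₀ : U₀ ⟶ X₀)
    (hf₀ : jX ≫ f = f₀ ≫ jY) (hg₀ : jU ≫ g = g₀ ≫ jX)
    (hX₀ : f.base ⁻¹' (Set.range jY.base) ⊆ Set.range jX.base)
    (u₀ : U₀) (hu₀ : jU u₀ = u)
    (r : X₀ ⟶ X₁) (f₁ : X₁ ⟶ Y₀) (hr : r ≫ f₁ = f₀) (g₁ : U₁ ⟶ X₁) [Etale g₁] (ρ : U₀ ⟶ U₁)
    (hpb : IsPullback ρ g₀ g₁ r) (hA : BigSite.PropA (f₁ ≫ jY)) :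
    ∃ (V : Scheme.{u}) (v : V ⟶ Y) (_ : Etale v) (W : (pullback f v).Opens)
      (_ : IsClosed (W : Set ↥(pullback f v))) (h : (W : Scheme.{u}) ⟶ U),
      h ≫ g = W.ι ≫ pullback.fst f v ∧ u ∈ Set.range h.base := by
  obtain ⟨V, v, hv, W₁, hW₁cl, h₁, hh₁, w₁, hw₁⟩ := hA U₁ g₁ (ρ u₀)
  let V₀ : V.Opens := v ⁻¹ᵁ jY.opensRange
  have hv₀et : Etale (V₀.ι ≫ v) := inferInstance
  -- the projection to `X` lands in `X₀`
  have hrange_a : Set.range (pullback.fst f (V₀.ι ≫ v)).base ⊆ Set.range jX.base := by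
    rintro _ ⟨z, rfl⟩
    apply hX₀
    show f (pullback.fst f (V₀.ι ≫ v) z) ∈ Set.range jY.base
    rw [← Scheme.Hom.comp_apply, pullback.condition, Scheme.Hom.comp_apply,
      Scheme.Hom.comp_apply]
    exact (pullback.snd f (V₀.ι ≫ v) z).2
  obtain ⟨a, ha⟩ : ∃ a : pullback f (V₀.ι ≫ v) ⟶ X₀, a ≫ jX = pullback.fst f (V₀.ι ≫ v) :=
    ⟨IsOpenImmersion.lift jX (pullback.fst f (V₀.ι ≫ v)) hrange_a,
      IsOpenImmersion.lift_fac _ _ _⟩
  obtain ⟨θ, hθ1, hθ2⟩ : ∃ θ : pullback f (V₀.ι ≫ v) ⟶ pullback (f₁ ≫ jY) v,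
      θ ≫ pullback.fst (f₁ ≫ jY) v = a ≫ r ∧
      θ ≫ pullback.snd (f₁ ≫ jY) v = pullback.snd f (V₀.ι ≫ v) ≫ V₀.ι := by
    refine ⟨pullback.lift (a ≫ r) (pullback.snd f (V₀.ι ≫ v) ≫ V₀.ι) ?_,
      pullback.lift_fst _ _ _, pullback.lift_snd _ _ _⟩
    rw [Category.assoc, ← Category.assoc r, hr, ← hf₀, ← Category.assoc, ha, pullback.condition,
      Category.assoc]
  let W : (pullback f (V₀.ι ≫ v)).Opens := θ ⁻¹ᵁ W₁
  have hWcl : IsClosed (W : Set ↥(pullback f (V₀.ι ≫ v))) := hW₁cl.preimage θ.continuous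
  -- the morphism `W ⟶ U₀`
  have hcompat : ((θ ∣_ W₁) ≫ h₁) ≫ g₁ = (W.ι ≫ a) ≫ r := by
    rw [Category.assoc, hh₁, ← Category.assoc, morphismRestrict_ι, Category.assoc, hθ1,
      Category.assoc]
  obtain ⟨h, hh1, hh2⟩ : ∃ h : W.toScheme ⟶ U₀, h ≫ ρ = (θ ∣_ W₁) ≫ h₁ ∧ h ≫ g₀ = W.ι ≫ a :=
    ⟨hpb.lift _ _ hcompat, hpb.lift_fst _ _ _, hpb.lift_snd _ _ _⟩
  refine ⟨V₀.toScheme, V₀.ι ≫ v, hv₀et, W, hWcl, h ≫ jU, ?_, ?_⟩
  · rw [Category.assoc, hg₀, ← Category.assoc, hh2, Category.assoc, ha]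
  · -- the point
    obtain ⟨τ, hτ1, hτ2⟩ := Scheme.Pullback.exists_preimage_pullback (f := ρ) (g := h₁) u₀ w₁
      hw₁.symm
    have hrange_t : Set.range (pullback.snd ρ h₁ ≫ W₁.ι ≫ pullback.snd (f₁ ≫ jY) v).base ⊆
        Set.range V₀.ι.base := by
      rintro _ ⟨z, rfl⟩
      rw [Scheme.Opens.range_ι]
      show v ((pullback.snd ρ h₁ ≫ W₁.ι ≫ pullback.snd (f₁ ≫ jY) v) z) ∈ Set.range jY.base
      rw [← Scheme.Hom.comp_apply, Category.assoc, Category.assoc, ← pullback.condition]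
      exact ⟨_, rfl⟩
    obtain ⟨tV, htV⟩ : ∃ tV : pullback ρ h₁ ⟶ V₀.toScheme,
        tV ≫ V₀.ι = pullback.snd ρ h₁ ≫ W₁.ι ≫ pullback.snd (f₁ ≫ jY) v :=
      ⟨IsOpenImmersion.lift V₀.ι _ hrange_t, IsOpenImmersion.lift_fac _ _ _⟩
    obtain ⟨tP, htP1, htP2⟩ : ∃ tP : pullback ρ h₁ ⟶ pullback f (V₀.ι ≫ v),
        tP ≫ pullback.fst f (V₀.ι ≫ v) = pullback.fst ρ h₁ ≫ g₀ ≫ jX ∧
        tP ≫ pullback.snd f (V₀.ι ≫ v) = tV := by
      refine ⟨pullback.lift (pullback.fst ρ h₁ ≫ g₀ ≫ jX) tV ?_, pullback.lift_fst _ _ _,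
        pullback.lift_snd _ _ _⟩
      rw [← Category.assoc tV, htV]
      simp only [Category.assoc]
      rw [hf₀, ← hr, ← pullback.condition (f := f₁ ≫ jY)]
      simp only [← Category.assoc]
      congr 2
      simp only [Category.assoc]
      rw [← hpb.w, ← hh₁, ← Category.assoc, pullback.condition, Category.assoc]
    have htPa : tP ≫ a = pullback.fst ρ h₁ ≫ g₀ := by
      rw [← cancel_mono jX, Category.assoc, ha, htP1, Category.assoc]
    have htPθ : tP ≫ θ = pullback.snd ρ h₁ ≫ W₁.ι := by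
      apply pullback.hom_ext
      · rw [Category.assoc, hθ1, ← Category.assoc, htPa, Category.assoc, ← hpb.w,
          ← Category.assoc, pullback.condition, Category.assoc, hh₁, Category.assoc]
      · rw [Category.assoc, hθ2, ← Category.assoc, htP2, htV, Category.assoc]
    have hrange_W : Set.range tP.base ⊆ Set.range W.ι.base := by
      rintro _ ⟨z, rfl⟩
      rw [Scheme.Opens.range_ι]
      show θ (tP z) ∈ W₁
      rw [← Scheme.Hom.comp_apply, htPθ]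
      exact (pullback.snd ρ h₁ z).2
    obtain ⟨tW, htW⟩ : ∃ tW : pullback ρ h₁ ⟶ W.toScheme, tW ≫ W.ι = tP :=
      ⟨IsOpenImmersion.lift W.ι _ hrange_W, IsOpenImmersion.lift_fac _ _ _⟩
    have htWθ : tW ≫ (θ ∣_ W₁) = pullback.snd ρ h₁ := by
      rw [← cancel_mono W₁.ι, Category.assoc, morphismRestrict_ι, ← Category.assoc, htW, htPθ]
    have htWh : tW ≫ h = pullback.fst ρ h₁ := by
      apply hpb.hom_ext
      · rw [Category.assoc, hh1, ← Category.assoc, htWθ, pullback.condition]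
      · rw [Category.assoc, hh2, ← Category.assoc, htW, htPa]
    refine ⟨tW τ, ?_⟩
    rw [Scheme.Hom.comp_apply, ← Scheme.Hom.comp_apply tW h, htWh, hτ1, hu₀]


/-- descent of an étale algebra over an integral algebra to a finite subalgebra -/
theorem exists_descent {R A B : CommRingCat.{u}} (φ : R ⟶ A) (ψ : A ⟶ B)
    (hφ : φ.hom.IsIntegral) (hψ : ψ.hom.Etale) :
    ∃ (A₀ B₀ : CommRingCat.{u}) (α : R ⟶ A₀) (ι : A₀ ⟶ A) (β : A₀ ⟶ B₀) (ρ : B₀ ⟶ B),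
      α ≫ ι = φ ∧ α.hom.Finite ∧ β.hom.Etale ∧ IsPushout ι β ψ ρ := by
  algebraize [φ.hom, ψ.hom]
  have hint : Algebra.IsIntegral R A := ⟨hφ⟩
  obtain ⟨A₀, B₀, _, _, hfg, het, ⟨e⟩⟩ := Algebra.Etale.exists_subalgebra_fg R A B
  have hint₀ : Algebra.IsIntegral R A₀ :=
    Algebra.IsIntegral.of_injective A₀.val Subtype.val_injective
  have hft : Algebra.FiniteType R A₀ := (Subalgebra.fg_iff_finiteType A₀).mp hfg
  have hfin : Module.Finite R A₀ := Algebra.IsIntegral.finite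
  refine ⟨.of A₀, .of B₀, CommRingCat.ofHom (algebraMap R A₀), CommRingCat.ofHom (algebraMap A₀ A),
    CommRingCat.ofHom (algebraMap A₀ B₀),
    CommRingCat.ofHom ((e.symm : A ⊗[A₀] B₀ →+* B).comp
      (Algebra.TensorProduct.includeRight : B₀ →ₐ[A₀] A ⊗[A₀] B₀).toRingHom), ?_, ?_, ?_, ?_⟩
  · ext x
    rfl
  · exact RingHom.finite_algebraMap.mpr hfin
  · exact RingHom.etale_algebraMap.mpr het
  · have h1 := CommRingCat.isPushout_tensorProduct A₀ A B₀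
    refine h1.of_iso (Iso.refl _) (Iso.refl _) (Iso.refl _) e.symm.toRingEquiv.toCommRingCatIso
      ?_ ?_ ?_ ?_
    · simp
    · simp
    · ext a
      simp only [Iso.refl_hom, Category.id_comp, CommRingCat.hom_comp, CommRingCat.hom_ofHom,
        RingEquiv.toCommRingCatIso_hom, RingHom.coe_comp, Function.comp_apply,
        Algebra.TensorProduct.includeLeftRingHom_apply]
      have h2 : e.symm (algebraMap A (A ⊗[A₀] B₀) a) = algebraMap A B a := e.symm.commutes a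
      rw [Algebra.TensorProduct.algebraMap_apply] at h2
      exact h2
    · ext b
      simp

end Groth.Agent.Lib.Helper70.PropADescent
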