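import Mathlib
import Groth.Prelude.Def_SGA4b
import Groth.Agent.S6632

set_option autoImplicit false
open CategoryTheory CategoryTheory.Limits AlgebraicGeometry Opposite

universe u

namespace Groth.Agent.Lib.Helper70.PtFunSheaf

variable {V : Scheme.{u}} (Z : Set V)

/-- points of an étale `V`-scheme lying over `Z` -/
def Pts (W : V.Etale) : Type u := {w : W.left // W.hom.base w ∈ Z}

variable {Z} in
theorem Pts.ext {W : V.Etale} {a b : Pts Z W} (h : a.1 = b.1) : a = b := Subtype.ext h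

/-- functoriality of points over `Z` -/
def ptsMap {W W' : V.Etale} (h : W' ⟶ W) (w : Pts Z W') : Pts Z W :=
  ⟨h.left.base w.1, by
    have h1 : h.left ≫ W.hom = W'.hom := CategoryTheory.Over.w h.hom
    have h2 : W.hom.base (h.left.base w.1) = W'.hom.base w.1 :=
      congrArg (fun φ : W'.left ⟶ V => φ.base w.1) h1
    exact h2 ▸ w.2⟩

/-- the presheaf of all Boolean functions on the points over `Z` -/
def presheaf : V.Etaleᵒᵖ ⥤ Type (u + 1) where
  obj W := Pts Z W.unop → ULift.{u + 1} Bool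
  map h := TypeCat.ofHom (fun s w => s (ptsMap Z h.unop w))
  map_id W := rfl
  map_comp f g := rfl

theorem presheaf_map_apply {W W' : V.Etale} (h : W' ⟶ W) (s : (presheaf Z).obj (op W))
    (w : Pts Z W') : (presheaf Z).map h.op s w = s (ptsMap Z h w) := rfl

set_option backward.isDefEq.respectTransparency.types false in
theorem isSheaf : Presieve.IsSheaf V.smallEtaleTopology (presheaf Z) := by
  intro W R hR
  rw [Groth.Agent.S6632.mem_smallEtaleTopology_iff] at hR
  intro x hx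
  choose Yc fc yc hRc hyc using hR
  have hmem : ∀ w : Pts Z W, (Yc w.1).hom.base (yc w.1) ∈ Z := by
    intro w
    have h1 : (fc w.1).left ≫ W.hom = (Yc w.1).hom := CategoryTheory.Over.w (fc w.1).hom
    have h2 : W.hom.base ((fc w.1).left.base (yc w.1)) = (Yc w.1).hom.base (yc w.1) :=
      congrArg (fun φ : (Yc w.1).left ⟶ V => φ.base (yc w.1)) h1
    rw [← h2, hyc]
    exact w.2
  -- key: the value of the family at a point only depends on the image point
  have key : ∀ (Y₁ Y₂ : V.Etale) (f₁ : Y₁ ⟶ W) (f₂ : Y₂ ⟶ W) (h₁ : R f₁) (h₂ : R f₂)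
      (y₁ : Pts Z Y₁) (y₂ : Pts Z Y₂), f₁.left.base y₁.1 = f₂.left.base y₂.1 →
      x f₁ h₁ y₁ = x f₂ h₂ y₂ := by
    intro Y₁ Y₂ f₁ f₂ h₁ h₂ y₁ y₂ he
    obtain ⟨t, ht1, ht2⟩ := Scheme.Pullback.exists_preimage_pullback (f := f₁.left)
      (g := f₂.left) y₁.1 y₂.1 he
    let T : V.Etale := Scheme.Etale.mk (pullback.fst f₁.left f₂.left ≫ Y₁.hom)
    let g₁ : T ⟶ Y₁ := MorphismProperty.Over.homMk (pullback.fst f₁.left f₂.left) rfl trivial
    let g₂ : T ⟶ Y₂ := MorphismProperty.Over.homMk (pullback.snd f₁.left f₂.left) (by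
      have e1 : f₁.left ≫ W.hom = Y₁.hom := CategoryTheory.Over.w f₁.hom
      have e2 : f₂.left ≫ W.hom = Y₂.hom := CategoryTheory.Over.w f₂.hom
      show pullback.snd f₁.left f₂.left ≫ Y₂.hom = pullback.fst f₁.left f₂.left ≫ Y₁.hom
      rw [← e1, ← e2, ← Category.assoc, ← Category.assoc, pullback.condition]) trivial
    have hcomm : g₁ ≫ f₁ = g₂ ≫ f₂ := by
      apply MorphismProperty.Over.Hom.ext
      exact pullback.condition
    have h3 := hx g₁ g₂ h₁ h₂ hcomm
    have htZ : T.hom.base t ∈ Z := by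
      show (pullback.fst f₁.left f₂.left ≫ Y₁.hom).base t ∈ Z
      rw [Scheme.Hom.comp_base]
      show Y₁.hom.base ((pullback.fst f₁.left f₂.left).base t) ∈ Z
      rw [ht1]
      exact y₁.2
    have h4 := congrFun h3 (⟨t, htZ⟩ : Pts Z T)
    rw [presheaf_map_apply, presheaf_map_apply] at h4
    have e1 : ptsMap Z g₁ (⟨t, htZ⟩ : Pts Z T) = y₁ := Pts.ext ht1
    have e2 : ptsMap Z g₂ (⟨t, htZ⟩ : Pts Z T) = y₂ := Pts.ext ht2
    rw [e1, e2] at h4
    exact h4
  refine ⟨fun w => x (fc w.1) (hRc w.1) ⟨yc w.1, hmem w⟩, ?_, ?_⟩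
  · intro Y f hf
    funext y
    rw [presheaf_map_apply]
    apply key
    exact hyc _
  · intro t ht
    funext w
    have h1 := ht (fc w.1) (hRc w.1)
    have h2 := congrFun h1 (⟨yc w.1, hmem w⟩ : Pts Z (Yc w.1))
    rw [presheaf_map_apply] at h2
    have e : ptsMap Z (fc w.1) (⟨yc w.1, hmem w⟩ : Pts Z (Yc w.1)) = w := Pts.ext (hyc w.1)
    rw [e] at h2
    exact h2

/-- the sheaf of all Boolean functions on the points over `Z` -/
def sheaf : EtDesc.Sh V := ⟨presheaf Z, (isSheaf_iff_isSheaf_of_type _ _).2 (isSheaf Z)⟩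

end Groth.Agent.Lib.Helper70.PtFunSheaf
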