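import Mathlib
import Groth.Prelude.Def_EtBase
import Groth.Agent.Lib.Helper70.PullSection

set_option autoImplicit false
open CategoryTheory CategoryTheory.Limits AlgebraicGeometry Opposite

universe u

namespace Groth.Agent.Lib.Helper70.PullSection

open Groth.Agent.Lib.Helper70.ClosedImmStalk2 Groth.Agent.Lib.Helper70.StalkPull
  Groth.Agent.Lib.Helper70.StalkPullGerm Groth.Agent.Lib.Helper70.StalkCons

variable {S T : Scheme.{u}} (F : EtCoh.Ab S) (f : T ⟶ S)

set_option backward.isDefEq.respectTransparency.types false in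
/-- if the pullback of a section `d` over `V` along `f` vanishes, then the projection
`V ×_S T ⟶ V` lands in the complement of the support of `d` -/
theorem notMem_of_unit_eq_zero (V : S.Etale) (d : EtCoh.sect F V)
    (h : ((EtCoh.pullPushAdj f).unit.app F).hom.app (op V) d = 0)
    (z : ↥(pullback V.hom f)) :
    (pullback.fst V.hom f).base z ∉ EtShriek.sectSupp F V d := by
  let V' : T.Etale := (EtCoh.bc f).obj V
  let z' : V'.left := z
  let τ := geomPt V' z'
  let x := geomPtFiber V' z'
  let v := (tilde f (τ ≫ V'.hom) V).symm x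
  have hx : x = tilde f (τ ≫ V'.hom) V v := (Equiv.apply_symm_apply _ _).symm
  have h1 := germ_pull F f (τ ≫ V'.hom) V v d
  have hz : (Scheme.pointSmallEtale (τ ≫ V'.hom)).toPresheafFiber ((EtCoh.bc f).obj V)
      (tilde f (τ ≫ V'.hom) V v) ((EtCoh.pull f).obj F).obj
      (((EtCoh.pullPushAdj f).unit.app F).hom.app (op V) d) = 0 := by
    rw [h]
    exact map_zero ((Scheme.pointSmallEtale (τ ≫ V'.hom)).toPresheafFiber ((EtCoh.bc f).obj V)
      (tilde f (τ ≫ V'.hom) V v) ((EtCoh.pull f).obj F).obj).hom
  have h1' := h1.trans hz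
  have h2 : (Scheme.pointSmallEtale ((τ ≫ V'.hom) ≫ f)).toPresheafFiber V v F.obj d = 0 := by
    have e := ConcreteCategory.congr_hom
      ((stalkPullIso f (τ ≫ V'.hom) AddCommGrpCat.{u + 1}).app F).inv_hom_id
      ((Scheme.pointSmallEtale ((τ ≫ V'.hom) ≫ f)).toPresheafFiber V v F.obj d)
    have e2 := congrArg ((stalkPullIso f (τ ≫ V'.hom) AddCommGrpCat.{u + 1}).hom.app F) h1'
    exact e.symm.trans (e2.trans
      (map_zero ((stalkPullIso f (τ ≫ V'.hom) AddCommGrpCat.{u + 1}).hom.app F).hom))
  have hv : v = Over.homMk v.left (Over.w v) := by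
    apply Over.OverMorphism.ext
    rfl
  rw [hv] at h2
  have h3 := notMem_of_germ_eq_zero' F ((τ ≫ V'.hom) ≫ f) V d v.left (Over.w v) h2
  obtain ⟨vl, hvl⟩ : ∃ vl : Spec (CommRingCat.of (SeparableClosure (V'.left.residueField z'))) ⟶
      V.left, vl = v.left := ⟨_, rfl⟩
  rw [← hvl] at h3
  have h4 : vl = τ ≫ pullback.fst V.hom f := hvl.trans rfl
  have h5 : vl.base default = (pullback.fst V.hom f).base z := by
    rw [h4]
    have h6 : τ.base default = z := geomPt_apply V' z' default
    exact (Scheme.Hom.comp_apply τ (pullback.fst V.hom f) default).trans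
      (congrArg (pullback.fst V.hom f).base h6)
  exact fun hmem => h3 (h5 ▸ hmem)

/-- the unit `F ⟶ f_* f^{-1} F` is a monomorphism for surjective `f` -/
theorem mono_unit_of_surjective [Surjective f] : Mono ((EtCoh.pullPushAdj f).unit.app F) := by
  haveI : Mono ((EtCoh.pullPushAdj f).unit.app F).hom := by
    apply (config := { allowSynthFailures := true }) NatTrans.mono_of_mono_app
    intro V
    rw [AddCommGrpCat.mono_iff_injective, injective_iff_map_eq_zero]
    intro d hd
    apply Supp.eq_zero_of_sectSupp_eq_empty F V.unop d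
    rw [Set.eq_empty_iff_forall_notMem]
    intro p
    obtain ⟨z, hz⟩ := (inferInstance : Surjective (pullback.fst V.unop.hom f)).surj p
    rw [← hz]
    exact notMem_of_unit_eq_zero F f V.unop d hd z
  exact Sheaf.Hom.mono_of_presheaf_mono _ _ _

end Groth.Agent.Lib.Helper70.PullSection
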