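import Groth.Agent.Lib.Cohomology.Helper3_SpecPt3
import Groth.Agent.Lib.Cohomology.Helper3_LocConst4
import Groth.Agent.Lib.Helper89.SplitCover
import Groth.Agent.Lib.Helper70.FinPushStalk

/-!
# Push-forward of a finite locally constant sheaf along a finite étale morphism (helper70)
-/

set_option autoImplicit false
universe u
open CategoryTheory CategoryTheory.Limits Opposite AlgebraicGeometry

namespace Groth.Agent.Lib.Helper70.PushFLC

open Groth.Agent.Lib.Helper89.SplitCover Groth.Agent.Lib.Helper70.PropAFaithful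
open Groth.Agent.Lib.Cohomology.LocConst Groth.Agent.Lib.Cohomology.SpecPt
open Groth.Agent.Lib.Cohomology.CardConstr Groth.Agent.Lib.Helper70.FinPushStalk

section Triv

variable {X S Y W : Scheme.{u}}

theorem IsTrivialisedBy.precomp {φ : X ⟶ S} {ψ : Y ⟶ S} {n : ℕ} {t : Fin n → (Y ⟶ X)}
    (H : IsTrivialisedBy φ ψ n t) (p : W ⟶ Y) :
    IsTrivialisedBy φ (p ≫ ψ) n (fun i => p ≫ t i) where
  comp i := by rw [Category.assoc, H.comp]
  inj K _ y i j h := H.inj K (y ≫ p) i j (by simpa only [Category.assoc] using h)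
  surj K _ x y h := by
    obtain ⟨i, hi⟩ := H.surj K x (y ≫ p) (by rw [h, Category.assoc])
    exact ⟨i, by rw [hi, Category.assoc]⟩

theorem IsTrivialisedBy.of_pullback {f : X ⟶ S} {V : Scheme.{u}} (j : V ⟶ S) {ψ : Y ⟶ V} {n : ℕ}
    {t : Fin n → (Y ⟶ pullback f j)} (H : IsTrivialisedBy (pullback.snd f j) ψ n t) :
    IsTrivialisedBy f (ψ ≫ j) n (fun i => t i ≫ pullback.fst f j) where
  comp i := by
    rw [Category.assoc, pullback.condition, ← Category.assoc, H.comp]
  inj K _ y i k h := by
    apply H.inj K y i k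
    apply pullback.hom_ext
    · simpa only [Category.assoc] using h
    · rw [Category.assoc, Category.assoc, H.comp, H.comp]
  surj K _ x y h := by
    obtain ⟨i, hi⟩ := H.surj K (pullback.lift x (y ≫ ψ) (by rw [h, Category.assoc])) y
      (pullback.lift_snd _ _ _)
    refine ⟨i, ?_⟩
    have := congrArg (fun q => q ≫ pullback.fst f j) hi
    simpa only [pullback.lift_fst, Category.assoc] using this

end Triv

section Refine

variable {X Y' : Scheme.{u}}

/-- a common étale neighbourhood through which finitely many maps lift to given étale schemes -/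
theorem exists_refine {ι : Type*} (y' : Y') (s : ι → (Y' ⟶ X)) (U : ι → X.Etale)
    (u : ∀ i, (U i).left) (hu : ∀ i, (U i).hom.base (u i) = (s i).base y') (A : Finset ι) :
    ∃ (W : Scheme.{u}) (p : W ⟶ Y') (_ : Etale p) (w : W), p.base w = y' ∧
      ∀ i ∈ A, ∃ l : W ⟶ (U i).left, l ≫ (U i).hom = p ≫ s i := by
  classical
  induction A using Finset.induction_on with
  | empty => exact ⟨Y', 𝟙 Y', inferInstance, y', rfl, fun i hi => absurd hi (Finset.notMem_empty i)⟩
  | insert a A ha IH =>
    obtain ⟨W, p, hp, w, hw, hl⟩ := IH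
    have h1 : (p ≫ s a).base w = (U a).hom.base (u a) := by
      rw [Scheme.Hom.comp_base, TopCat.comp_app, hw, hu]
    obtain ⟨z, hz1, hz2⟩ := Scheme.Pullback.exists_preimage_pullback
      (f := p ≫ s a) (g := (U a).hom) w (u a) h1
    refine ⟨pullback (p ≫ s a) (U a).hom, pullback.fst _ _ ≫ p, inferInstance, z, ?_, ?_⟩
    · rw [Scheme.Hom.comp_base, TopCat.comp_app]
      exact (congrArg p.base hz1).trans hw
    · intro i hi
      rcases Finset.mem_insert.1 hi with rfl | hi
      · exact ⟨pullback.snd _ _, by rw [← pullback.condition, Category.assoc]⟩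
      · obtain ⟨l, hl'⟩ := hl i hi
        exact ⟨pullback.fst _ _ ≫ l, by rw [Category.assoc, hl', Category.assoc]⟩

end Refine

section Glue

variable {X : Scheme.{u}}

/-- gluing sections over a disjoint cover by monomorphisms -/
theorem existsUnique_glue (F : EtCoh.Ab X) (P : X.Etale) {ι : Type} (Z : ι → X.Etale)
    (c : ∀ i, Z i ⟶ P) (hmono : ∀ i, Mono (c i).left)
    (hcov : ∀ p : P.left, ∃ i, p ∈ Set.range (c i).left.base)
    (hdisj : ∀ i j, i ≠ j → ∀ (z : (Z i).left) (z' : (Z j).left),
      (c i).left.base z ≠ (c j).left.base z')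
    (s : ∀ i, F.obj.obj (op (Z i))) :
    ∃! s' : F.obj.obj (op P), ∀ i, F.obj.map (c i).op s' = s i := by
  classical
  have hcover : Sieve.generate (Presieve.ofArrows Z c) ∈ X.smallEtaleTopology P := by
    rw [Groth.Agent.S6632.mem_smallEtaleTopology_iff]
    intro p
    obtain ⟨i, z, hz⟩ := hcov p
    exact ⟨Z i, c i, z, Sieve.le_generate _ _ _ (Presieve.ofArrows.mk (ι := ι) i), hz⟩
  have hsheaf : (Presieve.ofArrows Z c).IsSheafFor (toType F).obj := by
    rw [Presieve.isSheafFor_iff_generate]
    exact (isSheaf_iff_isSheaf_of_type _ _).1 (toType F).2 _ hcover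
  rw [Presieve.isSheafFor_arrows_iff] at hsheaf
  have hcompat : Presieve.Arrows.Compatible (toType F).obj c
      (fun i => (s i : (toType F).obj.obj (op (Z i)))) := by
    intro i j T gi gj hij
    by_cases h : i = j
    · subst h
      have h1 : gi.left ≫ (c i).left = gj.left ≫ (c i).left := by
        have := congrArg (fun k => k.left) hij
        exact this
      haveI := hmono i
      have h2 : gi.left = gj.left := (cancel_mono (c i).left).mp h1
      have h3 : gi = gj := MorphismProperty.Over.Hom.ext h2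
      rw [h3]
    · have hempty : IsEmpty T.left := by
        refine ⟨fun t => hdisj i j h (gi.left.base t) (gj.left.base t) ?_⟩
        have h1 : (gi ≫ c i).left.base t = (gj ≫ c j).left.base t := by rw [hij]
        exact h1
      exact eq_of_isEmpty F T hempty _ _
  exact hsheaf _ hcompat

end Glue

section Geom

variable {X Y TL : Scheme.{u}} (f : X ⟶ Y) (th : TL ⟶ Y) {n : ℕ} (s : Fin n → (TL ⟶ X))
  (H : IsTrivialisedBy f th n s)

/-- the section of `TL ×_Y X ⟶ TL` given by `s i` -/
noncomputable def cl (i : Fin n) : TL ⟶ pullback th f :=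
  pullback.lift (𝟙 TL) (s i) ((Category.id_comp _).trans (H.comp i).symm)

@[reassoc]
lemma cl_fst (i : Fin n) : cl f th s H i ≫ pullback.fst th f = 𝟙 TL := pullback.lift_fst _ _ _

@[reassoc]
lemma cl_snd (i : Fin n) : cl f th s H i ≫ pullback.snd th f = s i := pullback.lift_snd _ _ _

instance mono_cl (i : Fin n) : Mono (cl f th s H i) := by
  haveI : Mono (cl f th s H i ≫ pullback.fst th f) := by
    rw [cl_fst]; infer_instance
  exact mono_of_mono (cl f th s H i) (pullback.fst th f)

include H in
lemma cl_cover (z : ↥(pullback th f)) : ∃ i, z ∈ Set.range (cl f th s H i).base := by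
  obtain ⟨K, _, a, pt, hpt⟩ := exists_field_point (pullback th f) z
  obtain ⟨i, hi⟩ := H.surj K (a ≫ pullback.snd th f) (a ≫ pullback.fst th f)
    (by rw [Category.assoc, Category.assoc, pullback.condition])
  have ha : a = (a ≫ pullback.fst th f) ≫ cl f th s H i := by
    apply pullback.hom_ext
    · rw [Category.assoc, cl_fst, Category.comp_id]
    · rw [Category.assoc, cl_snd, hi]
  refine ⟨i, (a ≫ pullback.fst th f).base pt, ?_⟩
  rw [← hpt]
  conv_rhs => rw [ha]
  rfl

lemma cl_disjoint (i j : Fin n) (hij : i ≠ j) (z z' : TL) :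
    (cl f th s H i).base z ≠ (cl f th s H j).base z' := by
  intro hzz
  obtain ⟨w, hw1, hw2⟩ := Scheme.Pullback.exists_preimage_pullback
    (f := cl f th s H i) (g := cl f th s H j) z z' hzz
  obtain ⟨K, _, a, pt, hpt⟩ := exists_field_point _ w
  have hcond : (a ≫ pullback.fst _ _) ≫ cl f th s H i = (a ≫ pullback.snd _ _) ≫ cl f th s H j := by
    rw [Category.assoc, Category.assoc, pullback.condition]
  have hab : a ≫ pullback.fst _ _ = a ≫ pullback.snd _ _ := by
    have := congrArg (fun q => q ≫ pullback.fst th f) hcond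
    simpa only [Category.assoc, cl_fst, Category.comp_id] using this
  have htt : (a ≫ pullback.fst _ _) ≫ s i = (a ≫ pullback.fst _ _) ≫ s j := by
    have := congrArg (fun q => q ≫ pullback.snd th f) hcond
    rw [← hab] at this
    simpa only [Category.assoc, cl_snd] using this
  exact hij (H.inj K _ i j htt)

end Geom

section Main

variable {X Y : Scheme.{u}} (f : X ⟶ Y) [IsFinite f] [Etale f] (F : EtCoh.Ab X)

set_option backward.isDefEq.respectTransparency.types false in
/-- `f_* F` is constant over `T` when `f` is split over `T` by sections along which `F` is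
constant. -/
theorem nonempty_triv_push (T : Y.Etale) (n : ℕ) (s : Fin n → (T.left ⟶ X)) [∀ i, Etale (s i)]
    (H : IsTrivialisedBy f T.hom n s)
    (M : Fin n → AddCommGrpCat.{u + 1})
    (β : ∀ i, F.over (Scheme.Etale.mk (s i)) ≅
      (cS X.smallEtaleTopology (Scheme.Etale.mk (s i))).obj (M i)) :
    Nonempty (((EtCoh.push f).obj F).over T ≅
      (cS Y.smallEtaleTopology T).obj (AddCommGrpCat.of (∀ i, M i))) := by
  classical
  let G := (EtCoh.push f).obj F
  let Ti : Fin n → X.Etale := fun i => Scheme.Etale.mk (s i)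
  let P : X.Etale := (EtCoh.bc f).obj T
  let c : ∀ i, Ti i ⟶ P := fun i => MorphismProperty.Over.homMk
    (cl f T.hom s H i) (cl_snd f T.hom s H i) trivial
  have hmono : ∀ i, Mono (c i).left := fun i => mono_cl f T.hom s H i
  have hcov : ∀ p : P.left, ∃ i, p ∈ Set.range (c i).left.base := fun p => cl_cover f T.hom s H p
  have hdisj : ∀ i j, i ≠ j → ∀ (z : (Ti i).left) (z' : (Ti j).left),
      (c i).left.base z ≠ (c j).left.base z' := fun i j hij z z' => cl_disjoint f T.hom s H i j hij z z'
  -- the sections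
  let σi : ∀ i, M i ⟶ F.obj.obj (op (Ti i)) := fun i => secTriv X.smallEtaleTopology F (β i)
  have hglue := fun m : (∀ i, M i) =>
    existsUnique_glue F P Ti c hmono hcov hdisj (fun i => (σi i).hom (m i))
  let σf : (∀ i, M i) → F.obj.obj (op P) := fun m => (hglue m).choose
  have hσf : ∀ m i, F.obj.map (c i).op (σf m) = (σi i).hom (m i) :=
    fun m => (hglue m).choose_spec.1
  have hσf_uniq : ∀ m (z : F.obj.obj (op P)),
      (∀ i, F.obj.map (c i).op z = (σi i).hom (m i)) → z = σf m :=
    fun m z hz => (hglue m).choose_spec.2 z hz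
  have hadd : ∀ m m', σf (m + m') = σf m + σf m' := by
    intro m m'
    symm
    apply hσf_uniq
    intro i
    rw [map_add, hσf, hσf]
    exact (map_add (σi i).hom (m i) (m' i)).symm
  let σ : AddCommGrpCat.of (∀ i, M i) ⟶ G.obj.obj (op T) :=
    AddCommGrpCat.ofHom (AddMonoidHom.mk' σf hadd)
  apply nonempty_triv_of_germ_bijective G T _ σ
  intro u
  let κ := T.left.residueField u
  let Ω' := AlgebraicClosure κ
  let ζ : Spec (CommRingCat.of Ω') ⟶ T.left :=
    Spec.map (CommRingCat.ofHom (algebraMap κ Ω')) ≫ T.left.fromSpecResidueField u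
  have hζ : ζ.base default = u := by
    change (Spec.map (CommRingCat.ofHom (algebraMap κ Ω')) ≫ T.left.fromSpecResidueField u).base
      default = u
    rw [Scheme.Hom.comp_base, TopCat.comp_app]
    exact Scheme.fromSpecResidueField_apply u _
  let ū : Spec (CommRingCat.of Ω') ⟶ Y := ζ ≫ T.hom
  let y : (Scheme.pointSmallEtale ū).fiber.obj T := mkFiber ū ζ rfl
  refine ⟨Ω', inferInstance, inferInstance, ū, y, hζ, ?_⟩
  let ξ : Fin n → (Spec (CommRingCat.of Ω') ⟶ X) := fun i => ζ ≫ s i
  have hξ : ∀ i, ξ i ≫ f = ū := fun i => by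
    change (ζ ≫ s i) ≫ f = ζ ≫ T.hom
    rw [Category.assoc, H.comp]
  let pi : ∀ i, (Scheme.pointSmallEtale (ξ i)).fiber.obj (Ti i) := fun i => mkFiber (ξ i) ζ rfl
  have hlift : ∀ i, lift f ū (ξ i) (hξ i) T y =
      (Scheme.pointSmallEtale (ξ i)).fiber.map (c i) (pi i) := by
    intro i
    apply fiber_ext
    change pullback.lift ζ (ξ i) _ = ζ ≫ cl f T.hom s H i
    apply pullback.hom_ext
    · rw [pullback.lift_fst, Category.assoc, cl_fst, Category.comp_id]
    · rw [pullback.lift_snd, Category.assoc, cl_snd]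
  have hΨ : ∀ i (z : F.obj.obj (op P)), Ψ f F ū (ξ i) (hξ i) (germ ū G T y z) =
      germ (ξ i) F (Ti i) (pi i) ((F.obj.map (c i).op).hom z) := by
    intro i z
    rw [germ_map, ← hlift]
    exact Ψ_germ f F ū (ξ i) (hξ i) T y z
  have hbij : ∀ i, Function.Bijective
      (fun m : M i => germ (ξ i) F (Ti i) (pi i) ((σi i).hom m)) :=
    fun i => bijective_germ_secTriv F (β i) (ξ i) (pi i)
  have hσ : ∀ m, σ.hom m = σf m := fun m => rfl
  constructor
  · intro m m' hmm
    funext i
    apply (hbij i).1
    have h1 := congrArg (Ψ f F ū (ξ i) (hξ i)) hmm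
    simp only [hσ] at h1
    rw [hΨ, hΨ] at h1
    have e1 : (F.obj.map (c i).op).hom (σf m) = (σi i).hom (m i) := hσf m i
    have e2 : (F.obj.map (c i).op).hom (σf m') = (σi i).hom (m' i) := hσf m' i
    rw [e1, e2] at h1
    exact h1
  · intro a
    choose m hm using fun i => (hbij i).2 (Ψ f F ū (ξ i) (hξ i) a)
    refine ⟨m, ?_⟩
    have hz : a - germ ū G T y (σ.hom m) = 0 := by
      apply eq_zero_of_Ψ_eq_zero f F ū
      intro ξ' hξ'
      obtain ⟨i, hi⟩ := H.surj Ω' ξ' ζ hξ'
      have hi' : ξ' = ξ i := hi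
      subst hi'
      rw [map_sub, hσ, hΨ]
      have e1 : (F.obj.map (c i).op).hom (σf m) = (σi i).hom (m i) := hσf m i
      rw [e1]
      have := hm i
      simp only at this
      rw [this, sub_self]
    exact (sub_eq_zero.1 hz).symm

end Main

section Final

variable {X Y : Scheme.{u}} (f : X ⟶ Y) [IsFinite f] [Etale f] (F : EtCoh.Ab X)

set_option backward.isDefEq.respectTransparency.types false in
/-- the direct image of a finite locally constant sheaf along a finite étale morphism is finite
locally constant. -/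
theorem isFLC_push (h : EtCoh.IsFiniteLocallyConstant F) :
    EtCoh.IsFiniteLocallyConstant ((EtCoh.push f).obj F) := by
  classical
  apply isFLC_of_forall_point
  intro y
  let n := f.finrank y
  have hopen : IsOpen (f.finrank ⁻¹' {n}) :=
    (Scheme.Hom.isLocallyConstant_finrank f).isOpen_fiber n
  let V : Y.Opens := ⟨f.finrank ⁻¹' {n}, hopen⟩
  have hrank : ∀ v, (pullback.snd f V.ι).finrank v = n := fun v => by
    rw [Scheme.Hom.finrank_pullback_snd]; exact v.2
  obtain ⟨Y', ψ, t, hfin, het, hsurj, Ht⟩ := exists_trivialisation n (pullback.snd f V.ι) hrank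
  obtain ⟨y', hy'⟩ := hsurj.surj (⟨y, rfl⟩ : V)
  have H0 := IsTrivialisedBy.of_pullback V.ι Ht
  let s0 : Fin n → (Y' ⟶ X) := fun i => t i ≫ pullback.fst f V.ι
  choose U uu Mi hMfin huu hα using fun i : Fin n => exists_triv_of_isFLC h ((s0 i).base y')
  obtain ⟨W, p, hp, w, hw, hl⟩ := exists_refine y' s0 U uu huu Finset.univ
  choose l hl using fun i => hl i (Finset.mem_univ i)
  let T : Y.Etale := Scheme.Etale.mk (p ≫ ψ ≫ V.ι)
  let s : Fin n → (T.left ⟶ X) := fun i => p ≫ s0 i
  have H : IsTrivialisedBy f T.hom n s := IsTrivialisedBy.precomp H0 p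
  haveI : ∀ i, Etale (s i) := fun i => by
    haveI : Etale (s i ≫ f) := by
      rw [H.comp i]; infer_instance
    exact Etale.of_comp (s i) f
  let k : ∀ i, Scheme.Etale.mk (s i) ⟶ U i := fun i =>
    MorphismProperty.Over.homMk (l i) (hl i) trivial
  have β : ∀ i, F.over (Scheme.Etale.mk (s i)) ≅
      (cS X.smallEtaleTopology (Scheme.Etale.mk (s i))).obj (Mi i) :=
    fun i => restrTriv X.smallEtaleTopology F (k i) (hα i).some
  obtain ⟨e⟩ := nonempty_triv_push f F T n s H Mi β
  refine ⟨T, w, AddCommGrpCat.of (∀ i, Mi i), ?_, ?_, ⟨e⟩⟩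
  · haveI := hMfin
    change Finite (∀ i, Mi i)
    infer_instance
  · change (p ≫ ψ ≫ V.ι).base w = y
    rw [Scheme.Hom.comp_base, TopCat.comp_app, hw, Scheme.Hom.comp_base, TopCat.comp_app]
    have : ψ.base y' = (⟨y, rfl⟩ : V) := hy'
    rw [this]
    rfl

end Final

end Groth.Agent.Lib.Helper70.PushFLC
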