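import Mathlib

set_option autoImplicit false
open CategoryTheory CategoryTheory.Limits AlgebraicGeometry Opposite

universe u

namespace Groth.Agent.Lib.Helper70.QcImage

/-- affine case: a prime not in the image of `Spec B → Spec A` is separated from it by some
`s ∉ p` with `φ s ∈ p B`. -/
theorem exists_not_mem_of_not_mem_range {A B : Type*} [CommRing A] [CommRing B] (φ : A →+* B)
    (p : PrimeSpectrum A) (hp : p ∉ Set.range (PrimeSpectrum.comap φ)) :
    ∃ s : A, s ∉ p.asIdeal ∧ φ s ∈ p.asIdeal.map φ := by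
  rw [PrimeSpectrum.mem_range_comap_iff] at hp
  by_contra h
  push Not at h
  apply hp
  apply le_antisymm
  · intro s hs
    by_contra hs'
    exact h s hs' hs
  · exact Ideal.le_comap_map

/-- for a quasi-compact morphism `g`, a point `y` outside the image has an open neighbourhood in
which no point of the image is a specialization of `y`. -/
theorem exists_open_no_specialization {X Y : Scheme.{u}} (g : X ⟶ Y) [QuasiCompact g] (y : Y)
    (hy : y ∉ Set.range g.base) :
    ∃ U : Y.Opens, y ∈ U ∧ ∀ x : X, g.base x ∈ U → ¬ (y ⤳ g.base x) := by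
  obtain ⟨R, j, _, ⟨p, hp⟩, -⟩ := Scheme.exists_affine_mem_range_and_range_subset (x := y)
    (U := (⊤ : Y.Opens)) trivial
  let X₀ := pullback g j
  let g₀ : X₀ ⟶ Spec R := pullback.snd g j
  haveI : CompactSpace X₀ := QuasiCompact.compactSpace_of_compactSpace g₀
  obtain ⟨B, h, hh⟩ := compactSpace_iff_exists.mp (inferInstance : CompactSpace X₀)
  obtain ⟨φ, hφ⟩ := Spec.homEquiv.symm.surjective (h ≫ g₀)
  have hφ' : Spec.map φ = h ≫ g₀ := hφ
  have hp' : (p : PrimeSpectrum R) ∉ Set.range (PrimeSpectrum.comap φ.hom) := by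
    rintro ⟨r, hr⟩
    apply hy
    refine ⟨(pullback.fst g j).base (h.base r), ?_⟩
    have h1 : (pullback.fst g j ≫ g).base (h.base r) = (pullback.snd g j ≫ j).base (h.base r) := by
      rw [pullback.condition]
    rw [Scheme.Hom.comp_base, Scheme.Hom.comp_base] at h1
    refine h1.trans ?_
    have h2 : (h ≫ g₀).base r = p := by
      rw [← hφ']
      exact hr
    have h3 : (pullback.snd g j).base (h.base r) = p := h2
    show j.base ((pullback.snd g j).base (h.base r)) = y
    rw [h3]
    exact hp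
  obtain ⟨s, hs1, hs2⟩ := exists_not_mem_of_not_mem_range φ.hom p hp'
  refine ⟨j ''ᵁ (PrimeSpectrum.basicOpen s), ⟨p, hs1, hp⟩, ?_⟩
  rintro x ⟨q, hq, hqx⟩ hspec
  obtain ⟨x₀, hx₀1, hx₀2⟩ := Scheme.Pullback.exists_preimage_pullback (f := g) (g := j) x q hqx.symm
  obtain ⟨r, hr⟩ := hh x₀
  have hpq : (p : PrimeSpectrum R) ⤳ q := by
    rw [← hp, ← hqx] at hspec
    exact (j.isOpenEmbedding.isInducing.specializes_iff).mp hspec
  have hqr : q = PrimeSpectrum.comap φ.hom r := by
    have h2 : (h ≫ g₀).base r = q := by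
      rw [Scheme.Hom.comp_base]
      show g₀.base (h.base r) = q
      rw [hr]
      exact hx₀2
    rw [← hφ'] at h2
    exact h2.symm
  have hle : p.asIdeal ≤ q.asIdeal := (PrimeSpectrum.le_iff_specializes p q).mpr hpq
  have h3 : p.asIdeal.map φ.hom ≤ r.asIdeal := by
    rw [Ideal.map_le_iff_le_comap]
    rw [hqr] at hle
    exact hle
  have h4 : s ∈ q.asIdeal := by
    rw [hqr]
    exact h3 hs2
  exact hq h4

end Groth.Agent.Lib.Helper70.QcImage
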