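import Mathlib
import Groth.Prelude.Def_EtShriek2
import Groth.Agent.Lib.Helper47.EtRestr
import Groth.Agent.Lib.Helper34.EtOpenZero
import Groth.Agent.Lib.Helper70.StalkCons
import Groth.Agent.Lib.Helper70.StalkPull
import Groth.Agent.Lib.Helper70.OpenRecoll
import Groth.Agent.Lib.Helper70.ClosedImmSubsite
import Groth.Agent.S0101
import Groth.Agent.S0067

set_option autoImplicit false
open CategoryTheory CategoryTheory.Limits AlgebraicGeometry Opposite

universe u

namespace Groth.Agent.Lib.Helper70.Recoll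

open Groth.Agent.Lib.Helper47 Groth.Agent.Lib.Helper70.StalkCons

/-! ### lifting geometric points through immersions -/

/-- a point of `Spec` of a field landing in the image of a closed immersion lifts -/
theorem exists_lift_closedImmersion {Z X : Scheme.{u}} (i : Z ⟶ X) [IsClosedImmersion i]
    {Ω : Type u} [Field Ω] (ξ : Spec (CommRingCat.of Ω) ⟶ X)
    (h : ξ.base default ∈ Set.range i.base) : ∃ ζ : Spec (CommRingCat.of Ω) ⟶ Z, ζ ≫ i = ξ := by
  obtain ⟨z, hz⟩ := h
  obtain ⟨p, hp1, hp2⟩ := Scheme.Pullback.exists_preimage_pullback (f := ξ) (g := i) default z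
    hz.symm
  haveI : Surjective (pullback.fst ξ i) := ⟨fun t => ⟨p, Subsingleton.elim _ _⟩⟩
  haveI : IsIso (pullback.fst ξ i) := isIso_of_isClosedImmersion_of_surjective _
  refine ⟨inv (pullback.fst ξ i) ≫ pullback.snd ξ i, ?_⟩
  rw [Category.assoc, ← pullback.condition, IsIso.inv_hom_id_assoc]

/-- a point of `Spec` of a field landing in the image of an open immersion lifts -/
theorem exists_lift_openImmersion {U X : Scheme.{u}} (j : U ⟶ X) [IsOpenImmersion j]
    {Ω : Type u} [Field Ω] (ξ : Spec (CommRingCat.of Ω) ⟶ X)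
    (h : ξ.base default ∈ Set.range j.base) : ∃ υ : Spec (CommRingCat.of Ω) ⟶ U, υ ≫ j = ξ := by
  refine ⟨IsOpenImmersion.lift j ξ ?_, IsOpenImmersion.lift_fac _ _ _⟩
  rintro _ ⟨t, rfl⟩
  rwa [Subsingleton.elim t default]


/-! ### joint detection by two exact functors -/

section Abstract

variable {A B C : Type*} [Category A] [Category B] [Category C] [Abelian A] [Abelian B] [Abelian C]
  (Φ : A ⥤ B) (Ψ : A ⥤ C) [Φ.Additive] [Ψ.Additive]
  [PreservesFiniteLimits Φ] [PreservesFiniteColimits Φ]
  [PreservesFiniteLimits Ψ] [PreservesFiniteColimits Ψ]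
  (hz : ∀ G : A, IsZero (Φ.obj G) → IsZero (Ψ.obj G) → IsZero G)

include hz

theorem exact_of_jointly (S : ShortComplex A) (h1 : (S.map Φ).Exact) (h2 : (S.map Ψ).Exact) :
    S.Exact := by
  rw [S.exact_iff_isZero_homology]
  apply hz
  · exact ((S.map Φ).exact_iff_isZero_homology.1 h1).of_iso (S.mapHomologyIso Φ).symm
  · exact ((S.map Ψ).exact_iff_isZero_homology.1 h2).of_iso (S.mapHomologyIso Ψ).symm

theorem mono_of_jointly {F G : A} (a : F ⟶ G) (h1 : Mono (Φ.map a)) (h2 : Mono (Ψ.map a)) :
    Mono a := by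
  let S : ShortComplex A := ShortComplex.mk (0 : F ⟶ F) a zero_comp
  have hS : S.Exact := by
    apply exact_of_jointly Φ Ψ hz S
    · exact ((S.map Φ).exact_iff_mono (Φ.map_zero _ _)).2 h1
    · exact ((S.map Ψ).exact_iff_mono (Ψ.map_zero _ _)).2 h2
  exact (S.exact_iff_mono rfl).1 hS

theorem epi_of_jointly {F G : A} (a : F ⟶ G) (h1 : Epi (Φ.map a)) (h2 : Epi (Ψ.map a)) :
    Epi a := by
  let S : ShortComplex A := ShortComplex.mk a (0 : G ⟶ G) comp_zero
  have hS : S.Exact := by
    apply exact_of_jointly Φ Ψ hz S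
    · exact ((S.map Φ).exact_iff_epi (Φ.map_zero _ _)).2 h1
    · exact ((S.map Ψ).exact_iff_epi (Ψ.map_zero _ _)).2 h2
  exact (S.exact_iff_epi rfl).1 hS

theorem isIso_of_jointly {F G : A} (a : F ⟶ G) (h1 : IsIso (Φ.map a)) (h2 : IsIso (Ψ.map a)) :
    IsIso a := by
  haveI := mono_of_jointly Φ Ψ hz a inferInstance inferInstance
  haveI := epi_of_jointly Φ Ψ hz a inferInstance inferInstance
  exact isIso_of_mono_of_epi a

end Abstract


/-! ### the open/closed decomposition -/

section Geometric

variable {U Z X : Scheme.{u}} (j : U ⟶ X) [IsOpenImmersion j] [Etale j] [EtShriek.JCont j]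
  (i : Z ⟶ X) [IsClosedImmersion i]

instance restr_preservesFiniteLimits : PreservesFiniteLimits (EtShriek.restrAlong j) :=
  have := (EtShriek.extZeroAdj j).rightAdjoint_preservesLimits
  inferInstance

instance restr_preservesFiniteColimits : PreservesFiniteColimits (EtShriek.restrAlong j) :=
  have := (EtRestr.restrPushAdj j).leftAdjoint_preservesColimits
  inferInstance

instance restr_additive : (EtShriek.restrAlong j).Additive :=
  Functor.additive_of_preserves_binary_products _

instance pull_preservesFiniteLimits {X Y : Scheme.{u}} (f : X ⟶ Y) :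
    PreservesFiniteLimits (EtCoh.pull f) := Groth.Agent.S0101.result f

instance pull_preservesFiniteColimits {X Y : Scheme.{u}} (f : X ⟶ Y) :
    PreservesFiniteColimits (EtCoh.pull f) :=
  have := (EtCoh.pullPushAdj f).leftAdjoint_preservesColimits
  inferInstance

instance pull_additive {X Y : Scheme.{u}} (f : X ⟶ Y) : (EtCoh.pull f).Additive :=
  Functor.additive_of_preserves_binary_products _

variable (hc : Set.range i.base = (Set.range j.base)ᶜ)

include hc

omit [IsOpenImmersion j] [IsClosedImmersion i] in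
/-- `j^{-1} i_* = 0` -/
theorem isZero_restr_push (H : EtCoh.Ab Z) :
    IsZero ((EtShriek.restrAlong j).obj ((EtCoh.push i).obj H)) := by
  rw [Groth.Agent.Lib.Helper34.EtOpenZero.isZero_sheaf_iff]
  intro V
  refine (Groth.Agent.Lib.Helper70.ClosedImmSubsite.isTerminal_push_of_disjoint i H
    ((EtShriek.compEtale j).obj V) ?_).isZero
  rw [hc]
  rw [Set.disjoint_compl_right_iff_subset]
  rintro _ ⟨x, rfl⟩
  exact ⟨V.hom.base x, rfl⟩

omit [IsOpenImmersion j] [IsClosedImmersion i] in
/-- `i^{-1} j_! = 0` -/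
theorem isZero_pull_extZero (G : EtCoh.Ab U) :
    IsZero ((EtCoh.pull i).obj ((EtShriek.extZero j).obj G)) := by
  rw [IsZero.iff_id_eq_zero]
  apply ((EtCoh.pullPushAdj i).homEquiv _ _).injective
  apply ((EtShriek.extZeroAdj j).homEquiv _ _).injective
  exact (isZero_restr_push j i hc _).eq_of_tgt _ _

/-- an abelian sheaf on `X` vanishing on `U` and on `Z` is zero -/
theorem isZero_of_restr_of_pull (G : EtCoh.Ab X) (h1 : IsZero ((EtShriek.restrAlong j).obj G))
    (h2 : IsZero ((EtCoh.pull i).obj G)) : IsZero G := by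
  apply isZero_of_stalks
  intro Ω _ _ ξ
  by_cases hξ : ξ.base default ∈ Set.range j.base
  · obtain ⟨υ, rfl⟩ := exists_lift_openImmersion j ξ hξ
    obtain ⟨e⟩ := Groth.Agent.Lib.Helper70.StalkPull.nonempty_stalk_pull_iso j υ G
    refine IsZero.of_iso ?_ e.symm
    apply Functor.map_isZero
    exact IsZero.of_iso h1 ((EtRestr.pullIsoRestr j).app G)
  · have hξ' : ξ.base default ∈ Set.range i.base := by rw [hc]; exact hξ
    obtain ⟨ζ, rfl⟩ := exists_lift_closedImmersion i ξ hξ'
    obtain ⟨e⟩ := Groth.Agent.Lib.Helper70.StalkPull.nonempty_stalk_pull_iso i ζ G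
    refine IsZero.of_iso ?_ e.symm
    exact Functor.map_isZero _ h2

omit [IsClosedImmersion i] hc in
/-- `j^{-1}` of the counit `j_! j^{-1} F ⟶ F` is an isomorphism -/
theorem isIso_restr_counit (F : EtCoh.Ab X) :
    IsIso ((EtShriek.restrAlong j).map ((EtShriek.extZeroAdj j).counit.app F)) := by
  haveI := Groth.Agent.Lib.Helper70.OpenRecoll.isIso_unit_extZeroAdj j
  have h := (EtShriek.extZeroAdj j).right_triangle_components F
  haveI : IsIso ((EtShriek.extZeroAdj j).unit.app ((EtShriek.restrAlong j).obj F) ≫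
      (EtShriek.restrAlong j).map ((EtShriek.extZeroAdj j).counit.app F)) := by
    rw [h]; exact IsIso.id _
  exact IsIso.of_isIso_comp_left
    ((EtShriek.extZeroAdj j).unit.app ((EtShriek.restrAlong j).obj F)) _

omit hc in
/-- `i^{-1}` of the unit `F ⟶ i_* i^{-1} F` is an isomorphism -/
theorem isIso_pull_unit (F : EtCoh.Ab X) :
    IsIso ((EtCoh.pull i).map ((EtCoh.pullPushAdj i).unit.app F)) := by
  haveI := (Groth.Agent.S0067.result i).1
  haveI := (Groth.Agent.S0067.result i).2
  have h := (EtCoh.pullPushAdj i).left_triangle_components F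
  haveI : IsIso ((EtCoh.pull i).map ((EtCoh.pullPushAdj i).unit.app F) ≫
      (EtCoh.pullPushAdj i).counit.app ((EtCoh.pull i).obj F)) := by
    rw [h]; exact IsIso.id _
  exact IsIso.of_isIso_comp_right _
    ((EtCoh.pullPushAdj i).counit.app ((EtCoh.pull i).obj F))

omit [IsOpenImmersion j] [IsClosedImmersion i] in
/-- the composite `j_! j^{-1} F ⟶ F ⟶ i_* i^{-1} F` vanishes -/
theorem counit_unit_eq_zero (F : EtCoh.Ab X) :
    (EtShriek.extZeroAdj j).counit.app F ≫ (EtCoh.pullPushAdj i).unit.app F = 0 := by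
  apply ((EtShriek.extZeroAdj j).homEquiv _ _).injective
  exact (isZero_restr_push j i hc _).eq_of_tgt _ _

/-- the sequence `0 ⟶ j_! j^{-1} F ⟶ F ⟶ i_* i^{-1} F ⟶ 0` is short exact -/
theorem shortExact (F : EtCoh.Ab X) :
    (ShortComplex.mk _ _ (counit_unit_eq_zero j i hc F)).ShortExact := by
  have hz := isZero_of_restr_of_pull j i hc
  haveI h1 := isIso_restr_counit j F
  haveI h2 := isIso_pull_unit i F
  have z1 : IsZero ((EtShriek.restrAlong j).obj ((EtCoh.push i).obj ((EtCoh.pull i).obj F))) :=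
    isZero_restr_push j i hc _
  have z2 : IsZero ((EtCoh.pull i).obj ((EtShriek.extZero j).obj ((EtShriek.restrAlong j).obj F))) :=
    isZero_pull_extZero j i hc _
  haveI : Mono ((EtShriek.extZeroAdj j).counit.app F) := by
    apply mono_of_jointly (EtShriek.restrAlong j) (EtCoh.pull i) hz
    · infer_instance
    · exact ⟨fun _ _ _ => z2.eq_of_tgt _ _⟩
  haveI : Epi ((EtCoh.pullPushAdj i).unit.app F) := by
    apply epi_of_jointly (EtShriek.restrAlong j) (EtCoh.pull i) hz
    · exact ⟨fun _ _ _ => z1.eq_of_src _ _⟩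
    · infer_instance
  refine ShortComplex.ShortExact.mk ?_
  apply exact_of_jointly (EtShriek.restrAlong j) (EtCoh.pull i) hz
  · refine (ShortComplex.exact_iff_epi _ ?_).2 ?_
    · exact z1.eq_of_tgt _ _
    · change Epi ((EtShriek.restrAlong j).map ((EtShriek.extZeroAdj j).counit.app F))
      infer_instance
  · refine (ShortComplex.exact_iff_mono _ ?_).2 ?_
    · exact z2.eq_of_src _ _
    · change Mono ((EtCoh.pull i).map ((EtCoh.pullPushAdj i).unit.app F))
      infer_instance

end Geometric

end Groth.Agent.Lib.Helper70.Recoll
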