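import Mathlib
import Groth.Agent.Lib.Helper70.Recoll

set_option autoImplicit false
open CategoryTheory CategoryTheory.Limits AlgebraicGeometry Opposite

universe u

namespace Groth.Agent.Lib.Helper70.Recoll

open Groth.Agent.Lib.Helper47 Groth.Agent.Lib.Helper70.StalkCons

/-- the reduced closed complement of an open immersion -/
theorem exists_closed_complement {U X : Scheme.{u}} (j : U ⟶ X) [IsOpenImmersion j] :
    ∃ (Z : Scheme.{u}) (i : Z ⟶ X) (_ : IsClosedImmersion i),
      Set.range i.base = (Set.range j.base)ᶜ := by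
  let Zc : TopologicalSpace.Closeds X :=
    ⟨(Set.range j.base)ᶜ, j.isOpenEmbedding.isOpen_range.isClosed_compl⟩
  refine ⟨_, (Scheme.IdealSheafData.vanishingIdeal Zc).subschemeι, inferInstance, ?_⟩
  have := (Scheme.IdealSheafData.vanishingIdeal Zc).range_subschemeι
  rw [Scheme.IdealSheafData.coe_support_vanishingIdeal] at this
  exact this

variable {U X : Scheme.{u}} (j : U ⟶ X) [IsOpenImmersion j] [Etale j] [EtShriek.JCont j]

/-- characterisation of `j_! F` for an open immersion `j` -/
theorem nonempty_iso_extZero (F : EtCoh.Ab U) (G : EtCoh.Ab X)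
    (hres : Nonempty ((EtShriek.restrAlong j).obj G ≅ F))
    (hzero : ∀ (Ω : Type u) [Field Ω] [IsSepClosed Ω] (ξ : Spec (CommRingCat.of Ω) ⟶ X),
      Set.range ξ.base ⊆ (Set.range j.base)ᶜ → IsZero ((EtCoh.stalk ξ).obj G)) :
    Nonempty (G ≅ (EtShriek.extZero j).obj F) := by
  obtain ⟨Z, i, _, hc⟩ := exists_closed_complement j
  obtain ⟨e⟩ := hres
  let φ : (EtShriek.extZero j).obj F ⟶ G := ((EtShriek.extZeroAdj j).homEquiv F G).symm e.inv
  have hz := isZero_of_restr_of_pull j i hc
  suffices IsIso φ from ⟨(asIso φ).symm⟩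
  apply isIso_of_jointly (EtShriek.restrAlong j) (EtCoh.pull i) hz
  · haveI := Groth.Agent.Lib.Helper70.OpenRecoll.isIso_unit_extZeroAdj j
    have h1 : (EtShriek.extZeroAdj j).unit.app F ≫ (EtShriek.restrAlong j).map φ = e.inv := by
      have := Adjunction.homEquiv_unit (EtShriek.extZeroAdj j) F G φ
      exact this.symm.trans (Equiv.apply_symm_apply _ _)
    haveI : IsIso ((EtShriek.extZeroAdj j).unit.app F ≫ (EtShriek.restrAlong j).map φ) := by
      rw [h1]; infer_instance
    exact IsIso.of_isIso_comp_left ((EtShriek.extZeroAdj j).unit.app F) _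
  · have z1 : IsZero ((EtCoh.pull i).obj ((EtShriek.extZero j).obj F)) :=
      isZero_pull_extZero j i hc F
    have z2 : IsZero ((EtCoh.pull i).obj G) := by
      apply isZero_of_stalks
      intro Ω _ _ ζ
      obtain ⟨e'⟩ := Groth.Agent.Lib.Helper70.StalkPull.nonempty_stalk_pull_iso i ζ G
      refine IsZero.of_iso (hzero Ω (ζ ≫ i) ?_) e'
      rw [← hc]
      rintro _ ⟨t, rfl⟩
      exact ⟨ζ.base t, rfl⟩
    exact ⟨⟨0, z1.eq_of_src _ _, z2.eq_of_src _ _⟩⟩

end Groth.Agent.Lib.Helper70.Recoll
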