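import Mathlib
import Groth.Agent.Lib.Helper70.Recoll2
import Groth.Agent.Lib.Helper70.EtaleBC
import Groth.Agent.Lib.Helper70.PushStalkZero

set_option autoImplicit false
open CategoryTheory CategoryTheory.Limits AlgebraicGeometry Opposite

universe u

namespace Groth.Agent.Lib.Helper70.Recoll

open Groth.Agent.Lib.Helper47 Groth.Agent.Lib.Helper70.StalkCons

/-- stalks of `j_! F` vanish outside the image of the open immersion `j` -/
theorem isZero_stalk_extZero {U X : Scheme.{u}} (j : U ⟶ X) [IsOpenImmersion j] [Etale j]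
    [EtShriek.JCont j] (F : EtCoh.Ab U) {Ω : Type u} [Field Ω] [IsSepClosed Ω]
    (x : Spec (CommRingCat.of Ω) ⟶ X) (hx : x.base default ∉ Set.range j.base) :
    IsZero ((EtCoh.stalk x).obj ((EtShriek.extZero j).obj F)) := by
  obtain ⟨Z, i, _, hc⟩ := exists_closed_complement j
  have hx' : x.base default ∈ Set.range i.base := by rw [hc]; exact hx
  obtain ⟨ζ, rfl⟩ := exists_lift_closedImmersion i x hx'
  obtain ⟨e⟩ := Groth.Agent.Lib.Helper70.StalkPull.nonempty_stalk_pull_iso i ζ
    ((EtShriek.extZero j).obj F)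
  refine IsZero.of_iso ?_ e.symm
  exact Functor.map_isZero _ (isZero_pull_extZero j i hc F)

/-- finite direct image commutes with extension by zero along open immersions -/
theorem nonempty_push_extZero_iso {U X V Y : Scheme.{u}} (f : X ⟶ Y) [UniversallyClosed f]
    (j : V ⟶ Y) [IsOpenImmersion j] [Etale j] [EtShriek.JCont j] (j' : U ⟶ X) [IsOpenImmersion j']
    [Etale j'] [EtShriek.JCont j'] (g : U ⟶ V) (h : IsPullback j' g f j) (F : EtCoh.Ab U) :
    Nonempty ((EtCoh.push f).obj ((EtShriek.extZero j').obj F) ≅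
      (EtShriek.extZero j).obj ((EtCoh.push g).obj F)) := by
  apply nonempty_iso_extZero
  · haveI := Groth.Agent.Lib.Helper70.OpenRecoll.isIso_unit_extZeroAdj j'
    exact ⟨(Groth.Agent.Lib.Helper70.EtaleBC.pushRestrIso j f j' g h).app _ ≪≫
      (EtCoh.push g).mapIso (asIso ((EtShriek.extZeroAdj j').unit.app F)).symm⟩
  · intro Ω _ _ ξ hξ
    apply Groth.Agent.Lib.Helper70.PushStalkZero.isZero_stalk_push
    intro Ω' _ _ x hx
    apply isZero_stalk_extZero
    rintro ⟨u, hu⟩
    have h1 : ξ.base default ∈ Set.range j.base := by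
      refine ⟨g.base u, ?_⟩
      rw [← hx, ← hu, ← Scheme.Hom.comp_apply, ← Scheme.Hom.comp_apply, h.w]
    exact hξ ⟨default, rfl⟩ h1

end Groth.Agent.Lib.Helper70.Recoll
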