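import Mathlib

set_option autoImplicit false
open CategoryTheory CategoryTheory.Limits

namespace Groth.Agent.Lib.Helper70.RecollEquiv

universe v₁ v₂ v₃ u₁ u₂ u₃

section General

variable {𝒜 : Type u₁} [Category.{v₁} 𝒜]

/-- a map between two pullbacks of the same cospan, compatible with the projections, is an
isomorphism -/
theorem isIso_of_isPullback {P P' X Y Z : 𝒜} {fst : P ⟶ X} {snd : P ⟶ Y} {f : X ⟶ Z} {g : Y ⟶ Z}
    {fst' : P' ⟶ X} {snd' : P' ⟶ Y} (h : IsPullback fst snd f g) (h' : IsPullback fst' snd' f g)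
    (c : P' ⟶ P) (h1 : c ≫ fst = fst') (h2 : c ≫ snd = snd') : IsIso c := by
  refine ⟨h'.lift fst snd h.w, ?_, ?_⟩
  · apply h'.hom_ext
    · rw [Category.assoc, h'.lift_fst, h1, Category.id_comp]
    · rw [Category.assoc, h'.lift_snd, h2, Category.id_comp]
  · apply h.hom_ext
    · rw [Category.assoc, h1, h'.lift_fst, Category.id_comp]
    · rw [Category.assoc, h2, h'.lift_snd, Category.id_comp]

end General

variable {𝒜 : Type u₁} [Category.{v₁} 𝒜] {ℬ : Type u₂} [Category.{v₂} ℬ]
  {𝒞 : Type u₃} [Category.{v₃} 𝒞]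
  {I : 𝒜 ⥤ 𝒞} {I' : 𝒞 ⥤ 𝒜} (adjI : I ⊣ I') {J : 𝒜 ⥤ ℬ} {J' : ℬ ⥤ 𝒜} (adjJ : J ⊣ J')

/-- the recollement functor -/
def T : 𝒜 ⥤ Comma (𝟭 𝒞) (J' ⋙ I) where
  obj F :=
    { left := I.obj F
      right := J.obj F
      hom := I.map (adjJ.unit.app F) }
  map {F G} φ :=
    { left := I.map φ
      right := J.map φ
      w := by
        dsimp
        rw [← Functor.map_comp, ← Functor.map_comp]
        congr 1
        exact (adjJ.unit.naturality φ) }
  map_id F := by ext <;> simp
  map_comp φ ψ := by ext <;> simp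

variable [HasPullbacks 𝒜] [PreservesFiniteLimits I] [PreservesFiniteLimits J]
  [IsIso adjI.counit] [IsIso adjJ.counit] [HasZeroMorphisms ℬ]
  (hJI : ∀ C : 𝒞, IsZero (J.obj (I'.obj C)))
  (hcons : ∀ {F G : 𝒜} (f : F ⟶ G), IsIso (I.map f) → IsIso (J.map f) → IsIso f)

omit [HasPullbacks 𝒜] [PreservesFiniteLimits I] [PreservesFiniteLimits J] [IsIso adjJ.counit]
  [HasZeroMorphisms ℬ] in
theorem isIso_I_unit (F : 𝒜) : IsIso (I.map (adjI.unit.app F)) := by
  have h := adjI.left_triangle_components F
  haveI : IsIso (I.map (adjI.unit.app F) ≫ adjI.counit.app (I.obj F)) := by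
    rw [h]; exact IsIso.id _
  exact IsIso.of_isIso_comp_right _ (adjI.counit.app (I.obj F))

omit [HasPullbacks 𝒜] [PreservesFiniteLimits I] [PreservesFiniteLimits J] [IsIso adjI.counit]
  [IsIso adjJ.counit] [HasZeroMorphisms ℬ] in
theorem comm (F : 𝒜) : adjI.unit.app F ≫ I'.map (I.map (adjJ.unit.app F)) =
    adjJ.unit.app F ≫ adjI.unit.app (J'.obj (J.obj F)) :=
  (adjI.unit.naturality (adjJ.unit.app F)).symm

include hJI hcons in
/-- the fundamental cartesian square -/
theorem isPullback_units (F : 𝒜) :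
    IsPullback (adjI.unit.app F) (adjJ.unit.app F) (I'.map (I.map (adjJ.unit.app F)))
      (adjI.unit.app (J'.obj (J.obj F))) := by
  let f := I'.map (I.map (adjJ.unit.app F))
  let g := adjI.unit.app (J'.obj (J.obj F))
  let c : F ⟶ pullback f g := pullback.lift _ _ (comm adjI adjJ F)
  have hc1 : c ≫ pullback.fst f g = adjI.unit.app F := pullback.lift_fst _ _ _
  have hc2 : c ≫ pullback.snd f g = adjJ.unit.app F := pullback.lift_snd _ _ _
  haveI : IsIso c := by
    apply hcons
    · have hP := (IsPullback.of_hasPullback f g).map I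
      haveI := isIso_I_unit adjI F
      haveI : IsIso (I.map g) := isIso_I_unit adjI _
      have hF : IsPullback (I.map (adjI.unit.app F)) (I.map (adjJ.unit.app F)) (I.map f)
          (I.map g) := IsPullback.of_horiz_isIso ⟨by
            rw [← Functor.map_comp, ← Functor.map_comp, comm adjI adjJ F]⟩
      exact isIso_of_isPullback hP hF (I.map c) (by rw [← Functor.map_comp, hc1])
        (by rw [← Functor.map_comp, hc2])
    · have hP := (IsPullback.of_hasPullback f g).map J
      haveI : IsIso (J.map (adjJ.unit.app F)) := isIso_I_unit adjJ F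
      haveI : IsIso (J.map f) :=
        ⟨0, (hJI _).eq_of_src _ _, (hJI _).eq_of_src _ _⟩
      have hF : IsPullback (J.map (adjI.unit.app F)) (J.map (adjJ.unit.app F)) (J.map f)
          (J.map g) := IsPullback.of_vert_isIso ⟨by
            rw [← Functor.map_comp, ← Functor.map_comp, comm adjI adjJ F]⟩
      exact isIso_of_isPullback hP hF (J.map c) (by rw [← Functor.map_comp, hc1])
        (by rw [← Functor.map_comp, hc2])
  exact IsPullback.of_iso_pullback ⟨comm adjI adjJ F⟩ (asIso c) hc1 hc2


include adjI hJI hcons in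
theorem faithful_T : (T (I := I) adjJ).Faithful := by
  constructor
  intro G F φ ψ h
  have hI : I.map φ = I.map ψ := congrArg CommaMorphism.left h
  have hJ : J.map φ = J.map ψ := congrArg CommaMorphism.right h
  apply (isPullback_units adjI adjJ hJI hcons F).hom_ext
  · have n1 := adjI.unit.naturality φ
    have n2 := adjI.unit.naturality ψ
    simp only [Functor.id_obj, Functor.id_map, Functor.comp_obj, Functor.comp_map] at n1 n2
    rw [n1, n2, hI]
  · have n1 := adjJ.unit.naturality φ
    have n2 := adjJ.unit.naturality ψ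
    simp only [Functor.id_obj, Functor.id_map, Functor.comp_obj, Functor.comp_map] at n1 n2
    rw [n1, n2, hJ]

include adjI hJI hcons in
theorem full_T : (T (I := I) adjJ).Full := by
  constructor
  intro G F m
  obtain ⟨a, ha⟩ : ∃ a : I.obj G ⟶ I.obj F, a = m.left := ⟨_, rfl⟩
  obtain ⟨b, hb⟩ : ∃ b : J.obj G ⟶ J.obj F, b = m.right := ⟨_, rfl⟩
  have hw : a ≫ I.map (adjJ.unit.app F) = I.map (adjJ.unit.app G) ≫ I.map (J'.map b) := by
    rw [ha, hb]
    exact m.w
  let p : G ⟶ I'.obj (I.obj F) := adjI.unit.app G ≫ I'.map a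
  let q : G ⟶ J'.obj (J.obj F) := adjJ.unit.app G ≫ J'.map b
  have hpq : p ≫ I'.map (I.map (adjJ.unit.app F)) = q ≫ adjI.unit.app (J'.obj (J.obj F)) := by
    have n1 := adjI.unit.naturality q
    simp only [Functor.id_obj, Functor.id_map, Functor.comp_obj, Functor.comp_map] at n1
    rw [n1]
    simp only [p, q, Category.assoc]
    rw [← Functor.map_comp, hw, ← Functor.map_comp]
  let φ : G ⟶ F := (isPullback_units adjI adjJ hJI hcons F).lift p q hpq
  have h1 : φ ≫ adjI.unit.app F = p := IsPullback.lift_fst _ _ _ _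
  have h2 : φ ≫ adjJ.unit.app F = q := IsPullback.lift_snd _ _ _ _
  refine ⟨φ, ?_⟩
  ext
  · change I.map φ = m.left
    rw [← ha]
    have e1 : (adjI.homEquiv G (I.obj F)).symm (φ ≫ adjI.unit.app F) = I.map φ := by
      rw [Adjunction.homEquiv_counit, Functor.map_comp, Category.assoc,
        Adjunction.left_triangle_components, Category.comp_id]
    have e2 : (adjI.homEquiv G (I.obj F)).symm p = a := by
      have := Adjunction.homEquiv_unit adjI G (I.obj F) a
      exact (congrArg (adjI.homEquiv G (I.obj F)).symm this.symm).trans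
        (Equiv.symm_apply_apply _ _)
    rw [← e1, h1, e2]
  · change J.map φ = m.right
    rw [← hb]
    have e1 : (adjJ.homEquiv G (J.obj F)).symm (φ ≫ adjJ.unit.app F) = J.map φ := by
      rw [Adjunction.homEquiv_counit, Functor.map_comp, Category.assoc,
        Adjunction.left_triangle_components, Category.comp_id]
    have e2 : (adjJ.homEquiv G (J.obj F)).symm q = b := by
      have := Adjunction.homEquiv_unit adjJ G (J.obj F) b
      exact (congrArg (adjJ.homEquiv G (J.obj F)).symm this.symm).trans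
        (Equiv.symm_apply_apply _ _)
    rw [← e1, h2, e2]

include adjI hJI in
theorem essSurj_T : (T (I := I) adjJ).EssSurj := by
  constructor
  intro Y
  obtain ⟨A, hA⟩ : ∃ A : 𝒞, A = Y.left := ⟨_, rfl⟩
  obtain ⟨B, hB⟩ : ∃ B : ℬ, B = Y.right := ⟨_, rfl⟩
  obtain ⟨c, hc⟩ : ∃ c : Y.left ⟶ I.obj (J'.obj Y.right), c = Y.hom := ⟨_, rfl⟩
  let f : I'.obj Y.left ⟶ I'.obj (I.obj (J'.obj Y.right)) := I'.map c
  let g : J'.obj Y.right ⟶ I'.obj (I.obj (J'.obj Y.right)) := adjI.unit.app (J'.obj Y.right)
  let F : 𝒜 := pullback f g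
  have hP : IsPullback (pullback.fst f g) (pullback.snd f g) f g := IsPullback.of_hasPullback f g
  have hPI := hP.map I
  have hPJ := hP.map J
  haveI : IsIso (I.map g) := isIso_I_unit adjI _
  haveI : IsIso (J.map f) := ⟨0, (hJI _).eq_of_src _ _, (hJI _).eq_of_src _ _⟩
  haveI : IsIso (I.map (pullback.fst f g)) := hPI.isIso_fst_of_isIso
  haveI : IsIso (J.map (pullback.snd f g)) := hPJ.isIso_snd_of_isIso
  haveI : IsIso (adjI.counit.app Y.left) := inferInstance
  haveI : IsIso (adjJ.counit.app Y.right) := inferInstance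
  let eA : I.obj F ≅ Y.left := asIso (I.map (pullback.fst f g)) ≪≫ asIso (adjI.counit.app Y.left)
  let eB : J.obj F ≅ Y.right := asIso (J.map (pullback.snd f g)) ≪≫ asIso (adjJ.counit.app Y.right)
  refine ⟨F, ⟨Comma.isoMk eA eB ?_⟩⟩
  dsimp [T]
  have hL : eA.hom ≫ Y.hom = I.map (pullback.snd f g) := by
    have n := adjI.counit.naturality c
    simp only [Functor.id_obj, Functor.id_map, Functor.comp_obj, Functor.comp_map] at n
    have hcond : pullback.fst f g ≫ f = pullback.snd f g ≫ g := pullback.condition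
    calc eA.hom ≫ Y.hom = I.map (pullback.fst f g) ≫ adjI.counit.app Y.left ≫ c := by
          rw [hc]; simp [eA]
      _ = I.map (pullback.fst f g) ≫ I.map f ≫ adjI.counit.app _ := by rw [← n]
      _ = I.map (pullback.snd f g) ≫ I.map g ≫ adjI.counit.app _ := by
          rw [← Category.assoc, ← Functor.map_comp, hcond, Functor.map_comp, Category.assoc]
      _ = I.map (pullback.snd f g) := by
          rw [adjI.left_triangle_components, Category.comp_id]
  have hR : I.map (adjJ.unit.app F) ≫ I.map (J'.map eB.hom) = I.map (pullback.snd f g) := by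
    rw [← Functor.map_comp]
    congr 1
    have n := adjJ.unit.naturality (pullback.snd f g)
    simp only [Functor.id_obj, Functor.id_map, Functor.comp_obj, Functor.comp_map] at n
    calc adjJ.unit.app F ≫ J'.map eB.hom
        = (adjJ.unit.app F ≫ J'.map (J.map (pullback.snd f g))) ≫
            J'.map (adjJ.counit.app Y.right) := by
          simp [eB]
      _ = pullback.snd f g ≫ adjJ.unit.app _ ≫ J'.map (adjJ.counit.app Y.right) := by
          rw [← n, Category.assoc]
      _ = pullback.snd f g := by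
          rw [adjJ.right_triangle_components, Category.comp_id]
  rw [hL, hR]

include adjI hJI hcons in
theorem isEquivalence_T : (T (I := I) adjJ).IsEquivalence := by
  haveI := faithful_T adjI adjJ hJI hcons
  haveI := full_T adjI adjJ hJI hcons
  haveI := essSurj_T adjI adjJ hJI
  exact { }

end Groth.Agent.Lib.Helper70.RecollEquiv
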