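import Mathlib
import Groth.Agent.Lib.Helper70.RecollEquiv

set_option autoImplicit false
open CategoryTheory CategoryTheory.Limits

namespace Groth.Agent.Lib.Helper70.RecollInj

open Groth.Agent.Lib.Helper70.RecollEquiv

universe v₁ v₂ v₃ u₁ u₂ u₃

variable {𝒜 : Type u₁} [Category.{v₁} 𝒜] {ℬ : Type u₂} [Category.{v₂} ℬ]
  {𝒞 : Type u₃} [Category.{v₃} 𝒞] [Abelian 𝒜] [Abelian ℬ] [Abelian 𝒞]
  {I : 𝒜 ⥤ 𝒞} {I' : 𝒞 ⥤ 𝒜} (adjI : I ⊣ I') {J : 𝒜 ⥤ ℬ} {J' : ℬ ⥤ 𝒜} (adjJ : J ⊣ J')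
  [PreservesFiniteLimits J] [J.PreservesZeroMorphisms]
  [IsIso adjI.counit] [IsIso adjJ.counit]
  (hJI : ∀ C : 𝒞, IsZero (J.obj (I'.obj C)))
  (hcons : ∀ {F G : 𝒜} (f : F ⟶ G), IsIso (I.map f) → IsIso (J.map f) → IsIso f)

omit [Abelian 𝒞] [IsIso adjI.counit] in
include adjJ in
theorem isZero_J_kernel (E : 𝒜) : IsZero (J.obj (kernel (adjJ.unit.app E))) := by
  haveI : IsIso (J.map (adjJ.unit.app E)) := isIso_I_unit adjJ E
  exact IsZero.of_iso (isZero_kernel_of_mono _) (PreservesKernel.iso J (adjJ.unit.app E))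

omit [PreservesFiniteLimits J] [J.PreservesZeroMorphisms] [IsIso adjJ.counit] [Abelian 𝒜]
  [Abelian 𝒞] in
include hJI hcons in
theorem isIso_unit_of_isZero (K : 𝒜) (hK : IsZero (J.obj K)) : IsIso (adjI.unit.app K) := by
  apply hcons
  · exact isIso_I_unit adjI K
  · exact ⟨0, hK.eq_of_src _ _, (hJI _).eq_of_src _ _⟩

include hJI hcons adjI in
theorem injective_I_kernel (E : 𝒜) [Injective E] :
    Injective (I.obj (kernel (adjJ.unit.app E))) := by
  let u := adjJ.unit.app E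
  let K := kernel u
  have hK : IsZero (J.obj K) := isZero_J_kernel adjJ E
  haveI : IsIso (adjI.unit.app K) := isIso_unit_of_isZero adjI hJI hcons K hK
  haveI : I'.Full := adjI.fullyFaithfulROfIsIsoCounit.full
  haveI : I'.Faithful := adjI.fullyFaithfulROfIsIsoCounit.faithful
  haveI : I'.IsRightAdjoint := adjI.isRightAdjoint
  constructor
  intro A B g f hf
  -- g : A ⟶ I K, f : A ⟶ B mono
  haveI : Mono (I'.map f) := inferInstance
  let g' : I'.obj A ⟶ E := I'.map g ≫ inv (adjI.unit.app K) ≫ kernel.ι u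
  let h : I'.obj B ⟶ E := Injective.factorThru g' (I'.map f)
  have hh : I'.map f ≫ h = g' := Injective.comp_factorThru g' (I'.map f)
  have hz : h ≫ u = 0 := by
    apply (adjJ.homEquiv _ _).symm.injective
    exact (hJI B).eq_of_src _ _
  let h' : I'.obj B ⟶ K := kernel.lift u h hz
  have hh' : h' ≫ kernel.ι u = h := kernel.lift_ι _ _ _
  let k : B ⟶ I.obj K := I'.preimage (h' ≫ adjI.unit.app K)
  refine ⟨k, ?_⟩
  apply I'.map_injective
  rw [Functor.map_comp, Functor.map_preimage]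
  have e1 : (I'.map f ≫ h') ≫ kernel.ι u = (I'.map g ≫ inv (adjI.unit.app K)) ≫ kernel.ι u := by
    rw [Category.assoc, hh', hh, Category.assoc]
  have e2 := (cancel_mono (kernel.ι u)).1 e1
  rw [← Category.assoc, e2, Category.assoc, IsIso.inv_hom_id, Category.comp_id]

end Groth.Agent.Lib.Helper70.RecollInj
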