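import Mathlib
import Groth.Prelude.Def_EtBase
import Groth.Agent.Lib.Helper70.StalkCons

set_option autoImplicit false
open CategoryTheory CategoryTheory.Limits AlgebraicGeometry Opposite

universe u

namespace Groth.Agent.Lib.Helper70.RingSupp

open Groth.Agent.Lib.Helper70.StalkCons

set_option backward.isDefEq.respectTransparency.types false in
theorem isClosed_support {S : Scheme.{u}} (O : Sheaf S.smallEtaleTopology CommRingCat.{u}) :
    IsClosed {s : ↥S | ∃ (Ω : Type u) (_ : Field Ω) (_ : IsSepClosed Ω)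
      (ξ : Spec (CommRingCat.of Ω) ⟶ S),
      ξ.base default = s ∧ Nontrivial ↑((Scheme.pointSmallEtale ξ).presheafFiber.obj O.obj)} := by
  rw [← isOpen_compl_iff, isOpen_iff_forall_mem_open]
  intro s hs
  let U : S.Etale := EtCoh.top S
  let p : U.left := s
  let Φ := Scheme.pointSmallEtale (geomPt U p ≫ U.hom)
  have hξ : (geomPt U p ≫ U.hom).base default = s := by
    rw [Scheme.Hom.comp_apply, geomPt_apply]
    rfl
  have hsub : Subsingleton ↑(Φ.presheafFiber.obj O.obj) := by
    by_contra hcon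
    rw [not_subsingleton_iff_nontrivial] at hcon
    exact hs ⟨_, inferInstance, inferInstance, geomPt U p ≫ U.hom, hξ, hcon⟩
  have h10 : Φ.toPresheafFiber U (geomPtFiber U p) O.obj 1 =
      Φ.toPresheafFiber U (geomPtFiber U p) O.obj 0 := Subsingleton.elim _ _
  rw [GrothendieckTopology.Point.toPresheafFiber_eq_iff'] at h10
  obtain ⟨Y, f, y, hy, hz⟩ := h10
  rw [map_one, map_zero] at hz
  haveI : Etale Y.hom := Y.prop
  refine ⟨Set.range Y.hom.base, ?_, Y.hom.isOpenMap.isOpen_range, ?_⟩
  · rintro _ ⟨y', rfl⟩ ⟨Ω, _, _, ξ, hξ', hnt⟩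
    obtain ⟨l, hl1, hl2⟩ := Scheme.exists_fac_of_etale_of_isSepClosed Y.hom ξ y' hξ'.symm
    let u' : (Scheme.pointSmallEtale ξ).fiber.obj Y := Over.homMk l hl1
    have e1 : (1 : ↑((Scheme.pointSmallEtale ξ).presheafFiber.obj O.obj)) = 0 := by
      have a1 := map_one ((Scheme.pointSmallEtale ξ).toPresheafFiber Y u' O.obj).hom
      have a0 := map_zero ((Scheme.pointSmallEtale ξ).toPresheafFiber Y u' O.obj).hom
      rw [← a1, ← a0, hz]
    exact one_ne_zero e1
  · let yl : Spec (CommRingCat.of (SeparableClosure (U.left.residueField p))) ⟶ Y.left := y.left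
    refine ⟨yl.base default, ?_⟩
    have h3 : yl ≫ Y.hom = geomPt U p ≫ U.hom := Over.w y
    rw [← Scheme.Hom.comp_apply, h3]
    exact hξ

end Groth.Agent.Lib.Helper70.RingSupp
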