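import Mathlib
import Groth.Prelude.Def_EtBase
import Groth.Prelude.Def_EtShriek2
import Groth.Agent.Lib.Helper70.ShriekStalk
import Groth.Agent.Lib.Helper70.ShriekExact
import Groth.Agent.Lib.Helper70.StalkConsAlg

set_option autoImplicit false
open CategoryTheory CategoryTheory.Limits AlgebraicGeometry Opposite

universe u

namespace Groth.Agent.Lib.Helper70.ShriekAdj

open Groth.Agent.Lib.Helper70.FinPushStalk Groth.Agent.Lib.Helper70.ShriekStalk
  Groth.Agent.Lib.Helper70.ShriekExact

section SAFT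

variable {X Y : Scheme.{u}}

/-- the special adjoint functor theorem for abelian étale sheaves -/
theorem isLeftAdjoint_of_preservesColimits (G : EtCoh.Ab X ⥤ EtCoh.Ab Y)
    [PreservesColimitsOfSize.{u + 1, u + 1} G] : G.IsLeftAdjoint := by
  have h := isSeparator_separator (EtCoh.Ab X)
  exact isLeftAdjoint_of_preservesColimits_of_isSeparating
    (P := ObjectProperty.singleton (separator (EtCoh.Ab X))) h G

end SAFT

section Reflect

variable {X Y : Scheme.{u}}

/-- a functor between categories of abelian étale sheaves preserves a colimit if all its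
composites with the stalk functors at geometric points do -/
theorem preservesColimit_of_stalks {J : Type (u + 1)} [Category.{u + 1} J] (K : J ⥤ EtCoh.Ab X)
    (G : EtCoh.Ab X ⥤ EtCoh.Ab Y)
    (h : ∀ (Ω : Type u) [Field Ω] [IsAlgClosed Ω] (η : Spec (CommRingCat.of Ω) ⟶ Y),
      PreservesColimit K (G ⋙ EtCoh.stalk η)) : PreservesColimit K G := by
  haveI : IsIso (colimit.post K G) := by
    apply Groth.Agent.Lib.Helper70.StalkConsAlg.isIso_of_stalk_bijective
    intro Ω _ _ η
    haveI := h Ω η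
    have h1 : colimit.post (K ⋙ G) (EtCoh.stalk η) ≫ (EtCoh.stalk η).map (colimit.post K G) =
        colimit.post K (G ⋙ EtCoh.stalk η) := colimit.post_post K G (EtCoh.stalk η)
    haveI : IsIso (colimit.post (K ⋙ G) (EtCoh.stalk η)) := inferInstance
    haveI : IsIso (colimit.post K (G ⋙ EtCoh.stalk η)) := inferInstance
    have h2 : IsIso ((EtCoh.stalk η).map (colimit.post K G)) := by
      have : IsIso (colimit.post (K ⋙ G) (EtCoh.stalk η) ≫
          (EtCoh.stalk η).map (colimit.post K G)) := by rw [h1]; infer_instance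
      exact IsIso.of_isIso_comp_left (colimit.post (K ⋙ G) (EtCoh.stalk η)) _
    exact (ConcreteCategory.isIso_iff_bijective _).mp h2
  exact preservesColimit_of_isIso_post (F := K) (G := G)

end Reflect

section Core

variable {X Y : Scheme.{u}} (f : X ⟶ Y) [IsSeparated f] [LocallyOfFiniteType f]
  [LocallyQuasiFinite f] {Ω : Type u} [Field Ω] [IsAlgClosed Ω]
  (η : Spec (CommRingCat.of Ω) ⟶ Y)

set_option backward.isDefEq.respectTransparency.types false in
/-- the inclusions of the stalks into the presheaf fibre are natural -/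
theorem ιJ_naturality {F G : EtCoh.Ab X} (α : F ⟶ G) (ξ : J f η) :
    ιJ f F η ξ ≫ (Scheme.pointSmallEtale η).presheafFiber.map
      ((EtShriek.lowerShriekPreFunctor f).map α) =
      (EtCoh.stalk ξ.1).map α ≫ ιJ f G η ξ := by
  refine ConcreteCategory.hom_ext _ _ (fun b => ?_)
  show (Scheme.pointSmallEtale η).presheafFiber.map ((EtShriek.lowerShriekPreFunctor f).map α)
    (inj f F η ξ b) = inj f G η ξ ((EtCoh.stalk ξ.1).map α b)
  apply ext_ΨP f G η
  intro ξ' hξ'
  rw [ΨP_naturality]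
  by_cases hne : (⟨ξ', hξ'⟩ : J f η) = ξ
  · subst hne
    rw [ΨP_inj_self f F η ⟨ξ', hξ'⟩, ΨP_inj_self f G η ⟨ξ', hξ'⟩]
  · rw [ΨP_inj_ne f F η ξ ⟨ξ', hξ'⟩ hne, ΨP_inj_ne f G η ξ ⟨ξ', hξ'⟩ hne]
    exact map_zero ((EtCoh.stalk ξ').map α).hom

instance stalk_isLeftAdjoint {Ω' : Type u} [Field Ω'] [IsSepClosed Ω']
    (ξ : Spec (CommRingCat.of Ω') ⟶ X) : (EtCoh.stalk ξ).IsLeftAdjoint :=
  ⟨_, ⟨(Scheme.pointSmallEtale ξ).skyscraperSheafAdjunction⟩⟩

/-- the presheaf fibre of the sections with proper support, as a functor -/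
noncomputable abbrev PF : EtCoh.Ab X ⥤ AddCommGrpCat.{u + 1} :=
  EtShriek.lowerShriekPreFunctor f ⋙ (Scheme.pointSmallEtale η).presheafFiber

variable {ι : Type (u + 1)} (A : ι → EtCoh.Ab X)

/-- the presheaf fibre functor preserves coproducts -/
noncomputable def isColimitPF : IsColimit (Cofan.mk ((PF f η).obj (∐ A))
    (fun i => (PF f η).map (Sigma.ι A i))) := by
  let Q : ∀ ξ : J f η, IsColimit (Cofan.mk ((EtCoh.stalk ξ.1).obj (∐ A))
      (fun i => (EtCoh.stalk ξ.1).map (Sigma.ι A i))) :=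
    fun ξ => isColimitOfHasCoproductOfPreservesColimit (EtCoh.stalk ξ.1) A
  refine Cofan.IsColimit.mk _ (fun t => (isColimitCofan f (∐ A) η).desc (Cofan.mk t.pt
    (fun ξ => (Q ξ).desc (Cofan.mk t.pt (fun i => ιJ f (A i) η ξ ≫ t.inj i))))) ?_ ?_
  · intro t i
    apply (isColimitCofan f (A i) η).hom_ext
    rintro ⟨ξ⟩
    have h1 : ιJ f (A i) η ξ ≫ (PF f η).map (Sigma.ι A i) =
        (EtCoh.stalk ξ.1).map (Sigma.ι A i) ≫ ιJ f (∐ A) η ξ := ιJ_naturality f η _ ξ
    have h2 : ιJ f (∐ A) η ξ ≫ (isColimitCofan f (∐ A) η).desc (Cofan.mk t.pt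
        (fun ξ => (Q ξ).desc (Cofan.mk t.pt (fun i => ιJ f (A i) η ξ ≫ t.inj i)))) =
        (Q ξ).desc (Cofan.mk t.pt (fun i => ιJ f (A i) η ξ ≫ t.inj i)) :=
      (isColimitCofan f (∐ A) η).fac _ ⟨ξ⟩
    have h3 : (EtCoh.stalk ξ.1).map (Sigma.ι A i) ≫
        (Q ξ).desc (Cofan.mk t.pt (fun i => ιJ f (A i) η ξ ≫ t.inj i)) =
        ιJ f (A i) η ξ ≫ t.inj i := (Q ξ).fac _ ⟨i⟩
    exact (Category.assoc _ _ _).symm.trans ((congrArg (fun q => q ≫
      (isColimitCofan f (∐ A) η).desc (Cofan.mk t.pt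
        (fun ξ => (Q ξ).desc (Cofan.mk t.pt (fun i => ιJ f (A i) η ξ ≫ t.inj i))))) h1).trans
      ((Category.assoc _ _ _).trans ((congrArg (fun q =>
        (EtCoh.stalk ξ.1).map (Sigma.ι A i) ≫ q) h2).trans h3)))
  · intro t m hm
    apply (isColimitCofan f (∐ A) η).hom_ext
    rintro ⟨ξ⟩
    refine Eq.trans ?_ ((isColimitCofan f (∐ A) η).fac (Cofan.mk t.pt
      (fun ξ => (Q ξ).desc (Cofan.mk t.pt (fun i => ιJ f (A i) η ξ ≫ t.inj i)))) ⟨ξ⟩).symm
    apply (Q ξ).hom_ext
    rintro ⟨i⟩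
    refine Eq.trans ?_ ((Q ξ).fac (Cofan.mk t.pt (fun i => ιJ f (A i) η ξ ≫ t.inj i)) ⟨i⟩).symm
    have h1 : ιJ f (A i) η ξ ≫ (PF f η).map (Sigma.ι A i) =
        (EtCoh.stalk ξ.1).map (Sigma.ι A i) ≫ ιJ f (∐ A) η ξ := ιJ_naturality f η _ ξ
    exact (Category.assoc _ _ _).symm.trans ((congrArg (fun q => q ≫ m) h1.symm).trans
      ((Category.assoc _ _ _).trans (congrArg (fun q => ιJ f (A i) η ξ ≫ q) (hm i))))

instance preservesColimit_PF : PreservesColimit (Discrete.functor A) (PF f η) :=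
  preservesColimit_of_preserves_colimit_cocone (coproductIsCoproduct A)
    ((isColimitMapCoconeCofanMkEquiv _ _ _).symm (isColimitPF f η A))

/-- the stalk of `f_!` as the presheaf fibre, naturally -/
noncomputable def stalkIso : EtShriek.lowerShriek f ⋙ EtCoh.stalk η ≅ PF f η :=
  Functor.associator _ _ _ ≪≫ Functor.isoWhiskerLeft (EtShriek.lowerShriekPreFunctor f)
    ((Scheme.pointSmallEtale η).presheafToSheafCompSheafFiberIso AddCommGrpCat.{u + 1})

instance preservesColimit_stalk :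
    PreservesColimit (Discrete.functor A) (EtShriek.lowerShriek f ⋙ EtCoh.stalk η) :=
  preservesColimit_of_natIso _ (stalkIso f η).symm

end Core

section Main

variable {X Y : Scheme.{u}} (f : X ⟶ Y) [IsSeparated f] [LocallyOfFiniteType f]
  [LocallyQuasiFinite f]

instance preservesColimit_discrete {ι : Type (u + 1)} (A : ι → EtCoh.Ab X) :
    PreservesColimit (Discrete.functor A) (EtShriek.lowerShriek f) :=
  preservesColimit_of_stalks _ _ (fun _ _ _ η => preservesColimit_stalk f η A)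

instance preservesColimitsOfShape_discrete (ι : Type (u + 1)) :
    PreservesColimitsOfShape (Discrete ι) (EtShriek.lowerShriek f) :=
  preservesColimitsOfShape_of_discrete _

instance preservesColimits : PreservesColimitsOfSize.{u + 1, u + 1} (EtShriek.lowerShriek f) := by
  haveI : PreservesFiniteColimits (EtShriek.lowerShriek f) := (exact_lowerShriek f).2
  exact preservesColimits_of_preservesCoequalizers_and_coproducts _

/-- `f_!` is a left adjoint for `f` separated and locally quasi-finite -/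
theorem isLeftAdjoint : (EtShriek.lowerShriek f).IsLeftAdjoint :=
  isLeftAdjoint_of_preservesColimits _

end Main

end Groth.Agent.Lib.Helper70.ShriekAdj
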