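import Mathlib
import Groth.Prelude.Def_EtBase
import Groth.Prelude.Def_EtShriek2
import Groth.Agent.Lib.Helper70.ShriekOpenProper

set_option autoImplicit false
open CategoryTheory CategoryTheory.Limits AlgebraicGeometry Opposite

universe u

namespace Groth.Agent.Lib.Helper70.ShriekH0c

open Groth.Agent.Lib.Helper70.ShriekStalk Groth.Agent.Lib.Helper70.ShriekSheaf
  Groth.Agent.Lib.Helper70.ShriekOpenProper

section H0c

variable {k : Type u} [Field k] {X : Scheme.{u}} (p : X ⟶ Spec (CommRingCat.of k))
  [LocallyOfFiniteType p] (F : EtCoh.Ab X)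

/-- membership in the group of sections with compact support -/
theorem mem_H0c_iff (s : EtCoh.sect F (EtCoh.top X)) :
    s ∈ EtShriek.H0c p F ↔ ClSub.IsProperOver p (EtShriek.sectSupp F (EtCoh.top X) s) := by
  constructor
  · intro hs
    refine AddSubgroup.closure_induction
      (p := fun s _ => ClSub.IsProperOver p (EtShriek.sectSupp F (EtCoh.top X) s)) ?_ ?_ ?_ ?_ hs
    · rintro x ⟨Z, hsub, hprop⟩
      exact isProperOver_of_subset _ (Groth.Agent.Lib.Helper70.Supp.isClosed_sectSupp F _ x)
        hsub hprop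
    · rw [sectSupp_zero]
      exact isProperOver_empty p
    · intro x y _ _ hx hy
      exact isProperOver_of_subset _ (Groth.Agent.Lib.Helper70.Supp.isClosed_sectSupp F _ _)
        (sectSupp_add F _ x y) (isProperOver_union p hx hy)
    · intro x _ hx
      exact isProperOver_of_subset _ (Groth.Agent.Lib.Helper70.Supp.isClosed_sectSupp F _ _)
        (sectSupp_neg F _ x) hx
  · intro hs
    exact AddSubgroup.subset_closure ⟨_, subset_rfl, hs⟩

end H0c

section Top

variable {X Xb : Scheme.{u}} (j : X ⟶ Xb)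

set_option backward.isDefEq.respectTransparency.types false in
/-- `X` as the base change of `Xb` -/
noncomputable def κ : EtCoh.top X ⟶ (EtCoh.bc j).obj (EtCoh.top Xb) :=
  MorphismProperty.Over.homMk (pullback.lift j (𝟙 X)
    ((Category.comp_id j).trans (Category.id_comp j).symm))
    (pullback.lift_snd _ _ _) trivial

set_option backward.isDefEq.respectTransparency.types false in
/-- the inverse of `κ` -/
noncomputable def κinv : (EtCoh.bc j).obj (EtCoh.top Xb) ⟶ EtCoh.top X :=
  MorphismProperty.Over.homMk (pullback.snd (𝟙 Xb) j) (Category.comp_id _) trivial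

set_option backward.isDefEq.respectTransparency.types false in
theorem κ_κinv : κ j ≫ κinv j = 𝟙 _ := by
  apply MorphismProperty.Over.Hom.ext
  exact pullback.lift_snd _ _ _

set_option backward.isDefEq.respectTransparency.types false in
theorem κinv_κ : κinv j ≫ κ j = 𝟙 _ := by
  apply MorphismProperty.Over.Hom.ext
  show pullback.snd (𝟙 Xb) j ≫ pullback.lift j (𝟙 X) _ = 𝟙 _
  apply pullback.hom_ext
  · rw [Category.assoc, pullback.lift_fst, Category.id_comp, ← pullback.condition,
      Category.comp_id]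
  · rw [Category.assoc, pullback.lift_snd, Category.id_comp, Category.comp_id]

set_option backward.isDefEq.respectTransparency.types false in
theorem κ_left_fst : (κ j).left ≫ EtShriek.prV j (EtCoh.top Xb) = j :=
  pullback.lift_fst _ _ _

instance isIso_κ_left : IsIso (κ j).left :=
  ⟨⟨(κinv j).left, congrArg (fun q => q.left) (κ_κinv j),
    congrArg (fun q => q.left) (κinv_κ j)⟩⟩

end Top

section Main

variable {k : Type u} [Field k] {X Xb : Scheme.{u}} (j : X ⟶ Xb) [LocallyOfFiniteType j]
  (pb : Xb ⟶ Spec (CommRingCat.of k)) [IsProper pb] (F : EtCoh.Ab X)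

set_option backward.isDefEq.respectTransparency.types false in
theorem mem_iff_H0c (s' : EtCoh.sect F ((EtCoh.bc j).obj (EtCoh.top Xb))) :
    F.obj.map (κ j).op s' ∈ EtShriek.H0c (j ≫ pb) F ↔
      s' ∈ EtShriek.shriekSubgroup j F (EtCoh.top Xb) := by
  rw [mem_H0c_iff, mem_shriekSubgroup_iff, sectSupp_map_eq]
  obtain ⟨e, he⟩ : ∃ e : X ⟶ pullback (𝟙 Xb) j, e = (κ j).left := ⟨_, rfl⟩
  haveI : IsIso e := he ▸ isIso_κ_left j
  obtain ⟨q, hq⟩ : ∃ q : pullback (𝟙 Xb) j ⟶ Xb, q = EtShriek.prV j (EtCoh.top Xb) := ⟨_, rfl⟩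
  haveI : LocallyOfFiniteType q := hq ▸ lft_prV j (EtCoh.top Xb)
  have h0 : e ≫ q = j := by rw [he, hq]; exact κ_left_fst j
  have h : j ≫ pb = e ≫ q ≫ pb := (congrArg (fun t => t ≫ pb) h0).symm.trans (Category.assoc _ _ _)
  obtain ⟨S', hS'⟩ : ∃ S' : Set ↥(pullback (𝟙 Xb) j),
      S' = EtShriek.sectSupp F ((EtCoh.bc j).obj (EtCoh.top Xb)) s' := ⟨_, rfl⟩
  show ClSub.IsProperOver (j ≫ pb) ((κ j).left.base ⁻¹'
    EtShriek.sectSupp F ((EtCoh.bc j).obj (EtCoh.top Xb)) s') ↔
    ClSub.IsProperOver (EtShriek.prV j (EtCoh.top Xb))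
      (EtShriek.sectSupp F ((EtCoh.bc j).obj (EtCoh.top Xb)) s')
  rw [← he, ← hq, ← hS', h]
  exact (isProperOver_iso_iff e (q ≫ pb) S').trans (isProperOver_comp_iff q pb S')

/-- the comparison of sections with proper support with sections with compact support -/
noncomputable def χ : EtShriek.shriekSubgroup j F (EtCoh.top Xb) →+ EtShriek.H0c (j ≫ pb) F :=
  ((F.obj.map (κ j).op).hom.comp
    (EtShriek.shriekSubgroup j F (EtCoh.top Xb)).subtype).codRestrict _
    (fun s => (mem_iff_H0c j pb F s.1).mpr s.2)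

theorem χ_bijective : Function.Bijective (χ j pb F) := by
  constructor
  · intro a b hab
    apply Subtype.ext
    have h1 : F.obj.map (κ j).op a.1 = F.obj.map (κ j).op b.1 := congrArg Subtype.val hab
    have h2 := congrArg (fun t => F.obj.map (κinv j).op t) h1
    simp only [← ConcreteCategory.comp_apply, ← F.obj.map_comp, ← op_comp, κinv_κ] at h2
    simpa using h2
  · intro b
    have hb : F.obj.map (κ j).op (F.obj.map (κinv j).op b.1) = b.1 := by
      simp only [← ConcreteCategory.comp_apply, ← F.obj.map_comp, ← op_comp, κ_κinv]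
      simp
    refine ⟨⟨F.obj.map (κinv j).op b.1, ?_⟩, Subtype.ext hb⟩
    rw [← mem_iff_H0c j pb F, hb]
    exact b.2

/-- sections with compact support are the global sections of the sheaf of sections with proper
support over the compactification -/
noncomputable def equivH0c :
    EtShriek.H0c (j ≫ pb) F ≃+ EtCoh.sect ((Sh j).obj F) (EtCoh.top Xb) :=
  (AddEquiv.ofBijective (χ j pb F) (χ_bijective j pb F)).symm

end Main

section Final

variable {k : Type u} [Field k] {X Xb : Scheme.{u}} (j : X ⟶ Xb) [IsOpenImmersion j]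
  (pb : Xb ⟶ Spec (CommRingCat.of k)) [IsProper pb] [EtShriek.JCont j] (F : EtCoh.Ab X)

/-- the global sections of the extension by zero are the sections with compact support -/
noncomputable def equivExtZero :
    EtShriek.H0c (j ≫ pb) F ≃+ EtCoh.sect ((EtShriek.extZero j).obj F) (EtCoh.top Xb) :=
  (equivH0c j pb F).trans
    ((((sheafToPresheaf Xb.smallEtaleTopology AddCommGrpCat.{u + 1}).mapIso
      (((shIso j).symm ≪≫
        (Groth.Agent.Lib.Helper70.ExtZeroShriek.extZeroIso j).symm).app F)).app
      (op (EtCoh.top Xb))).addCommGroupIsoToAddEquiv)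

end Final

end Groth.Agent.Lib.Helper70.ShriekH0c
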