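import Mathlib
import Groth.Prelude.Def_EtBase
import Groth.Prelude.Def_EtTens2
import Groth.Agent.Lib.Helper70.ClosedImmStalk

set_option autoImplicit false
open CategoryTheory CategoryTheory.Limits AlgebraicGeometry Opposite TensorProduct

universe u

namespace Groth.Agent.Lib.Helper70.TensStalk

variable {S : Scheme.{u}} {Ω : Type u} [Field Ω] [IsSepClosed Ω]
  (ξ : Spec (CommRingCat.of Ω) ⟶ S)

section Refine

variable (P : S.Etaleᵒᵖ ⥤ AddCommGrpCat.{u + 1})

/-- representatives of equal germs agree on a refinement of any given common neighbourhood -/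
theorem exists_refine {V₁ V₂ Z₀ : S.Etale} (v₁ : (Scheme.pointSmallEtale ξ).fiber.obj V₁)
    (v₂ : (Scheme.pointSmallEtale ξ).fiber.obj V₂) (z₀ : (Scheme.pointSmallEtale ξ).fiber.obj Z₀)
    (k₁ : Z₀ ⟶ V₁) (k₂ : Z₀ ⟶ V₂)
    (h₁ : (Scheme.pointSmallEtale ξ).fiber.map k₁ z₀ = v₁)
    (h₂ : (Scheme.pointSmallEtale ξ).fiber.map k₂ z₀ = v₂)
    (a₁ : ToType (P.obj (op V₁))) (a₂ : ToType (P.obj (op V₂)))
    (h : (Scheme.pointSmallEtale ξ).toPresheafFiber V₁ v₁ P a₁ =
      (Scheme.pointSmallEtale ξ).toPresheafFiber V₂ v₂ P a₂) :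
    ∃ (Z : S.Etale) (z : (Scheme.pointSmallEtale ξ).fiber.obj Z) (g : Z ⟶ Z₀),
      (Scheme.pointSmallEtale ξ).fiber.map g z = z₀ ∧
      P.map (g ≫ k₁).op a₁ = P.map (g ≫ k₂).op a₂ := by
  have e1 := ConcreteCategory.congr_hom
    ((Scheme.pointSmallEtale ξ).toPresheafFiber_w k₁ z₀ P) a₁
  have e2 := ConcreteCategory.congr_hom
    ((Scheme.pointSmallEtale ξ).toPresheafFiber_w k₂ z₀ P) a₂
  rw [ConcreteCategory.comp_apply] at e1 e2
  rw [h₁] at e1
  rw [h₂] at e2
  have e3 : (Scheme.pointSmallEtale ξ).toPresheafFiber Z₀ z₀ P (P.map k₁.op a₁) =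
      (Scheme.pointSmallEtale ξ).toPresheafFiber Z₀ z₀ P (P.map k₂.op a₂) := by
    rw [e1, e2, h]
  rw [GrothendieckTopology.Point.toPresheafFiber_eq_iff'] at e3
  obtain ⟨Z, g, z, hz, hP⟩ := e3
  refine ⟨Z, z, g, hz, ?_⟩
  rw [op_comp, P.map_comp, ConcreteCategory.comp_apply, op_comp, P.map_comp,
    ConcreteCategory.comp_apply]
  exact hP

/-- every germ has a representative on a refinement of a given neighbourhood -/
theorem exists_rep_over {V₀ : S.Etale} (v₀ : (Scheme.pointSmallEtale ξ).fiber.obj V₀)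
    (p : ToType ((Scheme.pointSmallEtale ξ).presheafFiber.obj P)) :
    ∃ (V : S.Etale) (v : (Scheme.pointSmallEtale ξ).fiber.obj V) (k : V ⟶ V₀)
      (a : ToType (P.obj (op V))), (Scheme.pointSmallEtale ξ).fiber.map k v = v₀ ∧
      (Scheme.pointSmallEtale ξ).toPresheafFiber V v P a = p := by
  obtain ⟨V₁, v₁, a, rfl⟩ := (Scheme.pointSmallEtale ξ).toPresheafFiber_jointly_surjective p
  let e1 : (Scheme.pointSmallEtale ξ).fiber.Elements := ⟨V₁, v₁⟩
  let e0 : (Scheme.pointSmallEtale ξ).fiber.Elements := ⟨V₀, v₀⟩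
  let e := IsCofiltered.min e1 e0
  let f1 : e ⟶ e1 := IsCofiltered.minToLeft e1 e0
  let f0 : e ⟶ e0 := IsCofiltered.minToRight e1 e0
  refine ⟨e.1, e.2, f0.1, P.map f1.1.op a, f0.2, ?_⟩
  have k1 := ConcreteCategory.congr_hom
    ((Scheme.pointSmallEtale ξ).toPresheafFiber_w f1.1 e.2 P) a
  rw [ConcreteCategory.comp_apply] at k1
  refine k1.trans ?_
  have q1 : (Scheme.pointSmallEtale ξ).fiber.map f1.1 e.2 = v₁ := f1.2
  rw [q1]

end Refine


section Tens

variable (P Q : S.Etaleᵒᵖ ⥤ AddCommGrpCat.{u + 1})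

/-- germs are compatible with restriction -/
theorem germ_map (R : S.Etaleᵒᵖ ⥤ AddCommGrpCat.{u + 1}) {Z V : S.Etale} (k : Z ⟶ V)
    (z : (Scheme.pointSmallEtale ξ).fiber.obj Z) (v : (Scheme.pointSmallEtale ξ).fiber.obj V)
    (hk : (Scheme.pointSmallEtale ξ).fiber.map k z = v) (r : ToType (R.obj (op V))) :
    (Scheme.pointSmallEtale ξ).toPresheafFiber Z z R (R.map k.op r) =
      (Scheme.pointSmallEtale ξ).toPresheafFiber V v R r := by
  have k1 := ConcreteCategory.congr_hom
    ((Scheme.pointSmallEtale ξ).toPresheafFiber_w k z R) r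
  rw [ConcreteCategory.comp_apply] at k1
  rw [hk] at k1
  exact k1

/-- a pair of germs has representatives on a common neighbourhood -/
theorem exists_common_rep (p : ToType ((Scheme.pointSmallEtale ξ).presheafFiber.obj P))
    (q : ToType ((Scheme.pointSmallEtale ξ).presheafFiber.obj Q)) :
    ∃ (V : S.Etale) (v : (Scheme.pointSmallEtale ξ).fiber.obj V) (a : ToType (P.obj (op V)))
      (b : ToType (Q.obj (op V))), (Scheme.pointSmallEtale ξ).toPresheafFiber V v P a = p ∧
      (Scheme.pointSmallEtale ξ).toPresheafFiber V v Q b = q := by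
  obtain ⟨V₁, v₁, a, rfl⟩ := (Scheme.pointSmallEtale ξ).toPresheafFiber_jointly_surjective p
  obtain ⟨V, v, k, b, hk, rfl⟩ := exists_rep_over ξ Q v₁ q
  exact ⟨V, v, P.map k.op a, b, germ_map ξ P k v v₁ hk a, rfl⟩

/-- the germ of a pure tensor, as an element of the presheaf fibre of the tensor product -/
noncomputable def germT {V : S.Etale} (v : (Scheme.pointSmallEtale ξ).fiber.obj V)
    (a : ToType (P.obj (op V))) (b : ToType (Q.obj (op V))) :
    ToType ((Scheme.pointSmallEtale ξ).presheafFiber.obj (EtTens.tensorObj P Q)) :=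
  (Scheme.pointSmallEtale ξ).toPresheafFiber V v (EtTens.tensorObj P Q)
    ((a ⊗ₜ[ℤ] b : TensorProduct ℤ (P.obj (op V)) (Q.obj (op V))))

theorem germT_map {Z V : S.Etale} (k : Z ⟶ V)
    (z : (Scheme.pointSmallEtale ξ).fiber.obj Z) (v : (Scheme.pointSmallEtale ξ).fiber.obj V)
    (hk : (Scheme.pointSmallEtale ξ).fiber.map k z = v) (a : ToType (P.obj (op V)))
    (b : ToType (Q.obj (op V))) :
    germT ξ P Q z (P.map k.op a) (Q.map k.op b) = germT ξ P Q v a b :=
  germ_map ξ (EtTens.tensorObj P Q) k z v hk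
    ((a ⊗ₜ[ℤ] b : TensorProduct ℤ (P.obj (op V)) (Q.obj (op V))))

/-- the germ of a pure tensor only depends on the germs of its factors -/
theorem germT_eq {V₁ V₂ : S.Etale} (v₁ : (Scheme.pointSmallEtale ξ).fiber.obj V₁)
    (v₂ : (Scheme.pointSmallEtale ξ).fiber.obj V₂)
    (a₁ : ToType (P.obj (op V₁))) (b₁ : ToType (Q.obj (op V₁)))
    (a₂ : ToType (P.obj (op V₂))) (b₂ : ToType (Q.obj (op V₂)))
    (ha : (Scheme.pointSmallEtale ξ).toPresheafFiber V₁ v₁ P a₁ =
      (Scheme.pointSmallEtale ξ).toPresheafFiber V₂ v₂ P a₂)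
    (hb : (Scheme.pointSmallEtale ξ).toPresheafFiber V₁ v₁ Q b₁ =
      (Scheme.pointSmallEtale ξ).toPresheafFiber V₂ v₂ Q b₂) :
    germT ξ P Q v₁ a₁ b₁ = germT ξ P Q v₂ a₂ b₂ := by
  let e1 : (Scheme.pointSmallEtale ξ).fiber.Elements := ⟨V₁, v₁⟩
  let e2 : (Scheme.pointSmallEtale ξ).fiber.Elements := ⟨V₂, v₂⟩
  let e := IsCofiltered.min e1 e2
  let f1 : e ⟶ e1 := IsCofiltered.minToLeft e1 e2
  let f2 : e ⟶ e2 := IsCofiltered.minToRight e1 e2
  obtain ⟨Z, z, g, hz, hP⟩ := exists_refine ξ P v₁ v₂ e.2 f1.1 f2.1 f1.2 f2.2 a₁ a₂ ha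
  have hz1 : (Scheme.pointSmallEtale ξ).fiber.map (g ≫ f1.1) z = v₁ := by
    rw [Functor.map_comp]
    change (Scheme.pointSmallEtale ξ).fiber.map f1.1 ((Scheme.pointSmallEtale ξ).fiber.map g z) = _
    rw [hz]; exact f1.2
  have hz2 : (Scheme.pointSmallEtale ξ).fiber.map (g ≫ f2.1) z = v₂ := by
    rw [Functor.map_comp]
    change (Scheme.pointSmallEtale ξ).fiber.map f2.1 ((Scheme.pointSmallEtale ξ).fiber.map g z) = _
    rw [hz]; exact f2.2
  obtain ⟨Z', z', g', hz', hQ⟩ := exists_refine ξ Q v₁ v₂ z (g ≫ f1.1) (g ≫ f2.1) hz1 hz2 b₁ b₂ hb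
  have hz1' : (Scheme.pointSmallEtale ξ).fiber.map (g' ≫ g ≫ f1.1) z' = v₁ := by
    rw [Functor.map_comp]
    change (Scheme.pointSmallEtale ξ).fiber.map (g ≫ f1.1)
      ((Scheme.pointSmallEtale ξ).fiber.map g' z') = _
    rw [hz']; exact hz1
  have hz2' : (Scheme.pointSmallEtale ξ).fiber.map (g' ≫ g ≫ f2.1) z' = v₂ := by
    rw [Functor.map_comp]
    change (Scheme.pointSmallEtale ξ).fiber.map (g ≫ f2.1)
      ((Scheme.pointSmallEtale ξ).fiber.map g' z') = _
    rw [hz']; exact hz2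
  have hP' : P.map (g' ≫ g ≫ f1.1).op a₁ = P.map (g' ≫ g ≫ f2.1).op a₂ := by
    rw [op_comp, P.map_comp, ConcreteCategory.comp_apply, op_comp (f := g') (g := g ≫ f2.1),
      P.map_comp, ConcreteCategory.comp_apply, hP]
  rw [← germT_map ξ P Q (g' ≫ g ≫ f1.1) z' v₁ hz1' a₁ b₁,
    ← germT_map ξ P Q (g' ≫ g ≫ f2.1) z' v₂ hz2' a₂ b₂, hP', hQ]

end Tens


section Bil

variable (P Q : S.Etaleᵒᵖ ⥤ AddCommGrpCat.{u + 1})

/-- the pairing of germs -/
noncomputable def bil (p : ToType ((Scheme.pointSmallEtale ξ).presheafFiber.obj P))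
    (q : ToType ((Scheme.pointSmallEtale ξ).presheafFiber.obj Q)) :
    ToType ((Scheme.pointSmallEtale ξ).presheafFiber.obj (EtTens.tensorObj P Q)) :=
  germT ξ P Q (exists_common_rep ξ P Q p q).choose_spec.choose
    (exists_common_rep ξ P Q p q).choose_spec.choose_spec.choose
    (exists_common_rep ξ P Q p q).choose_spec.choose_spec.choose_spec.choose

theorem bil_germ {V : S.Etale} (v : (Scheme.pointSmallEtale ξ).fiber.obj V)
    (a : ToType (P.obj (op V))) (b : ToType (Q.obj (op V))) :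
    bil ξ P Q ((Scheme.pointSmallEtale ξ).toPresheafFiber V v P a)
      ((Scheme.pointSmallEtale ξ).toPresheafFiber V v Q b) = germT ξ P Q v a b := by
  have h := (exists_common_rep ξ P Q ((Scheme.pointSmallEtale ξ).toPresheafFiber V v P a)
    ((Scheme.pointSmallEtale ξ).toPresheafFiber V v Q b)).choose_spec.choose_spec.choose_spec.choose_spec
  exact germT_eq ξ P Q _ v _ _ a b h.1 h.2

theorem germT_add_left {V : S.Etale} (v : (Scheme.pointSmallEtale ξ).fiber.obj V)
    (a a' : ToType (P.obj (op V))) (b : ToType (Q.obj (op V))) :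
    germT ξ P Q v (a + a') b = germT ξ P Q v a b + germT ξ P Q v a' b := by
  unfold germT
  rw [TensorProduct.add_tmul]
  exact map_add ((Scheme.pointSmallEtale ξ).toPresheafFiber V v (EtTens.tensorObj P Q)).hom _ _

theorem germT_add_right {V : S.Etale} (v : (Scheme.pointSmallEtale ξ).fiber.obj V)
    (a : ToType (P.obj (op V))) (b b' : ToType (Q.obj (op V))) :
    germT ξ P Q v a (b + b') = germT ξ P Q v a b + germT ξ P Q v a b' := by
  unfold germT
  rw [TensorProduct.tmul_add]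
  exact map_add ((Scheme.pointSmallEtale ξ).toPresheafFiber V v (EtTens.tensorObj P Q)).hom _ _

theorem bil_add_left (p p' : ToType ((Scheme.pointSmallEtale ξ).presheafFiber.obj P))
    (q : ToType ((Scheme.pointSmallEtale ξ).presheafFiber.obj Q)) :
    bil ξ P Q (p + p') q = bil ξ P Q p q + bil ξ P Q p' q := by
  obtain ⟨V₁, v₁, a, a', rfl, rfl⟩ :=
    (Scheme.pointSmallEtale ξ).toPresheafFiber_jointly_surjective₂ p p'
  obtain ⟨V, v, k, b, hk, rfl⟩ := exists_rep_over ξ Q v₁ q
  rw [← germ_map ξ P k v v₁ hk a, ← germ_map ξ P k v v₁ hk a']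
  have h1 : (Scheme.pointSmallEtale ξ).toPresheafFiber V v P (P.map k.op a) +
      (Scheme.pointSmallEtale ξ).toPresheafFiber V v P (P.map k.op a') =
      (Scheme.pointSmallEtale ξ).toPresheafFiber V v P (P.map k.op a + P.map k.op a') :=
    (map_add ((Scheme.pointSmallEtale ξ).toPresheafFiber V v P).hom _ _).symm
  rw [h1, bil_germ, bil_germ, bil_germ, germT_add_left]

theorem bil_add_right (p : ToType ((Scheme.pointSmallEtale ξ).presheafFiber.obj P))
    (q q' : ToType ((Scheme.pointSmallEtale ξ).presheafFiber.obj Q)) :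
    bil ξ P Q p (q + q') = bil ξ P Q p q + bil ξ P Q p q' := by
  obtain ⟨V₁, v₁, b, b', rfl, rfl⟩ :=
    (Scheme.pointSmallEtale ξ).toPresheafFiber_jointly_surjective₂ q q'
  obtain ⟨V, v, k, a, hk, rfl⟩ := exists_rep_over ξ P v₁ p
  rw [← germ_map ξ Q k v v₁ hk b, ← germ_map ξ Q k v v₁ hk b']
  have h1 : (Scheme.pointSmallEtale ξ).toPresheafFiber V v Q (Q.map k.op b) +
      (Scheme.pointSmallEtale ξ).toPresheafFiber V v Q (Q.map k.op b') =
      (Scheme.pointSmallEtale ξ).toPresheafFiber V v Q (Q.map k.op b + Q.map k.op b') :=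
    (map_add ((Scheme.pointSmallEtale ξ).toPresheafFiber V v Q).hom _ _).symm
  rw [h1, bil_germ, bil_germ, bil_germ, germT_add_right]

/-- the pairing as a biadditive map -/
noncomputable def bilHom : ToType ((Scheme.pointSmallEtale ξ).presheafFiber.obj P) →+
    ToType ((Scheme.pointSmallEtale ξ).presheafFiber.obj Q) →+
    ToType ((Scheme.pointSmallEtale ξ).presheafFiber.obj (EtTens.tensorObj P Q)) :=
  AddMonoidHom.mk' (fun p => AddMonoidHom.mk' (fun q => bil ξ P Q p q) (bil_add_right ξ P Q p))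
    (fun p p' => by
      ext q
      exact bil_add_left ξ P Q p p' q)

/-- the map from the tensor product of the fibres to the fibre of the tensor product -/
noncomputable def ρ : TensorProduct ℤ (ToType ((Scheme.pointSmallEtale ξ).presheafFiber.obj P))
    (ToType ((Scheme.pointSmallEtale ξ).presheafFiber.obj Q)) →+
    ToType ((Scheme.pointSmallEtale ξ).presheafFiber.obj (EtTens.tensorObj P Q)) :=
  TensorProduct.liftAddHom (bilHom ξ P Q) (fun r p q => by
    show bilHom ξ P Q (r • p) q = bilHom ξ P Q p (r • q)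
    rw [map_zsmul, AddMonoidHom.smul_apply, map_zsmul])

theorem ρ_tmul (p : ToType ((Scheme.pointSmallEtale ξ).presheafFiber.obj P))
    (q : ToType ((Scheme.pointSmallEtale ξ).presheafFiber.obj Q)) :
    ρ ξ P Q (p ⊗ₜ[ℤ] q) = bil ξ P Q p q := rfl

theorem ρ_germ {V : S.Etale} (v : (Scheme.pointSmallEtale ξ).fiber.obj V)
    (a : ToType (P.obj (op V))) (b : ToType (Q.obj (op V))) :
    ρ ξ P Q (((Scheme.pointSmallEtale ξ).toPresheafFiber V v P a) ⊗ₜ[ℤ]
      ((Scheme.pointSmallEtale ξ).toPresheafFiber V v Q b)) = germT ξ P Q v a b :=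
  bil_germ ξ P Q v a b

end Bil


section Delta

variable (P Q : S.Etaleᵒᵖ ⥤ AddCommGrpCat.{u + 1})

/-- the map from the fibre of the tensor product to the tensor product of the fibres -/
noncomputable def δ : (Scheme.pointSmallEtale ξ).presheafFiber.obj (EtTens.tensorObj P Q) ⟶
    AddCommGrpCat.of (TensorProduct ℤ (ToType ((Scheme.pointSmallEtale ξ).presheafFiber.obj P))
      (ToType ((Scheme.pointSmallEtale ξ).presheafFiber.obj Q))) :=
  (Scheme.pointSmallEtale ξ).presheafFiberDesc (P := EtTens.tensorObj P Q)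
    (fun V v => AddCommGrpCat.ofHom (TensorProduct.map
      ((Scheme.pointSmallEtale ξ).toPresheafFiber V v P).hom.toIntLinearMap
      ((Scheme.pointSmallEtale ξ).toPresheafFiber V v Q).hom.toIntLinearMap).toAddMonoidHom)
    (by
      intro X Y f x
      apply EtTens.hom_ext_tmul
      intro m n
      show (TensorProduct.map _ _) ((EtTens.tensorObj P Q).map f.op (m ⊗ₜ n)) =
        (TensorProduct.map _ _) (m ⊗ₜ n)
      rw [EtTens.tensorObj_map_tmul]
      simp only [TensorProduct.map_tmul, AddMonoidHom.coe_toIntLinearMap]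
      congr 1
      · exact germ_map ξ P f x _ rfl m
      · exact germ_map ξ Q f x _ rfl n)

theorem δ_germT {V : S.Etale} (v : (Scheme.pointSmallEtale ξ).fiber.obj V)
    (a : ToType (P.obj (op V))) (b : ToType (Q.obj (op V))) :
    δ ξ P Q (germT ξ P Q v a b) = ((Scheme.pointSmallEtale ξ).toPresheafFiber V v P a) ⊗ₜ[ℤ]
      ((Scheme.pointSmallEtale ξ).toPresheafFiber V v Q b) := by
  have h := (Scheme.pointSmallEtale ξ).toPresheafFiber_presheafFiberDesc
    (P := EtTens.tensorObj P Q)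
    (fun V v => AddCommGrpCat.ofHom (TensorProduct.map
      ((Scheme.pointSmallEtale ξ).toPresheafFiber V v P).hom.toIntLinearMap
      ((Scheme.pointSmallEtale ξ).toPresheafFiber V v Q).hom.toIntLinearMap).toAddMonoidHom)
    (by
      intro X Y f x
      apply EtTens.hom_ext_tmul
      intro m n
      show (TensorProduct.map _ _) ((EtTens.tensorObj P Q).map f.op (m ⊗ₜ n)) =
        (TensorProduct.map _ _) (m ⊗ₜ n)
      rw [EtTens.tensorObj_map_tmul]
      simp only [TensorProduct.map_tmul, AddMonoidHom.coe_toIntLinearMap]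
      congr 1
      · exact germ_map ξ P f x _ rfl m
      · exact germ_map ξ Q f x _ rfl n) V v
  have h2 := ConcreteCategory.congr_hom h
    ((a ⊗ₜ[ℤ] b : TensorProduct ℤ (P.obj (op V)) (Q.obj (op V))))
  exact (ConcreteCategory.comp_apply _ _ _).symm.trans h2

theorem δ_ρ (z : TensorProduct ℤ (ToType ((Scheme.pointSmallEtale ξ).presheafFiber.obj P))
    (ToType ((Scheme.pointSmallEtale ξ).presheafFiber.obj Q))) : δ ξ P Q (ρ ξ P Q z) = z := by
  induction z using TensorProduct.induction_on with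
  | zero => rw [map_zero]; exact map_zero (δ ξ P Q).hom
  | tmul p q =>
    obtain ⟨V, v, a, b, rfl, rfl⟩ := exists_common_rep ξ P Q p q
    rw [ρ_germ, δ_germT]
  | add x y hx hy =>
    rw [map_add]
    refine (map_add (δ ξ P Q).hom _ _).trans ?_
    show δ ξ P Q (ρ ξ P Q x) + δ ξ P Q (ρ ξ P Q y) = x + y
    rw [hx, hy]

theorem ρ_injective : Function.Injective (ρ ξ P Q) :=
  Function.LeftInverse.injective (δ_ρ ξ P Q)

theorem ρ_surjective : Function.Surjective (ρ ξ P Q) := by
  intro x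
  obtain ⟨V, v, t, rfl⟩ := (Scheme.pointSmallEtale ξ).toPresheafFiber_jointly_surjective x
  have key : ∀ t : TensorProduct ℤ (P.obj (op V)) (Q.obj (op V)),
      ∃ y, ρ ξ P Q y = (Scheme.pointSmallEtale ξ).toPresheafFiber V v (EtTens.tensorObj P Q) t := by
    intro t
    induction t using TensorProduct.induction_on with
    | zero =>
      exact ⟨0, (map_zero _).trans (map_zero
        ((Scheme.pointSmallEtale ξ).toPresheafFiber V v (EtTens.tensorObj P Q)).hom).symm⟩
    | tmul a b => exact ⟨_, ρ_germ ξ P Q v a b⟩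
    | add x y hx hy =>
      obtain ⟨y1, h1⟩ := hx
      obtain ⟨y2, h2⟩ := hy
      refine ⟨y1 + y2, ?_⟩
      rw [map_add, h1, h2]
      exact (map_add
        ((Scheme.pointSmallEtale ξ).toPresheafFiber V v (EtTens.tensorObj P Q)).hom x y).symm
  exact key t

theorem ρ_bijective : Function.Bijective (ρ ξ P Q) := ⟨ρ_injective ξ P Q, ρ_surjective ξ P Q⟩

end Delta

end Groth.Agent.Lib.Helper70.TensStalk
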