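import Mathlib
import Groth.Prelude.Def_EtBase
import Groth.Prelude.Def_EtShriek2
import Groth.Prelude.Def_EtTens2
import Groth.Agent.Lib.Helper70.TensStalk
import Groth.Agent.Lib.Helper70.ShriekOpenProper
import Groth.Agent.Lib.Helper70.ShriekStalk
import Groth.Agent.Lib.Helper70.PullSection
import Groth.Agent.Lib.Helper70.StalkConsAlg

set_option autoImplicit false
open CategoryTheory CategoryTheory.Limits AlgebraicGeometry Opposite TensorProduct

universe u

namespace Groth.Agent.Lib.Helper70.ShriekProj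

open Groth.Agent.Lib.Helper70.ShriekOpenProper Groth.Agent.Lib.Helper70.ShriekSheaf

section Construct

variable {X Y : Scheme.{u}} (f : X ⟶ Y) [LocallyOfFiniteType f] (F : EtCoh.Ab X) (G : EtCoh.Ab Y)

/-- the inverse image of `G` -/
noncomputable abbrev PG : EtCoh.Ab X := (EtCoh.pull f).obj G

/-- the presheaf tensor product `F ⊗ f⁻¹G` -/
noncomputable abbrev TP : X.Etaleᵒᵖ ⥤ AddCommGrpCat.{u + 1} :=
  EtTens.tensorObj F.obj (PG f G).obj

/-- the sheaf tensor product `F ⊗ f⁻¹G` -/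
noncomputable abbrev H : EtCoh.Ab X := (EtTens.tensorBi.obj F).obj (PG f G)

/-- the sheafification map -/
noncomputable def sh : TP f F G ⟶ (H f F G).obj :=
  toSheafify X.smallEtaleTopology (TP f F G)

/-- the unit of the adjunction on sections -/
noncomputable def un : G.obj ⟶ ((EtCoh.push f).obj (PG f G)).obj :=
  ((EtCoh.pullPushAdj f).unit.app G).hom

/-- the pairing `f_* F ⊗ G → f_* (F ⊗ f⁻¹ G)` of presheaves -/
noncomputable def Φ₀ : EtTens.tensorObj ((EtCoh.push f).obj F).obj G.obj ⟶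
    ((EtCoh.push f).obj (H f F G)).obj :=
  EtTens.tensorHom (𝟙 ((EtCoh.push f).obj F).obj) (un f G) ≫
    Functor.whiskerLeft (EtCoh.bc f).op (sh f F G)

theorem Φ₀_tmul (V : Y.Etale) (s : EtCoh.sect F ((EtCoh.bc f).obj V)) (t : EtCoh.sect G V) :
    (Φ₀ f F G).app (op V) (s ⊗ₜ[ℤ] t) =
      (sh f F G).app (op ((EtCoh.bc f).obj V)) (s ⊗ₜ[ℤ] ((un f G).app (op V) t)) := rfl

end Construct


section Support

variable {X Y : Scheme.{u}} (f : X ⟶ Y) [LocallyOfFiniteType f] (F : EtCoh.Ab X) (G : EtCoh.Ab Y)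

theorem sh_map {W W' : X.Etale} (g : W' ⟶ W) (a : EtCoh.sect F W) (b : EtCoh.sect (PG f G) W) :
    (H f F G).obj.map g.op ((sh f F G).app (op W) (a ⊗ₜ[ℤ] b)) =
      (sh f F G).app (op W') ((F.obj.map g.op a) ⊗ₜ[ℤ] ((PG f G).obj.map g.op b)) := by
  have h := ConcreteCategory.congr_hom ((sh f F G).naturality g.op)
    ((a ⊗ₜ[ℤ] b : TensorProduct ℤ (F.obj.obj (op W)) ((PG f G).obj.obj (op W))))
  exact ((ConcreteCategory.comp_apply _ _ _).symm.trans h.symm).trans
    (ConcreteCategory.comp_apply _ _ _)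

/-- the support of a pure tensor is contained in the support of its first factor -/
theorem sectSupp_sh_subset (W : X.Etale) (a : EtCoh.sect F W) (b : EtCoh.sect (PG f G) W) :
    EtShriek.sectSupp (H f F G) W ((sh f F G).app (op W) (a ⊗ₜ[ℤ] b)) ⊆
      EtShriek.sectSupp F W a := by
  intro x hx W' g hw h0
  apply hx W' g hw
  rw [sh_map, h0, TensorProduct.zero_tmul]
  exact map_zero ((sh f F G).app (op W')).hom

end Support


section Factor

variable {X Y : Scheme.{u}} (f : X ⟶ Y) [LocallyOfFiniteType f] (F : EtCoh.Ab X) (G : EtCoh.Ab Y)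

/-- the pairing restricted to sections with proper support, with values in `f_*` -/
noncomputable def Φ₁ : EtTens.tensorObj (EtShriek.lowerShriekPre f F) G.obj ⟶
    ((EtCoh.push f).obj (H f F G)).obj :=
  EtTens.tensorHom (EtShriek.lowerShriekPreι f F) (𝟙 G.obj) ≫ Φ₀ f F G

theorem Φ₁_tmul (V : Y.Etale) (s : EtShriek.shriekSubgroup f F V) (t : EtCoh.sect G V) :
    (Φ₁ f F G).app (op V) (s ⊗ₜ[ℤ] t) =
      (sh f F G).app (op ((EtCoh.bc f).obj V)) (s.1 ⊗ₜ[ℤ] ((un f G).app (op V) t)) := rfl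

/-- the pairing on sections, as a homomorphism of groups -/
noncomputable def Φ₁hom (V : Y.Etale) :
    TensorProduct ℤ (EtShriek.shriekSubgroup f F V) (EtCoh.sect G V) →+
      EtCoh.sect (H f F G) ((EtCoh.bc f).obj V) :=
  ((Φ₁ f F G).app (op V)).hom

theorem Φ₁hom_tmul (V : Y.Etale) (s : EtShriek.shriekSubgroup f F V) (t : EtCoh.sect G V) :
    Φ₁hom f F G V (s ⊗ₜ[ℤ] t) =
      (sh f F G).app (op ((EtCoh.bc f).obj V)) (s.1 ⊗ₜ[ℤ] ((un f G).app (op V) t)) := rfl

set_option backward.isDefEq.respectTransparency.types false in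
theorem Φ₁_mem (V : Y.Etale)
    (z : TensorProduct ℤ (EtShriek.shriekSubgroup f F V) (EtCoh.sect G V)) :
    Φ₁hom f F G V z ∈ EtShriek.shriekSubgroup f (H f F G) V := by
  induction z using TensorProduct.induction_on with
  | zero =>
    rw [map_zero]
    exact AddSubgroup.zero_mem _
  | tmul s t =>
    rw [Φ₁hom_tmul]
    rw [mem_shriekSubgroup_iff]
    refine isProperOver_of_subset _ (Groth.Agent.Lib.Helper70.Supp.isClosed_sectSupp _ _ _)
      (sectSupp_sh_subset f F G _ s.1 _) ?_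
    exact (mem_shriekSubgroup_iff f F V s.1).mp s.2
  | add x y hx hy =>
    rw [map_add]
    exact AddSubgroup.add_mem _ hx hy

/-- the pairing `f_! F ⊗ G → f_! (F ⊗ f⁻¹ G)` of presheaves -/
noncomputable def Φ : EtTens.tensorObj (EtShriek.lowerShriekPre f F) G.obj ⟶
    EtShriek.lowerShriekPre f (H f F G) where
  app V := AddCommGrpCat.ofHom (AddMonoidHom.codRestrict (Φ₁hom f F G V.unop)
    (EtShriek.shriekSubgroup f (H f F G) V.unop) (fun z => Φ₁_mem f F G V.unop z))
  naturality V V' φ := by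
    refine ConcreteCategory.hom_ext _ _ (fun z => ?_)
    apply Subtype.ext
    have h := ConcreteCategory.congr_hom ((Φ₁ f F G).naturality φ) z
    exact h

theorem Φ_val (V : Y.Etale)
    (z : TensorProduct ℤ (EtShriek.shriekSubgroup f F V) (EtCoh.sect G V)) :
    ((Φ f F G).app (op V) z).1 = (Φ₁ f F G).app (op V) z := rfl

theorem Φ_tmul (V : Y.Etale) (s : EtShriek.shriekSubgroup f F V) (t : EtCoh.sect G V) :
    ((Φ f F G).app (op V) (s ⊗ₜ[ℤ] t)).1 =
      (sh f F G).app (op ((EtCoh.bc f).obj V)) (s.1 ⊗ₜ[ℤ] ((un f G).app (op V) t)) := rfl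

end Factor


section Nu

open Groth.Agent.Lib.Helper70.FinPushStalk Groth.Agent.Lib.Helper70.StalkPullGerm
  Groth.Agent.Lib.Helper70.ClosedImmStalk2 Groth.Agent.Lib.Helper70.TensStalk

variable {X Y : Scheme.{u}} (f : X ⟶ Y) (G : EtCoh.Ab Y) {Ω : Type u} [Field Ω] [IsSepClosed Ω]
  (η : Spec (CommRingCat.of Ω) ⟶ Y) (ξ : Spec (CommRingCat.of Ω) ⟶ X) (hξ : ξ ≫ f = η)

set_option backward.isDefEq.respectTransparency.types false in
theorem ν_compat {V V' : Y.Etale} (k : V ⟶ V') (v : (Scheme.pointSmallEtale η).fiber.obj V) :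
    G.obj.map k.op ≫ ((un f G).app (op V) ≫
      (Scheme.pointSmallEtale ξ).toPresheafFiber ((EtCoh.bc f).obj V) (lift f η ξ hξ V v)
        (PG f G).obj) =
    (un f G).app (op V') ≫
      (Scheme.pointSmallEtale ξ).toPresheafFiber ((EtCoh.bc f).obj V')
        (lift f η ξ hξ V' ((Scheme.pointSmallEtale η).fiber.map k v)) (PG f G).obj := by
  have e1 : (Scheme.pointSmallEtale ξ).toPresheafFiber ((EtCoh.bc f).obj V')
      (lift f η ξ hξ V' ((Scheme.pointSmallEtale η).fiber.map k v)) (PG f G).obj =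
      (PG f G).obj.map ((EtCoh.bc f).map k).op ≫
        (Scheme.pointSmallEtale ξ).toPresheafFiber ((EtCoh.bc f).obj V) (lift f η ξ hξ V v)
          (PG f G).obj := by
    rw [lift_map]
    exact ((Scheme.pointSmallEtale ξ).toPresheafFiber_w ((EtCoh.bc f).map k) (lift f η ξ hξ V v)
      (PG f G).obj).symm
  rw [e1]
  exact (Category.assoc _ _ _).symm.trans ((congrArg (fun q => q ≫
    (Scheme.pointSmallEtale ξ).toPresheafFiber ((EtCoh.bc f).obj V) (lift f η ξ hξ V v)
      (PG f G).obj) ((un f G).naturality k.op)).trans (Category.assoc _ _ _))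

/-- the comparison of the stalk of `G` with the stalk of its inverse image -/
noncomputable def ν : (Scheme.pointSmallEtale η).presheafFiber.obj G.obj ⟶
    (Scheme.pointSmallEtale ξ).presheafFiber.obj (PG f G).obj :=
  (Scheme.pointSmallEtale η).presheafFiberDesc (P := G.obj)
    (fun V v => (un f G).app (op V) ≫
      (Scheme.pointSmallEtale ξ).toPresheafFiber ((EtCoh.bc f).obj V) (lift f η ξ hξ V v)
        (PG f G).obj)
    (fun _ _ k v => ν_compat f G η ξ hξ k v)

set_option backward.isDefEq.respectTransparency.types false in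
theorem ν_germ (V : Y.Etale) (v : (Scheme.pointSmallEtale η).fiber.obj V) (t : EtCoh.sect G V) :
    ν f G η ξ hξ ((Scheme.pointSmallEtale η).toPresheafFiber V v G.obj t) =
      (Scheme.pointSmallEtale ξ).toPresheafFiber ((EtCoh.bc f).obj V) (lift f η ξ hξ V v)
        (PG f G).obj ((un f G).app (op V) t) := by
  have h := (Scheme.pointSmallEtale η).toPresheafFiber_presheafFiberDesc (P := G.obj)
    (fun V v => (un f G).app (op V) ≫
      (Scheme.pointSmallEtale ξ).toPresheafFiber ((EtCoh.bc f).obj V) (lift f η ξ hξ V v)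
        (PG f G).obj)
    (fun _ _ k v => ν_compat f G η ξ hξ k v) V v
  have h2 := ConcreteCategory.congr_hom h t
  exact (ConcreteCategory.comp_apply _ _ _).symm.trans
    (h2.trans (ConcreteCategory.comp_apply _ _ _))

set_option backward.isDefEq.respectTransparency.types false in
theorem ν_bijective : Function.Bijective (ν f G η ξ hξ) := by
  subst hξ
  have h : ν f G (ξ ≫ f) ξ rfl = (stalkPullIso f ξ AddCommGrpCat.{u + 1}).inv.app G := by
    apply GrothendieckTopology.Point.presheafFiber_hom_ext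
    intro V v
    refine Eq.trans ?_
      (Groth.Agent.Lib.Helper70.StalkPullGerm.germ_stalkPullIso_inv f ξ AddCommGrpCat.{u + 1}
        G V v).symm
    exact (Scheme.pointSmallEtale (ξ ≫ f)).toPresheafFiber_presheafFiberDesc (P := G.obj) _ _ V v
  rw [h]
  have hiso : IsIso ((stalkPullIso f ξ AddCommGrpCat.{u + 1}).inv.app G) :=
    Iso.isIso_inv ((stalkPullIso f ξ AddCommGrpCat.{u + 1}).app G)
  exact (ConcreteCategory.isIso_iff_bijective _).mp hiso

end Nu


section Mu

open Groth.Agent.Lib.Helper70.FinPushStalk Groth.Agent.Lib.Helper70.TensStalk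

variable {X Y : Scheme.{u}} (f : X ⟶ Y) [LocallyOfFiniteType f] (F : EtCoh.Ab X) (G : EtCoh.Ab Y)
  {Ω : Type u} [Field Ω] [IsSepClosed Ω]
  (η : Spec (CommRingCat.of Ω) ⟶ Y) (ξ : Spec (CommRingCat.of Ω) ⟶ X) (hξ : ξ ≫ f = η)

/-- `id ⊗ ν` -/
noncomputable def idν : TensorProduct ℤ (ToType ((Scheme.pointSmallEtale ξ).presheafFiber.obj F.obj))
      (ToType ((Scheme.pointSmallEtale η).presheafFiber.obj G.obj)) →+
    TensorProduct ℤ (ToType ((Scheme.pointSmallEtale ξ).presheafFiber.obj F.obj))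
      (ToType ((Scheme.pointSmallEtale ξ).presheafFiber.obj (PG f G).obj)) :=
  (TensorProduct.map LinearMap.id (ν f G η ξ hξ).hom.toIntLinearMap).toAddMonoidHom

theorem idν_tmul (p : ToType ((Scheme.pointSmallEtale ξ).presheafFiber.obj F.obj))
    (q : ToType ((Scheme.pointSmallEtale η).presheafFiber.obj G.obj)) :
    idν f F G η ξ hξ (p ⊗ₜ[ℤ] q) = p ⊗ₜ[ℤ] (ν f G η ξ hξ q) := rfl

theorem idν_bijective : Function.Bijective (idν f F G η ξ hξ) := by
  let e : ToType ((Scheme.pointSmallEtale η).presheafFiber.obj G.obj) ≃ₗ[ℤ]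
      ToType ((Scheme.pointSmallEtale ξ).presheafFiber.obj (PG f G).obj) :=
    LinearEquiv.ofBijective (ν f G η ξ hξ).hom.toIntLinearMap (ν_bijective f G η ξ hξ)
  exact (TensorProduct.congr (LinearEquiv.refl ℤ
    (ToType ((Scheme.pointSmallEtale ξ).presheafFiber.obj F.obj))) e).bijective

/-- the stalk of the sheafification map -/
noncomputable def shη : (Scheme.pointSmallEtale ξ).presheafFiber.obj (TP f F G) ⟶
    (Scheme.pointSmallEtale ξ).presheafFiber.obj (H f F G).obj :=
  (Scheme.pointSmallEtale ξ).presheafFiber.map (sh f F G)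

theorem shη_bijective : Function.Bijective (shη f F G ξ) := by
  have : IsIso (shη f F G ξ) :=
    inferInstanceAs (IsIso ((Scheme.pointSmallEtale ξ).presheafFiber.map
      (toSheafify X.smallEtaleTopology (EtTens.tensorObj F.obj ((EtCoh.pull f).obj G).obj))))
  exact (ConcreteCategory.isIso_iff_bijective _).mp this

/-- the comparison `F_ξ ⊗ G_η → (F ⊗ f⁻¹G)_ξ` -/
noncomputable def μ : TensorProduct ℤ (ToType ((Scheme.pointSmallEtale ξ).presheafFiber.obj F.obj))
      (ToType ((Scheme.pointSmallEtale η).presheafFiber.obj G.obj)) →+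
    ToType ((Scheme.pointSmallEtale ξ).presheafFiber.obj (H f F G).obj) :=
  (shη f F G ξ).hom.comp ((ρ ξ F.obj (PG f G).obj).comp (idν f F G η ξ hξ))

theorem μ_bijective : Function.Bijective (μ f F G η ξ hξ) :=
  (shη_bijective f F G ξ).comp ((ρ_bijective ξ F.obj (PG f G).obj).comp
    (idν_bijective f F G η ξ hξ))

set_option backward.isDefEq.respectTransparency.types false in
theorem μ_germ (V : Y.Etale) (v : (Scheme.pointSmallEtale η).fiber.obj V)
    (a : EtCoh.sect F ((EtCoh.bc f).obj V)) (t : EtCoh.sect G V) :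
    μ f F G η ξ hξ (((Scheme.pointSmallEtale ξ).toPresheafFiber ((EtCoh.bc f).obj V)
        (lift f η ξ hξ V v) F.obj a) ⊗ₜ[ℤ]
      ((Scheme.pointSmallEtale η).toPresheafFiber V v G.obj t)) =
    (Scheme.pointSmallEtale ξ).toPresheafFiber ((EtCoh.bc f).obj V) (lift f η ξ hξ V v)
      (H f F G).obj ((sh f F G).app (op ((EtCoh.bc f).obj V))
        (a ⊗ₜ[ℤ] ((un f G).app (op V) t))) := by
  unfold μ
  rw [AddMonoidHom.comp_apply, AddMonoidHom.comp_apply, idν_tmul, ν_germ, ρ_germ]
  have h := ConcreteCategory.congr_hom ((Scheme.pointSmallEtale ξ).toPresheafFiber_naturality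
    (sh f F G) ((EtCoh.bc f).obj V) (lift f η ξ hξ V v))
    ((a ⊗ₜ[ℤ] ((un f G).app (op V) t) : TensorProduct ℤ (F.obj.obj (op ((EtCoh.bc f).obj V)))
      ((PG f G).obj.obj (op ((EtCoh.bc f).obj V)))))
  exact (ConcreteCategory.comp_apply _ _ _).symm.trans
    (h.trans (ConcreteCategory.comp_apply _ _ _))

end Mu


section Theta

open Groth.Agent.Lib.Helper70.FinPushStalk Groth.Agent.Lib.Helper70.TensStalk
  Groth.Agent.Lib.Helper70.ShriekStalk

variable {X Y : Scheme.{u}} (f : X ⟶ Y) [IsSeparated f] [LocallyOfFiniteType f]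
  [LocallyQuasiFinite f] (F : EtCoh.Ab X) (G : EtCoh.Ab Y)
  {Ω : Type u} [Field Ω] [IsAlgClosed Ω] (η : Spec (CommRingCat.of Ω) ⟶ Y)

/-- the stalk of the pairing, precomposed with the tensor product of the stalks -/
noncomputable def Θ : TensorProduct ℤ
      (ToType ((Scheme.pointSmallEtale η).presheafFiber.obj (EtShriek.lowerShriekPre f F)))
      (ToType ((Scheme.pointSmallEtale η).presheafFiber.obj G.obj)) →+
    ToType ((Scheme.pointSmallEtale η).presheafFiber.obj (EtShriek.lowerShriekPre f (H f F G))) :=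
  ((Scheme.pointSmallEtale η).presheafFiber.map (Φ f F G)).hom.comp
    (ρ η (EtShriek.lowerShriekPre f F) G.obj)

/-- `ψ_ξ ⊗ id` -/
noncomputable def ψid (ξ : Spec (CommRingCat.of Ω) ⟶ X) (hξ : ξ ≫ f = η) : TensorProduct ℤ
      (ToType ((Scheme.pointSmallEtale η).presheafFiber.obj (EtShriek.lowerShriekPre f F)))
      (ToType ((Scheme.pointSmallEtale η).presheafFiber.obj G.obj)) →+
    TensorProduct ℤ (ToType ((Scheme.pointSmallEtale ξ).presheafFiber.obj F.obj))
      (ToType ((Scheme.pointSmallEtale η).presheafFiber.obj G.obj)) :=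
  (TensorProduct.map (ΨP f F η ξ hξ).hom.toIntLinearMap LinearMap.id).toAddMonoidHom

theorem ψid_tmul (ξ : Spec (CommRingCat.of Ω) ⟶ X) (hξ : ξ ≫ f = η)
    (p : ToType ((Scheme.pointSmallEtale η).presheafFiber.obj (EtShriek.lowerShriekPre f F)))
    (q : ToType ((Scheme.pointSmallEtale η).presheafFiber.obj G.obj)) :
    ψid f F G η ξ hξ (p ⊗ₜ[ℤ] q) = (ΨP f F η ξ hξ p) ⊗ₜ[ℤ] q := rfl

/-- `ι_ξ ⊗ id` -/
noncomputable def ιid (ξ : J f η) : TensorProduct ℤ
      (ToType ((Scheme.pointSmallEtale ξ.1).presheafFiber.obj F.obj))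
      (ToType ((Scheme.pointSmallEtale η).presheafFiber.obj G.obj)) →+
    TensorProduct ℤ
      (ToType ((Scheme.pointSmallEtale η).presheafFiber.obj (EtShriek.lowerShriekPre f F)))
      (ToType ((Scheme.pointSmallEtale η).presheafFiber.obj G.obj)) :=
  (TensorProduct.map (ιJ f F η ξ).hom.toIntLinearMap LinearMap.id).toAddMonoidHom

theorem ιid_tmul (ξ : J f η)
    (b : ToType ((Scheme.pointSmallEtale ξ.1).presheafFiber.obj F.obj))
    (q : ToType ((Scheme.pointSmallEtale η).presheafFiber.obj G.obj)) :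
    ιid f F G η ξ (b ⊗ₜ[ℤ] q) = (ιJ f F η ξ b) ⊗ₜ[ℤ] q := rfl

set_option backward.isDefEq.respectTransparency.types false in
/-- the components of the stalk of the pairing -/
theorem ΨP_Θ (ξ : Spec (CommRingCat.of Ω) ⟶ X) (hξ : ξ ≫ f = η) (z : TensorProduct ℤ
      (ToType ((Scheme.pointSmallEtale η).presheafFiber.obj (EtShriek.lowerShriekPre f F)))
      (ToType ((Scheme.pointSmallEtale η).presheafFiber.obj G.obj))) :
    ΨP f (H f F G) η ξ hξ (Θ f F G η z) = μ f F G η ξ hξ (ψid f F G η ξ hξ z) := by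
  induction z using TensorProduct.induction_on with
  | zero =>
    rw [map_zero, map_zero, map_zero]
    exact (map_zero _).symm
  | tmul p q =>
    obtain ⟨V, v, s, t, rfl, rfl⟩ := exists_common_rep η (EtShriek.lowerShriekPre f F) G.obj p q
    obtain ⟨s', hs'⟩ : ∃ s' : EtShriek.shriekSubgroup f F V, s' = s := ⟨_, rfl⟩
    subst hs'
    rw [ψid_tmul, ΨP_germ, μ_germ]
    unfold Θ
    rw [AddMonoidHom.comp_apply, ρ_germ]
    have h := ConcreteCategory.congr_hom ((Scheme.pointSmallEtale η).toPresheafFiber_naturality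
      (Φ f F G) V v)
      ((s' ⊗ₜ[ℤ] t : TensorProduct ℤ (EtShriek.shriekSubgroup f F V) (EtCoh.sect G V)))
    have h2 : ((Scheme.pointSmallEtale η).presheafFiber.map (Φ f F G))
        (germT η (EtShriek.lowerShriekPre f F) G.obj v s' t) =
        (Scheme.pointSmallEtale η).toPresheafFiber V v (EtShriek.lowerShriekPre f (H f F G))
          ((Φ f F G).app (op V) (s' ⊗ₜ[ℤ] t)) :=
      (ConcreteCategory.comp_apply _ _ _).symm.trans
        (h.trans (ConcreteCategory.comp_apply _ _ _))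
    refine (congrArg (fun q => ΨP f (H f F G) η ξ hξ q) h2).trans ?_
    exact ΨP_germ f (H f F G) η ξ hξ V v ((Φ f F G).app (op V) (s' ⊗ₜ[ℤ] t))
  | add x y hx hy =>
    rw [map_add, map_add, map_add, map_add, hx, hy]

end Theta


section Bij

open Groth.Agent.Lib.Helper70.FinPushStalk Groth.Agent.Lib.Helper70.TensStalk
  Groth.Agent.Lib.Helper70.ShriekStalk

variable {X Y : Scheme.{u}} (f : X ⟶ Y) [IsSeparated f] [LocallyOfFiniteType f]
  [LocallyQuasiFinite f] (F : EtCoh.Ab X) (G : EtCoh.Ab Y)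
  {Ω : Type u} [Field Ω] [IsAlgClosed Ω] (η : Spec (CommRingCat.of Ω) ⟶ Y)

/-- the partial sums of the decomposition of a tensor along the geometric fibre -/
noncomputable def D (S : Finset (J f η)) (z : TensorProduct ℤ
      (ToType ((Scheme.pointSmallEtale η).presheafFiber.obj (EtShriek.lowerShriekPre f F)))
      (ToType ((Scheme.pointSmallEtale η).presheafFiber.obj G.obj))) :
    TensorProduct ℤ
      (ToType ((Scheme.pointSmallEtale η).presheafFiber.obj (EtShriek.lowerShriekPre f F)))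
      (ToType ((Scheme.pointSmallEtale η).presheafFiber.obj G.obj)) :=
  ∑ ξ ∈ S, ιid f F G η ξ (ψid f F G η ξ.1 ξ.2 z)

theorem exists_D_eq (z : TensorProduct ℤ
      (ToType ((Scheme.pointSmallEtale η).presheafFiber.obj (EtShriek.lowerShriekPre f F)))
      (ToType ((Scheme.pointSmallEtale η).presheafFiber.obj G.obj))) :
    ∃ S : Finset (J f η), ∀ S' : Finset (J f η), S ⊆ S' → D f F G η S' z = z := by
  classical
  induction z using TensorProduct.induction_on with
  | zero =>
    refine ⟨∅, fun S' _ => ?_⟩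
    unfold D
    refine Finset.sum_eq_zero (fun ξ _ => ?_)
    rw [map_zero, map_zero]
  | tmul m n =>
    refine ⟨(finite_support f F η m).toFinset, fun S' hS' => ?_⟩
    unfold D
    have h1 : ∀ ξ ∈ S', ιid f F G η ξ (ψid f F G η ξ.1 ξ.2 (m ⊗ₜ[ℤ] n)) =
        (ιJ f F η ξ (ΨP f F η ξ.1 ξ.2 m)) ⊗ₜ[ℤ] n := fun ξ _ => rfl
    rw [Finset.sum_congr rfl h1, ← TensorProduct.sum_tmul]
    congr 1
    have h2 := eq_finsum_inj f F η m
    rw [finsum_eq_sum_of_support_subset] at h2
    · exact h2.symm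
    · intro ξ hξ
      apply hS'
      rw [Set.Finite.mem_toFinset]
      exact support_subset f F η _ (ιJ f F η) m hξ
  | add x y hx hy =>
    obtain ⟨Sx, hSx⟩ := hx
    obtain ⟨Sy, hSy⟩ := hy
    refine ⟨Sx ∪ Sy, fun S' hS' => ?_⟩
    have hx' := hSx S' (Finset.union_subset_left hS')
    have hy' := hSy S' (Finset.union_subset_right hS')
    unfold D at hx' hy' ⊢
    simp only [map_add, Finset.sum_add_distrib]
    rw [hx', hy']

theorem Θ_injective : Function.Injective (Θ f F G η) := by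
  rw [injective_iff_map_eq_zero]
  intro z hz
  have h1 : ∀ ξ : J f η, ψid f F G η ξ.1 ξ.2 z = 0 := by
    intro ξ
    apply (μ_bijective f F G η ξ.1 ξ.2).1
    rw [← ΨP_Θ, hz, map_zero, map_zero]
  obtain ⟨S, hS⟩ := exists_D_eq f F G η z
  rw [← hS S (Finset.Subset.refl S)]
  unfold D
  refine Finset.sum_eq_zero (fun ξ _ => ?_)
  rw [h1 ξ, map_zero]

theorem ψid_ιid_self (ξ : J f η) (y : TensorProduct ℤ
      (ToType ((Scheme.pointSmallEtale ξ.1).presheafFiber.obj F.obj))
      (ToType ((Scheme.pointSmallEtale η).presheafFiber.obj G.obj))) :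
    ψid f F G η ξ.1 ξ.2 (ιid f F G η ξ y) = y := by
  induction y using TensorProduct.induction_on with
  | zero => rw [map_zero, map_zero]
  | tmul b n =>
    rw [ιid_tmul, ψid_tmul, ιJ_apply, ΨP_inj_self]
  | add x y hx hy => rw [map_add, map_add, hx, hy]

theorem ψid_ιid_ne (ξ ξ' : J f η) (hne : ξ' ≠ ξ) (y : TensorProduct ℤ
      (ToType ((Scheme.pointSmallEtale ξ.1).presheafFiber.obj F.obj))
      (ToType ((Scheme.pointSmallEtale η).presheafFiber.obj G.obj))) :
    ψid f F G η ξ'.1 ξ'.2 (ιid f F G η ξ y) = 0 := by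
  induction y using TensorProduct.induction_on with
  | zero => rw [map_zero, map_zero]
  | tmul b n =>
    rw [ιid_tmul, ψid_tmul, ιJ_apply, ΨP_inj_ne f F η ξ ξ' hne, TensorProduct.zero_tmul]
  | add x y hx hy => rw [map_add, map_add, hx, hy, add_zero]

theorem ιJ_μ (ξ : J f η) (y : TensorProduct ℤ
      (ToType ((Scheme.pointSmallEtale ξ.1).presheafFiber.obj F.obj))
      (ToType ((Scheme.pointSmallEtale η).presheafFiber.obj G.obj))) :
    ιJ f (H f F G) η ξ (μ f F G η ξ.1 ξ.2 y) = Θ f F G η (ιid f F G η ξ y) := by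
  apply ext_ΨP f (H f F G) η
  intro ξ' hξ'
  rw [ΨP_Θ, ιJ_apply]
  by_cases hne : (⟨ξ', hξ'⟩ : J f η) = ξ
  · subst hne
    rw [ΨP_inj_self f (H f F G) η ⟨ξ', hξ'⟩, ψid_ιid_self f F G η ⟨ξ', hξ'⟩]
  · rw [ΨP_inj_ne f (H f F G) η ξ ⟨ξ', hξ'⟩ hne, ψid_ιid_ne f F G η ξ ⟨ξ', hξ'⟩ hne, map_zero]

theorem Θ_surjective : Function.Surjective (Θ f F G η) := by
  classical
  intro r
  have h2 := eq_finsum_inj f (H f F G) η r
  obtain ⟨S, hS⟩ : ∃ S : Finset (J f η), (Function.support fun ξ : J f η =>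
      ιJ f (H f F G) η ξ (ΨP f (H f F G) η ξ.1 ξ.2 r)) ⊆ ↑S :=
    ⟨(finite_support f (H f F G) η r).toFinset, by
      intro ξ hξ
      rw [Set.Finite.coe_toFinset]
      exact support_subset f (H f F G) η _ (ιJ f (H f F G) η) r hξ⟩
  rw [finsum_eq_sum_of_support_subset _ hS] at h2
  choose y hy using fun ξ : J f η => (μ_bijective f F G η ξ.1 ξ.2).2
    (ΨP f (H f F G) η ξ.1 ξ.2 r)
  refine ⟨∑ ξ ∈ S, ιid f F G η ξ (y ξ), ?_⟩
  rw [map_sum, h2]
  refine Finset.sum_congr rfl (fun ξ _ => ?_)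
  rw [← ιJ_μ, hy]

theorem Θ_bijective : Function.Bijective (Θ f F G η) :=
  ⟨Θ_injective f F G η, Θ_surjective f F G η⟩

/-- the pairing is bijective on stalks -/
theorem presheafFiber_map_Φ_bijective :
    Function.Bijective ((Scheme.pointSmallEtale η).presheafFiber.map (Φ f F G)) := by
  have hρ := ρ_bijective η (EtShriek.lowerShriekPre f F) G.obj
  have hΘ := Θ_bijective f F G η
  constructor
  · intro x x' hxx'
    obtain ⟨y, rfl⟩ := hρ.2 x
    obtain ⟨y', rfl⟩ := hρ.2 x'
    have : Θ f F G η y = Θ f F G η y' := hxx'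
    rw [hΘ.1 this]
  · intro r
    obtain ⟨y, rfl⟩ := hΘ.2 r
    exact ⟨ρ η (EtShriek.lowerShriekPre f F) G.obj y, rfl⟩

end Bij


section Final

open Groth.Agent.Lib.Helper70.StalkConsAlg

variable {X Y : Scheme.{u}} (f : X ⟶ Y) [IsSeparated f] [LocallyOfFiniteType f]
  [LocallyQuasiFinite f] (F : EtCoh.Ab X) (G : EtCoh.Ab Y)

/-- the pairing as a morphism of sheaves -/
noncomputable def Φsh : (presheafToSheaf Y.smallEtaleTopology AddCommGrpCat.{u + 1}).obj
    (EtTens.tensorObj (EtShriek.lowerShriekPre f F) G.obj) ⟶ (Sh f).obj (H f F G) :=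
  ((sheafificationAdjunction Y.smallEtaleTopology AddCommGrpCat.{u + 1}).homEquiv
    (EtTens.tensorObj (EtShriek.lowerShriekPre f F) G.obj) ((Sh f).obj (H f F G))).symm (Φ f F G)

theorem toSheafify_Φsh : toSheafify Y.smallEtaleTopology
    (EtTens.tensorObj (EtShriek.lowerShriekPre f F) G.obj) ≫ (Φsh f F G).hom = Φ f F G := by
  have h := ((sheafificationAdjunction Y.smallEtaleTopology AddCommGrpCat.{u + 1}).homEquiv
    (EtTens.tensorObj (EtShriek.lowerShriekPre f F) G.obj) ((Sh f).obj (H f F G))).apply_symm_apply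
    (Φ f F G)
  rw [Adjunction.homEquiv_unit] at h
  exact h

set_option backward.isDefEq.respectTransparency.types false in
instance isIso_Φsh : IsIso (Φsh f F G) := by
  apply isIso_of_stalk_bijective
  intro Ω _ _ η
  have h1 : (Scheme.pointSmallEtale η).presheafFiber.map (toSheafify Y.smallEtaleTopology
      (EtTens.tensorObj (EtShriek.lowerShriekPre f F) G.obj)) ≫
      (Scheme.pointSmallEtale η).presheafFiber.map (Φsh f F G).hom =
      (Scheme.pointSmallEtale η).presheafFiber.map (Φ f F G) :=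
    ((Scheme.pointSmallEtale η).presheafFiber.map_comp _ _).symm.trans
      (congrArg (fun q => (Scheme.pointSmallEtale η).presheafFiber.map q) (toSheafify_Φsh f F G))
  have hiso : IsIso ((Scheme.pointSmallEtale η).presheafFiber.map (toSheafify Y.smallEtaleTopology
      (EtTens.tensorObj (EtShriek.lowerShriekPre f F) G.obj))) := inferInstance
  have hb1 := (ConcreteCategory.isIso_iff_bijective _).mp hiso
  have hb2 := presheafFiber_map_Φ_bijective f F G η
  rw [← h1] at hb2
  have hb3 : Function.Bijective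
      (((Scheme.pointSmallEtale η).presheafFiber.map (Φsh f F G).hom) ∘
        ((Scheme.pointSmallEtale η).presheafFiber.map (toSheafify Y.smallEtaleTopology
          (EtTens.tensorObj (EtShriek.lowerShriekPre f F) G.obj)))) := hb2
  exact (Function.Bijective.of_comp_iff _ hb1).mp hb3

/-- the projection formula for `f_!`, `f` separated and locally quasi-finite -/
theorem nonempty_iso :
    Nonempty ((EtTens.tensorBi.obj ((EtShriek.lowerShriek f).obj F)).obj G ≅
      (EtShriek.lowerShriek f).obj ((EtTens.tensorBi.obj F).obj ((EtCoh.pull f).obj G))) := by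
  let A1 : (EtTens.tensorBi.obj ((EtShriek.lowerShriek f).obj F)).obj G ≅
      (EtTens.tensorBi.obj ((Sh f).obj F)).obj G :=
    (EtTens.tensorBi.mapIso ((shIso f).app F)).app G
  let A3 : (EtTens.tensorBi.obj ((Sh f).obj F)).obj G ≅ (Sh f).obj (H f F G) :=
    @asIso _ _ _ _ (Φsh f F G) (isIso_Φsh f F G)
  let A4 : (Sh f).obj (H f F G) ≅ (EtShriek.lowerShriek f).obj (H f F G) :=
    ((shIso f).app (H f F G)).symm
  exact ⟨A1 ≪≫ A3 ≪≫ A4⟩

end Final

end Groth.Agent.Lib.Helper70.ShriekProj
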