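import Mathlib
import Groth.Prelude.Def_EtBase
import Groth.Prelude.Def_EtShriek2
import Groth.Agent.Lib.Helper70.ShriekAdj
import Groth.Agent.Lib.Helper70.Supp2
import Groth.Agent.Lib.Helper70.ShriekStalk
import Groth.Agent.Lib.Helper70.ShriekOpenProper

set_option autoImplicit false
open CategoryTheory CategoryTheory.Limits AlgebraicGeometry Opposite

universe u w v

namespace Groth.Agent.Lib.Helper70.ShriekSum

open Groth.Agent.Lib.Helper70.StalkConsAlg

section L

variable {ι : Type v} {B : ι → AddCommGrpCat.{w}}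

/-- every element of a coproduct of abelian groups is the finite sum of its components -/
theorem exists_finset_sum_eq (c : Cofan B) (hc : IsColimit c)
    (p : ∀ i, c.pt ⟶ B i) (h1 : ∀ i, c.inj i ≫ p i = 𝟙 _)
    (h2 : ∀ i k, i ≠ k → c.inj i ≫ p k = 0) (y : c.pt) :
    ∃ I : Finset ι, (∑ i ∈ I, c.inj i (p i y)) = y := by
  classical
  let H : AddSubgroup c.pt :=
    { carrier := {y | ∃ I : Finset ι, ∀ I' : Finset ι, I ⊆ I' → (∑ i ∈ I', c.inj i (p i y)) = y}
      zero_mem' := ⟨∅, fun I' _ => by simp⟩
      add_mem' := by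
        rintro a b ⟨Ia, ha⟩ ⟨Ib, hb⟩
        refine ⟨Ia ∪ Ib, fun I' hI' => ?_⟩
        have ha' := ha I' (Finset.union_subset_left hI')
        have hb' := hb I' (Finset.union_subset_right hI')
        simp only [map_add, Finset.sum_add_distrib]
        rw [ha', hb']
      neg_mem' := by
        rintro a ⟨Ia, ha⟩
        refine ⟨Ia, fun I' hI' => ?_⟩
        simp only [map_neg, Finset.sum_neg_distrib]
        rw [ha I' hI'] }
  have hH : ∀ i (b : B i), c.inj i b ∈ H := by
    intro i b
    refine ⟨{i}, fun I' hI' => ?_⟩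
    have hi : i ∈ I' := hI' (Finset.mem_singleton_self i)
    rw [Finset.sum_eq_single_of_mem i hi]
    · have := ConcreteCategory.congr_hom (h1 i) b
      rw [ConcreteCategory.comp_apply] at this
      rw [this]
      rfl
    · intro k _ hk
      have := ConcreteCategory.congr_hom (h2 i k (Ne.symm hk)) b
      rw [ConcreteCategory.comp_apply] at this
      rw [this]
      simp
  let q : c.pt ⟶ AddCommGrpCat.of (c.pt ⧸ H) := AddCommGrpCat.ofHom (QuotientAddGroup.mk' H)
  have hq : q = 0 := by
    apply hc.hom_ext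
    rintro ⟨i⟩
    rw [comp_zero]
    refine ConcreteCategory.hom_ext _ _ (fun b => ?_)
    rw [ConcreteCategory.comp_apply]
    exact (QuotientAddGroup.eq_zero_iff _).mpr (hH i b)
  have hy : y ∈ H := by
    have := ConcreteCategory.congr_hom hq y
    exact (QuotientAddGroup.eq_zero_iff _).mp this
  obtain ⟨I, hI⟩ := hy
  exact ⟨I, hI I (Finset.Subset.refl I)⟩

end L

section Sheaf

variable {X : Scheme.{u}} {ι : Type (u + 1)} [DecidableEq ι] (A : ι → EtCoh.Ab X)

/-- the partial sum of the components of a section of a direct sum of sheaves -/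
noncomputable def E (I : Finset ι) (W : X.Etale) (s : EtCoh.sect (∐ A) W) : EtCoh.sect (∐ A) W :=
  ∑ i ∈ I, (Sigma.ι A i).hom.app (op W) ((Sigma.π A i).hom.app (op W) s)

theorem E_map (I : Finset ι) {W W' : X.Etale} (g : W' ⟶ W) (s : EtCoh.sect (∐ A) W) :
    (∐ A).obj.map g.op (E A I W s) = E A I W' ((∐ A).obj.map g.op s) := by
  unfold E
  rw [map_sum]
  refine Finset.sum_congr rfl (fun i _ => ?_)
  have n1 := ConcreteCategory.congr_hom ((Sigma.ι A i).hom.naturality g.op)
    ((Sigma.π A i).hom.app (op W) s)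
  have n2 := ConcreteCategory.congr_hom ((Sigma.π A i).hom.naturality g.op) s
  rw [ConcreteCategory.comp_apply, ConcreteCategory.comp_apply] at n1 n2
  rw [← n1, ← n2]

theorem π_ι_apply (i k : ι) (hik : i ≠ k) (W : X.Etale) (a : EtCoh.sect (A i) W) :
    (Sigma.π A k).hom.app (op W) ((Sigma.ι A i).hom.app (op W) a) = 0 := by
  have h := Sigma.ι_π_of_ne A hik
  have h2 := congrArg (fun q => q.hom.app (op W)) h
  have h3 := ConcreteCategory.congr_hom h2 a
  exact h3

theorem π_ι_apply_self (i : ι) (W : X.Etale) (a : EtCoh.sect (A i) W) :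
    (Sigma.π A i).hom.app (op W) ((Sigma.ι A i).hom.app (op W) a) = a := by
  have h := Sigma.ι_π_eq_id A i
  have h2 := congrArg (fun q => q.hom.app (op W)) h
  have h3 := ConcreteCategory.congr_hom h2 a
  exact h3

/-- components outside `I` of a partial sum vanish -/
theorem π_E (I : Finset ι) (W : X.Etale) (s : EtCoh.sect (∐ A) W) (k : ι) (hk : k ∉ I) :
    (Sigma.π A k).hom.app (op W) (E A I W s) = 0 := by
  unfold E
  rw [map_sum]
  refine Finset.sum_eq_zero (fun i hi => ?_)
  exact π_ι_apply A i k (fun h => hk (h ▸ hi)) W _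

/-- enlarging the index set of a partial sum which is already everything -/
theorem E_of_subset {I I' : Finset ι} (hI : I ⊆ I') (W : X.Etale) (s : EtCoh.sect (∐ A) W)
    (hs : E A I W s = s) : E A I' W s = s := by
  have h0 : ∀ k ∈ I', k ∉ I →
      (Sigma.ι A k).hom.app (op W) ((Sigma.π A k).hom.app (op W) s) = 0 := by
    intro k _ hk
    have : (Sigma.π A k).hom.app (op W) s = 0 := by
      rw [← hs]; exact π_E A I W s k hk
    rw [this, map_zero]
  refine Eq.trans ?_ hs
  unfold E
  exact (Finset.sum_subset hI h0).symm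

end Sheaf


section Local

variable {X : Scheme.{u}} {ι : Type (u + 1)} [DecidableEq ι] (A : ι → EtCoh.Ab X)

open Groth.Agent.Lib.Helper70.ShriekAdj in
set_option backward.isDefEq.respectTransparency.types false in
/-- near every point, a section of a direct sum of sheaves is a finite sum of its components -/
theorem exists_nbhd_E (W : X.Etale) (s : EtCoh.sect (∐ A) W) (x : W.left) :
    ∃ (I : Finset ι) (W' : X.Etale) (g : W' ⟶ W) (w' : W'.left), g.left.base w' = x ∧
      E A I W' ((∐ A).obj.map g.op s) = (∐ A).obj.map g.op s := by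
  let ξ := geomPt W x ≫ W.hom
  let Φ := Scheme.pointSmallEtale ξ
  let x₀ : Φ.fiber.obj W := geomPtFiber W x
  let y := Φ.toPresheafFiber W x₀ (∐ A).obj s
  have hc : IsColimit (Cofan.mk ((EtCoh.stalk ξ).obj (∐ A))
      (fun i => (EtCoh.stalk ξ).map (Sigma.ι A i))) :=
    isColimitOfHasCoproductOfPreservesColimit (EtCoh.stalk ξ) A
  haveI : (EtCoh.stalk ξ).PreservesZeroMorphisms :=
    Functor.preservesZeroMorphisms_of_isLeftAdjoint _
  obtain ⟨I, hI⟩ := exists_finset_sum_eq _ hc (fun i => (EtCoh.stalk ξ).map (Sigma.π A i))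
    (fun i => by
      show (EtCoh.stalk ξ).map (Sigma.ι A i) ≫ (EtCoh.stalk ξ).map (Sigma.π A i) = 𝟙 _
      rw [← Functor.map_comp, Sigma.ι_π_eq_id, CategoryTheory.Functor.map_id])
    (fun i k hik => by
      show (EtCoh.stalk ξ).map (Sigma.ι A i) ≫ (EtCoh.stalk ξ).map (Sigma.π A k) = 0
      rw [← Functor.map_comp, Sigma.ι_π_of_ne A hik, Functor.map_zero]) y
  have hgerm : Φ.toPresheafFiber W x₀ (∐ A).obj (E A I W s) =
      Φ.toPresheafFiber W x₀ (∐ A).obj s := by
    refine Eq.trans ?_ hI
    unfold E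
    rw [map_sum]
    refine Finset.sum_congr rfl (fun i _ => ?_)
    have n1 := ConcreteCategory.congr_hom (Φ.toPresheafFiber_naturality (Sigma.ι A i).hom W x₀)
      ((Sigma.π A i).hom.app (op W) s)
    have n2 := ConcreteCategory.congr_hom (Φ.toPresheafFiber_naturality (Sigma.π A i).hom W x₀) s
    rw [ConcreteCategory.comp_apply, ConcreteCategory.comp_apply] at n1 n2
    rw [← n1, ← n2]
    rfl
  rw [GrothendieckTopology.Point.toPresheafFiber_eq_iff'] at hgerm
  obtain ⟨Y, f, y', hy, hz⟩ := hgerm
  let yl : Spec (CommRingCat.of (AlgebraicClosure (W.left.residueField x))) ⟶ Y.left := y'.left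
  refine ⟨I, Y, f, yl.base default, ?_, ?_⟩
  · have h3 : yl ≫ f.left = geomPt W x := congrArg (fun k => k.left) hy
    rw [← Scheme.Hom.comp_apply, h3, geomPt_apply]
  · rw [← E_map]
    exact hz

end Local


section Global

variable {X : Scheme.{u}} {ι : Type (u + 1)} [DecidableEq ι] (A : ι → EtCoh.Ab X)

theorem E_zero (I : Finset ι) (W : X.Etale) : E A I W 0 = 0 := by
  unfold E
  refine Finset.sum_eq_zero (fun i _ => ?_)
  rw [map_zero, map_zero]

set_option backward.isDefEq.respectTransparency.types false in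
/-- a section of a direct sum of sheaves with quasi-compact support is a finite sum of its
components -/
theorem exists_E_eq (W : X.Etale) (s : EtCoh.sect (∐ A) W) (Z : Set W.left) (hZ : IsCompact Z)
    (hs : EtShriek.sectSupp (∐ A) W s ⊆ Z) : ∃ I : Finset ι, E A I W s = s := by
  choose Ix Wx gx wx hx1 hx2 using exists_nbhd_E A W s
  have hopen : ∀ x, IsOpen (Set.range (gx x).left.base) := by
    intro x
    haveI : Etale (gx x).left := by
      haveI : Etale W.hom := W.prop
      haveI : Etale ((gx x).left ≫ W.hom) := by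
        rw [MorphismProperty.Over.w (gx x)]; exact (Wx x).prop
      exact MorphismProperty.of_postcomp (W := @Etale) (W' := @Etale) (gx x).left W.hom
        inferInstance inferInstance
    exact (gx x).left.isOpenMap.isOpen_range
  obtain ⟨T, hT⟩ := hZ.elim_finite_subcover (fun x => Set.range (gx x).left.base) hopen
    (fun x _ => Set.mem_iUnion.mpr ⟨x, ⟨wx x, hx1 x⟩⟩)
  refine ⟨T.biUnion Ix, ?_⟩
  have key : EtShriek.sectSupp (∐ A) W (s - E A (T.biUnion Ix) W s) = ∅ := by
    rw [Set.eq_empty_iff_forall_notMem]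
    intro x
    by_cases hxZ : x ∈ Z
    · have h1 := hT hxZ
      simp only [Set.mem_iUnion, Set.mem_range, exists_prop] at h1
      obtain ⟨m, hmT, w, hw⟩ := h1
      rw [← hw]
      apply Groth.Agent.Lib.Helper70.ShriekStalk.notMem_sectSupp_of_map_eq_zero
      rw [map_sub, E_map, sub_eq_zero]
      exact (E_of_subset A (Finset.subset_biUnion_of_mem Ix hmT) _ _ (hx2 m)).symm
    · have hxs : x ∉ EtShriek.sectSupp (∐ A) W s := fun h => hxZ (hs h)
      have h2 : ∃ (W' : X.Etale) (g : W' ⟶ W), (∃ w : W'.left, g.left.base w = x) ∧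
          (∐ A).obj.map g.op s = 0 := by
        by_contra hcon
        apply hxs
        intro W' g hw h0
        exact hcon ⟨W', g, hw, h0⟩
      obtain ⟨W', g, ⟨w, hw⟩, h0⟩ := h2
      rw [← hw]
      apply Groth.Agent.Lib.Helper70.ShriekStalk.notMem_sectSupp_of_map_eq_zero
      rw [map_sub, E_map, h0, E_zero, sub_zero]
  have h0 := Groth.Agent.Lib.Helper70.Supp.eq_zero_of_sectSupp_eq_empty (∐ A) W _ key
  exact (sub_eq_zero.mp h0).symm

end Global


section Aux

variable {Y : Scheme.{u}}

set_option backward.isDefEq.respectTransparency.types false in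
/-- étale neighbourhoods of a geometric point can be refined to affine ones -/
theorem exists_affine_refinement {Ω : Type u} [Field Ω] [IsSepClosed Ω]
    (η : Spec (CommRingCat.of Ω) ⟶ Y) (V : Y.Etale)
    (v : (Scheme.pointSmallEtale η).fiber.obj V) :
    ∃ (V' : Y.Etale) (k : V' ⟶ V) (v' : (Scheme.pointSmallEtale η).fiber.obj V'),
      IsAffine V'.left ∧ (Scheme.pointSmallEtale η).fiber.map k v' = v := by
  let vl : Spec (CommRingCat.of Ω) ⟶ V.left := v.left
  have hvl : vl ≫ V.hom = η := Over.w v
  let p : V.left := vl.base default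
  obtain ⟨U, hU, hpU⟩ : ∃ U : V.left.Opens, IsAffineOpen U ∧ p ∈ U := by
    obtain ⟨_, ⟨U, hU, rfl⟩, hpU, -⟩ :=
      V.left.isBasis_affineOpens.exists_subset_of_mem_open (Set.mem_univ p) isOpen_univ
    exact ⟨U, hU, hpU⟩
  haveI : Etale V.hom := V.prop
  let V' : Y.Etale := MorphismProperty.Over.mk ⊤ (U.ι ≫ V.hom)
    (inferInstanceAs (Etale (U.ι ≫ V.hom)))
  let k : V' ⟶ V := MorphismProperty.Over.homMk U.ι rfl
  have hrange : Set.range vl.base ⊆ Set.range U.ι.base := by
    rintro _ ⟨t, rfl⟩
    rw [Scheme.Opens.range_ι]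
    have : t = default := Subsingleton.elim _ _
    rw [this]
    exact hpU
  let l : Spec (CommRingCat.of Ω) ⟶ U.toScheme := IsOpenImmersion.lift U.ι vl hrange
  have hl : l ≫ U.ι = vl := IsOpenImmersion.lift_fac _ _ _
  have hlV : l ≫ V'.hom = η := by
    show l ≫ U.ι ≫ V.hom = η
    rw [← Category.assoc, hl, hvl]
  refine ⟨V', k, Over.homMk l hlV, ?_, ?_⟩
  · show IsAffine U.toScheme
    exact hU
  · apply Over.OverMorphism.ext
    exact hl

end Aux

section Proper

variable {A T : Scheme.{u}}

/-- a closed subset proper over a quasi-compact base is quasi-compact -/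
theorem isCompact_of_isProperOver (g : A ⟶ T) [CompactSpace T] (Z : Set A)
    (h : ClSub.IsProperOver g Z) : IsCompact Z := by
  obtain ⟨hcl, hp⟩ := h
  obtain ⟨i, hi⟩ : ∃ i : (Scheme.IdealSheafData.vanishingIdeal ⟨Z, hcl⟩).subscheme ⟶ A,
      i = (Scheme.IdealSheafData.vanishingIdeal ⟨Z, hcl⟩).subschemeι := ⟨_, rfl⟩
  have hrange : Set.range i = Z := by
    rw [hi]; exact Groth.Agent.Lib.Helper4.range_vanishingIdeal_subschemeι Z hcl
  haveI : IsProper (i ≫ g) := by rw [hi]; exact hp
  haveI : CompactSpace ((Scheme.IdealSheafData.vanishingIdeal ⟨Z, hcl⟩).subscheme) :=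
    QuasiCompact.compactSpace_of_compactSpace (i ≫ g)
  rw [← hrange]
  exact isCompact_range i.continuous

end Proper


section Main

open Groth.Agent.Lib.Helper70.ShriekOpenProper Groth.Agent.Lib.Helper70.ShriekAdj

variable {X Y : Scheme.{u}} (f : X ⟶ Y) [IsSeparated f] [LocallyOfFiniteType f]
  {ι : Type (u + 1)} [DecidableEq ι] (A : ι → EtCoh.Ab X)

instance additive_Sh : (Sh f).Additive :=
  Functor.additive_of_iso (shIso f)

/-- the components of the comparison map -/
theorem sigmaComparison_π (i : ι) :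
    sigmaComparison (Sh f) A ≫ (Sh f).map (Sigma.π A i) =
      Sigma.π (fun i => (Sh f).obj (A i)) i := by
  apply Sigma.hom_ext
  intro k
  rw [ι_comp_sigmaComparison_assoc, ← Functor.map_comp]
  by_cases hki : k = i
  · subst hki
    rw [Sigma.ι_π_eq_id, Sigma.ι_π_eq_id, CategoryTheory.Functor.map_id]
  · rw [Sigma.ι_π_of_ne A hki, Sigma.ι_π_of_ne _ hki, Functor.map_zero]

set_option backward.isDefEq.respectTransparency.types false in
/-- `f_!` commutes with direct sums -/
theorem isIso_sigmaComparison : IsIso (sigmaComparison (Sh f) A) := by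
  apply isIso_of_stalk_bijective
  intro Ω _ _ η
  let B : ι → EtCoh.Ab Y := fun i => (Sh f).obj (A i)
  let Φ := Scheme.pointSmallEtale η
  constructor
  · rw [injective_iff_map_eq_zero]
    intro y hy
    have hc : IsColimit (Cofan.mk ((EtCoh.stalk η).obj (∐ B))
        (fun i => (EtCoh.stalk η).map (Sigma.ι B i))) :=
      isColimitOfHasCoproductOfPreservesColimit (EtCoh.stalk η) B
    haveI : (EtCoh.stalk η).PreservesZeroMorphisms :=
      Functor.preservesZeroMorphisms_of_isLeftAdjoint _
    obtain ⟨I, hI⟩ := exists_finset_sum_eq _ hc (fun i => (EtCoh.stalk η).map (Sigma.π B i))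
      (fun i => by
        show (EtCoh.stalk η).map (Sigma.ι B i) ≫ (EtCoh.stalk η).map (Sigma.π B i) = 𝟙 _
        rw [← Functor.map_comp, Sigma.ι_π_eq_id, CategoryTheory.Functor.map_id])
      (fun i k hik => by
        show (EtCoh.stalk η).map (Sigma.ι B i) ≫ (EtCoh.stalk η).map (Sigma.π B k) = 0
        rw [← Functor.map_comp, Sigma.ι_π_of_ne B hik, Functor.map_zero]) y
    rw [← hI]
    refine Finset.sum_eq_zero (fun i _ => ?_)
    have h1 : (EtCoh.stalk η).map (Sigma.π B i) y = 0 := by
      have h2 := congrArg (fun q => (EtCoh.stalk η).map q) (sigmaComparison_π f A i)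
      simp only [Functor.map_comp] at h2
      have h3 := ConcreteCategory.congr_hom h2 y
      rw [ConcreteCategory.comp_apply] at h3
      rw [← h3, hy, map_zero]
    show ((EtCoh.stalk η).map (Sigma.ι B i)) (((EtCoh.stalk η).map (Sigma.π B i)) y) = 0
    rw [h1, map_zero]
  · intro z
    obtain ⟨V₀, v₀, t₀, rfl⟩ := Φ.toPresheafFiber_jointly_surjective z
    obtain ⟨V, k, v, hV, hk⟩ := exists_affine_refinement η V₀ v₀
    let t : EtShriek.shriekSubgroup f (∐ A) V := (EtShriek.lowerShriekPre f (∐ A)).map k.op t₀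
    have hgerm : Φ.toPresheafFiber V v (EtShriek.lowerShriekPre f (∐ A)) t =
        Φ.toPresheafFiber V₀ v₀ (EtShriek.lowerShriekPre f (∐ A)) t₀ := by
      have k1 := ConcreteCategory.congr_hom
        (Φ.toPresheafFiber_w k v (EtShriek.lowerShriekPre f (∐ A))) t₀
      rw [ConcreteCategory.comp_apply] at k1
      rw [hk] at k1
      exact k1
    have hprop := (mem_shriekSubgroup_iff f (∐ A) V t.1).mp t.2
    haveI : CompactSpace V.left := inferInstance
    have hcompact := isCompact_of_isProperOver _ _ hprop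
    obtain ⟨I, hI⟩ := exists_E_eq A _ t.1 _ hcompact (subset_refl _)
    let y' : ToType ((∐ B).obj.obj (op V)) := ∑ i ∈ I, (Sigma.ι B i).hom.app (op V)
      (((Sh f).map (Sigma.π A i)).hom.app (op V) t)
    have hy' : (sigmaComparison (Sh f) A).hom.app (op V) y' = t := by
      show (sigmaComparison (Sh f) A).hom.app (op V) (∑ i ∈ I, (Sigma.ι B i).hom.app (op V)
        (((Sh f).map (Sigma.π A i)).hom.app (op V) t)) = t
      rw [map_sum]
      have h1 : ∀ i ∈ I, (sigmaComparison (Sh f) A).hom.app (op V) ((Sigma.ι B i).hom.app (op V)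
          (((Sh f).map (Sigma.π A i)).hom.app (op V) t)) =
          ((Sh f).map (Sigma.ι A i)).hom.app (op V)
            (((Sh f).map (Sigma.π A i)).hom.app (op V) t) := by
        intro i _
        have h2 := congrArg (fun q => q.hom.app (op V)) (ι_comp_sigmaComparison (Sh f) A i)
        have h3 := ConcreteCategory.congr_hom h2 (((Sh f).map (Sigma.π A i)).hom.app (op V) t)
        exact h3
      rw [Finset.sum_congr rfl h1]
      apply Subtype.ext
      refine Eq.trans ?_ hI
      exact AddSubgroup.val_finsetSum (EtShriek.shriekSubgroup f (∐ A) V)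
        (fun i => ((Sh f).map (Sigma.ι A i)).hom.app (op V)
          (((Sh f).map (Sigma.π A i)).hom.app (op V) t)) I
    refine ⟨Φ.toPresheafFiber V v (∐ B).obj y', ?_⟩
    have n1 := ConcreteCategory.congr_hom
      (Φ.toPresheafFiber_naturality (sigmaComparison (Sh f) A).hom V v) y'
    rw [ConcreteCategory.comp_apply, ConcreteCategory.comp_apply] at n1
    refine n1.trans ?_
    rw [hy']
    exact hgerm

end Main


section Final

open Groth.Agent.Lib.Helper70.ShriekOpenProper

variable {X Y : Scheme.{u}} (f : X ⟶ Y) [IsSeparated f] [LocallyOfFiniteType f]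

theorem preservesCoproducts_Sh (ι : Type (u + 1)) :
    PreservesColimitsOfShape (Discrete ι) (Sh f) := by
  classical
  haveI : ∀ A : ι → EtCoh.Ab X, PreservesColimit (Discrete.functor A) (Sh f) := fun A => by
    haveI := isIso_sigmaComparison f A
    exact PreservesCoproduct.of_iso_comparison (Sh f) A
  exact preservesColimitsOfShape_of_discrete _

theorem preservesCoproducts (ι₀ : Type u) :
    PreservesColimitsOfShape (Discrete ι₀) (EtShriek.lowerShriek f) := by
  haveI := preservesCoproducts_Sh f (ULift.{u + 1} ι₀)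
  haveI : PreservesColimitsOfShape (Discrete (ULift.{u + 1} ι₀)) (EtShriek.lowerShriek f) :=
    preservesColimitsOfShape_of_natIso (shIso f).symm
  exact preservesColimitsOfShape_of_equiv (Discrete.equivalence Equiv.ulift) _

end Final

end Groth.Agent.Lib.Helper70.ShriekSum
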