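import Mathlib

open Polynomial

namespace Groth.Agent.Lib.Helper70.SmoothQF

universe u

set_option linter.style.haveILetI false

lemma not_quasiFiniteAt_of_flat_polynomial {R S : Type*} [CommRing R] [CommRing S] [Algebra R S]
    [Algebra R[X] S] [IsScalarTower R R[X] S] [Module.Flat R[X] S]
    (P : Ideal S) [P.IsPrime] : ¬ Algebra.QuasiFiniteAt R P := by
  intro _
  have h1 : (P.under R).map C < P.under R[X] := by
    have := map_under_lt_comap_of_quasiFiniteAt (IsScalarTower.toAlgHom R R[X] S) P
    simpa using this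
  have : ((P.under R).map (C : R →+* R[X])).IsPrime := Ideal.isPrime_map_C_of_isPrime
  obtain ⟨Q, hQ, _, ⟨e⟩⟩ := Ideal.exists_ideal_lt_liesOver_of_lt (S := S) P h1
  refine hQ.ne (Algebra.QuasiFiniteAt.eq_of_le_of_under_eq (R := R) hQ.le ?_)
  rw [← Ideal.under_under (B := R[X]), ← e]
  ext
  simp [Ideal.mem_map_C_iff, coeff_C, apply_ite]

lemma not_quasiFiniteAt_of_flat_mvPolynomial {A S : Type*} [CommRing A] [CommRing S] [Algebra A S]
    (m : ℕ) [Algebra (MvPolynomial (Fin (m + 1)) A) S]
    [IsScalarTower A (MvPolynomial (Fin (m + 1)) A) S] [Module.Flat (MvPolynomial (Fin (m + 1)) A) S]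
    (P : Ideal S) [P.IsPrime] : ¬ Algebra.QuasiFiniteAt A P := by
  intro hP
  let R' := MvPolynomial (Fin m) A
  let e : MvPolynomial (Fin (m + 1)) A ≃ₐ[A] R'[X] := MvPolynomial.finSuccEquiv A m
  let φ : R'[X] →+* S := (algebraMap (MvPolynomial (Fin (m + 1)) A) S).comp e.symm.toRingHom
  have hφ : φ.Flat := by
    refine RingHom.Flat.comp (RingHom.Flat.of_bijective e.symm.bijective) ?_
    rwa [RingHom.flat_algebraMap_iff]
  letI : Algebra R'[X] S := φ.toAlgebra
  letI : Algebra R' S := (φ.comp (C : R' →+* R'[X])).toAlgebra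
  haveI : IsScalarTower R' R'[X] S := .of_algebraMap_eq' rfl
  haveI : IsScalarTower A R' S := by
    refine .of_algebraMap_eq' ?_
    ext a
    change algebraMap A S a = algebraMap (MvPolynomial (Fin (m + 1)) A) S (e.symm (C (algebraMap A R' a)))
    have : (C (algebraMap A R' a) : R'[X]) = algebraMap A R'[X] a := rfl
    rw [this, e.symm.commutes, ← IsScalarTower.algebraMap_apply]
  haveI : Module.Flat R'[X] S := hφ
  haveI : IsScalarTower A R' (Localization.AtPrime P) := by
    refine .of_algebraMap_eq' ?_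
    rw [IsScalarTower.algebraMap_eq A S, IsScalarTower.algebraMap_eq R' S (Localization.AtPrime P),
      IsScalarTower.algebraMap_eq A R' S, RingHom.comp_assoc]
  haveI : Algebra.QuasiFiniteAt R' P := Algebra.QuasiFinite.of_restrictScalars A R' _
  exact not_quasiFiniteAt_of_flat_polynomial (R := R') P inferInstance

/-- Smooth + quasi-finite at a prime implies étale at that prime. -/
theorem isEtaleAt_of_isSmoothAt_of_quasiFiniteAt (A B : Type u) [CommRing A] [CommRing B] [Algebra A B]
    [Algebra.FinitePresentation A B] (q : Ideal B) [q.IsPrime] [Algebra.QuasiFiniteAt A q]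
    (h : Algebra.IsSmoothAt A q) : Algebra.IsEtaleAt A q := by
  haveI := h
  obtain ⟨f, hf, n, alg, tower, hstd⟩ :=
    Algebra.IsSmoothAt.exists_isStandardEtale_mvPolynomial (R := A) (S := B) (p := q)
  have hq' : (Ideal.map (algebraMap B (Localization.Away f)) q).IsPrime :=
    IsLocalization.isPrime_of_isPrime_disjoint (.powers f) _ _ ‹_›
      ((Ideal.disjoint_powers_iff_notMem_of_isPrime _).mpr hf)
  have hlo : (Ideal.map (algebraMap B (Localization.Away f)) q).LiesOver q :=
    ⟨(IsLocalization.under_map_of_isPrime_disjoint (.powers f) _ ‹_›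
      ((Ideal.disjoint_powers_iff_notMem_of_isPrime _).mpr hf)).symm⟩
  have hqf : Algebra.QuasiFiniteAt A (Ideal.map (algebraMap B (Localization.Away f)) q) :=
    Algebra.QuasiFiniteAt.of_surjectiveOnStalks_of_liesOver q
      (RingHom.surjectiveOnStalks_of_isLocalization (.powers f) _) _
  have : Algebra.Etale (MvPolynomial (Fin n) A) (Localization.Away f) := inferInstance
  cases n with
  | zero =>
    have h1 : Algebra.FormallyEtale A (MvPolynomial (Fin 0) A) :=
      Algebra.FormallyEtale.of_equiv (MvPolynomial.isEmptyAlgEquiv A (Fin 0)).symm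
    have h2 : Algebra.FormallyEtale A (Localization.Away f) :=
      Algebra.FormallyEtale.comp A (MvPolynomial (Fin 0) A) _
    have h3 := (Algebra.basicOpen_subset_etaleLocus_iff (R := A) (A := B) (f := f)).mpr h2
    exact h3 (show (⟨q, inferInstance⟩ : PrimeSpectrum B) ∈ PrimeSpectrum.basicOpen f from hf)
  | succ m =>
    exact (not_quasiFiniteAt_of_flat_mvPolynomial m _ hqf).elim

end Groth.Agent.Lib.Helper70.SmoothQF
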