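import Groth.Agent.Lib.Helper70.StalkMod
import Groth.Agent.Lib.Cohomology.Helper3_SpecPt4

/-!
# Specialization maps on stalks of locally constant sheaves of modules (helper70)
-/

set_option autoImplicit false
universe u
open CategoryTheory CategoryTheory.Limits Opposite AlgebraicGeometry TopologicalSpace

namespace Groth.Agent.Lib.Helper70.SpecMod

open Groth.Agent.Lib.Cohomology.LocConstMod
open Groth.Agent.Lib.Cohomology.LocConst (bot_not_mem)
open Groth.Agent.Lib.Cohomology.ChainStab Groth.Agent.Lib.Cohomology.SpecPt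
open Groth.Agent.Lib.Cohomology.CardConstr
open Groth.Agent.Lib.Helper70.StalkPull Groth.Agent.Lib.Helper70.StalkMod

variable {Λ : Type (u + 1)} [CommRing Λ] {T : Scheme.{u}}

set_option backward.isDefEq.respectTransparency.types false in
theorem isIso_secTriv_germ (G : EtModW.Mod Λ T) {V : T.Etale} {M : ModuleCat.{u + 1} Λ}
    (α : G.over V ≅ (cS T.smallEtaleTopology V).obj M) {Ω : Type u} [Field Ω] [IsSepClosed Ω]
    (ζ : Spec (CommRingCat.of Ω) ⟶ T) (x₀ : (Scheme.pointSmallEtale ζ).fiber.obj V) :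
    IsIso (secTriv T.smallEtaleTopology G α ≫
      (Scheme.pointSmallEtale ζ).toPresheafFiber V x₀ G.obj) := by
  let Φ := Scheme.pointSmallEtale ζ
  let φ : M ⟶ Φ.presheafFiber.obj G.obj :=
    secTriv T.smallEtaleTopology G α ≫ Φ.toPresheafFiber V x₀ G.obj
  have hφ : ∀ m : M, φ m = Φ.toPresheafFiber V x₀ G.obj
      ((secTriv T.smallEtaleTopology G α).hom m) := fun m => rfl
  have hinj : Function.Injective φ := by
    intro m m' hmm
    rw [hφ, hφ, GrothendieckTopology.Point.toPresheafFiber_eq_iff'] at hmm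
    obtain ⟨Y, f, y, hy, hz'⟩ := hmm
    let yl : Spec (CommRingCat.of Ω) ⟶ Y.left := y.left
    have hinj := secTriv_injective T.smallEtaleTopology G (bot_not_mem Y (yl.base default))
      (restrTriv T.smallEtaleTopology G f α)
    apply hinj
    rw [secTriv_restrTriv]
    exact hz'
  have hsurj : Function.Surjective φ := by
    intro p
    obtain ⟨U', x', z, rfl⟩ := Φ.toPresheafFiber_jointly_surjective (P := G.obj) p
    let e1 : Φ.fiber.Elements := ⟨U', x'⟩
    let e2 : Φ.fiber.Elements := ⟨V, x₀⟩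
    let e := IsCofiltered.min e1 e2
    let f1 : e ⟶ e1 := IsCofiltered.minToLeft e1 e2
    let f2 : e ⟶ e2 := IsCofiltered.minToRight e1 e2
    let α'' := restrTriv T.smallEtaleTopology G f2.1 α
    obtain ⟨R, hR, hRs⟩ := exists_sieve_const T.smallEtaleTopology G α''
      (fun _ : Unit => (G.obj.map f1.1.op).hom z)
    obtain ⟨V', g, hg, y, hy⟩ := Φ.jointly_surjective R hR e.2
    obtain ⟨m, hm⟩ := hRs g hg ()
    refine ⟨m, ?_⟩
    rw [hφ]
    have k1 := ConcreteCategory.congr_hom (Φ.toPresheafFiber_w g y G.obj)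
      ((G.obj.map f1.1.op).hom z)
    have k2 := ConcreteCategory.congr_hom (Φ.toPresheafFiber_w f1.1 e.2 G.obj) z
    have k3 := ConcreteCategory.congr_hom (Φ.toPresheafFiber_w (g ≫ f2.1) y G.obj)
      ((secTriv T.smallEtaleTopology G α).hom m)
    rw [ConcreteCategory.comp_apply] at k1 k2 k3
    have q1 : Φ.fiber.map f1.1 e.2 = x' := f1.2
    have q2 : Φ.fiber.map f2.1 e.2 = x₀ := f2.2
    have q3 : Φ.fiber.map (g ≫ f2.1) y = x₀ := by
      rw [Functor.map_comp]
      change Φ.fiber.map f2.1 (Φ.fiber.map g y) = _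
      rw [hy, q2]
    rw [hy] at k1
    rw [q1] at k2
    rw [q3] at k3
    rw [← k3, ← k2, ← k1]
    congr 1
    rw [← hm, secTriv_restrTriv, secTriv_restrTriv]
    rw [op_comp, G.obj.map_comp]
    rfl
  have hiso : IsIso φ := (ConcreteCategory.isIso_iff_bijective φ).2 ⟨hinj, hsurj⟩
  exact hiso

set_option backward.isDefEq.respectTransparency.types false in
theorem isIso_sheafFiber_of_isFTLocConst (F : EtModW.Mod Λ T) (hF : EtModW.IsFTLocConst Λ F)
    {Ω Ω' : Type u} [Field Ω] [IsSepClosed Ω] [Field Ω'] [IsSepClosed Ω']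
    (ξ : Spec (CommRingCat.of Ω) ⟶ T) (ξ' : Spec (CommRingCat.of Ω') ⟶ T)
    (φ : Scheme.pointSmallEtale ξ' ⟶ Scheme.pointSmallEtale ξ) :
    IsIso ((GrothendieckTopology.Point.Hom.sheafFiber (A := ModuleCat.{u + 1} Λ) φ).app F) := by
  obtain ⟨U, y₀, M, hM, hy₀, ⟨α⟩⟩ := exists_triv_of_isFTLocConst hF (ξ.base default)
  obtain ⟨l, hl1, -⟩ := Scheme.exists_fac_of_etale_of_isSepClosed U.hom ξ y₀ hy₀
  let x₀ : (Scheme.pointSmallEtale ξ).fiber.obj U := mkFiber ξ l hl1
  haveI i1 := isIso_secTriv_germ F α ξ x₀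
  haveI i2 := isIso_secTriv_germ F α ξ' (φ.hom.app U x₀)
  have h : (Scheme.pointSmallEtale ξ).toPresheafFiber U x₀ F.obj ≫
      (GrothendieckTopology.Point.Hom.presheafFiber (A := ModuleCat.{u + 1} Λ) φ).app F.obj =
      (Scheme.pointSmallEtale ξ').toPresheafFiber U (φ.hom.app U x₀) F.obj := by
    rw [GrothendieckTopology.Point.Hom.presheafFiber_app]
    exact GrothendieckTopology.Point.toPresheafFiber_presheafFiberDesc (A := ModuleCat.{u + 1} Λ)
      (Scheme.pointSmallEtale ξ) (P := F.obj) _ _ U x₀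
  have h2 : (secTriv T.smallEtaleTopology F α ≫
      (Scheme.pointSmallEtale ξ).toPresheafFiber U x₀ F.obj) ≫
      (GrothendieckTopology.Point.Hom.sheafFiber (A := ModuleCat.{u + 1} Λ) φ).app F =
      secTriv T.smallEtaleTopology F α ≫
        (Scheme.pointSmallEtale ξ').toPresheafFiber U (φ.hom.app U x₀) F.obj := by
    rw [Category.assoc]
    exact congrArg (secTriv T.smallEtaleTopology F α ≫ ·) h
  exact @IsIso.of_isIso_fac_left _ _ _ _ _ _ _ _ i1 i2 h2

theorem nonempty_iso_of_hom (F : ℕᵒᵖ ⥤ EtModW.Mod Λ T)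
    (hF : ∀ n : ℕ, EtModW.IsFTLocConst Λ (F.obj (op n)))
    {Ω Ω' : Type u} [Field Ω] [IsSepClosed Ω] [Field Ω'] [IsSepClosed Ω']
    (ξ : Spec (CommRingCat.of Ω) ⟶ T) (ξ' : Spec (CommRingCat.of Ω') ⟶ T)
    (φ : Scheme.pointSmallEtale ξ' ⟶ Scheme.pointSmallEtale ξ) :
    Nonempty ((F ⋙ EtModW.stalk Λ ξ) ≅ (F ⋙ EtModW.stalk Λ ξ')) := by
  let τ : (F ⋙ EtModW.stalk Λ ξ) ⟶ (F ⋙ EtModW.stalk Λ ξ') := Functor.whiskerLeft F
    (GrothendieckTopology.Point.Hom.sheafFiber (A := ModuleCat.{u + 1} Λ) φ)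
  haveI : ∀ k, IsIso (τ.app k) := fun k => by
    obtain ⟨n⟩ := k
    exact isIso_sheafFiber_of_isFTLocConst _ (hF n) ξ ξ' φ
  haveI : IsIso τ := NatIso.isIso_of_isIso_app τ
  exact ⟨asIso τ⟩


section Topo
/-! copied from `Groth.Agent.Lib.Helper49.GlobConn` (helper49) to keep imports light -/

theorem isClosed_of_stable (R : Type*) [CommRing R] [IsNoetherianRing R]
    (S : Set (PrimeSpectrum R)) (h1 : StableUnderSpecialization S)
    (h2 : StableUnderGeneralization S) : IsClosed S := by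
  have hfin : (minimalPrimes R).Finite := minimalPrimes.finite_of_isNoetherianRing R
  have hS : S = ⋃ q ∈ {q ∈ minimalPrimes R | ∃ x ∈ S, x.asIdeal = q},
      PrimeSpectrum.zeroLocus (q : Set R) := by
    ext x
    simp only [Set.mem_iUnion, Set.mem_ofPred_eq, PrimeSpectrum.mem_zeroLocus, SetLike.coe_subset_coe,
      exists_prop]
    constructor
    · intro hx
      obtain ⟨q, hq, hle⟩ := Ideal.exists_minimalPrimes_le (bot_le : ⊥ ≤ x.asIdeal)
      have hqp : q.IsPrime := hq.1.1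
      have hspec : (⟨q, hqp⟩ : PrimeSpectrum R) ⤳ x :=
        (PrimeSpectrum.le_iff_specializes _ _).mp hle
      exact ⟨q, ⟨hq, ⟨q, hqp⟩, h2 hspec hx, rfl⟩, hle⟩
    · rintro ⟨q, ⟨hq, y, hy, rfl⟩, hle⟩
      exact h1 ((PrimeSpectrum.le_iff_specializes _ _).mp hle) hy
  rw [hS]
  exact (hfin.subset (fun q hq => hq.1)).isClosed_biUnion
    (fun q _ => PrimeSpectrum.isClosed_zeroLocus _)

theorem isOpen_of_stable (R : Type*) [CommRing R] [IsNoetherianRing R]
    (S : Set (PrimeSpectrum R)) (h1 : StableUnderSpecialization S)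
    (h2 : StableUnderGeneralization S) : IsOpen S := by
  rw [← isClosed_compl_iff]
  exact isClosed_of_stable R Sᶜ h2.compl h1.compl

theorem isOpen_of_stable_scheme (X : Scheme.{u}) [IsLocallyNoetherian X]
    (C : Set X) (h1 : StableUnderSpecialization C)
    (h2 : StableUnderGeneralization C) : IsOpen C := by
  rw [isOpen_iff_forall_mem_open]
  intro x hx
  obtain ⟨_, ⟨W, hW0, rfl⟩, hxW, -⟩ :=
    X.isBasis_affineOpens.exists_subset_of_mem_open (Set.mem_univ x) isOpen_univ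
  have hW : IsAffineOpen W := hW0
  haveI : IsNoetherianRing Γ(X, W) := IsLocallyNoetherian.component_noetherian ⟨W, hW⟩
  have hS : IsOpen (hW.fromSpec ⁻¹' C) := isOpen_of_stable Γ(X, W) _
    (h1.preimage hW.fromSpec.continuous) (h2.preimage hW.fromSpec.continuous)
  refine ⟨hW.fromSpec '' (hW.fromSpec ⁻¹' C), ?_, hW.fromSpec.isOpenEmbedding.isOpenMap _ hS, ?_⟩
  · rintro _ ⟨P, hP, rfl⟩
    exact hP
  · rw [Set.image_preimage_eq_inter_range, hW.range_fromSpec]
    exact ⟨hx, hxW⟩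

/-- on a connected locally Noetherian scheme, a relation on points which is an equivalence
relation containing specialization relates any two points. -/
theorem rel_of_connected (X : Scheme.{u}) [IsLocallyNoetherian X] [ConnectedSpace X]
    (P : X → X → Prop) (hsymm : ∀ a b, P a b → P b a) (htrans : ∀ a b c, P a b → P b c → P a c)
    (hsp : ∀ a b, a ⤳ b → P a b) (x y : X) : P x y := by
  let S : Set X := {z | P x z}
  have h1 : StableUnderSpecialization S := fun a b hab ha => htrans x a b ha (hsp a b hab)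
  have h2 : StableUnderGeneralization S := fun a b hab ha =>
    htrans x a b ha (hsymm _ _ (hsp b a hab))
  have ho : IsOpen S := isOpen_of_stable_scheme X S h1 h2
  have hc : IsClosed S := by
    rw [← isOpen_compl_iff]
    exact isOpen_of_stable_scheme X Sᶜ h2.compl h1.compl
  have hx : x ∈ S := hsp x x specializes_rfl
  have : S = Set.univ := IsClopen.eq_univ ⟨hc, ho⟩ ⟨x, hx⟩
  have hy : y ∈ S := by rw [this]; trivial
  exact hy

end Topo

section Main

open Groth.Agent.Lib.Helper70.StalkCons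

set_option backward.isDefEq.respectTransparency.types false in
theorem nonempty_iso_stalkSystems (X : Scheme.{u}) [IsNoetherian X] [ConnectedSpace X]
    (F : ℕᵒᵖ ⥤ EtModW.Mod Λ X) (hF : ∀ n : ℕ, EtModW.IsFTLocConst Λ (F.obj (op n)))
    {Ω : Type u} [Field Ω] [IsSepClosed Ω] (s : Spec (CommRingCat.of Ω) ⟶ X)
    {Ω' : Type u} [Field Ω'] [IsSepClosed Ω'] (s' : Spec (CommRingCat.of Ω') ⟶ X) :
    Nonempty ((F ⋙ EtModW.stalk Λ s) ≅ (F ⋙ EtModW.stalk Λ s')) := by
  let P : X → X → Prop := fun a b => ∀ (Ω Ω' : Type u) [Field Ω] [IsSepClosed Ω] [Field Ω']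
    [IsSepClosed Ω'] (ξ : Spec (CommRingCat.of Ω) ⟶ X) (ξ' : Spec (CommRingCat.of Ω') ⟶ X),
    ξ.base default = a → ξ'.base default = b →
      Nonempty ((F ⋙ EtModW.stalk Λ ξ) ≅ (F ⋙ EtModW.stalk Λ ξ'))
  have hP : ∀ a b, P a b := by
    apply rel_of_connected X P
    · intro a b h Ω Ω' _ _ _ _ ξ ξ' h1 h2
      obtain ⟨e⟩ := h Ω' Ω ξ' ξ h2 h1
      exact ⟨e.symm⟩
    · intro a b c hab hbc Ω Ω' _ _ _ _ ξ ξ' h1 h2
      let ξb : Spec (CommRingCat.of (SeparableClosure ((EtCoh.top X).left.residueField b))) ⟶ X :=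
        geomPt (EtCoh.top X) b ≫ (EtCoh.top X).hom
      have hξb : ξb.base default = b := by
        change (geomPt (EtCoh.top X) b ≫ (EtCoh.top X).hom).base default = b
        rw [Scheme.Hom.comp_base, TopCat.comp_app, geomPt_apply]
        rfl
      obtain ⟨e1⟩ := hab Ω _ ξ ξb h1 hξb
      obtain ⟨e2⟩ := hbc _ Ω' ξb ξ' hξb h2
      exact ⟨e1 ≪≫ e2⟩
    · intro a b hab Ω Ω' _ _ _ _ ξ ξ' h1 h2
      have hsp : (fiberHom ξ (mkFiber (W := EtCoh.top X) ξ ξ (Category.comp_id ξ))).base default ⤳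
          (fiberHom ξ' (mkFiber (W := EtCoh.top X) ξ' ξ' (Category.comp_id ξ'))).base default := by
        change ξ.base default ⤳ ξ'.base default
        rw [h1, h2]; exact hab
      obtain ⟨φ, -⟩ := exists_point_hom_of_specializes (T := X) ξ ξ' (EtCoh.top X) _ _ hsp
      obtain ⟨e⟩ := nonempty_iso_of_hom F hF ξ' ξ φ
      exact ⟨e.symm⟩
  exact hP _ _ Ω Ω' s s' rfl rfl

end Main

end Groth.Agent.Lib.Helper70.SpecMod
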