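import Mathlib.RingTheory.Localization.AtPrime.Basic
import Mathlib.RingTheory.Localization.Away.Basic
import Mathlib.RingTheory.Localization.Ideal
import Mathlib.RingTheory.Noetherian.Basic

/-!
# Spreading out a principal generator from a local ring

If an ideal `I` of a Noetherian ring `A` becomes principal, generated by a non-zero-divisor, in the
localization at a prime `p`, then the same holds in `A_h` for some `h ∉ p`. (helper70)
-/

set_option autoImplicit false
universe u

namespace Groth.Agent.Lib.Helper70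

theorem exists_mul_mem_of_fg {A : Type u} [CommRing A] (M : Submonoid A) (I K : Ideal A)
    (hI : I.FG) (h : ∀ x ∈ I, ∃ w ∈ M, w * x ∈ K) : ∃ w ∈ M, ∀ x ∈ I, w * x ∈ K := by
  classical
  obtain ⟨G, rfl⟩ := hI
  choose! w hwM hw using h
  refine ⟨∏ a ∈ G, w a, Submonoid.prod_mem _ (fun a ha => hwM a (Ideal.subset_span ha)), ?_⟩
  intro x hx
  refine Submodule.span_induction (p := fun x _ => (∏ a ∈ G, w a) * x ∈ K) ?_ ?_ ?_ ?_ hx
  · intro a ha
    rw [← Finset.mul_prod_erase G w ha, mul_right_comm]
    exact K.mul_mem_right _ (hw a (Ideal.subset_span ha))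
  · simp
  · intro x y _ _ hx hy
    rw [mul_add]; exact K.add_mem hx hy
  · intro c x _ hx
    rw [smul_eq_mul, mul_left_comm]; exact K.mul_mem_left _ hx

theorem exists_away_principal_nonZeroDivisor {A : Type u} [CommRing A] [IsNoetherianRing A]
    (p : Ideal A) [p.IsPrime] (S : Type u) [CommRing S] [Algebra A S] [IsLocalization.AtPrime S p]
    (I : Ideal A) (g : S) (hg : g ∈ nonZeroDivisors S)
    (hIg : I.map (algebraMap A S) = Ideal.span {g}) :
    ∃ h : A, h ∉ p ∧ ∃ i ∈ I, ∀ (B : Type u) [CommRing B] [Algebra A B] [IsLocalization.Away h B],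
      I.map (algebraMap A B) = Ideal.span {algebraMap A B i} ∧
        algebraMap A B i ∈ nonZeroDivisors B := by
  classical
  -- step 1: a generator coming from `I`
  have hgI : g ∈ I.map (algebraMap A S) := by rw [hIg]; exact Ideal.subset_span rfl
  obtain ⟨⟨⟨i, hiI⟩, s⟩, his⟩ := (IsLocalization.mem_map_algebraMap_iff p.primeCompl S).1 hgI
  simp only at his
  have hsu : IsUnit (algebraMap A S s) := IsLocalization.map_units S s
  have hi_nzd : algebraMap A S i ∈ nonZeroDivisors S := by
    rw [← his]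
    exact mul_mem hg hsu.mem_nonZeroDivisors
  have hspan : Ideal.span {algebraMap A S i} = Ideal.span {g} := by
    rw [← his]
    exact Ideal.span_singleton_mul_right_unit hsu g
  -- step 2: `h₁ I ⊆ (i)`
  have h2 : ∀ x ∈ I, ∃ w ∈ p.primeCompl, w * x ∈ Ideal.span {i} := by
    intro x hx
    have hx' : algebraMap A S x ∈ Ideal.span {algebraMap A S i} := by
      rw [hspan, ← hIg]; exact Ideal.mem_map_of_mem _ hx
    obtain ⟨c, hc⟩ := Ideal.mem_span_singleton'.1 hx'
    obtain ⟨b, t, rfl⟩ := IsLocalization.exists_mk'_eq p.primeCompl c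
    have e1 : algebraMap A S (b * i) = algebraMap A S (t * x) := by
      rw [map_mul, map_mul, ← hc, ← mul_assoc, mul_comm (algebraMap A S t),
        IsLocalization.mk'_spec]
    obtain ⟨u, hu⟩ := (IsLocalization.eq_iff_exists p.primeCompl S).1 e1
    refine ⟨u * t, (u * t).2, ?_⟩
    rw [Ideal.mem_span_singleton']
    refine ⟨u * b, ?_⟩
    rw [mul_assoc, hu, mul_assoc]
  obtain ⟨h₁, hh₁, hh₁I⟩ := exists_mul_mem_of_fg p.primeCompl I (Ideal.span {i})
    (IsNoetherian.noetherian I) h2
  -- step 3: `h₂` kills the annihilator of `i`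
  let J : Ideal A := (Ideal.span {i}).annihilator
  have hJ : ∀ j : A, j ∈ J ↔ j * i = 0 := by
    intro j
    rw [Submodule.mem_annihilator_span_singleton, smul_eq_mul]
  have h3 : ∀ j ∈ J, ∃ w ∈ p.primeCompl, w * j ∈ (⊥ : Ideal A) := by
    intro j hj
    have e : algebraMap A S j * algebraMap A S i = 0 := by
      rw [← map_mul, (hJ j).1 hj, map_zero]
    have e2 : algebraMap A S j = 0 := (mem_nonZeroDivisors_iff_right.1 hi_nzd) _ e
    obtain ⟨m, hm⟩ := (IsLocalization.map_eq_zero_iff p.primeCompl S j).1 e2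
    exact ⟨m, m.2, by rw [Ideal.mem_bot]; exact hm⟩
  obtain ⟨h₂, hh₂, hh₂J⟩ := exists_mul_mem_of_fg p.primeCompl J ⊥ (IsNoetherian.noetherian J) h3
  refine ⟨h₁ * h₂, ?_, i, hiI, ?_⟩
  · exact (p.primeCompl.mul_mem hh₁ hh₂)
  intro B _ _ _
  have hu : IsUnit (algebraMap A B (h₁ * h₂)) := IsLocalization.Away.algebraMap_isUnit (h₁ * h₂)
  rw [map_mul] at hu
  have hu1 : IsUnit (algebraMap A B h₁) := isUnit_of_mul_isUnit_left hu
  have hu2 : IsUnit (algebraMap A B h₂) := isUnit_of_mul_isUnit_right hu
  constructor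
  · apply le_antisymm
    · rw [Ideal.map_le_iff_le_comap]
      intro x hx
      rw [Ideal.mem_comap]
      obtain ⟨c, hc⟩ := Ideal.mem_span_singleton'.1 (hh₁I x hx)
      have e : algebraMap A B h₁ * algebraMap A B x = algebraMap A B c * algebraMap A B i := by
        rw [← map_mul, ← map_mul, hc]
      rw [Ideal.mem_span_singleton']
      refine ⟨↑hu1.unit⁻¹ * algebraMap A B c, ?_⟩
      rw [mul_assoc, ← e, ← mul_assoc, IsUnit.val_inv_mul, one_mul]
    · rw [Ideal.span_le, Set.singleton_subset_iff]
      exact Ideal.mem_map_of_mem _ hiI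
  · rw [mem_nonZeroDivisors_iff_right]
    intro b hb
    obtain ⟨a, t, rfl⟩ := IsLocalization.exists_mk'_eq (Submonoid.powers (h₁ * h₂)) b
    have e1 : algebraMap A B (a * i) = 0 := by
      have := congrArg (fun z => z * algebraMap A B t) hb
      simp only [zero_mul] at this
      rw [mul_right_comm, IsLocalization.mk'_spec] at this
      rw [map_mul]; exact this
    obtain ⟨m, hm⟩ := (IsLocalization.map_eq_zero_iff (Submonoid.powers (h₁ * h₂)) B _).1 e1
    have hmem : (m : A) * a ∈ J := by
      rw [hJ, mul_assoc]; exact hm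
    have e2 := hh₂J _ hmem
    rw [Ideal.mem_bot] at e2
    have e3 : algebraMap A B h₂ * (algebraMap A B m * algebraMap A B a) = 0 := by
      rw [← map_mul, ← map_mul, e2, map_zero]
    have hmu : IsUnit (algebraMap A B m) := IsLocalization.map_units B m
    have e4 : algebraMap A B a = 0 := by
      have := hu2.mul_right_eq_zero.1 e3
      exact hmu.mul_right_eq_zero.1 this
    rw [IsLocalization.mk'_eq_zero_iff]
    exact (IsLocalization.map_eq_zero_iff (Submonoid.powers (h₁ * h₂)) B a).1 e4

end Groth.Agent.Lib.Helper70
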