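import Mathlib

namespace Groth.Agent.Lib.Helper70.StalkIsoRing

universe u

/-- The kernel of `A → A_p` is killed by a single element outside `p`, when `A` is reduced with
finitely many minimal primes. -/
lemma exists_notMem_forall_mul_eq_zero {A : Type*} [CommRing A] [IsReduced A]
    (hfin : (minimalPrimes A).Finite) (p : Ideal A) [hp : p.IsPrime] :
    ∃ g ∉ p, ∀ a : A, (∃ t ∉ p, t * a = 0) → g * a = 0 := by
  classical
  have key : ∀ P : Ideal A, ∃ e : A, e ∉ p ∧ (¬ P ≤ p → e ∈ P) := by
    intro P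
    by_cases h : P ≤ p
    · exact ⟨1, (Ideal.ne_top_iff_one p).mp hp.ne_top, fun h' => absurd h h'⟩
    · obtain ⟨e, heP, hep⟩ := Set.not_subset.mp h
      exact ⟨e, hep, fun _ => heP⟩
  choose e he1 he2 using key
  refine ⟨∏ P ∈ hfin.toFinset, e P, ?_, ?_⟩
  · intro h
    obtain ⟨P, _, hP⟩ := (Ideal.IsPrime.prod_mem_iff).mp h
    exact he1 P hP
  · rintro a ⟨t, htp, hta⟩
    have hmem : (∏ P ∈ hfin.toFinset, e P) * a ∈ nilradical A := by
      rw [nilradical, ← Ideal.sInf_minimalPrimes, Ideal.mem_sInf]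
      intro P hP
      have hP' : P ∈ minimalPrimes A := hP
      have hPprime : P.IsPrime := hP.1.1
      by_cases h : P ≤ p
      · have : a ∈ P := by
          have h0 : t * a ∈ P := by rw [hta]; exact P.zero_mem
          rcases hPprime.mem_or_mem h0 with h1 | h1
          · exact absurd (h h1) htp
          · exact h1
        exact P.mul_mem_left _ this
      · refine P.mul_mem_right _ ?_
        have hPmem : P ∈ hfin.toFinset := hfin.mem_toFinset.mpr hP'
        rw [← Finset.mul_prod_erase _ _ hPmem]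
        exact P.mul_mem_right _ (he2 P h)
    rw [nilradical_eq_zero] at hmem
    simpa using hmem

/-- If `A → B` is of finite type, `A` is reduced with finitely many minimal primes and
`A_p → B_q` is bijective, then some principal localization `B_h` (`h ∉ q`) is a principal
localization of `A`. -/
theorem exists_away_isLocalization {A B : Type u} [CommRing A] [CommRing B] [Algebra A B]
    [Algebra.FiniteType A B] [IsReduced A] (hfin : (minimalPrimes A).Finite)
    (p : Ideal A) [hp : p.IsPrime] (q : Ideal B) [hq : q.IsPrime] [q.LiesOver p]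
    (H : Function.Bijective (Localization.localRingHom p q (algebraMap A B) (q.over_def p))) :
    ∃ h ∉ q, ∃ a'' : A, ∀ (B' : Type u) [CommRing B'] [Algebra B B'] [IsLocalization.Away h B']
      [Algebra A B'] [IsScalarTower A B B'], IsLocalization.Away a'' B' := by
  classical
  obtain ⟨g₁, hg₁p, hg₁⟩ := exists_notMem_forall_mul_eq_zero hfin p
  let e : Localization.AtPrime p ≃+* Localization.AtPrime q := RingEquiv.ofBijective _ H
  let σ : B →+* Localization.AtPrime p :=
    (e.symm : Localization.AtPrime q →+* Localization.AtPrime p).comp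
      (algebraMap B (Localization.AtPrime q))
  have hσφ : ∀ d : A, σ (algebraMap A B d) = algebraMap A (Localization.AtPrime p) d := by
    intro d
    simp only [σ, RingHom.comp_apply]
    rw [RingEquiv.coe_toRingHom, RingEquiv.symm_apply_eq]
    exact (Localization.localRingHom_to_map p q (algebraMap A B) (q.over_def p) d).symm
  have heσ : ∀ b : B, e (σ b) = algebraMap B (Localization.AtPrime q) b := by
    intro b
    simp [σ]
  obtain ⟨s, hs⟩ := Algebra.FiniteType.out (R := A) (A := B)
  have F1 : ∀ b : B, ∃ x : A, ∃ t : A, t ∉ p ∧ ∃ c : B, c ∉ q ∧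
      c * (algebraMap A B t * b - algebraMap A B x) = 0 := by
    intro b
    obtain ⟨⟨x, t⟩, hxt⟩ := IsLocalization.surj p.primeCompl (σ b)
    refine ⟨x, t, t.2, ?_⟩
    have h1 : algebraMap B (Localization.AtPrime q)
        (algebraMap A B t * b - algebraMap A B x) = 0 := by
      have h2 := congrArg e hxt
      simp only [map_mul, heσ] at h2
      rw [← hσφ, ← hσφ, heσ, heσ] at h2
      rw [map_sub, map_mul, sub_eq_zero, mul_comm]
      exact h2
    obtain ⟨c, hc⟩ := (IsLocalization.map_eq_zero_iff q.primeCompl _ _).mp h1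
    exact ⟨c, c.2, hc⟩
  choose x t htp c hcq hc using F1
  obtain ⟨a, ha⟩ : ∃ a : A, a = g₁ * ∏ b ∈ s, t b := ⟨_, rfl⟩
  have hap : a ∉ p := by
    intro hmem
    rw [ha] at hmem
    rcases hp.mem_or_mem hmem with h1 | h1
    · exact hg₁p h1
    · obtain ⟨b, _, hb⟩ := (Ideal.IsPrime.prod_mem_iff).mp h1
      exact htp b hb
  obtain ⟨h₀, hh₀def⟩ : ∃ h₀ : B, h₀ = ∏ b ∈ s, c b := ⟨_, rfl⟩
  have hh₀ : h₀ ∉ q := by
    intro hmem
    rw [hh₀def] at hmem
    obtain ⟨b, _, hb⟩ := (Ideal.IsPrime.prod_mem_iff).mp hmem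
    exact hcq b hb
  have hφa : algebraMap A B a ∉ q := by
    intro hmem
    apply hap
    rw [q.over_def p]
    exact hmem
  obtain ⟨h, hhdef⟩ : ∃ h : B, h = algebraMap A B a * h₀ := ⟨_, rfl⟩
  have hh : h ∉ q := by
    intro hmem
    rw [hhdef] at hmem
    rcases hq.mem_or_mem hmem with h1 | h1
    · exact hφa h1
    · exact hh₀ h1
  -- F3 at the level of `B`
  have F3B : ∀ b : B, ∃ x' : A, ∃ n k : ℕ,
      h ^ k * (algebraMap A B a ^ n * b - algebraMap A B x') = 0 := by
    intro b
    have hb : b ∈ Algebra.adjoin A (s : Set B) := by rw [hs]; trivial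
    induction hb using Algebra.adjoin_induction with
    | mem b hb =>
      have hbs : b ∈ s := hb
      refine ⟨g₁ * (∏ b' ∈ s.erase b, t b') * x b, 1, 1, ?_⟩
      have e1 : a = t b * (g₁ * ∏ b' ∈ s.erase b, t b') := by
        rw [ha, ← Finset.mul_prod_erase _ _ hbs]; ring
      have e2 : h₀ = c b * ∏ b' ∈ s.erase b, c b' := by
        rw [hh₀def, ← Finset.mul_prod_erase _ _ hbs]
      have e3 : algebraMap A B a = algebraMap A B (t b) *
          algebraMap A B (g₁ * ∏ b' ∈ s.erase b, t b') := by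
        rw [← map_mul, ← e1]
      simp only [pow_one, map_mul]
      rw [hhdef, e2]
      have := hc b
      rw [map_mul] at e3
      linear_combination (algebraMap A B a * (∏ b' ∈ s.erase b, c b') *
        (algebraMap A B g₁ * algebraMap A B (∏ b' ∈ s.erase b, t b'))) * this +
        (c b * (∏ b' ∈ s.erase b, c b') * algebraMap A B a * b) * e3
    | algebraMap r => exact ⟨r, 0, 0, by simp⟩
    | add b₁ b₂ _ _ ih₁ ih₂ =>
      obtain ⟨x₁, n₁, k₁, h₁⟩ := ih₁
      obtain ⟨x₂, n₂, k₂, h₂⟩ := ih₂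
      refine ⟨a ^ n₂ * x₁ + a ^ n₁ * x₂, n₁ + n₂, k₁ + k₂, ?_⟩
      simp only [map_add, map_mul, map_pow]
      linear_combination (h ^ k₂ * algebraMap A B a ^ n₂) * h₁ +
        (h ^ k₁ * algebraMap A B a ^ n₁) * h₂
    | mul b₁ b₂ _ _ ih₁ ih₂ =>
      obtain ⟨x₁, n₁, k₁, h₁⟩ := ih₁
      obtain ⟨x₂, n₂, k₂, h₂⟩ := ih₂
      refine ⟨x₁ * x₂, n₁ + n₂, k₁ + k₂, ?_⟩
      simp only [map_mul]
      linear_combination (h ^ k₂ * algebraMap A B a ^ n₂ * b₂) * h₁ +
        (h ^ k₁ * algebraMap A B x₁) * h₂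
  obtain ⟨y, m, k₀, hy⟩ := F3B h₀
  refine ⟨h, hh, a * y, ?_⟩
  intro B' _ _ _ _ _
  have hψ : ∀ d : A, algebraMap A B' d = algebraMap B B' (algebraMap A B d) := fun d =>
    IsScalarTower.algebraMap_apply A B B' d
  have hu : IsUnit (algebraMap B B' h) := IsLocalization.Away.algebraMap_isUnit h
  have hua : IsUnit (algebraMap A B' a) := by
    rw [hψ]
    rw [hhdef, map_mul] at hu
    exact isUnit_of_mul_isUnit_left hu
  have F3' : ∀ b : B, ∃ x' : A, ∃ n : ℕ,
      algebraMap A B' a ^ n * algebraMap B B' b = algebraMap A B' x' := by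
    intro b
    obtain ⟨x', n, k, hb⟩ := F3B b
    refine ⟨x', n, ?_⟩
    have := congrArg (algebraMap B B') hb
    simp only [map_mul, map_pow, map_sub, map_zero] at this
    rw [(hu.pow k).mul_right_eq_zero, sub_eq_zero] at this
    rw [hψ, hψ]
    exact this
  have hy' : algebraMap A B' a ^ m * algebraMap B B' h₀ = algebraMap A B' y := by
    have := congrArg (algebraMap B B') hy
    simp only [map_mul, map_pow, map_sub, map_zero] at this
    rw [(hu.pow k₀).mul_right_eq_zero, sub_eq_zero] at this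
    rw [hψ, hψ]
    exact this
  have hay : algebraMap A B' (a * y) = algebraMap A B' a ^ m * algebraMap B B' h := by
    rw [map_mul, ← hy', hhdef, map_mul, ← hψ]; ring
  have huay : IsUnit (algebraMap A B' (a * y)) := by
    rw [hay]; exact (hua.pow m).mul hu
  refine (isLocalization_iff _ _).mpr ⟨?_, ?_, ?_⟩
  · rintro ⟨_, k, rfl⟩
    simp only [map_pow]
    exact huay.pow k
  · intro z
    obtain ⟨⟨b, ⟨_, j, rfl⟩⟩, hz⟩ := IsLocalization.surj (Submonoid.powers h) z
    simp only at hz
    obtain ⟨x', n, hb⟩ := F3' b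
    refine ⟨⟨a ^ (m * j) * x' * y ^ n, ⟨(a * y) ^ (j + n), j + n, rfl⟩⟩, ?_⟩
    simp only [map_pow, map_mul]
    rw [map_pow] at hz
    have hay' : algebraMap A B' a * algebraMap A B' y =
        algebraMap A B' a ^ m * algebraMap B B' h := by rw [← map_mul]; exact hay
    calc z * (algebraMap A B' a * algebraMap A B' y) ^ (j + n)
        = (z * algebraMap B B' h ^ j) * algebraMap A B' a ^ (m * j) *
            (algebraMap A B' a * algebraMap A B' y) ^ n := by
          rw [pow_add, hay', mul_pow, ← pow_mul]; ring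
      _ = algebraMap A B' a ^ (m * j) * (algebraMap A B' a ^ n * algebraMap B B' b) *
            algebraMap A B' y ^ n := by rw [hz, mul_pow]; ring
      _ = _ := by rw [hb]
  · intro d₁ d₂ hd
    have hd0 : algebraMap B B' (algebraMap A B (d₁ - d₂)) = 0 := by
      rw [← hψ, map_sub, hd, sub_self]
    obtain ⟨⟨_, k, rfl⟩, hk⟩ := (IsLocalization.map_eq_zero_iff (Submonoid.powers h) B' _).mp hd0
    simp only at hk
    have hσ := congrArg σ hk
    rw [map_mul, map_pow, map_zero, hσφ] at hσ
    have hσu : IsUnit (σ h) := by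
      have : IsUnit (algebraMap B (Localization.AtPrime q) h) :=
        IsLocalization.map_units (Localization.AtPrime q) (⟨h, hh⟩ : q.primeCompl)
      simp only [σ, RingHom.comp_apply]
      exact this.map _
    rw [(hσu.pow k).mul_right_eq_zero] at hσ
    obtain ⟨t', ht'⟩ := (IsLocalization.map_eq_zero_iff p.primeCompl _ _).mp hσ
    have hg := hg₁ (d₁ - d₂) ⟨t', t'.2, ht'⟩
    refine ⟨⟨a * y, 1, pow_one _⟩, ?_⟩
    simp only
    rw [← sub_eq_zero, ← mul_sub, ha]
    calc g₁ * (∏ b ∈ s, t b) * y * (d₁ - d₂) = (∏ b ∈ s, t b) * y * (g₁ * (d₁ - d₂)) := by ring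
      _ = 0 := by rw [hg, mul_zero]

end Groth.Agent.Lib.Helper70.StalkIsoRing
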