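import Mathlib
import Groth.Agent.Lib.Helper70.LocalOpenImm
import Groth.Agent.Lib.Helper70.AffineStalk
import Groth.Agent.Lib.Helper70.StalkIsoRing

open AlgebraicGeometry CategoryTheory Limits

universe u

namespace Groth.Agent.Lib.Helper70.StalkIsoScheme

open Groth.Agent.Lib.Helper70.LocalOpenImm Groth.Agent.Lib.Helper70
open Groth.Agent.Lib.Helper70.StalkIsoRing

lemma finite_minimalPrimes_of_affineOpen {S : Scheme.{u}}
    (hS : (irreducibleComponents (S : Type u)).Finite) {U : S.Opens} (hU : IsAffineOpen U) :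
    (minimalPrimes Γ(S, U)).Finite := by
  classical
  set T : Set (PrimeSpectrum Γ(S, U)) := {P | P.asIdeal ∈ minimalPrimes Γ(S, U)} with hT
  have hTfin : T.Finite := by
    refine Set.Finite.of_injOn (f := fun P => closure {hU.fromSpec P}) (t := irreducibleComponents S)
      ?_ ?_ hS
    · intro P hP
      refine closure_mem_irreducibleComponents_of_maximal _ ?_
      intro y hy
      have hyU : y ∈ U := hy.mem_open U.2 (fromSpec_mem hU P)
      have h1 : hU.fromSpec (hU.primeIdealOf ⟨y, hyU⟩) = y := hU.fromSpec_primeIdealOf ⟨y, hyU⟩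
      rw [← h1] at hy ⊢
      have hemb : Topology.IsOpenEmbedding hU.fromSpec :=
        hU.fromSpec.isOpenEmbedding
      have hy' : (hU.primeIdealOf ⟨y, hyU⟩ : PrimeSpectrum Γ(S, U)) ⤳ (P : PrimeSpectrum Γ(S, U)) :=
        hemb.isInducing.specializes_iff.mp hy
      replace hy : (hU.primeIdealOf ⟨y, hyU⟩).asIdeal ≤ P.asIdeal :=
        (PrimeSpectrum.le_iff_specializes _ _).mpr hy'
      have h2 : (hU.primeIdealOf ⟨y, hyU⟩).asIdeal = P.asIdeal := by
        have hmin : P.asIdeal ∈ minimalPrimes Γ(S, U) := hP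
        exact le_antisymm hy (hmin.2 ⟨(hU.primeIdealOf ⟨y, hyU⟩).2, bot_le⟩ hy)
      congr 1
      exact PrimeSpectrum.ext h2
    · intro P hP Q hQ hPQ
      simp only at hPQ
      have h1 : hU.fromSpec P = hU.fromSpec Q := by
        refine (Specializes.antisymm ?_ ?_).eq <;> rw [specializes_iff_closure_subset]
        · rw [hPQ]
        · rw [hPQ]
      exact hU.fromSpec.isOpenEmbedding.injective h1
  have : minimalPrimes Γ(S, U) = PrimeSpectrum.asIdeal '' T := by
    ext m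
    constructor
    · intro hm
      exact ⟨⟨m, hm.1.1⟩, hm, rfl⟩
    · rintro ⟨P, hP, rfl⟩
      exact hP
  rw [this]
  exact hTfin.image _

theorem exists_isOpenImmersion {X S : Scheme.{u}} (f : X ⟶ S)
    [LocallyOfFiniteType f] [IsReduced S] (hS : (irreducibleComponents (S : Type u)).Finite)
    (x : X) (hx : IsIso (f.stalkMap x)) :
    ∃ U : X.Opens, x ∈ U ∧ IsOpenImmersion (U.ι ≫ f) := by
  obtain ⟨_, ⟨U₀, hU₀, rfl⟩, hxU₀, -⟩ :=
    S.isBasis_affineOpens.exists_subset_of_mem_open (Set.mem_univ (f x)) isOpen_univ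
  have hxU₀' : x ∈ f ⁻¹ᵁ U₀ := hxU₀
  obtain ⟨_, ⟨V₁, hV₁, rfl⟩, hxV₁, hV₁U₀⟩ :=
    X.isBasis_affineOpens.exists_subset_of_mem_open hxU₀' (f ⁻¹ᵁ U₀).2
  have e : V₁ ≤ f ⁻¹ᵁ U₀ := hV₁U₀
  have hft : (f.appLE U₀ V₁ e).hom.FiniteType := f.finiteType_appLE hU₀ hV₁ e
  algebraize [(f.appLE U₀ V₁ e).hom]
  let p := (hU₀.primeIdealOf ⟨f x, hxU₀⟩).asIdeal
  let q := (hV₁.primeIdealOf ⟨x, hxV₁⟩).asIdeal
  have hpq : q.LiesOver p :=
    ⟨congr($(IsAffineOpen.comap_primeIdealOf_appLE U₀ hU₀ V₁ hV₁ e hxV₁).1).symm⟩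
  have earr := IsAffineOpen.arrowStalkMapIso f U₀ hU₀ V₁ hV₁ e hxV₁
  have hbij : Function.Bijective
      (Localization.localRingHom p q (algebraMap Γ(S, U₀) Γ(X, V₁)) (q.over_def p)) := by
    have h1 : MorphismProperty.isomorphisms CommRingCat (f.stalkMap x) := hx
    have h2 := ((MorphismProperty.isomorphisms CommRingCat).arrow_mk_iso_iff earr).mp h1
    have h3 : IsIso (CommRingCat.ofHom
      (Localization.localRingHom p q (algebraMap Γ(S, U₀) Γ(X, V₁)) (q.over_def p))) := h2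
    exact ConcreteCategory.bijective_of_isIso (CommRingCat.ofHom
      (Localization.localRingHom p q (algebraMap Γ(S, U₀) Γ(X, V₁)) (q.over_def p)))
  have hfinA : (minimalPrimes Γ(S, U₀)).Finite := finite_minimalPrimes_of_affineOpen hS hU₀
  obtain ⟨h, hhq, a'', H⟩ := exists_away_isLocalization hfinA p q hbij
  refine ⟨X.basicOpen h, ?_, ?_⟩
  · have h1 : hV₁.fromSpec (hV₁.primeIdealOf ⟨x, hxV₁⟩) = x :=
      hV₁.fromSpec_primeIdealOf ⟨x, hxV₁⟩
    have h2 : hV₁.primeIdealOf ⟨x, hxV₁⟩ ∈ hV₁.fromSpec ⁻¹ᵁ X.basicOpen h := by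
      rw [hV₁.fromSpec_preimage_basicOpen]
      exact hhq
    have h3 : hV₁.fromSpec (hV₁.primeIdealOf ⟨x, hxV₁⟩) ∈ X.basicOpen h := h2
    rwa [h1] at h3
  · have hW : IsAffineOpen (X.basicOpen h) := hV₁.basicOpen h
    have eW : X.basicOpen h ≤ f ⁻¹ᵁ U₀ := (X.basicOpen_le h).trans e
    let _ : Algebra Γ(S, U₀) Γ(X, X.basicOpen h) := (f.appLE U₀ (X.basicOpen h) eW).hom.toAlgebra
    have : IsScalarTower Γ(S, U₀) Γ(X, V₁) Γ(X, X.basicOpen h) :=
      IsScalarTower.of_algebraMap_eq' (by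
        simp only [RingHom.algebraMap_toAlgebra]
        rw [← CommRingCat.hom_comp, Scheme.Hom.appLE_map])
    have := hV₁.isLocalization_basicOpen h
    have hloc : IsLocalization.Away a'' Γ(X, X.basicOpen h) := H Γ(X, X.basicOpen h)
    have hoi : IsOpenImmersion (Spec.map (f.appLE U₀ (X.basicOpen h) eW)) :=
      IsOpenImmersion.of_isLocalization a''
    have key : hW.fromSpec ≫ f = Spec.map (f.appLE U₀ (X.basicOpen h) eW) ≫ hU₀.fromSpec :=
      (IsAffineOpen.SpecMap_appLE_fromSpec f hU₀ hW eW).symm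
    have h4 : (X.basicOpen h).ι ≫ f = hW.isoSpec.hom ≫ hW.fromSpec ≫ f := by
      rw [← Category.assoc, hW.isoSpec_hom_fromSpec]
    rw [h4, key]
    have : IsOpenImmersion hU₀.fromSpec := hU₀.isOpenImmersion_fromSpec
    have : IsOpenImmersion (Spec.map (f.appLE U₀ (X.basicOpen h) eW) ≫ hU₀.fromSpec) :=
      inferInstance
    infer_instance

end Groth.Agent.Lib.Helper70.StalkIsoScheme
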