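import Groth.Agent.Lib.Helper70.ARPull
import Groth.Agent.Lib.Helper70.StalkPull
import Groth.Agent.Lib.Cohomology.Helper3_LocConstMod4
import Groth.Agent.Lib.Cohomology.Helper3_NearFLC

/-!
# Stalks of constructible sheaves of modules and of AR-adic systems (helper70)
-/

set_option autoImplicit false
universe u
open CategoryTheory CategoryTheory.Limits Opposite AlgebraicGeometry

namespace Groth.Agent.Lib.Helper70.StalkMod

open Groth.Agent.Lib.Cohomology.LocConstMod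
open Groth.Agent.Lib.Cohomology.LocConst (bot_not_mem)
open Groth.Agent.Lib.Cohomology.ChainStab Groth.Agent.Lib.Cohomology.SpecPt
open Groth.Agent.Lib.Helper70.StalkPull

variable {Λ : Type (u + 1)} [CommRing Λ] {T : Scheme.{u}}

instance : HasLimitsOfSize.{u, u} (ModuleCat.{u + 1} Λ) :=
  hasLimitsOfSizeShrink.{u, u, u + 1, u + 1} _

instance : HasColimitsOfSize.{u, u} (ModuleCat.{u + 1} Λ) :=
  hasColimitsOfSizeShrink.{u, u, u + 1, u + 1} _

instance ab5M : AB5OfSize.{u, u} (ModuleCat.{u + 1} Λ) :=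
  AB5OfSize_of_univLE.{u, u, u + 1, u + 1, u + 1, u + 2} (ModuleCat.{u + 1} Λ)

instance : PreservesFilteredColimitsOfSize.{u, u} (forget (ModuleCat.{u + 1} Λ)) :=
  preservesFilteredColimitsOfSize_shrink.{u, u + 1, u, u + 1} _

set_option backward.isDefEq.respectTransparency.types false in
theorem nonempty_stalk_iso_of_triv (G : EtModW.Mod Λ T) {V : T.Etale} {M : ModuleCat.{u + 1} Λ}
    (α : G.over V ≅ (cS T.smallEtaleTopology V).obj M) {Ω : Type u} [Field Ω] [IsSepClosed Ω]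
    (ζ : Spec (CommRingCat.of Ω) ⟶ T) (x₀ : (Scheme.pointSmallEtale ζ).fiber.obj V) :
    Nonempty (M ≅ (EtModW.stalk Λ ζ).obj G) := by
  let Φ := Scheme.pointSmallEtale ζ
  let φ : M ⟶ Φ.presheafFiber.obj G.obj :=
    secTriv T.smallEtaleTopology G α ≫ Φ.toPresheafFiber V x₀ G.obj
  have hφ : ∀ m : M, φ m = Φ.toPresheafFiber V x₀ G.obj
      ((secTriv T.smallEtaleTopology G α).hom m) := fun m => rfl
  have hinj : Function.Injective φ := by
    intro m m' hmm
    rw [hφ, hφ, GrothendieckTopology.Point.toPresheafFiber_eq_iff'] at hmm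
    obtain ⟨Y, f, y, hy, hz'⟩ := hmm
    let yl : Spec (CommRingCat.of Ω) ⟶ Y.left := y.left
    have hinj := secTriv_injective T.smallEtaleTopology G (bot_not_mem Y (yl.base default))
      (restrTriv T.smallEtaleTopology G f α)
    apply hinj
    rw [secTriv_restrTriv]
    exact hz'
  have hsurj : Function.Surjective φ := by
    intro p
    obtain ⟨U', x', z, rfl⟩ := Φ.toPresheafFiber_jointly_surjective (P := G.obj) p
    let e1 : Φ.fiber.Elements := ⟨U', x'⟩
    let e2 : Φ.fiber.Elements := ⟨V, x₀⟩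
    let e := IsCofiltered.min e1 e2
    let f1 : e ⟶ e1 := IsCofiltered.minToLeft e1 e2
    let f2 : e ⟶ e2 := IsCofiltered.minToRight e1 e2
    let α'' := restrTriv T.smallEtaleTopology G f2.1 α
    obtain ⟨R, hR, hRs⟩ := exists_sieve_const T.smallEtaleTopology G α''
      (fun _ : Unit => (G.obj.map f1.1.op).hom z)
    obtain ⟨V', g, hg, y, hy⟩ := Φ.jointly_surjective R hR e.2
    obtain ⟨m, hm⟩ := hRs g hg ()
    refine ⟨m, ?_⟩
    rw [hφ]
    have k1 := ConcreteCategory.congr_hom (Φ.toPresheafFiber_w g y G.obj)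
      ((G.obj.map f1.1.op).hom z)
    have k2 := ConcreteCategory.congr_hom (Φ.toPresheafFiber_w f1.1 e.2 G.obj) z
    have k3 := ConcreteCategory.congr_hom (Φ.toPresheafFiber_w (g ≫ f2.1) y G.obj)
      ((secTriv T.smallEtaleTopology G α).hom m)
    rw [ConcreteCategory.comp_apply] at k1 k2 k3
    have q1 : Φ.fiber.map f1.1 e.2 = x' := f1.2
    have q2 : Φ.fiber.map f2.1 e.2 = x₀ := f2.2
    have q3 : Φ.fiber.map (g ≫ f2.1) y = x₀ := by
      rw [Functor.map_comp]
      change Φ.fiber.map f2.1 (Φ.fiber.map g y) = _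
      rw [hy, q2]
    rw [hy] at k1
    rw [q1] at k2
    rw [q3] at k3
    rw [← k3, ← k2, ← k1]
    congr 1
    rw [← hm, secTriv_restrTriv, secTriv_restrTriv]
    rw [op_comp, G.obj.map_comp]
    rfl
  have hiso : IsIso φ := (ConcreteCategory.isIso_iff_bijective φ).2 ⟨hinj, hsurj⟩
  have e : M ≅ Φ.presheafFiber.obj G.obj := @asIso _ _ _ _ φ hiso
  exact ⟨e⟩

theorem nonempty_stalk_pull_iso {X Y : Scheme.{u}} (f : X ⟶ Y) {Ω : Type u} [Field Ω]
    [IsSepClosed Ω] (ξ : Spec (CommRingCat.of Ω) ⟶ X) (G : EtModW.Mod Λ Y) :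
    Nonempty ((EtModW.stalk Λ ξ).obj ((EtModW.pull Λ f).obj G) ≅
      (EtModW.stalk Λ (ξ ≫ f)).obj G) := by
  haveI : ((EtCoh.bc f).sheafPushforwardContinuous (ModuleCat.{u + 1} Λ) Y.smallEtaleTopology
      X.smallEtaleTopology).IsRightAdjoint :=
    (Groth.Agent.Lib.Helper70.ConstrMod.pullPushAdjMod Λ f).isRightAdjoint
  haveI : HasLimitsOfSize.{u, u} (ModuleCat.{u + 1} Λ) :=
    hasLimitsOfSizeShrink.{u, u, u + 1, u + 1} _
  haveI : HasColimitsOfSize.{u, u} (ModuleCat.{u + 1} Λ) :=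
    hasColimitsOfSizeShrink.{u, u, u + 1, u + 1} _
  let e1 := GrothendieckTopology.Point.sheafFiberComapIso (Scheme.pointSmallEtale ξ) (EtCoh.bc f)
    (EtCoh.coverPreserving_bc f) (ModuleCat.{u + 1} Λ)
  let e2 := sheafFiberIsoOfFiberIso (A := ModuleCat.{u + 1} Λ) (comapPoint f ξ)
    (Scheme.pointSmallEtale (ξ ≫ f)) (fiberIso f ξ).symm
  exact ⟨(e1.app G).symm ≪≫ e2.app G⟩

set_option backward.isDefEq.respectTransparency.types false in
/-- the geometric stalks of a constructible sheaf of modules are finitely generated. -/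
theorem finite_stalk_of_isConstructible {X : Scheme.{u}} (F : EtModW.Mod Λ X)
    (hF : EtModW.IsConstructible Λ F)
    {Ω : Type u} [Field Ω] [IsSepClosed Ω] (ξ : Spec (CommRingCat.of Ω) ⟶ X) :
    Module.Finite Λ ((EtModW.stalk Λ ξ).obj F) := by
  obtain ⟨_, ⟨U₀, hU₀aff, rfl⟩, hxU₀, -⟩ := X.isBasis_affineOpens.exists_subset_of_mem_open
    (Set.mem_univ (ξ.base default)) isOpen_univ
  obtain ⟨n, Ts, g, himm, hcons, hdisj, hun, hflc⟩ := hF U₀ hU₀aff
  haveI := himm
  have hx : ξ.base default ∈ ⋃ i, Set.range (g i) := by rw [hun]; exact hxU₀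
  obtain ⟨i, hi⟩ := Set.mem_iUnion.1 hx
  obtain ⟨ζ, hζ⟩ := exists_lift_immersion (g i) ξ hi
  subst hζ
  obtain ⟨W, y, M, hM, hy, ⟨α⟩⟩ := exists_triv_of_isFTLocConst (hflc i) (ζ.base default)
  obtain ⟨l, hl1, -⟩ := Scheme.exists_fac_of_etale_of_isSepClosed W.hom ζ y hy
  obtain ⟨e1⟩ := nonempty_stalk_iso_of_triv ((EtModW.pull Λ (g i)).obj F) α ζ (mkFiber ζ l hl1)
  obtain ⟨e2⟩ := nonempty_stalk_pull_iso (g i) ζ F
  haveI := hM
  exact Module.Finite.equiv (e1 ≪≫ e2).toLinearEquiv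

section AR

open Groth.Agent.Lib.Helper70.ARPull

variable (Λ) {X : Scheme.{u}} {Ω : Type u} [Field Ω] [IsSepClosed Ω]
  (s : Spec (CommRingCat.of Ω) ⟶ X)

set_option backward.isDefEq.respectTransparency.types false in
theorem skyscraper_map_smul (a : Λ) {A B : ModuleCat.{u + 1} Λ} (φ : A ⟶ B) :
    ((Scheme.pointSmallEtale s).skyscraperSheafFunctor (A := ModuleCat.{u + 1} Λ)).map (a • φ) =
      a • ((Scheme.pointSmallEtale s).skyscraperSheafFunctor (A := ModuleCat.{u + 1} Λ)).map φ := by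
  apply Sheaf.hom_ext
  ext U : 2
  change Limits.Pi.map (fun _ => a • φ) = a • Limits.Pi.map (fun _ => φ)
  apply Limits.Pi.hom_ext
  intro j
  rw [Limits.Pi.map_π, Linear.smul_comp, Limits.Pi.map_π, Linear.comp_smul]

set_option maxHeartbeats 2000000 in
theorem isARAdic_stalk (I : Ideal Λ) (F : ARSys.PS (EtModW.Mod Λ X))
    (hF : (ARSys.TermKilled I F ∧ ∃ (Y : ARSys.PS (EtModW.Mod Λ X)) (v : Y ⟶ F),
      ARSys.IsAdic I Y ∧ (∀ n : ℕ, EtModW.IsConstructible Λ (Y.obj (op n))) ∧ ARSys.IsARIso v)) :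
    (ARSys.TermKilled I (F ⋙ EtModW.stalk Λ s) ∧ ∃ (Y : ARSys.PS (ModuleCat.{u + 1} Λ))
      (v : Y ⟶ F ⋙ EtModW.stalk Λ s), ARSys.IsAdic I Y ∧
      (∀ n : ℕ, Module.Finite Λ (Y.obj (op n))) ∧ ARSys.IsARIso v) := by
  obtain ⟨hk, Y, v, hY, hYc, hv⟩ := hF
  let adj : EtModW.stalk Λ s ⊣
      (Scheme.pointSmallEtale s).skyscraperSheafFunctor (A := ModuleCat.{u + 1} Λ) :=
    (Scheme.pointSmallEtale s).skyscraperSheafAdjunction
  have hR := fun (a : Λ) {A B : ModuleCat.{u + 1} Λ} (φ : A ⟶ B) => skyscraper_map_smul Λ s a φ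
  haveI : PreservesFiniteLimits (EtModW.stalk Λ s) := inferInstance
  haveI : PreservesFiniteColimits (EtModW.stalk Λ s) := inferInstance
  exact ⟨termKilled_comp _ _ adj hR I F hk, Y ⋙ EtModW.stalk Λ s,
    Functor.whiskerRight v (EtModW.stalk Λ s), isAdic_comp _ _ adj hR I Y hY,
    fun n => finite_stalk_of_isConstructible _ (hYc n) s, isARIso_whiskerRight _ v hv⟩

end AR

end Groth.Agent.Lib.Helper70.StalkMod
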