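import Mathlib
import Groth.Prelude.Def_SGA4b
import Groth.Agent.Lib.Helper70.StrictHens

set_option autoImplicit false
open CategoryTheory CategoryTheory.Limits AlgebraicGeometry Opposite

universe u

namespace Groth.Agent.Lib.Helper70.StrictHens

variable (R : Type u) [CommRing R] [HenselianLocalRing R]
  [IsSepClosed (IsLocalRing.ResidueField R)]

set_option backward.isDefEq.respectTransparency.types false in
theorem bijective_toPresheafFiber_set (F : EtDesc.Sh (Spec (CommRingCat.of R))) :
    Function.Bijective ((Scheme.pointSmallEtale (ξ R)).toPresheafFiber (A := Type (u + 1))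
      (EtCoh.top (Spec (CommRingCat.of R))) (pt R) F.obj) := by
  constructor
  · intro s₁ s₂ hs
    rw [GrothendieckTopology.Point.toPresheafFiber_eq_iff'] at hs
    obtain ⟨U, f, u, hu, h0⟩ := hs
    obtain ⟨σ, hσ⟩ := exists_section R U u
    have hid : σ ≫ f = 𝟙 _ := by
      apply MorphismProperty.Over.Hom.ext
      have h1 : (σ ≫ f).left ≫ 𝟙 _ = 𝟙 _ := MorphismProperty.Over.w (σ ≫ f)
      exact (Category.comp_id _).symm.trans h1
    have e : ∀ s : ToType (F.obj.obj (op (EtCoh.top (Spec (CommRingCat.of R))))),
        s = F.obj.map σ.op (F.obj.map f.op s) := by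
      intro s
      rw [← ConcreteCategory.comp_apply, ← F.obj.map_comp, ← op_comp, hid, op_id, F.obj.map_id]
      rfl
    rw [e s₁, e s₂, h0]
  · intro t
    obtain ⟨U, u, s, rfl⟩ := (Scheme.pointSmallEtale (ξ R)).toPresheafFiber_jointly_surjective
      (A := Type (u + 1)) (P := F.obj) t
    obtain ⟨σ, hσ⟩ := exists_section R U u
    refine ⟨F.obj.map σ.op s, ?_⟩
    have k := ConcreteCategory.congr_hom
      ((Scheme.pointSmallEtale (ξ R)).toPresheafFiber_w σ (pt R) F.obj) s
    rw [ConcreteCategory.comp_apply] at k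
    rw [k, hσ]

end Groth.Agent.Lib.Helper70.StrictHens
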