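import Mathlib
import Groth.Prelude.Def_EtBase
import Groth.Prelude.Def_EtCore
import Groth.Prelude.Def_EtAcyc
import Groth.Agent.Lib.Helper70.TraceCoh
import Groth.Agent.Lib.Helper70.StalkConsAlg

set_option autoImplicit false
open CategoryTheory CategoryTheory.Limits AlgebraicGeometry Opposite CategoryTheory.Abelian

universe u

namespace Groth.Agent.Lib.Helper70.TraceL

open Groth.Agent.Lib.Helper70.ShriekStalk Groth.Agent.Lib.Helper70.TraceFinEt
  Groth.Agent.Lib.Helper70.TraceCoh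

theorem exists_int_inv (d m : ℕ) (h : Nat.Coprime d m) :
    ∃ a : ℤ, ∀ {A : Type (u + 1)} [AddCommGroup A] (y : A), m • y = 0 → d • (a • y) = y := by
  refine ⟨Nat.gcdA d m, ?_⟩
  intro A _ y hy
  have h1 := Nat.gcd_eq_gcd_ab d m
  rw [h] at h1
  have h2 : ((d : ℤ) * Nat.gcdA d m + (m : ℤ) * Nat.gcdB d m) • y = y := by
    rw [← h1]; simp
  rw [add_smul, mul_smul, mul_comm, mul_smul, natCast_zsmul, natCast_zsmul, hy, smul_zero,
    add_zero] at h2
  exact h2

theorem coprime_of_primesIn (L : Set ℕ) (d m : ℕ) (hL : ∀ p : ℕ, p.Prime → p ∈ L → ¬ p ∣ d)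
    (hm : EtAcyc.PrimesIn L m) : Nat.Coprime d m := by
  apply Nat.coprime_of_dvd
  intro k hk hkd hkm
  exact hL k hk (hm.2 k hk hkm) hkd

variable {X : Scheme.{u}}

theorem nsmul_id_app (F : EtCoh.Ab X) (d : ℕ) (U : X.Etale) (s : EtCoh.sect F U) :
    (d • 𝟙 F : F ⟶ F).hom.app (op U) s = d • s := rfl

set_option backward.isDefEq.respectTransparency.types false in
/-- multiplication by an integer prime to `L` is an automorphism of an `L`-torsion sheaf -/
theorem isIso_nsmul_id (L : Set ℕ) (d : ℕ) (hL : ∀ p : ℕ, p.Prime → p ∈ L → ¬ p ∣ d)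
    (F : EtCoh.Ab X) (hF : EtAcyc.IsLTorsion L F) : IsIso (d • 𝟙 F : F ⟶ F) := by
  haveI : Mono (d • 𝟙 F : F ⟶ F) := by
    apply Sheaf.mono_of_injective
    intro U
    rw [injective_iff_map_eq_zero]
    intro s hs
    have hs' : d • s = 0 := hs
    have hsep := ((isSheaf_iff_isSheaf_of_type _ _).1
      ((sheafCompose X.smallEtaleTopology (forget AddCommGrpCat.{u + 1})).obj F).2).isSeparated
    let S : Sieve U.unop :=
      { arrows := fun Y f => F.obj.map f.op s = 0
        downward_closed := by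
          intro Y Z f hf g
          rw [op_comp, F.obj.map_comp, ConcreteCategory.comp_apply, hf, map_zero] }
    have hS : S ∈ X.smallEtaleTopology U.unop := by
      rw [Groth.Agent.S6632.mem_smallEtaleTopology_iff]
      intro p
      obtain ⟨V, g, m, ⟨v, hv⟩, hm, hkill⟩ := hF U.unop s p
      obtain ⟨a, ha⟩ := exists_int_inv.{u} d m (coprime_of_primesIn L d m hL hm)
      refine ⟨V, g, v, ?_, hv⟩
      show F.obj.map g.op s = 0
      rw [← ha (F.obj.map g.op s) hkill, ← map_zsmul, ← map_nsmul, smul_comm, hs', smul_zero,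
        map_zero]
    exact (hsep S hS).ext (fun Y f hf => by
      change F.obj.map f.op s = F.obj.map f.op 0
      rw [map_zero]
      exact hf)
  haveI : Epi (d • 𝟙 F : F ⟶ F) := by
    rw [← Sheaf.isLocallySurjective_iff_epi' _ (d • 𝟙 F : F ⟶ F)]
    constructor
    intro U t
    rw [Groth.Agent.S6632.mem_smallEtaleTopology_iff]
    intro p
    obtain ⟨V, g, m, ⟨v, hv⟩, hm, hkill⟩ := hF U t p
    obtain ⟨a, ha⟩ := exists_int_inv.{u} d m (coprime_of_primesIn L d m hL hm)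
    refine ⟨V, g, v, ⟨a • F.obj.map g.op t, ?_⟩, hv⟩
    exact ha (F.obj.map g.op t) hkill
  exact isIso_of_mono_of_epi _

theorem nsmul_eq_comp (F : EtCoh.Ab X) (i : ℕ) (α : EtCoh.H X F i) (d : ℕ) :
    d • α = α.comp (Ext.mk₀ (d • 𝟙 F)) (add_zero i) := by
  have e1 : Ext.mk₀ (d • 𝟙 F) = d • Ext.mk₀ (𝟙 F) :=
    map_nsmul (Ext.addEquiv₀ (X := F) (Y := F)).symm d (𝟙 F)
  rw [e1]
  have e2 := map_nsmul (α.precomp F (add_zero i)) d (Ext.mk₀ (𝟙 F))
  refine Eq.trans ?_ e2.symm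
  congr 1
  exact (Ext.comp_mk₀_id α).symm

/-- classes killed by an integer prime to `L` in the cohomology of an `L`-torsion sheaf vanish -/
theorem eq_zero_of_nsmul_eq_zero (L : Set ℕ) (d : ℕ) (hL : ∀ p : ℕ, p.Prime → p ∈ L → ¬ p ∣ d)
    (F : EtCoh.Ab X) (hF : EtAcyc.IsLTorsion L F) (i : ℕ) (α : EtCoh.H X F i) (h : d • α = 0) :
    α = 0 := by
  haveI := isIso_nsmul_id L d hL F hF
  rw [nsmul_eq_comp] at h
  have h2 := congrArg (fun z => z.comp (Ext.mk₀ (inv (d • 𝟙 F : F ⟶ F))) (add_zero i)) h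
  simp only [Ext.zero_comp] at h2
  rw [Ext.comp_assoc_of_third_deg_zero, Ext.mk₀_comp_mk₀, IsIso.hom_inv_id, Ext.comp_mk₀_id] at h2
  exact h2

end Groth.Agent.Lib.Helper70.TraceL
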