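import Mathlib
import Groth.Prelude.Def_MoreMor
import Groth.Agent.Lib.Helper70.WeightingComp

open AlgebraicGeometry CategoryTheory Limits IsLocalRing

universe u

namespace Groth.Agent.Lib.Helper70.WeightingComp2

open Groth.Agent.Lib.Helper70.GeomPts Groth.Agent.Lib.Helper70.Weighting
  Groth.Agent.Lib.Helper70.WeightingLSC Groth.Agent.Lib.Helper70.UniquePoint
  Groth.Agent.Lib.Helper70.WeightingBC Groth.Agent.Lib.Helper70.WeightingBC2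
  Groth.Agent.Lib.Helper70.WeightingFinite Groth.Agent.Lib.Helper70.WeightingComp

set_option backward.isDefEq.respectTransparency.types false in
set_option maxHeartbeats 1600000 in
theorem comp_aux {X Y Z : Scheme.{u}} (f : X ⟶ Y) (g : Y ⟶ Z)
    [LocallyQuasiFinite f] [LocallyOfFiniteType f] [LocallyQuasiFinite g] [LocallyOfFiniteType g]
    (wf : X → ℤ) (wg : Y → ℤ) (hf : MoreMor.IsWeighting f wf) (hg : MoreMor.IsWeighting g wg)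
    (n : ℕ) :
    ∀ {T YT XT : Scheme.{u}} (G : T ⟶ Z) (pY : YT ⟶ Y) (gT : YT ⟶ T) (_ : IsPullback pY gT g G)
      (pX : XT ⟶ X) (fT : XT ⟶ YT) (_ : IsPullback pX fT f pY) (U : XT.Opens)
      (_ : IsFinite (U.ι ≫ fT ≫ gT)) (Ω : Type u) [Field Ω] [IsAlgClosed Ω]
      (tb : Spec (.of Ω) ⟶ T), Nat.card (GPts Ω (U.ι ≫ fT ≫ gT) tb) = n →
      ∃ N : Set T, IsOpen N ∧ tb (closedPoint Ω) ∈ N ∧ ∀ v ∈ N,
        MoreMor.fibreIntegral (U.ι ≫ fT ≫ gT) ((fun x => wf x * wg (f x)) ∘ ⇑pX ∘ ⇑U.ι) v =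
        MoreMor.fibreIntegral (U.ι ≫ fT ≫ gT) ((fun x => wf x * wg (f x)) ∘ ⇑pX ∘ ⇑U.ι)
          (tb (closedPoint Ω)) := by
  induction n using Nat.strong_induction_on with
  | _ n ih =>
  intro T YT XT G pY gT hY pX fT hX U hfin Ω _ _ tb hn
  have hφT : IsPullback pX (fT ≫ gT) (f ≫ g) G := hX.paste_vert hY
  haveI : LocallyQuasiFinite (fT ≫ gT) := MorphismProperty.of_isPullback hφT inferInstance
  have hfib : ∀ v : T, ((U.ι ≫ fT ≫ gT) ⁻¹' {v}).Finite := fun v =>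
    Scheme.Hom.finite_preimage_singleton _ v
  haveI : Finite (GPts Ω (U.ι ≫ fT ≫ gT) tb) := finite_gpts Ω (U.ι ≫ fT ≫ gT) tb (hfib _)
  rcases Nat.eq_zero_or_pos n with h0 | hpos_n
  · subst h0
    have hempty : IsEmpty (GPts Ω (U.ι ≫ fT ≫ gT) tb) := by
      rcases Nat.card_eq_zero.mp hn with h | h
      · exact h
      · exact absurd ‹Finite (GPts Ω (U.ι ≫ fT ≫ gT) tb)› (not_finite_iff_infinite.mpr h)
    have hnot : tb (closedPoint Ω) ∉ Set.range (U.ι ≫ fT ≫ gT) := by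
      rintro ⟨u, hu⟩
      obtain ⟨t, -⟩ := exists_gpts_of_mem_fibre Ω (U.ι ≫ fT ≫ gT) tb u hu
      exact hempty.false t
    have hclosed : IsClosed (Set.range (U.ι ≫ fT ≫ gT)) :=
      (U.ι ≫ fT ≫ gT).isClosedMap.isClosed_range
    refine ⟨(Set.range (U.ι ≫ fT ≫ gT))ᶜ, hclosed.isOpen_compl, hnot, ?_⟩
    intro v hv
    rw [fibreIntegral_eq_zero_of_not_mem_range _ _ v hv,
      fibreIntegral_eq_zero_of_not_mem_range _ _ _ hnot]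
  · obtain ⟨⟨t, htπ⟩⟩ : Nonempty (GPts Ω (U.ι ≫ fT ≫ gT) tb) := by
      rw [← Finite.card_pos_iff, hn]; exact hpos_n
    obtain ⟨xb, hxb⟩ : ∃ xb : Spec (.of Ω) ⟶ X, xb = t ≫ U.ι ≫ pX := ⟨_, rfl⟩
    have hxbφ : xb ≫ f ≫ g = tb ≫ G := by
      rw [hxb, ← htπ]
      simp only [Category.assoc]
      rw [← Category.assoc fT, ← hφT.w]
    -- the two reference pieces
    obtain ⟨Z₁, e₁, he₁, O₀, ty₀, hfinO₀, hty₀, huniqO₀⟩ := exists_etale_unique_gpt_opens g (xb ≫ f)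
    obtain ⟨Z₂, e₂, he₂, A₀, tx₀, hfinA₀, htx₀, huniqA₀⟩ :=
      exists_etale_unique_gpt_opens (f ≫ g) xb
    obtain ⟨zb₁, hzb₁⟩ : ∃ zb₁ : Spec (.of Ω) ⟶ Z₁, zb₁ = ty₀ ≫ O₀.ι ≫ pullback.snd g e₁ := ⟨_, rfl⟩
    obtain ⟨zb₂, hzb₂⟩ : ∃ zb₂ : Spec (.of Ω) ⟶ Z₂,
        zb₂ = tx₀ ≫ A₀.ι ≫ pullback.snd (f ≫ g) e₂ := ⟨_, rfl⟩
    have h₁ : tb ≫ G = zb₁ ≫ e₁ := by
      rw [hzb₁, ← hxbφ]
      simp only [Category.assoc]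
      rw [← pullback.condition, ← Category.assoc O₀.ι, ← Category.assoc ty₀,
        ← Category.assoc ty₀, Category.assoc ty₀, hty₀, Category.assoc]
    have h₂ : tb ≫ G = zb₂ ≫ e₂ := by
      rw [hzb₂, ← hxbφ]
      simp only [Category.assoc]
      rw [← pullback.condition, ← Category.assoc A₀.ι, ← Category.assoc tx₀,
        ← Category.assoc tx₀, Category.assoc tx₀, htx₀]
    obtain ⟨T₁, aT, haT, b₁, b₂, tb₁, hb₁, hb₂, htb₁a, htb₁b₁, htb₁b₂⟩ :=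
      exists_common_etale G e₁ e₂ tb zb₁ zb₂ h₁ h₂
    -- level one objects
    obtain ⟨Y₁, pY₁, gT₁, hY₁⟩ : ∃ (Y₁ : Scheme.{u}) (pY₁ : Y₁ ⟶ Y) (gT₁ : Y₁ ⟶ T₁),
        IsPullback pY₁ gT₁ g (aT ≫ G) := ⟨_, _, _, IsPullback.of_hasPullback g (aT ≫ G)⟩
    obtain ⟨X₁, pX₁, fT₁, hX₁⟩ : ∃ (X₁ : Scheme.{u}) (pX₁ : X₁ ⟶ X) (fT₁ : X₁ ⟶ Y₁),
        IsPullback pX₁ fT₁ f pY₁ := ⟨_, _, _, IsPullback.of_hasPullback f pY₁⟩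
    have hφ₁ : IsPullback pX₁ (fT₁ ≫ gT₁) (f ≫ g) (aT ≫ G) := hX₁.paste_vert hY₁
    haveI : LocallyQuasiFinite (fT₁ ≫ gT₁) := MorphismProperty.of_isPullback hφ₁ inferInstance
    obtain ⟨cX, hcX₁, hcX₂⟩ : ∃ cX : X₁ ⟶ XT, cX ≫ pX = pX₁ ∧
        cX ≫ (fT ≫ gT) = (fT₁ ≫ gT₁) ≫ aT :=
      ⟨hφT.lift pX₁ ((fT₁ ≫ gT₁) ≫ aT) (by rw [hφ₁.w]; simp only [Category.assoc]),
        hφT.lift_fst _ _ _, hφT.lift_snd _ _ _⟩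
    obtain ⟨cXb, hcXb₁, hcXb₂⟩ : ∃ cXb : X₁ ⟶ pullback (f ≫ g) e₂,
        cXb ≫ pullback.fst (f ≫ g) e₂ = pX₁ ∧
        cXb ≫ pullback.snd (f ≫ g) e₂ = (fT₁ ≫ gT₁) ≫ b₂ :=
      ⟨pullback.lift pX₁ ((fT₁ ≫ gT₁) ≫ b₂) (by rw [hφ₁.w, Category.assoc _ b₂, hb₂]),
        pullback.lift_fst _ _ _, pullback.lift_snd _ _ _⟩
    obtain ⟨cYb, hcYb₁, hcYb₂⟩ : ∃ cYb : Y₁ ⟶ pullback g e₁,
        cYb ≫ pullback.fst g e₁ = pY₁ ∧ cYb ≫ pullback.snd g e₁ = gT₁ ≫ b₁ :=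
      ⟨pullback.lift pY₁ (gT₁ ≫ b₁) (by rw [hY₁.w, Category.assoc _ b₁, hb₁]),
        pullback.lift_fst _ _ _, pullback.lift_snd _ _ _⟩
    obtain ⟨U₁, hU₁⟩ : ∃ U₁ : X₁.Opens, U₁ = cX ⁻¹ᵁ U := ⟨_, rfl⟩
    obtain ⟨A₁, hA₁⟩ : ∃ A₁ : X₁.Opens, A₁ = cXb ⁻¹ᵁ A₀ := ⟨_, rfl⟩
    obtain ⟨O₁, hO₁⟩ : ∃ O₁ : Y₁.Opens, O₁ = cYb ⁻¹ᵁ O₀ := ⟨_, rfl⟩
    have hfinU₁ : IsFinite (U₁.ι ≫ fT₁ ≫ gT₁) := by
      rw [hU₁]
      exact MorphismProperty.of_isPullback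
        (isPullback_restrict hφT hφ₁ aT rfl cX hcX₁ hcX₂ U) hfin
    have hfinA₁ : IsFinite (A₁.ι ≫ fT₁ ≫ gT₁) := by
      rw [hA₁]
      exact MorphismProperty.of_isPullback
        (isPullback_restrict (IsPullback.of_hasPullback (f ≫ g) e₂) hφ₁ b₂ hb₂ cXb hcXb₁ hcXb₂ A₀)
        hfinA₀
    have hfinO₁ : IsFinite (O₁.ι ≫ gT₁) := by
      rw [hO₁]
      exact MorphismProperty.of_isPullback
        (isPullback_restrict (IsPullback.of_hasPullback g e₁) hY₁ b₁ hb₁ cYb hcYb₁ hcYb₂ O₀)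
        hfinO₀
    have I_U₁ : ∀ (w' : X → ℤ) (v' : T₁),
        MoreMor.fibreIntegral (U₁.ι ≫ fT₁ ≫ gT₁) (w' ∘ ⇑pX₁ ∘ ⇑U₁.ι) v' =
        MoreMor.fibreIntegral (U.ι ≫ fT ≫ gT) (w' ∘ ⇑pX ∘ ⇑U.ι) (aT v') := by
      intro w' v'
      rw [hU₁]
      exact fibreIntegral_restrict_base_change hφT hφ₁ aT rfl cX hcX₁ hcX₂ U hfin w' v'
    have I_A₁ : ∀ (w' : X → ℤ) (v' : T₁),
        MoreMor.fibreIntegral (A₁.ι ≫ fT₁ ≫ gT₁) (w' ∘ ⇑pX₁ ∘ ⇑A₁.ι) v' =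
        MoreMor.fibreIntegral (A₀.ι ≫ pullback.snd (f ≫ g) e₂)
          (w' ∘ ⇑(pullback.fst (f ≫ g) e₂) ∘ ⇑A₀.ι) (b₂ v') := by
      intro w' v'
      rw [hA₁]
      exact fibreIntegral_restrict_base_change (IsPullback.of_hasPullback (f ≫ g) e₂) hφ₁ b₂ hb₂
        cXb hcXb₁ hcXb₂ A₀ hfinA₀ w' v'
    -- geometric points at level one
    obtain ⟨t₁, ht₁X, ht₁T⟩ : ∃ t₁ : Spec (.of Ω) ⟶ X₁, t₁ ≫ pX₁ = xb ∧
        t₁ ≫ (fT₁ ≫ gT₁) = tb₁ :=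
      ⟨hφ₁.lift xb tb₁ (by rw [← Category.assoc tb₁, htb₁a, hxbφ]), hφ₁.lift_fst _ _ _,
        hφ₁.lift_snd _ _ _⟩
    have ht₁cX : t₁ ≫ cX = t ≫ U.ι := by
      apply hφT.hom_ext
      · rw [Category.assoc, hcX₁, ht₁X, hxb, Category.assoc]
      · rw [Category.assoc, hcX₂, ← Category.assoc, ht₁T, htb₁a, Category.assoc]; exact htπ.symm
    have ht₁cXb : t₁ ≫ cXb = tx₀ ≫ A₀.ι := by
      apply pullback.hom_ext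
      · rw [Category.assoc, hcXb₁, ht₁X, Category.assoc, htx₀]
      · rw [Category.assoc, hcXb₂, ← Category.assoc, ht₁T, htb₁b₂, hzb₂, Category.assoc]
    have hty₁cYb : (t₁ ≫ fT₁) ≫ cYb = ty₀ ≫ O₀.ι := by
      apply pullback.hom_ext
      · rw [Category.assoc, hcYb₁, Category.assoc, ← hX₁.w, ← Category.assoc, ht₁X,
          Category.assoc, hty₀]
      · rw [Category.assoc, hcYb₂, Category.assoc, ← Category.assoc fT₁, ← Category.assoc t₁,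
          ht₁T, htb₁b₁, hzb₁, Category.assoc]
    have hmem : t₁ (closedPoint Ω) ∈ U₁ ⊓ fT₁ ⁻¹ᵁ O₁ := by
      constructor
      · rw [hU₁]
        change (t₁ ≫ cX) (closedPoint Ω) ∈ U
        rw [ht₁cX]
        exact (t (closedPoint Ω)).2
      · rw [hO₁]
        change ((t₁ ≫ fT₁) ≫ cYb) (closedPoint Ω) ∈ O₀
        rw [hty₁cYb]
        exact (ty₀ (closedPoint Ω)).2
    have huniqA₁ : ∀ t' : GPts Ω (A₁.ι ≫ fT₁ ≫ gT₁) tb₁, t'.1 ≫ A₁.ι = t₁ := by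
      rw [hA₁]
      refine gpts_unique_transfer (IsPullback.of_hasPullback (f ≫ g) e₂) hφ₁ b₂ hb₂ cXb hcXb₁
        hcXb₂ A₀ tb₁ (tx₀ ≫ A₀.ι) ?_ t₁ ht₁cXb ht₁T
      intro t''
      have := huniqA₀ t''.1 (by rw [t''.2, htb₁b₂, hzb₂])
      rw [this]
    have huniqO₁ : ∀ ty' : GPts Ω (O₁.ι ≫ gT₁) tb₁, ty'.1 ≫ O₁.ι = t₁ ≫ fT₁ := by
      rw [hO₁]
      refine gpts_unique_transfer (IsPullback.of_hasPullback g e₁) hY₁ b₁ hb₁ cYb hcYb₁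
        hcYb₂ O₀ tb₁ (ty₀ ≫ O₀.ι) ?_ (t₁ ≫ fT₁) hty₁cYb (by rw [Category.assoc]; exact ht₁T)
      intro t''
      have := huniqO₀ t''.1 (by rw [t''.2, htb₁b₁, hzb₁])
      rw [this]
    obtain ⟨T₂, htbT₂, hT₂⟩ := shrink_compare (fT₁ ≫ gT₁) (U₁ ⊓ fT₁ ⁻¹ᵁ O₁) A₁ hfinA₁ tb₁ t₁
      hmem huniqA₁
    -- level two objects
    obtain ⟨Y₂, pY₂, gT₂, hY₂⟩ : ∃ (Y₂ : Scheme.{u}) (pY₂ : Y₂ ⟶ Y) (gT₂ : Y₂ ⟶ T₂.toScheme),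
        IsPullback pY₂ gT₂ g (T₂.ι ≫ aT ≫ G) :=
      ⟨_, _, _, IsPullback.of_hasPullback g (T₂.ι ≫ aT ≫ G)⟩
    obtain ⟨X₂, pX₂, fT₂, hX₂⟩ : ∃ (X₂ : Scheme.{u}) (pX₂ : X₂ ⟶ X) (fT₂ : X₂ ⟶ Y₂),
        IsPullback pX₂ fT₂ f pY₂ := ⟨_, _, _, IsPullback.of_hasPullback f pY₂⟩
    have hφ₂ : IsPullback pX₂ (fT₂ ≫ gT₂) (f ≫ g) (T₂.ι ≫ aT ≫ G) := hX₂.paste_vert hY₂
    haveI : LocallyQuasiFinite (fT₂ ≫ gT₂) := MorphismProperty.of_isPullback hφ₂ inferInstance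
    obtain ⟨dY, hdY₁, hdY₂⟩ : ∃ dY : Y₂ ⟶ Y₁, dY ≫ pY₁ = pY₂ ∧ dY ≫ gT₁ = gT₂ ≫ T₂.ι :=
      ⟨hY₁.lift pY₂ (gT₂ ≫ T₂.ι) (by rw [hY₂.w, Category.assoc]),
        hY₁.lift_fst _ _ _, hY₁.lift_snd _ _ _⟩
    obtain ⟨dX, hdX₁, hdX₂⟩ : ∃ dX : X₂ ⟶ X₁, dX ≫ pX₁ = pX₂ ∧ dX ≫ fT₁ = fT₂ ≫ dY :=
      ⟨hX₁.lift pX₂ (fT₂ ≫ dY) (by rw [hX₂.w, Category.assoc, hdY₁]),
        hX₁.lift_fst _ _ _, hX₁.lift_snd _ _ _⟩
    have hdXφ : dX ≫ (fT₁ ≫ gT₁) = (fT₂ ≫ gT₂) ≫ T₂.ι := by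
      rw [← Category.assoc, hdX₂, Category.assoc, hdY₂, Category.assoc]
    obtain ⟨U₂, hU₂⟩ : ∃ U₂ : X₂.Opens, U₂ = dX ⁻¹ᵁ U₁ := ⟨_, rfl⟩
    obtain ⟨A₂, hA₂⟩ : ∃ A₂ : X₂.Opens, A₂ = dX ⁻¹ᵁ A₁ := ⟨_, rfl⟩
    obtain ⟨O₂, hO₂⟩ : ∃ O₂ : Y₂.Opens, O₂ = dY ⁻¹ᵁ O₁ := ⟨_, rfl⟩
    have hfinU₂ : IsFinite (U₂.ι ≫ fT₂ ≫ gT₂) := by
      rw [hU₂]
      exact MorphismProperty.of_isPullback
        (isPullback_restrict hφ₁ hφ₂ T₂.ι rfl dX hdX₁ hdXφ U₁) hfinU₁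
    have hfinA₂ : IsFinite (A₂.ι ≫ fT₂ ≫ gT₂) := by
      rw [hA₂]
      exact MorphismProperty.of_isPullback
        (isPullback_restrict hφ₁ hφ₂ T₂.ι rfl dX hdX₁ hdXφ A₁) hfinA₁
    have hfinO₂ : IsFinite (O₂.ι ≫ gT₂) := by
      rw [hO₂]
      exact MorphismProperty.of_isPullback
        (isPullback_restrict hY₁ hY₂ T₂.ι rfl dY hdY₁ hdY₂ O₁) hfinO₁
    have I_U₂ : ∀ (w' : X → ℤ) (v' : T₂.toScheme),
        MoreMor.fibreIntegral (U₂.ι ≫ fT₂ ≫ gT₂) (w' ∘ ⇑pX₂ ∘ ⇑U₂.ι) v' =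
        MoreMor.fibreIntegral (U₁.ι ≫ fT₁ ≫ gT₁) (w' ∘ ⇑pX₁ ∘ ⇑U₁.ι) (T₂.ι v') := by
      intro w' v'
      rw [hU₂]
      exact fibreIntegral_restrict_base_change hφ₁ hφ₂ T₂.ι rfl dX hdX₁ hdXφ U₁ hfinU₁ w' v'
    have I_A₂ : ∀ (w' : X → ℤ) (v' : T₂.toScheme),
        MoreMor.fibreIntegral (A₂.ι ≫ fT₂ ≫ gT₂) (w' ∘ ⇑pX₂ ∘ ⇑A₂.ι) v' =
        MoreMor.fibreIntegral (A₁.ι ≫ fT₁ ≫ gT₁) (w' ∘ ⇑pX₁ ∘ ⇑A₁.ι) (T₂.ι v') := by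
      intro w' v'
      rw [hA₂]
      exact fibreIntegral_restrict_base_change hφ₁ hφ₂ T₂.ι rfl dX hdX₁ hdXφ A₁ hfinA₁ w' v'
    obtain ⟨tb₂, htb₂⟩ : ∃ tb₂ : Spec (.of Ω) ⟶ T₂.toScheme, tb₂ ≫ T₂.ι = tb₁ := by
      refine ⟨IsOpenImmersion.lift T₂.ι tb₁ ?_, IsOpenImmersion.lift_fac _ _ _⟩
      rintro _ ⟨x, rfl⟩
      have hx : x = closedPoint Ω := Subsingleton.elim _ _
      rw [hx, Scheme.Opens.range_ι]
      exact htbT₂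
    have hA₂le : A₂ ≤ U₂ ⊓ fT₂ ⁻¹ᵁ O₂ := by
      intro u hu
      rw [hA₂] at hu
      have h1 := hT₂ (dX u) hu (by
        change (dX ≫ (fT₁ ≫ gT₁)) u ∈ T₂
        rw [hdXφ]
        exact (((fT₂ ≫ gT₂)) u).2)
      constructor
      · rw [hU₂]; exact h1.1
      · rw [hO₂]
        change (fT₂ ≫ dY) u ∈ O₁
        rw [← hdX₂]
        exact h1.2
    -- geometric points of `O₂` over `tb₂` all coincide
    have hsubO₂ : ∀ ty ty' : GPts Ω (O₂.ι ≫ gT₂) tb₂,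
        ty.1 (closedPoint Ω) = ty'.1 (closedPoint Ω) := by
      obtain ⟨z, hz₁, hz₂⟩ : ∃ z : Spec (.of Ω) ⟶ Y₂, z ≫ pY₂ = t₁ ≫ fT₁ ≫ pY₁ ∧ z ≫ gT₂ = tb₂ :=
        ⟨hY₂.lift (t₁ ≫ fT₁ ≫ pY₁) tb₂ (by
          rw [Category.assoc, Category.assoc, hY₁.w, ← Category.assoc tb₂, htb₂,
            ← Category.assoc fT₁, ← Category.assoc t₁, ht₁T]),
          hY₂.lift_fst _ _ _, hY₂.lift_snd _ _ _⟩
      have hzdY : z ≫ dY = t₁ ≫ fT₁ := by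
        apply hY₁.hom_ext
        · rw [Category.assoc, hdY₁, hz₁, Category.assoc]
        · rw [Category.assoc, hdY₂, ← Category.assoc, hz₂, htb₂, Category.assoc]; exact ht₁T.symm
      have hyp : ∀ t'' : GPts Ω (O₁.ι ≫ gT₁) (tb₂ ≫ T₂.ι), t''.1 ≫ O₁.ι = t₁ ≫ fT₁ := by
        rw [htb₂]; exact huniqO₁
      have hall : ∀ t' : GPts Ω (O₂.ι ≫ gT₂) tb₂, t'.1 ≫ O₂.ι = z := by
        rw [hO₂]
        exact gpts_unique_transfer hY₁ hY₂ T₂.ι rfl dY hdY₁ hdY₂ O₁ tb₂ (t₁ ≫ fT₁) hyp z hzdY hz₂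
      intro ty ty'
      have h1 : ty.1 = ty'.1 := by
        rw [← cancel_mono O₂.ι, hall ty, hall ty']
      rw [h1]
    -- splitting off
    obtain ⟨B, hUB, hdisj, hfinB⟩ := split_off (fT₂ ≫ gT₂) U₂ A₂ (hA₂le.trans inf_le_left)
      hfinU₂ hfinA₂
    have hadd : ∀ (w' : X → ℤ) (v' : T₂.toScheme),
        MoreMor.fibreIntegral (U₂.ι ≫ fT₂ ≫ gT₂) (w' ∘ ⇑pX₂ ∘ ⇑U₂.ι) v' =
        MoreMor.fibreIntegral (A₂.ι ≫ fT₂ ≫ gT₂) (w' ∘ ⇑pX₂ ∘ ⇑A₂.ι) v' +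
        MoreMor.fibreIntegral (B.ι ≫ fT₂ ≫ gT₂) (w' ∘ ⇑pX₂ ∘ ⇑B.ι) v' := by
      intro w' v'
      haveI := hfinU₂
      exact fibreIntegral_add_of_opens (fT₂ ≫ gT₂) U₂ A₂ B hUB hdisj (w' ∘ ⇑pX₂) v'
        (Scheme.Hom.finite_preimage_singleton _ v')
    have hp1 : T₂.ι (tb₂ (closedPoint Ω)) = tb₁ (closedPoint Ω) := by rw [← htb₂]; rfl
    have hp2 : aT (tb₁ (closedPoint Ω)) = tb (closedPoint Ω) := by rw [← htb₁a]; rfl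
    have hp3 : b₂ (tb₁ (closedPoint Ω)) = zb₂ (closedPoint Ω) := by rw [← htb₁b₂]; rfl
    have key : ∀ (w' : X → ℤ) (v' : T₂.toScheme),
        MoreMor.fibreIntegral (U.ι ≫ fT ≫ gT) (w' ∘ ⇑pX ∘ ⇑U.ι) (aT (T₂.ι v')) =
        MoreMor.fibreIntegral (A₂.ι ≫ fT₂ ≫ gT₂) (w' ∘ ⇑pX₂ ∘ ⇑A₂.ι) v' +
        MoreMor.fibreIntegral (B.ι ≫ fT₂ ≫ gT₂) (w' ∘ ⇑pX₂ ∘ ⇑B.ι) v' := by
      intro w' v'
      rw [← I_U₁, ← I_U₂, hadd]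
    -- counting
    have hcnt : Nat.card (GPts Ω (B.ι ≫ fT₂ ≫ gT₂) tb₂) < n := by
      have h1 := key (fun _ => 1) (tb₂ (closedPoint Ω))
      have h2 := I_A₂ (fun _ => 1) (tb₂ (closedPoint Ω))
      have h3 := I_A₁ (fun _ => 1) (tb₁ (closedPoint Ω))
      rw [hp1, hp2] at h1
      rw [hp1] at h2
      rw [hp3] at h3
      have k1 := card_gpts_eq_fibreIntegral_one Ω (U.ι ≫ fT ≫ gT) tb (hfib _)
      haveI := hfinA₀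
      have k2 := card_gpts_eq_fibreIntegral_one Ω (A₀.ι ≫ pullback.snd (f ≫ g) e₂) zb₂
        (Scheme.Hom.finite_preimage_singleton _ _)
      haveI := hfinB
      have k3 := card_gpts_eq_fibreIntegral_one Ω (B.ι ≫ fT₂ ≫ gT₂) tb₂
        (Scheme.Hom.finite_preimage_singleton _ _)
      have k4 : Nat.card (GPts Ω (A₀.ι ≫ pullback.snd (f ≫ g) e₂) zb₂) = 1 := by
        letI : Unique (GPts Ω (A₀.ι ≫ pullback.snd (f ≫ g) e₂) zb₂) :=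
          ⟨⟨⟨tx₀, hzb₂.symm⟩⟩, fun t' => Subtype.ext (huniqA₀ t'.1 (t'.2.trans hzb₂))⟩
        exact Nat.card_unique
      have e1 : MoreMor.fibreIntegral (U.ι ≫ fT ≫ gT) (fun _ => 1) (tb (closedPoint Ω)) =
          MoreMor.fibreIntegral (A₀.ι ≫ pullback.snd (f ≫ g) e₂) (fun _ => 1)
            (zb₂ (closedPoint Ω)) +
          MoreMor.fibreIntegral (B.ι ≫ fT₂ ≫ gT₂) (fun _ => 1) (tb₂ (closedPoint Ω)) := by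
        have h2' : MoreMor.fibreIntegral (A₂.ι ≫ fT₂ ≫ gT₂) (fun _ => 1) (tb₂ (closedPoint Ω)) =
            MoreMor.fibreIntegral (A₁.ι ≫ fT₁ ≫ gT₁) (fun _ => 1) (tb₁ (closedPoint Ω)) := h2
        have h3' : MoreMor.fibreIntegral (A₁.ι ≫ fT₁ ≫ gT₁) (fun _ => 1) (tb₁ (closedPoint Ω)) =
            MoreMor.fibreIntegral (A₀.ι ≫ pullback.snd (f ≫ g) e₂) (fun _ => 1)
              (zb₂ (closedPoint Ω)) := h3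
        rw [← h3', ← h2']
        exact h1
      rw [← k1, ← k2, ← k3, hn, k4] at e1
      push_cast at e1
      omega
    obtain ⟨N_B, hN_Bopen, htb₂N_B, hN_B⟩ := ih _ hcnt (T₂.ι ≫ aT ≫ G) pY₂ gT₂ hY₂ pX₂ fT₂ hX₂
      B hfinB Ω tb₂ rfl
    obtain ⟨N_A, hN_Aopen, htb₂N_A, hN_A⟩ := locallyConstantAt_of_le_preimage f g wf wg hf hg
      (T₂.ι ≫ aT ≫ G) pY₂ gT₂ hY₂ pX₂ fT₂ hX₂ O₂ hfinO₂ A₂ hfinA₂ (hA₂le.trans inf_le_right)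
      tb₂ hsubO₂
    refine ⟨(T₂.ι ≫ aT) '' (N_A ∩ N_B), (T₂.ι ≫ aT).isOpenMap _ (hN_Aopen.inter hN_Bopen),
      ⟨tb₂ (closedPoint Ω), ⟨htb₂N_A, htb₂N_B⟩, ?_⟩, ?_⟩
    · change aT (T₂.ι (tb₂ (closedPoint Ω))) = _
      rw [hp1, hp2]
    · rintro _ ⟨v₂, ⟨hvA, hvB⟩, rfl⟩
      change MoreMor.fibreIntegral _ _ (aT (T₂.ι v₂)) = _
      rw [key _ v₂, hN_B v₂ hvB]
      have h7 := hN_A v₂ hvA
      have h8 := key (fun x => wf x * wg (f x)) (tb₂ (closedPoint Ω))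
      rw [hp1, hp2] at h8
      rw [h8]
      congr 1

set_option backward.isDefEq.respectTransparency.types false in
/-- Stacks 0F3E: weightings compose -/
theorem isWeighting_comp {X Y Z : Scheme.{u}} (f : X ⟶ Y) (g : Y ⟶ Z)
    [LocallyQuasiFinite f] [LocallyOfFiniteType f] [LocallyQuasiFinite g] [LocallyOfFiniteType g]
    (wf : X → ℤ) (wg : Y → ℤ) (hf : MoreMor.IsWeighting f wf) (hg : MoreMor.IsWeighting g wg) :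
    MoreMor.IsWeighting (f ≫ g) (fun x => wf x * wg (f x)) := by
  intro V e _ U hfin
  have hY := IsPullback.of_hasPullback g e
  obtain ⟨fT, hfT₁, hfT₂⟩ : ∃ fT : pullback (f ≫ g) e ⟶ pullback g e,
      fT ≫ pullback.fst g e = pullback.fst (f ≫ g) e ≫ f ∧
      fT ≫ pullback.snd g e = pullback.snd (f ≫ g) e :=
    ⟨pullback.lift (pullback.fst (f ≫ g) e ≫ f) (pullback.snd (f ≫ g) e)
      (by rw [Category.assoc, pullback.condition]), pullback.lift_fst _ _ _,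
      pullback.lift_snd _ _ _⟩
  have hX : IsPullback (pullback.fst (f ≫ g) e) fT f (pullback.fst g e) := by
    refine IsPullback.of_bot ?_ hfT₁.symm hY
    rw [hfT₂]
    exact IsPullback.of_hasPullback (f ≫ g) e
  rw [← hfT₂] at hfin ⊢
  rw [IsLocallyConstant.iff_exists_open]
  intro v
  obtain ⟨Ω, _, _, tb, rfl⟩ := exists_geometric_point v
  obtain ⟨N, hN, htb, hconst⟩ := comp_aux f g wf wg hf hg _ e (pullback.fst g e)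
    (pullback.snd g e) hY (pullback.fst (f ≫ g) e) fT hX U hfin Ω tb rfl
  exact ⟨N, hN, htb, hconst⟩

end Groth.Agent.Lib.Helper70.WeightingComp2
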