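import Mathlib
import Groth.Prelude.Def_MoreMor
import Groth.Agent.Lib.Helper70.WeightingBC2

open AlgebraicGeometry CategoryTheory Limits IsLocalRing

universe u

namespace Groth.Agent.Lib.Helper70.WeightingOpen

open Groth.Agent.Lib.Helper70.GeomPts Groth.Agent.Lib.Helper70.Weighting
  Groth.Agent.Lib.Helper70.WeightingLSC Groth.Agent.Lib.Helper70.UniquePoint
  Groth.Agent.Lib.Helper70.WeightingBC Groth.Agent.Lib.Helper70.WeightingBC2

set_option backward.isDefEq.respectTransparency.types false in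
/-- the image of a locally quasi-finite morphism with a positive weighting is a neighbourhood
of each of its points -/
theorem range_mem_nhds {X Y : Scheme.{u}} (f : X ⟶ Y) [LocallyQuasiFinite f]
    [LocallyOfFiniteType f] (w : X → ℤ) (hw : MoreMor.IsWeighting f w) (hpos : ∀ x, 0 < w x)
    (x : X) : Set.range f ∈ nhds (f x) := by
  classical
  obtain ⟨Ω, _, _, s, rfl⟩ := exists_geometric_point x
  obtain ⟨V, g, hg, W, k, hk, t, hfin, hts, huniq⟩ := exists_etale_unique_gpt f s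
  have hlc := isLocallyConstant_of_isWeighting f w hw g k hfin
  obtain ⟨q, hq⟩ : ∃ q : W ⟶ V, q = k ≫ pullback.snd f g := ⟨_, rfl⟩
  obtain ⟨p, hp⟩ : ∃ p : W ⟶ X, p = k ≫ pullback.fst f g := ⟨_, rfl⟩
  rw [← hq] at hlc hfin huniq
  have hw' : (fun u => w (pullback.fst f g (k u))) = w ∘ ⇑p := by
    funext u; rw [hp]; rfl
  rw [hw'] at hlc
  rw [← hp] at hts
  haveI : IsFinite q := hfin
  have hpq : p ≫ f = q ≫ g := by
    rw [hp, hq, Category.assoc, Category.assoc, pullback.condition]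
  have hfib : ∀ v : V, (q ⁻¹' {v}).Finite := fun v => Scheme.Hom.finite_preimage_singleton q v
  have hval : MoreMor.fibreIntegral q (w ∘ ⇑p) ((t ≫ q) (closedPoint Ω)) =
      w (s (closedPoint Ω)) := by
    rw [fibreIntegral_eq_finsum_gpts Ω q _ (t ≫ q) (hfib _)
      (fun u _ => finite_residueFieldMap q u)]
    letI : Unique (GPts Ω q (t ≫ q)) :=
      ⟨⟨⟨t, rfl⟩⟩, fun t' => Subtype.ext (huniq t'.1 t'.2)⟩
    rw [finsum_unique]
    change w ((t ≫ p) (closedPoint Ω)) = _
    rw [hts]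
  let N : Set V := {v | MoreMor.fibreIntegral q (w ∘ ⇑p) v =
    MoreMor.fibreIntegral q (w ∘ ⇑p) ((t ≫ q) (closedPoint Ω))}
  have hN : IsOpen N := hlc.isOpen_fiber _
  have hsub : g '' N ⊆ Set.range f := by
    rintro _ ⟨v, hv, rfl⟩
    have hv' : MoreMor.fibreIntegral q (w ∘ ⇑p) v = _ := hv
    rw [hval] at hv'
    have hmem : v ∈ Set.range q := by
      by_contra hn
      rw [fibreIntegral_eq_zero_of_not_mem_range q _ v hn] at hv'
      have := hpos (s (closedPoint Ω))
      omega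
    obtain ⟨u, rfl⟩ := hmem
    refine ⟨p u, ?_⟩
    change (p ≫ f) u = (q ≫ g) u
    rw [hpq]
  refine Filter.mem_of_superset ?_ hsub
  apply IsOpen.mem_nhds (g.isOpenMap _ hN)
  refine ⟨(t ≫ q) (closedPoint Ω), rfl, ?_⟩
  change (t ≫ q ≫ g) (closedPoint Ω) = (s ≫ f) (closedPoint Ω)
  rw [← hpq, ← Category.assoc, hts]

set_option backward.isDefEq.respectTransparency.types false in
/-- a locally quasi-finite morphism with a positive weighting is an open map -/
theorem isOpenMap_of_isWeighting {X Y : Scheme.{u}} (f : X ⟶ Y) [LocallyQuasiFinite f]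
    [LocallyOfFiniteType f] (w : X → ℤ) (hw : MoreMor.IsWeighting f w) (hpos : ∀ x, 0 < w x) :
    IsOpenMap f := by
  intro N' hN'
  let N : X.Opens := ⟨N', hN'⟩
  let k : N.toScheme ⟶ pullback f (𝟙 Y) := pullback.lift N.ι (N.ι ≫ f) (by simp)
  have hk : k = N.ι ≫ inv (pullback.fst f (𝟙 Y)) := by
    rw [IsIso.eq_comp_inv]; exact pullback.lift_fst _ _ _
  haveI : IsOpenImmersion k := by rw [hk]; infer_instance
  have hwN : MoreMor.IsWeighting (N.ι ≫ f) (w ∘ ⇑N.ι) := by
    have h1 := isWeighting_transfer f w hw (𝟙 Y) (N.ι ≫ f) k (pullback.lift_snd _ _ _)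
    have h2 : (fun x => w (pullback.fst f (𝟙 Y) (k x))) = w ∘ ⇑N.ι := by
      funext x
      change w ((k ≫ pullback.fst f (𝟙 Y)) x) = _
      rw [pullback.lift_fst]
      rfl
    rw [h2] at h1
    exact h1
  have himg : f '' N' = Set.range (N.ι ≫ f) := by
    ext y
    constructor
    · rintro ⟨x, hx, rfl⟩
      exact ⟨⟨x, hx⟩, rfl⟩
    · rintro ⟨x, rfl⟩
      exact ⟨x.1, x.2, rfl⟩
  rw [himg, isOpen_iff_mem_nhds]
  rintro _ ⟨x, rfl⟩
  exact range_mem_nhds (N.ι ≫ f) (w ∘ ⇑N.ι) hwN (fun x => hpos _) x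

/-- Stacks 0F3C -/
theorem universallyOpen_of_isWeighting {X Y : Scheme.{u}} (f : X ⟶ Y) [LocallyQuasiFinite f]
    [LocallyOfFiniteType f] (w : X → ℤ) (hw : MoreMor.IsWeighting f w) (hpos : ∀ x, 0 < w x) :
    UniversallyOpen f := by
  constructor
  intro X' Y' i₁ i₂ f' hpb
  haveI : LocallyQuasiFinite f' := MorphismProperty.of_isPullback hpb.flip ‹_›
  haveI : LocallyOfFiniteType f' := MorphismProperty.of_isPullback hpb.flip ‹_›
  exact isOpenMap_of_isWeighting f' (w ∘ ⇑i₁)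
    (isWeighting_base_change f w hw f' i₁ i₂ hpb.flip) (fun x => hpos _)

end Groth.Agent.Lib.Helper70.WeightingOpen
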