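import Mathlib
import Groth.Prelude.Def_EtAcyc
import Groth.Agent.Lib.Cohomology.Helper3_EtSplit

set_option autoImplicit false
open CategoryTheory CategoryTheory.Limits AlgebraicGeometry Opposite

universe u

namespace Groth.Agent.Lib.Helper70.ZeroAcycComp

open Groth.Agent.Lib.Cohomology.EtSplit

variable {X Y Z : Scheme.{u}}

/-- all units `F ⟶ p_* p^* F` (sheaves of sets) are isomorphisms -/
def FF (p : X ⟶ Y) : Prop := ∀ F : EtDesc.Sh Y, IsIso ((EtDesc.adjSh p).unit.app F)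

theorem ff_iff (p : X ⟶ Y) : FF p ↔ (EtDesc.pullSh p).Full ∧ (EtDesc.pullSh p).Faithful := by
  constructor
  · intro h
    haveI : ∀ F, IsIso ((EtDesc.adjSh p).unit.app F) := h
    haveI : IsIso (EtDesc.adjSh p).unit := NatIso.isIso_of_isIso_app _
    exact ⟨((EtDesc.adjSh p).fullyFaithfulLOfIsIsoUnit).full,
      ((EtDesc.adjSh p).fullyFaithfulLOfIsIsoUnit).faithful⟩
  · rintro ⟨h1, h2⟩ F
    haveI := h1
    haveI := h2
    infer_instance

set_option backward.isDefEq.respectTransparency.types false in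
/-- direct image of sheaves of sets along the identity -/
noncomputable def pushShId (Z : Scheme.{u}) : EtDesc.pushSh (𝟙 Z) ≅ 𝟭 (EtDesc.Sh Z) :=
  Functor.sheafPushforwardContinuousId' (bcId Z) (Type (u + 1)) Z.smallEtaleTopology

/-- inverse image of sheaves of sets along the identity -/
noncomputable def pullShId (Z : Scheme.{u}) : EtDesc.pullSh (𝟙 Z) ≅ 𝟭 (EtDesc.Sh Z) :=
  (EtDesc.adjSh (𝟙 Z)).leftAdjointUniq (Adjunction.id.ofNatIsoRight (pushShId Z).symm)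

noncomputable def pullShRetract {Z' Z : Scheme.{u}} (δ : Z' ⟶ Z) (σ : Z ⟶ Z') (w : σ ≫ δ = 𝟙 Z) :
    EtDesc.pullSh δ ⋙ EtDesc.pullSh σ ≅ 𝟭 (EtDesc.Sh Z) :=
  (EtDesc.pullCompSh σ δ).symm ≪≫ EtDesc.pullCongrSh w ≪≫ pullShId Z

theorem ff_of_iso (e : X ≅ Y) : FF e.hom := by
  rw [ff_iff]
  let E : EtDesc.Sh Y ≌ EtDesc.Sh X := CategoryTheory.Equivalence.mk (EtDesc.pullSh e.hom) (EtDesc.pullSh e.inv)
    (pullShRetract e.hom e.inv e.inv_hom_id).symm (pullShRetract e.inv e.hom e.hom_inv_id)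
  have : (EtDesc.pullSh e.hom).IsEquivalence := E.isEquivalence_functor
  exact ⟨inferInstance, inferInstance⟩

theorem ff_comp_iff (p : X ⟶ Y) (r : Y ⟶ Z) (hp : FF p) : FF r ↔ FF (p ≫ r) := by
  rw [ff_iff] at hp ⊢
  rw [ff_iff]
  obtain ⟨_, _⟩ := hp
  constructor
  · rintro ⟨_, _⟩
    exact ⟨Functor.Full.of_iso (EtDesc.pullCompSh p r).symm,
      Functor.Faithful.of_iso (EtDesc.pullCompSh p r).symm⟩
  · rintro ⟨_, _⟩
    haveI : (EtDesc.pullSh r ⋙ EtDesc.pullSh p).Full := Functor.Full.of_iso (EtDesc.pullCompSh p r)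
    haveI : (EtDesc.pullSh r ⋙ EtDesc.pullSh p).Faithful :=
      Functor.Faithful.of_iso (EtDesc.pullCompSh p r)
    exact ⟨Functor.Full.of_comp_faithful (EtDesc.pullSh r) (EtDesc.pullSh p),
      Functor.Faithful.of_comp (EtDesc.pullSh r) (EtDesc.pullSh p)⟩

set_option backward.isDefEq.respectTransparency.types false in
/-- the sets half of `S3513` -/
theorem isZeroAcyclic_comp_iff (g : X ⟶ Y) (h : Y ⟶ Z) (hg : EtAcyc.IsZeroAcyclic g) :
    EtAcyc.IsZeroAcyclic h ↔ EtAcyc.IsZeroAcyclic (g ≫ h) := by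
  refine forall_congr' fun V => ?_
  let W : Y.Etale := (EtCoh.bc h).obj V
  let e : pullback W.hom g ≅ pullback V.hom (g ≫ h) := pullbackLeftPullbackSndIso V.hom h g
  have hfac : EtAcyc.prj (g ≫ h) V = e.inv ≫ (EtAcyc.prj g W ≫ EtAcyc.prj h V) := by
    rw [Iso.eq_inv_comp]
    exact pullbackLeftPullbackSndIso_hom_fst V.hom h g
  show FF (EtAcyc.prj h V) ↔ FF (EtAcyc.prj (g ≫ h) V)
  rw [hfac, ← ff_comp_iff e.inv _ (ff_of_iso e.symm)]
  exact ff_comp_iff (EtAcyc.prj g W) (EtAcyc.prj h V) (hg W)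

end Groth.Agent.Lib.Helper70.ZeroAcycComp
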